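import Mathlib
import Cfsg.Agent.Rec.Sift4
import Cfsg.Agent.ONT.PCod

/-!
Arithmetic in a `2`-group with a polycyclic sequence: one packed table for the right multiplications by the
generators; the arithmetic of an extension of index two.
-/

set_option autoImplicit false

namespace Cfsg.Agent.L33

open Cfsg.Agent.Spor Cfsg.Agent.Rec Cfsg.Agent.Spor.PC Subgroup

/-- Right multiplication by the generator `k`, where `p = 2 ^ (k + 1)`. -/
def rt (T p a : ℕ) : ℕ :=
  Nat.xor a (Nat.land (Nat.shiftRight T (Nat.shiftLeft (Nat.add (Nat.mod a p) p) (nat_lit 4))) (nat_lit 65535))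

/-- One step of the product. -/
noncomputable def st (T p q b a : ℕ) (k : ℕ → ℕ) : ℕ :=
  Bool.rec (frc (rt T q a) k) (k a) (Nat.beq (Nat.land b p) (nat_lit 0))

/-- One step of the inverse. -/
noncomputable def si (T p q a r : ℕ) (k : ℕ → ℕ → ℕ) : ℕ :=
  Bool.rec (frc (rt T q a) fun a' => frc (Nat.add r p) (k a')) (k a r) (Nat.beq (Nat.land a p) (nat_lit 0))

/-- The product. -/
noncomputable def mulG (T b n : ℕ) : ℕ → ℕ :=
  Nat.rec (fun a => a) (fun k ih a => st T (Nat.pow 2 k) (Nat.pow 2 (Nat.succ k)) b a ih) n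

/-- The inverse. -/
noncomputable def invG (T n : ℕ) : ℕ → ℕ → ℕ :=
  Nat.rec (fun _ r => r) (fun k ih a r => si T (Nat.pow 2 k) (Nat.pow 2 (Nat.succ k)) a r ih) n

/-- The arithmetic of the table `T`. -/
noncomputable def arG (T n : ℕ) : Ar := ⟨fun a b => mulG T b n a, fun a => invG T n a 0, 0⟩

/-- Unrolled product. -/
noncomputable def mul5 (T a b : ℕ) : ℕ :=
  st T (nat_lit 16) (nat_lit 32) b a fun a => st T (nat_lit 8) (nat_lit 16) b a fun a => st T (nat_lit 4) (nat_lit 8) b a fun a => st T (nat_lit 2) (nat_lit 4) b a fun a => st T (nat_lit 1) (nat_lit 2) b a fun a => a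

/-- Unrolled inverse. -/
noncomputable def inv5 (T a : ℕ) : ℕ :=
  (fun r => si T (nat_lit 16) (nat_lit 32) a r fun a r => si T (nat_lit 8) (nat_lit 16) a r fun a r => si T (nat_lit 4) (nat_lit 8) a r fun a r => si T (nat_lit 2) (nat_lit 4) a r fun a r => si T (nat_lit 1) (nat_lit 2) a r fun _ r => r) (nat_lit 0)

theorem ar5_eq (T : ℕ) : (⟨mul5 T, inv5 T, 0⟩ : Ar) = arG T 5 := rfl

/-- Unrolled product. -/
noncomputable def mul6 (T a b : ℕ) : ℕ :=
  st T (nat_lit 32) (nat_lit 64) b a fun a => st T (nat_lit 16) (nat_lit 32) b a fun a => st T (nat_lit 8) (nat_lit 16) b a fun a => st T (nat_lit 4) (nat_lit 8) b a fun a => st T (nat_lit 2) (nat_lit 4) b a fun a => st T (nat_lit 1) (nat_lit 2) b a fun a => a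

/-- Unrolled inverse. -/
noncomputable def inv6 (T a : ℕ) : ℕ :=
  (fun r => si T (nat_lit 32) (nat_lit 64) a r fun a r => si T (nat_lit 16) (nat_lit 32) a r fun a r => si T (nat_lit 8) (nat_lit 16) a r fun a r => si T (nat_lit 4) (nat_lit 8) a r fun a r => si T (nat_lit 2) (nat_lit 4) a r fun a r => si T (nat_lit 1) (nat_lit 2) a r fun _ r => r) (nat_lit 0)

theorem ar6_eq (T : ℕ) : (⟨mul6 T, inv6 T, 0⟩ : Ar) = arG T 6 := rfl

/-- Unrolled product. -/
noncomputable def mul7 (T a b : ℕ) : ℕ :=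
  st T (nat_lit 64) (nat_lit 128) b a fun a => st T (nat_lit 32) (nat_lit 64) b a fun a => st T (nat_lit 16) (nat_lit 32) b a fun a => st T (nat_lit 8) (nat_lit 16) b a fun a => st T (nat_lit 4) (nat_lit 8) b a fun a => st T (nat_lit 2) (nat_lit 4) b a fun a => st T (nat_lit 1) (nat_lit 2) b a fun a => a

/-- Unrolled inverse. -/
noncomputable def inv7 (T a : ℕ) : ℕ :=
  (fun r => si T (nat_lit 64) (nat_lit 128) a r fun a r => si T (nat_lit 32) (nat_lit 64) a r fun a r => si T (nat_lit 16) (nat_lit 32) a r fun a r => si T (nat_lit 8) (nat_lit 16) a r fun a r => si T (nat_lit 4) (nat_lit 8) a r fun a r => si T (nat_lit 2) (nat_lit 4) a r fun a r => si T (nat_lit 1) (nat_lit 2) a r fun _ r => r) (nat_lit 0)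

theorem ar7_eq (T : ℕ) : (⟨mul7 T, inv7 T, 0⟩ : Ar) = arG T 7 := rfl

/-- Unrolled product. -/
noncomputable def mul8 (T a b : ℕ) : ℕ :=
  st T (nat_lit 128) (nat_lit 256) b a fun a => st T (nat_lit 64) (nat_lit 128) b a fun a => st T (nat_lit 32) (nat_lit 64) b a fun a => st T (nat_lit 16) (nat_lit 32) b a fun a => st T (nat_lit 8) (nat_lit 16) b a fun a => st T (nat_lit 4) (nat_lit 8) b a fun a => st T (nat_lit 2) (nat_lit 4) b a fun a => st T (nat_lit 1) (nat_lit 2) b a fun a => a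

/-- Unrolled inverse. -/
noncomputable def inv8 (T a : ℕ) : ℕ :=
  (fun r => si T (nat_lit 128) (nat_lit 256) a r fun a r => si T (nat_lit 64) (nat_lit 128) a r fun a r => si T (nat_lit 32) (nat_lit 64) a r fun a r => si T (nat_lit 16) (nat_lit 32) a r fun a r => si T (nat_lit 8) (nat_lit 16) a r fun a r => si T (nat_lit 4) (nat_lit 8) a r fun a r => si T (nat_lit 2) (nat_lit 4) a r fun a r => si T (nat_lit 1) (nat_lit 2) a r fun _ r => r) (nat_lit 0)

theorem ar8_eq (T : ℕ) : (⟨mul8 T, inv8 T, 0⟩ : Ar) = arG T 8 := rfl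

/-- Unrolled product. -/
noncomputable def mul9 (T a b : ℕ) : ℕ :=
  st T (nat_lit 256) (nat_lit 512) b a fun a => st T (nat_lit 128) (nat_lit 256) b a fun a => st T (nat_lit 64) (nat_lit 128) b a fun a => st T (nat_lit 32) (nat_lit 64) b a fun a => st T (nat_lit 16) (nat_lit 32) b a fun a => st T (nat_lit 8) (nat_lit 16) b a fun a => st T (nat_lit 4) (nat_lit 8) b a fun a => st T (nat_lit 2) (nat_lit 4) b a fun a => st T (nat_lit 1) (nat_lit 2) b a fun a => a

/-- Unrolled inverse. -/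
noncomputable def inv9 (T a : ℕ) : ℕ :=
  (fun r => si T (nat_lit 256) (nat_lit 512) a r fun a r => si T (nat_lit 128) (nat_lit 256) a r fun a r => si T (nat_lit 64) (nat_lit 128) a r fun a r => si T (nat_lit 32) (nat_lit 64) a r fun a r => si T (nat_lit 16) (nat_lit 32) a r fun a r => si T (nat_lit 8) (nat_lit 16) a r fun a r => si T (nat_lit 4) (nat_lit 8) a r fun a r => si T (nat_lit 2) (nat_lit 4) a r fun a r => si T (nat_lit 1) (nat_lit 2) a r fun _ r => r) (nat_lit 0)

theorem ar9_eq (T : ℕ) : (⟨mul9 T, inv9 T, 0⟩ : Ar) = arG T 9 := rfl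

/-- Unrolled product. -/
noncomputable def mul10 (T a b : ℕ) : ℕ :=
  st T (nat_lit 512) (nat_lit 1024) b a fun a => st T (nat_lit 256) (nat_lit 512) b a fun a => st T (nat_lit 128) (nat_lit 256) b a fun a => st T (nat_lit 64) (nat_lit 128) b a fun a => st T (nat_lit 32) (nat_lit 64) b a fun a => st T (nat_lit 16) (nat_lit 32) b a fun a => st T (nat_lit 8) (nat_lit 16) b a fun a => st T (nat_lit 4) (nat_lit 8) b a fun a => st T (nat_lit 2) (nat_lit 4) b a fun a => st T (nat_lit 1) (nat_lit 2) b a fun a => a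

/-- Unrolled inverse. -/
noncomputable def inv10 (T a : ℕ) : ℕ :=
  (fun r => si T (nat_lit 512) (nat_lit 1024) a r fun a r => si T (nat_lit 256) (nat_lit 512) a r fun a r => si T (nat_lit 128) (nat_lit 256) a r fun a r => si T (nat_lit 64) (nat_lit 128) a r fun a r => si T (nat_lit 32) (nat_lit 64) a r fun a r => si T (nat_lit 16) (nat_lit 32) a r fun a r => si T (nat_lit 8) (nat_lit 16) a r fun a r => si T (nat_lit 4) (nat_lit 8) a r fun a r => si T (nat_lit 2) (nat_lit 4) a r fun a r => si T (nat_lit 1) (nat_lit 2) a r fun _ r => r) (nat_lit 0)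

theorem ar10_eq (T : ℕ) : (⟨mul10 T, inv10 T, 0⟩ : Ar) = arG T 10 := rfl

/-- Unrolled product. -/
noncomputable def mul11 (T a b : ℕ) : ℕ :=
  st T (nat_lit 1024) (nat_lit 2048) b a fun a => st T (nat_lit 512) (nat_lit 1024) b a fun a => st T (nat_lit 256) (nat_lit 512) b a fun a => st T (nat_lit 128) (nat_lit 256) b a fun a => st T (nat_lit 64) (nat_lit 128) b a fun a => st T (nat_lit 32) (nat_lit 64) b a fun a => st T (nat_lit 16) (nat_lit 32) b a fun a => st T (nat_lit 8) (nat_lit 16) b a fun a => st T (nat_lit 4) (nat_lit 8) b a fun a => st T (nat_lit 2) (nat_lit 4) b a fun a => st T (nat_lit 1) (nat_lit 2) b a fun a => a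

/-- Unrolled inverse. -/
noncomputable def inv11 (T a : ℕ) : ℕ :=
  (fun r => si T (nat_lit 1024) (nat_lit 2048) a r fun a r => si T (nat_lit 512) (nat_lit 1024) a r fun a r => si T (nat_lit 256) (nat_lit 512) a r fun a r => si T (nat_lit 128) (nat_lit 256) a r fun a r => si T (nat_lit 64) (nat_lit 128) a r fun a r => si T (nat_lit 32) (nat_lit 64) a r fun a r => si T (nat_lit 16) (nat_lit 32) a r fun a r => si T (nat_lit 8) (nat_lit 16) a r fun a r => si T (nat_lit 4) (nat_lit 8) a r fun a r => si T (nat_lit 2) (nat_lit 4) a r fun a r => si T (nat_lit 1) (nat_lit 2) a r fun _ r => r) (nat_lit 0)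

theorem ar11_eq (T : ℕ) : (⟨mul11 T, inv11 T, 0⟩ : Ar) = arG T 11 := rfl

/-- The arithmetic of the table `T`. -/
noncomputable def arN (T n : ℕ) : Ar :=
  Bool.rec (Bool.rec (Bool.rec (Bool.rec (Bool.rec (Bool.rec (Bool.rec (arG T n)
    ⟨mul5 T, inv5 T, 0⟩ (Nat.beq n (nat_lit 5)))
    ⟨mul6 T, inv6 T, 0⟩ (Nat.beq n (nat_lit 6)))
    ⟨mul7 T, inv7 T, 0⟩ (Nat.beq n (nat_lit 7)))
    ⟨mul8 T, inv8 T, 0⟩ (Nat.beq n (nat_lit 8)))
    ⟨mul9 T, inv9 T, 0⟩ (Nat.beq n (nat_lit 9)))
    ⟨mul10 T, inv10 T, 0⟩ (Nat.beq n (nat_lit 10)))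
    ⟨mul11 T, inv11 T, 0⟩ (Nat.beq n (nat_lit 11))

theorem arN_eq (T n : ℕ) : arN T n = arG T n := by
  unfold arN
  cases h11 : Nat.beq n (nat_lit 11)
  swap
  · rw [Nat.eq_of_beq_eq_true h11]; exact ar11_eq T
  cases h10 : Nat.beq n (nat_lit 10)
  swap
  · rw [Nat.eq_of_beq_eq_true h10]; exact ar10_eq T
  cases h9 : Nat.beq n (nat_lit 9)
  swap
  · rw [Nat.eq_of_beq_eq_true h9]; exact ar9_eq T
  cases h8 : Nat.beq n (nat_lit 8)
  swap
  · rw [Nat.eq_of_beq_eq_true h8]; exact ar8_eq T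
  cases h7 : Nat.beq n (nat_lit 7)
  swap
  · rw [Nat.eq_of_beq_eq_true h7]; exact ar7_eq T
  cases h6 : Nat.beq n (nat_lit 6)
  swap
  · rw [Nat.eq_of_beq_eq_true h6]; exact ar6_eq T
  cases h5 : Nat.beq n (nat_lit 5)
  swap
  · rw [Nat.eq_of_beq_eq_true h5]; exact ar5_eq T
  rfl

theorem land_pow_beq (b k : ℕ) : Nat.beq (Nat.land b (2 ^ k)) (nat_lit 0) = !b.testBit k := by
  have h : Nat.land b (2 ^ k) = (b.testBit k).toNat * 2 ^ k := Nat.and_two_pow b k
  rw [h]
  cases b.testBit k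
  · simp
  · cases h1 : Nat.beq (true.toNat * 2 ^ k) (nat_lit 0)
    · rfl
    · exact absurd (Nat.eq_of_beq_eq_true h1) (by simp)

theorem mulG_succ (T b k a : ℕ) :
    mulG T b (k + 1) a = mulG T b k (if b.testBit k then rt T (2 ^ (k + 1)) a else a) := by
  show st T (2 ^ k) (2 ^ (k + 1)) b a (mulG T b k) = _
  rw [st, land_pow_beq]
  cases b.testBit k <;> simp [frc_eq]

theorem invG_succ (T k a r : ℕ) : invG T (k + 1) a r =
    if a.testBit k then invG T k (rt T (2 ^ (k + 1)) a) (r + 2 ^ k) else invG T k a r := by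
  show si T (2 ^ k) (2 ^ (k + 1)) a r (invG T k) = _
  rw [si, land_pow_beq]
  cases a.testBit k <;> simp [frc_eq]

variable {G : Type*} [Group G] {g : ℕ → G} {n : ℕ}

theorem bitsW_zero (k : ℕ) : bitsW k 0 = [] := bitsW_of_lt (k := 0) (by simp) k.zero_le

theorem bitsW_split {k m h lo : ℕ} (hk : k ≤ m) (hlo : lo < 2 ^ k) :
    bitsW m (2 ^ k * h + lo) = bitsW m (2 ^ k * h) ++ bitsW k lo := by
  induction m, hk using Nat.le_induction with
  | base =>
    have h1 : bitsW k (2 ^ k * h) = [] := by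
      rw [← bitsW_zero k]
      exact bitsW_congr fun j hj => by simp [Nat.testBit_two_pow_mul, hj]
    rw [h1, List.nil_append]
    exact bitsW_congr fun j hj => by rw [Nat.testBit_two_pow_mul_add _ hlo, if_pos hj]
  | succ m hm ih =>
    have h1 : (2 ^ k * h + lo).testBit m = (2 ^ k * h).testBit m := by
      rw [Nat.testBit_two_pow_mul_add _ hlo, if_neg (by omega), Nat.testBit_two_pow_mul]; simp [hm]
    rw [bitsW_succ, bitsW_succ, ih, h1]
    split_ifs <;> rfl

theorem elt_split {k h lo : ℕ} (hk : k ≤ n) (hlo : lo < 2 ^ k) :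
    elt g n (2 ^ k * h + lo) = elt g n (2 ^ k * h) * elt g n lo := by
  rw [elt, bitsW_split hk hlo, evalW_append, elt_of_lt hlo hk]; rfl

/-- The table is right for the generator `k`. -/
def RowOK (g : ℕ → G) (n T k : ℕ) : Prop := ∀ a < 2 ^ (k + 1), rt T (2 ^ (k + 1)) a < 2 ^ (k + 1) ∧
  (2 ^ k ≤ a → rt T (2 ^ (k + 1)) a < 2 ^ k) ∧ elt g n (rt T (2 ^ (k + 1)) a) = elt g n a * g k

variable {T : ℕ}

theorem RowOK.gen {k : ℕ} (h : RowOK g n T k) (hk : k < n) (a : ℕ) :
    rt T (2 ^ (k + 1)) a / 2 ^ (k + 1) = a / 2 ^ (k + 1) ∧ elt g n (rt T (2 ^ (k + 1)) a) = elt g n a * g k := by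
  set p := 2 ^ (k + 1) with hp
  have h0 : 0 < p := by positivity
  obtain ⟨h1, -, h2⟩ := h (a % p) (Nat.mod_lt _ h0)
  set e := Nat.land (Nat.shiftRight T (Nat.shiftLeft (Nat.add (Nat.mod a p) p) (nat_lit 4))) (nat_lit 65535) with he
  have e1 : rt T p (a % p) = a % p ^^^ e := by
    rw [he]; unfold rt; congr 5; exact Nat.mod_mod _ _
  have e2 : rt T p a = a ^^^ e := rfl
  have h3 : e < p := by
    have := Nat.xor_lt_two_pow (Nat.mod_lt a h0) (e1 ▸ h1)
    rwa [← Nat.xor_assoc, Nat.xor_self, Nat.zero_xor] at this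
  have h4 : (a ^^^ e) / p = a / p := by rw [hp, Nat.xor_div_two_pow, Nat.div_eq_of_lt h3, Nat.xor_zero]
  have h5 : (a ^^^ e) % p = a % p ^^^ e := by rw [hp, Nat.xor_mod_two_pow, Nat.mod_eq_of_lt h3]
  refine ⟨e2 ▸ h4, ?_⟩
  rw [e2, ← Nat.div_add_mod (a ^^^ e) p, h4, h5, ← e1, elt_split hk h1, h2, ← mul_assoc,
    ← elt_split hk (Nat.mod_lt _ h0), Nat.div_add_mod]

theorem lt_of_div {a b j k : ℕ} (h : a / 2 ^ j = b / 2 ^ j) (hj : j ≤ k) (hb : b < 2 ^ k) : a < 2 ^ k := by
  obtain ⟨i, rfl⟩ := Nat.exists_eq_add_of_le hj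
  rw [pow_add, mul_comm, ← Nat.div_lt_iff_lt_mul (by positivity)] at hb ⊢
  rwa [h]

theorem mulG_spec {m : ℕ} (hm : m ≤ n) (h : ∀ k < m, RowOK g n T k) (b a : ℕ) :
    elt g n (mulG T b m a) = elt g n a * elt g m b ∧ ∀ k, a < 2 ^ k → b < 2 ^ k → mulG T b m a < 2 ^ k := by
  induction m generalizing a with
  | zero => exact ⟨by simp [mulG, elt, bitsW], fun k ha _ => ha⟩
  | succ m ih =>
    have ih := ih (by omega) fun k hk => h k (by omega)
    obtain ⟨h1, h2⟩ := (h m (by omega)).gen (by omega) a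
    rw [mulG_succ, elt.eq_1 g (m + 1), bitsW_succ]
    cases hb : b.testBit m
    · simpa [elt] using ih a
    · simp only [if_true, evalW_cons]
      refine ⟨by rw [(ih _).1, h2, mul_assoc]; rfl, fun k ha hk => (ih _).2 k (lt_of_div h1 ?_ ha) hk⟩
      by_contra h3
      rw [Nat.testBit_lt_two_pow (hk.trans_le (Nat.pow_le_pow_right two_pos (by omega)))] at hb
      exact absurd hb (by simp)

theorem invG_spec {m : ℕ} (hm : m ≤ n) (h : ∀ k < m, RowOK g n T k) {a : ℕ} (ha : a < 2 ^ m) (r : ℕ) :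
    invG T m a (2 ^ m * r) < 2 ^ m * (r + 1) ∧
      elt g n (invG T m a (2 ^ m * r)) = elt g n (2 ^ m * r) * (elt g n a)⁻¹ := by
  induction m generalizing a r with
  | zero =>
    obtain rfl : a = 0 := by simpa using ha
    exact ⟨by simp [invG], by simp [invG]⟩
  | succ m ih =>
    have ih := @ih (by omega) fun k hk => h k (by omega)
    obtain ⟨-, h1, h2⟩ := h m (by omega) a ha
    rw [invG_succ]
    cases hb : a.testBit m
    · have h3 : a < 2 ^ m := by
        by_contra h3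
        rw [Nat.testBit_of_two_pow_le_and_two_pow_add_one_gt (not_lt.1 h3) ha] at hb
        exact absurd hb (by simp)
      have e : 2 ^ (m + 1) * r = 2 ^ m * (2 * r) := by ring
      simp only [Bool.false_eq_true, if_false]
      rw [e]
      exact ⟨(ih h3 _).1.trans_le (by rw [pow_succ]; nlinarith [Nat.two_pow_pos m]), (ih h3 _).2⟩
    · have h3 := h1 (Nat.ge_two_pow_of_testBit hb)
      have e : 2 ^ (m + 1) * r + 2 ^ m = 2 ^ m * (2 * r + 1) := by ring
      simp only [if_true]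
      rw [e]
      refine ⟨(ih h3 _).1.trans_le (by rw [pow_succ]; nlinarith [Nat.two_pow_pos m]), ?_⟩
      rw [(ih h3 _).2, ← e, elt_split (k := m + 1) hm (Nat.pow_lt_pow_right one_lt_two m.lt_succ_self), h2,
        elt_pow (by omega)]
      group

/-- The arithmetic `A` computes with the indices below `2 ^ n`. -/
structure PC0 (A : Ar) (n : ℕ) (g : ℕ → G) : Prop where
  one : A.one = 0
  lt : ∀ k ≤ n, ∀ a < 2 ^ k, ∀ b < 2 ^ k, A.mul a b < 2 ^ k
  mul : ∀ a < 2 ^ n, ∀ b < 2 ^ n, elt g n (A.mul a b) = elt g n a * elt g n b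
  inv : ∀ a < 2 ^ n, A.inv a < 2 ^ n ∧ elt g n (A.inv a) = (elt g n a)⁻¹

/-- The same, and different indices name different elements. -/
structure PCA (A : Ar) (n : ℕ) (g : ℕ → G) : Prop extends PC0 A n g where
  ne : ∀ a < 2 ^ n, elt g n a = 1 → a = 0

theorem pc0_of_rows (h : ∀ k < n, RowOK g n T k) : PC0 (arN T n) n g := by
  rw [arN_eq]
  refine ⟨rfl, fun k _ a ha b hb => (mulG_spec le_rfl h b a).2 k ha hb, fun a _ b _ => (mulG_spec le_rfl h b a).1,
    fun a ha => ?_⟩
  simpa [arG] using invG_spec le_rfl h ha 0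

variable {A : Ar}

theorem PCA.isPC (h : PCA A n g) : IsPC g n fun k a => A.mul (2 ^ k) a := by
  refine ⟨fun k hk x hx i hi => ?_, h.ne⟩
  have h1 : 2 ^ x < 2 ^ k := Nat.pow_lt_pow_right one_lt_two hx
  have h2 := Nat.pow_le_pow_right two_pos hk
  exact ⟨h.lt k hk _ h1 i hi, by rw [h.mul _ (h1.trans_le h2) i (hi.trans_le h2), elt_pow (by omega)]; rfl⟩

/-- Indices as codes. -/
noncomputable def PCA.cod (h : PCA A n g) : Cod A G where
  V a := a < 2 ^ n
  elt := elt g n
  V_one := h.one ▸ Nat.two_pow_pos n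
  elt_one := h.one ▸ elt_zero
  V_mul ha hb := h.lt n le_rfl _ ha _ hb
  elt_mul ha hb := h.mul _ ha _ hb
  V_inv ha := (h.inv _ ha).1
  elt_inv ha := (h.inv _ ha).2
  inj := h.isPC.inj

/-! ### The check of the table -/

/-- Right multiplication by a word. -/
noncomputable def rtW (T : ℕ) (w : List ℕ) : ℕ → ℕ :=
  List.rec (fun a => a) (fun x _ ih a => frc (rt T (Nat.shiftLeft (nat_lit 2) x) a) ih) w

theorem rtW_spec {k : ℕ} (hk : k ≤ n) (h : ∀ j < k, RowOK g n T j) {w : List ℕ} (hw : ∀ x ∈ w, x < k) (a : ℕ) :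
    elt g n (rtW T w a) = elt g n a * evalW g w := by
  induction w generalizing a with
  | nil => simp [rtW]
  | cons x w ih =>
    have h1 := hw x List.mem_cons_self
    have e : rtW T (x :: w) a = rtW T w (rt T (2 ^ (x + 1)) a) := by
      show frc (rt T (2 <<< x) a) _ = _
      rw [frc_eq, Nat.shiftLeft_eq, pow_succ']; rfl
    rw [e, ih fun y hy => hw y (List.mem_cons_of_mem _ hy), ((h x h1).gen (by omega) a).2, evalW_cons, mul_assoc]

/-- The relations `g k ^ 2 = C k k` and `g j * g k = g k * C k j`. -/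
def Rel (C : List (List (List ℕ))) (n : ℕ) (g : ℕ → G) : Prop :=
  ∀ k < n, g k * g k = evalW g (nth [] (nth [] C k) k) ∧
    ∀ j < k, g j * g k = g k * evalW g (nth [] (nth [] C k) j)

/-- The table is the one determined by the relations. -/
noncomputable def tabOK (C : List (List (List ℕ))) (T n : ℕ) : Bool :=
  allLt n fun k => frc (Nat.pow 2 k) fun q => frc (Nat.add q q) fun p =>
    band (allLt (Nat.succ k) fun j => lettersLt k (nth [] (nth [] C k) j))
      (band (Nat.beq (rt T p 0) q) (band (frc (rt T p q) fun b =>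
        band (blt b q) (Nat.beq b (rtW T (nth [] (nth [] C k) k) 0)))
      (allLt k fun j => frc (Nat.pow 2 j) fun e => allRange 0 (Nat.pow 2 (Nat.sub k j)) fun h =>
        frc (Nat.shiftLeft h (Nat.succ j)) fun a => frc (rt T p (Nat.add a e)) fun b =>
          band (blt b (Bool.rec p q (Nat.ble q a))) (Nat.beq b (rtW T (nth [] (nth [] C k) j) (rt T p a))))))

theorem exists_low {k a : ℕ} (ha : a < 2 ^ (k + 1)) (h0 : a ≠ 0) (h1 : a ≠ 2 ^ k) :
    ∃ j < k, ∃ h < 2 ^ (k - j), a = 2 ^ (j + 1) * h + 2 ^ j := by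
  obtain ⟨j, m, hm, rfl⟩ := Nat.exists_eq_two_pow_mul_odd h0
  obtain ⟨h, rfl⟩ := hm
  have h2 : j ≤ k := by
    by_contra h2
    have := Nat.pow_le_pow_right two_pos (show k + 1 ≤ j by omega)
    nlinarith [Nat.two_pow_pos j]
  obtain ⟨i, rfl⟩ := Nat.exists_eq_add_of_le h2
  have h3 : h < 2 ^ i := by
    rw [add_assoc, pow_add, Nat.mul_lt_mul_left (by positivity), pow_succ] at ha
    omega
  refine ⟨j, ?_, h, by simpa using h3, by ring⟩
  rcases i with _ | i
  · obtain rfl : h = 0 := by simpa using h3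
    simp at h1
  · omega

theorem rows_of_tabOK {C : List (List (List ℕ))} (hc : tabOK C T n = true) (hr : Rel C n g) :
    ∀ k < n, RowOK g n T k := by
  intro k
  induction k using Nat.strong_induction_on with
  | _ k ih =>
    intro hk
    have ih : ∀ j < k, RowOK g n T j := fun j hj => ih j hj (by omega)
    have h1 := (allLt_iff _ _).1 hc k hk
    have e : 2 ^ k + 2 ^ k = 2 ^ (k + 1) := by ring
    simp only [frc_eq, band_iff, allLt_iff, lettersLt_iff, nbeq_iff, blt_iff, Nat.pow_eq, Nat.add_eq, e,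
      ONT.allRange_iff, Nat.sub_eq, Nat.shiftLeft_eq', Nat.shiftLeft_eq, Nat.succ_eq_add_one] at h1
    obtain ⟨h1, h2, ⟨h3, h4⟩, h5⟩ := h1
    have hq : 2 ^ k < 2 ^ (k + 1) := Nat.pow_lt_pow_right one_lt_two k.lt_succ_self
    intro a
    induction a using Nat.strong_induction_on with
    | _ a iha =>
      intro ha
      by_cases h0 : a = 0
      · subst h0
        exact ⟨h2 ▸ hq, fun h => absurd h (by simp), by rw [h2, elt_pow hk]; simp⟩
      by_cases hq' : a = 2 ^ k
      · subst hq'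
        exact ⟨h3.trans hq, fun _ => h3, by
          rw [h4, rtW_spec hk.le ih (h1 k (by omega)), elt_pow hk, (hr k hk).1]; simp⟩
      obtain ⟨j, hj, h, hh, rfl⟩ := exists_low ha h0 hq'
      obtain ⟨h6, h7⟩ := h5 j hj h hh
      rw [mul_comm h] at h6 h7
      have h8 := Nat.two_pow_pos j
      refine ⟨h6.trans_le ?_, fun h9 => ?_, ?_⟩
      · cases Nat.ble (2 ^ k) (2 ^ (j + 1) * h)
        · exact le_rfl
        · exact hq.le
      · have h10 : 2 ^ k ≤ 2 ^ (j + 1) * h := by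
          obtain ⟨i, rfl⟩ := Nat.exists_eq_add_of_le (show j + 1 ≤ k from hj)
          rw [pow_add _ (j + 1)] at h9 ⊢
          refine Nat.mul_le_mul_left _ ?_
          by_contra h11
          have := Nat.mul_le_mul_left (2 ^ (j + 1)) (show h + 1 ≤ 2 ^ i by omega)
          rw [pow_succ] at this h9
          nlinarith
        rwa [Nat.ble_eq_true_of_le h10] at h6
      · rw [h7, rtW_spec hk.le ih (h1 j (by omega)), (iha _ (by omega) (by omega)).2.2,
          elt_split (k := j + 1) (by omega) (Nat.pow_lt_pow_right one_lt_two j.lt_succ_self), elt_pow (by omega),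
          mul_assoc, mul_assoc, (hr k hk).2 j hj]

end Cfsg.Agent.L33
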