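import Mathlib
import Cfsg.Agent.L33.EAr
import Cfsg.Agent.L33.EDefs
import Cfsg.Agent.Rec.Act

/-!
Extensions of index two, lists and masks of subgroups, classes and transversals.
-/

set_option autoImplicit false

namespace Cfsg.Agent.L33

open Cfsg.Agent.Spor Cfsg.Agent.Rec Cfsg.Agent.Spor.PC Subgroup

variable {G : Type*} [Group G] {g : ℕ → G} {n : ℕ} {A : Ar}

/-- `a` is the index of `x`. -/
def Rp (g : ℕ → G) (n a : ℕ) (x : G) : Prop := a < 2 ^ n ∧ elt g n a = x

theorem rp {a : ℕ} (h : a < 2 ^ n) : Rp g n a (elt g n a) := ⟨h, rfl⟩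

theorem PC0.r1 (h : PC0 A n g) : Rp g n A.one 1 := h.one ▸ ⟨Nat.two_pow_pos n, elt_zero⟩

theorem PC0.rm (h : PC0 A n g) {a b : ℕ} {x y : G} (ha : Rp g n a x) (hb : Rp g n b y) :
    Rp g n (A.mul a b) (x * y) := ⟨h.lt n le_rfl _ ha.1 _ hb.1, by rw [h.mul _ ha.1 _ hb.1, ha.2, hb.2]⟩

theorem PC0.ri (h : PC0 A n g) {a : ℕ} {x : G} (ha : Rp g n a x) : Rp g n (A.inv a) x⁻¹ :=
  ⟨(h.inv a ha.1).1, by rw [(h.inv a ha.1).2, ha.2]⟩

theorem PCA.req (h : PCA A n g) {a b : ℕ} {x y : G} (ha : Rp g n a x) (hb : Rp g n b y) : a = b ↔ x = y :=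
  ⟨fun e => by rw [← ha.2, ← hb.2, e], fun e => h.isPC.inj ha.1 hb.1 (by rw [ha.2, hb.2, e])⟩

/-- The indices `c` name the elements `e`. -/
def RL (g : ℕ → G) (n : ℕ) (c : List ℕ) (e : List G) : Prop := List.Forall₂ (Rp g n) c e

theorem RL.nth {c : List ℕ} {e : List G} (h : RL g n c e) (i : ℕ) : Rp g n (nth 0 c i) (nth 1 e i) := by
  induction h generalizing i with
  | nil => exact ⟨Nat.two_pow_pos n, elt_zero⟩
  | cons h _ ih => cases i with
    | zero => exact h
    | succ i => exact ih i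

theorem rl_map {c : List ℕ} (h : ∀ a ∈ c, a < 2 ^ n) : RL g n c (c.map (elt g n)) :=
  List.forall₂_map_right_iff.2 (List.forall₂_same.2 fun a ha => rp (h a ha))

/-- The value of a word. -/
noncomputable def evD (A : Ar) (c w : List ℕ) : ℕ :=
  List.rec 0 (fun x w _ => frc (nth 0 c x) (List.rec (motive := fun _ => ℕ → ℕ) (fun a => a)
    (fun y _ ih a => frc (nth 0 c y) fun b => frc (A.mul a b) ih) w)) w

theorem PC0.evD (h : PC0 A n g) {c : List ℕ} {f : ℕ → G} (hc : ∀ i, Rp g n (nth 0 c i) (f i)) (w : List ℕ) :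
    Rp g n (evD A c w) (evalW f w) := by
  cases w with
  | nil => exact ⟨Nat.two_pow_pos n, elt_zero⟩
  | cons x w =>
    rw [evalW_cons]
    have h1 := hc x
    show Rp g n (frc (nth 0 c x) _) _
    rw [frc_eq]
    generalize nth 0 c x = a, f x = y at h1
    induction w generalizing a y with
    | nil => simpa using h1
    | cons z w ih =>
      rw [evalW_cons, ← mul_assoc]
      simpa only [frc_eq] using ih _ _ (h.rm h1 (hc z))

/-- The image under the map with the images `I` of the generators, times `r`. -/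
noncomputable def phA (A : Ar) (I : List ℕ) : ℕ → ℕ → ℕ :=
  List.rec (fun _ r => r) (fun y _ ih a r => frc (Nat.shiftRight a (nat_lit 1)) fun b =>
    Bool.rec (ih b r) (frc (A.mul y r) (ih b)) (Nat.beq (Nat.land a (nat_lit 1)) (nat_lit 1))) I

/-- The image under the map with the images `I` of the generators. -/
noncomputable def phi (A : Ar) (I : List ℕ) (a : ℕ) : ℕ := phA A I a (nat_lit 0)

theorem elt_low (f : ℕ → G) (m a : ℕ) :
    elt f (m + 1) a = elt (fun k => f (k + 1)) m (a / 2) * if a.testBit 0 then f 0 else 1 := by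
  induction m with
  | zero => simp only [elt, bitsW_succ]; split_ifs <;> simp [bitsW]
  | succ m ih =>
    simp only [elt] at ih ⊢
    rw [bitsW_succ (m + 1), bitsW_succ m (a / 2), Nat.testBit_succ]
    split_ifs at ih ⊢ <;> simp [ih, mul_assoc]

theorem PC0.phA (h : PC0 A n g) {I : List ℕ} {e : List G} (hI : RL g n I e) (a : ℕ) {r : ℕ} {x : G}
    (hr : Rp g n r x) : Rp g n (phA A I a r) (elt (nth 1 e) I.length a * x) := by
  induction hI generalizing a r x with
  | nil => simpa [elt, bitsW, L33.phA] using hr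
  | @cons y z I e hy _ ih =>
    have e1 : L33.phA A (y :: I) a r = if a.testBit 0 then L33.phA A I (a / 2) (A.mul y r) else L33.phA A I (a / 2) r := by
      rw [← tb_eq, ← Nat.shiftRight_one]
      show frc (a >>> 1) (fun b => (Bool.rec (L33.phA A I b r) (frc (A.mul y r) (L33.phA A I b)) (tb a 0) : ℕ)) = _
      rw [frc_eq]
      cases tb a 0
      · rfl
      · exact frc_eq _ _
    rw [e1, List.length_cons, elt_low]
    split_ifs
    · rw [mul_assoc]; exact ih _ (h.rm hy hr)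
    · rw [mul_one]; exact ih _ hr

theorem PC0.phi (h : PC0 A n g) {I : List ℕ} {e : List G} (hI : RL g n I e) (a : ℕ) :
    Rp g n (phi A I a) (elt (nth 1 e) I.length a) :=
  mul_one (elt (nth 1 e) I.length a) ▸ h.phA hI a ⟨Nat.two_pow_pos n, elt_zero⟩

theorem elt_conj (v : G) (a : ℕ) : elt (fun k => v * g k * v⁻¹) n a = v * elt g n a * v⁻¹ :=
  (map_elt (cjH v) a).symm

/-- `u` conjugates the element `x` to the element `y`. -/
def Cj (g : ℕ → G) (n : ℕ) (u : G) (x y : ℕ) : Prop := x < 2 ^ n ∧ Rp g n y (u * elt g n x * u⁻¹)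

theorem PC0.phi_cj (h : PC0 A n g) {I J : List ℕ} {u : G} (hI : List.Forall₂ (Cj g n u) I J) (a : ℕ) :
    Cj g n u (L33.phi A I a) (L33.phi A J a) := by
  have h1 : RL g n I (I.map (elt g n)) ∧ RL g n J ((I.map (elt g n)).map (cjH u)) := by
    induction hI with
    | nil => exact ⟨.nil, .nil⟩
    | cons h _ ih => exact ⟨.cons (rp h.1) ih.1, .cons h.2 ih.2⟩
  have h2 := h.phi h1.1 a
  have h3 := h.phi h1.2 a
  refine ⟨h2.1, h3.1, ?_⟩
  rw [h3.2, h2.2, ← hI.length_eq, ← elt_conj]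
  exact congrArg (elt · _ _) (funext fun k => nth_map _ _ k)

/-- The powers of two. -/
noncomputable def pows (n : ℕ) : ℕ → List ℕ := Nat.rec (fun _ => []) (fun _ ih p => p :: ih (Nat.add p p)) n

theorem pows_eq (n k : ℕ) : pows n (2 ^ k) = (List.range n).map fun i => 2 ^ (k + i) := by
  induction n generalizing k with
  | zero => rfl
  | succ n ih =>
    have e : pows (n + 1) (2 ^ k) = 2 ^ k :: pows n (2 ^ (k + 1)) := by
      rw [pow_succ, mul_two]; rfl
    rw [e, ih, List.range_succ_eq_map, List.map_cons, List.map_map]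
    congr 1
    exact List.map_congr_left fun i _ => by simp [add_assoc, add_comm 1 i]

theorem mem_pows {n a : ℕ} : a ∈ pows n 1 ↔ ∃ k < n, 2 ^ k = a := by
  rw [show pows n 1 = pows n (2 ^ 0) from rfl, pows_eq]; simp

theorem nth_pows {n k : ℕ} (d : ℕ) (h : k < n) : nth d (pows n 1) k = 2 ^ k := by
  rw [show pows n 1 = pows n (2 ^ 0) from rfl, pows_eq, nth_of_lt _ (by simpa using h)]; simp

theorem length_pows : (pows n 1).length = n := by
  rw [show pows n 1 = pows n (2 ^ 0) from rfl, pows_eq]; simp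

theorem pows_lt : ∀ a ∈ pows n 1, a < 2 ^ n := fun a ha => by
  obtain ⟨k, hk, rfl⟩ := mem_pows.1 ha
  exact Nat.pow_lt_pow_right one_lt_two hk

theorem PC0.phi_pows (h : PC0 A n g) {I : List ℕ} {u : G} (hI : List.Forall₂ (Cj g n u) (pows n 1) I) (a : ℕ) :
    Rp g n (L33.phi A I a) (u * elt g n a * u⁻¹) := by
  have h1 := (h.phi (rl_map pows_lt) a).2
  have h2 := (h.phi_cj hI a).2
  rw [h1, length_pows] at h2
  rwa [show elt g n a = elt (nth 1 ((pows n 1).map (elt g n))) n a from evalW_congr fun k hk => by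
    have h3 := lt_of_mem_bitsW hk
    rw [← ((rl_map (g := g) pows_lt).nth k).2, nth_pows _ h3, elt_pow h3]]

/-- The arithmetic of the extension; `h = 2 ^ n`. -/
noncomputable def extA (A : Ar) (h : ℕ) (I : List ℕ) (n0 : ℕ) : Ar where
  mul a b := Bool.rec
    (Bool.rec (A.mul a b) (frc (Nat.sub a h) fun a' => Nat.add h (A.mul a' b)) (Nat.ble h a))
    (frc (Nat.sub b h) fun b' => frc (phi A I a) fun c =>
      Bool.rec (Nat.add h (A.mul c b')) (frc (A.mul n0 c) fun d => A.mul d b') (Nat.ble h a))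
    (Nat.ble h b)
  inv a := Bool.rec (A.inv a) (frc (phi A I a) fun c => frc (A.mul n0 c) fun d => Nat.add h (A.inv d)) (Nat.ble h a)
  one := 0

theorem elt_update_lt (u : G) {a : ℕ} (ha : a < 2 ^ n) : elt (Function.update g n u) (n + 1) a = elt g n a := by
  rw [elt_of_lt ha n.le_succ]
  exact evalW_congr fun x hx => Function.update_of_ne (lt_of_mem_bitsW hx).ne _ _

theorem elt_update_add (u : G) {a : ℕ} (ha : a < 2 ^ n) :
    elt (Function.update g n u) (n + 1) (2 ^ n + a) = u * elt g n a := by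
  rw [elt_add ha n.lt_succ_self, elt_update_lt u ha, Function.update_self]

theorem ble_false {a b : ℕ} (h : b < a) : Nat.ble a b = false := by
  cases e : Nat.ble a b
  · rfl
  · exact absurd (Nat.le_of_ble_eq_true e) (by omega)

theorem cases_lt {a : ℕ} (ha : a < 2 ^ (n + 1)) : a < 2 ^ n ∨ ∃ b < 2 ^ n, a = 2 ^ n + b := by
  by_cases h : a < 2 ^ n
  · exact .inl h
  · exact .inr ⟨a - 2 ^ n, by rw [pow_succ] at ha; omega, by omega⟩

theorem PCA.ext (h : PCA A n g) {I : List ℕ} {n0 : ℕ} {v : G}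
    (hI : List.Forall₂ (Cj g n v) (pows n 1) I) (h0 : Rp g n n0 (v⁻¹ * v⁻¹))
    (hv : v ∉ genLt g n) : PCA (extA A (2 ^ n) I n0) (n + 1) (Function.update g n v⁻¹) := by
  have hφ : ∀ a, h.cod.Rep (phi A I a) (v * elt g n a * v⁻¹) := h.phi_pows hI
  have he : ∀ a < 2 ^ n, elt g n (2 ^ n + a) = elt g n a := fun a _ =>
    congrArg (evalW g) (bitsW_congr fun j hj => Nat.testBit_two_pow_add_gt hj a)
  have hr : ∀ a < 2 ^ n, h.cod.Rep a (elt g n a) := fun a ha => ⟨ha, rfl⟩
  replace h0 : h.cod.Rep n0 (v⁻¹ * v⁻¹) := h0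
  have h2 : ∀ a < 2 ^ n, a < 2 ^ (n + 1) ∧ 2 ^ n + a < 2 ^ (n + 1) := fun a ha => by rw [pow_succ]; omega
  have key : ∀ a < 2 ^ (n + 1), ∀ b < 2 ^ (n + 1), (extA A (2 ^ n) I n0).mul a b < 2 ^ (n + 1) ∧
      elt (Function.update g n v⁻¹) (n + 1) ((extA A (2 ^ n) I n0).mul a b) =
        elt (Function.update g n v⁻¹) (n + 1) a * elt (Function.update g n v⁻¹) (n + 1) b := by
    intro a ha' b hb'
    rcases cases_lt ha' with ha | ⟨a, ha, rfl⟩ <;> rcases cases_lt hb' with hb | ⟨b, hb, rfl⟩ <;>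
      simp only [extA, frc_eq, ble_false, ha, hb, Nat.ble_eq_true_of_le (Nat.le_add_right _ _), Nat.sub_eq,
        Nat.add_sub_cancel_left, Nat.add_eq, elt_update_lt, elt_update_add]
    · have := (hr a ha).mul (hr b hb)
      exact ⟨(h2 _ this.1).1, by rw [elt_update_lt _ this.1]; exact this.2⟩
    · have := (hφ a).mul (hr b hb)
      exact ⟨(h2 _ this.1).2, by rw [elt_update_add _ this.1]; rw [show elt g n _ = _ from this.2]; group⟩
    · have := (hr a ha).mul (hr b hb)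
      exact ⟨(h2 _ this.1).2, by rw [elt_update_add _ this.1]; rw [show elt g n _ = _ from this.2]; group⟩
    · have := (h0.mul (hφ (2 ^ n + a))).mul (hr b hb)
      exact ⟨(h2 _ this.1).1, by rw [elt_update_lt _ this.1]; rw [show elt g n _ = _ from this.2, he a ha]; group⟩
  refine ⟨⟨rfl, fun k hk a ha b hb => ?_, fun a ha b hb => (key a ha b hb).2, fun a ha' => ?_⟩, fun a ha' e => ?_⟩
  · rcases Nat.lt_or_eq_of_le hk with hk | rfl
    · have h3 := Nat.pow_le_pow_right two_pos (Nat.le_of_lt_succ hk)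
      simp only [extA, ble_false (ha.trans_le h3), ble_false (hb.trans_le h3)]
      exact h.lt k (by omega) a ha b hb
    · exact (key a ha b hb).1
  · rcases cases_lt ha' with ha | ⟨a, ha, rfl⟩ <;>
      simp only [extA, frc_eq, ble_false, ha, Nat.ble_eq_true_of_le (Nat.le_add_right _ _), Nat.add_eq,
        elt_update_lt, elt_update_add]
    · have := (hr a ha).inv
      exact ⟨(h2 _ this.1).1, by rw [elt_update_lt _ this.1]; exact this.2⟩
    · have := (h0.mul (hφ (2 ^ n + a))).inv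
      exact ⟨(h2 _ this.1).2, by
        rw [elt_update_add _ this.1, show elt g n _ = (v⁻¹ * v⁻¹ * (v * elt g n (2 ^ n + a) * v⁻¹))⁻¹ from this.2, he a ha]
        group⟩
  · rcases cases_lt ha' with ha | ⟨a, ha, rfl⟩
    · exact h.ne a ha ((elt_update_lt _ ha).symm.trans e)
    · rw [elt_update_add _ ha, inv_mul_eq_one] at e
      exact absurd (e ▸ elt_mem' (g := g) (n := n) a) hv

/-- Conjugation. -/
noncomputable def cjA (A : Ar) (m a : ℕ) : ℕ := frc (A.mul m a) fun b => frc (A.inv m) fun i => A.mul b i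

theorem PC0.cj (h : PC0 A n g) {m a : ℕ} {x y : G} (hm : Rp g n m x) (ha : Rp g n a y) :
    Rp g n (cjA A m a) (x * y * x⁻¹) := h.rm (h.rm hm ha) (h.ri hm)

/-- Commuting. -/
noncomputable def comA (A : Ar) (a b : ℕ) : Bool := Nat.beq (A.mul a b) (A.mul b a)

theorem PCA.com (h : PCA A n g) {a b : ℕ} {x y : G} (ha : Rp g n a x) (hb : Rp g n b y) :
    comA A a b = true ↔ x * y = y * x := (nbeq_iff _ _).trans (h.req (h.rm ha hb) (h.rm hb ha))

/-- Set a bit. -/
def setB (m b : ℕ) : ℕ := Nat.lor m (Nat.shiftLeft (nat_lit 1) b)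

theorem tb_setB (m b a : ℕ) : tb (setB m b) a = true ↔ tb m a = true ∨ a = b := by
  show tb (m ||| 1 <<< b) a = true ↔ _
  rw [tb_eq, tb_eq, Nat.testBit_or, Nat.shiftLeft_eq, one_mul, Nat.testBit_two_pow, Bool.or_eq_true,
    decide_eq_true_iff, eq_comm (a := b)]

theorem tb_one (a : ℕ) : tb 1 a = true ↔ a = 0 := by
  rw [tb_eq, show (1 : ℕ) = 2 ^ 0 from rfl, Nat.testBit_two_pow]; simp [eq_comm]

theorem tb_lor (m k a : ℕ) : tb (Nat.lor m k) a = true ↔ tb m a = true ∨ tb k a = true := by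
  show tb (m ||| k) a = true ↔ _
  simp [tb_eq]

theorem tb_land (m k a : ℕ) : tb (Nat.land m k) a = true ↔ tb m a = true ∧ tb k a = true := by
  show tb (m &&& k) a = true ↔ _
  simp [tb_eq]

/-- The difference of two masks. -/
def dif (a b : ℕ) : ℕ := Nat.xor a (Nat.land a b)

theorem tb_dif (m k a : ℕ) : tb (dif m k) a = true ↔ tb m a = true ∧ ¬ tb k a = true := by
  show tb (m ^^^ (m &&& k)) a = true ↔ _
  simp only [tb_eq, Nat.testBit_xor, Nat.testBit_and]
  cases m.testBit a <;> cases k.testBit a <;> simp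

theorem tb_zero (a : ℕ) : ¬ tb 0 a = true := by simp [tb_eq]

/-- Add the images under `f` of the entries of a list to a list and a mask. -/
noncomputable def addAll (f : ℕ → ℕ) (L : List ℕ) : List ℕ → ℕ → (List ℕ → ℕ → Bool) → Bool :=
  List.rec (fun L' m k => k L' m)
    (fun a _ ih L' m k => frc (f a) fun b => frc (setB m b) fun m' => ih (b :: L') m' k) L

theorem addAll_sound {f : ℕ → ℕ} {L L' : List ℕ} {m : ℕ} {k : List ℕ → ℕ → Bool} (h : addAll f L L' m k = true) :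
    ∃ L'' m', k L'' m' = true ∧ (∀ a, a ∈ L'' ↔ a ∈ L' ∨ ∃ b ∈ L, f b = a) ∧
      ∀ a, tb m' a = true ↔ tb m a = true ∨ ∃ b ∈ L, f b = a := by
  induction L generalizing L' m with
  | nil => exact ⟨L', m, h, by simp, by simp⟩
  | cons x L ih =>
    obtain ⟨L'', m', h1, h2, h3⟩ := ih (show addAll f L (f x :: L') (setB m (f x)) k = true from h)
    refine ⟨L'', m', h1, fun a => ?_, fun a => ?_⟩
    · rw [h2]; simp only [List.mem_cons, exists_eq_or_imp, eq_comm (a := a)]; tauto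
    · rw [h3, tb_setB]; simp only [List.mem_cons, exists_eq_or_imp, eq_comm (a := a)]; tauto

/-- The list and the mask of the subgroup with the polycyclic sequence `ws`, last generator first. -/
noncomputable def pcm (A : Ar) (h : ℕ) (ws : List ℕ) : (List ℕ → ℕ → Bool) → Bool :=
  List.rec (fun k => k [0] 1) (fun w ws ih k => ih fun L m =>
    band (blt w h) (band (bneg (tb m w)) (band (tb m (A.mul w w)) (band (allL ws fun x => tb m (cjA A w x))
      (addAll (A.mul w) L L m k))))) ws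

/-- The subgroup generated by the elements with the given indices. -/
noncomputable def sg (g : ℕ → G) (n : ℕ) (ws : List ℕ) : Subgroup G := clos (ws.map (elt g n))

theorem mem_sg {ws : List ℕ} {a : ℕ} (h : a ∈ ws) : elt g n a ∈ sg g n ws := mem_clos (List.mem_map_of_mem h)

theorem sg_le {ws : List ℕ} {K : Subgroup G} : sg g n ws ≤ K ↔ ∀ a ∈ ws, elt g n a ∈ K := by simp [sg, clos_le]

theorem sg_le_genLt (ws : List ℕ) : sg g n ws ≤ genLt g n := sg_le.2 fun a _ => elt_mem' a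

/-- `m` is the mask of the subgroup generated by `ws`. -/
structure Msk (g : ℕ → G) (n : ℕ) (ws : List ℕ) (m : ℕ) : Prop where
  lt : ∀ a ∈ ws, a < 2 ^ n
  iff : ∀ a < 2 ^ n, tb m a = true ↔ elt g n a ∈ sg g n ws
  card : Nat.card (sg g n ws) = 2 ^ ws.length

/-- `L` lists the subgroup generated by `ws`. -/
structure Lst (g : ℕ → G) (n : ℕ) (ws L : List ℕ) : Prop where
  lt : ∀ a ∈ L, a < 2 ^ n
  iff : ∀ x, x ∈ sg g n ws ↔ ∃ a ∈ L, elt g n a = x

theorem exists_double [Finite G] {H : Subgroup G} {w : G} (h1 : w ∉ H) (h2 : w * w ∈ H)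
    (h3 : ∀ x ∈ H, w * x * w⁻¹ ∈ H) : ∃ K : Subgroup G, (∀ x, x ∈ K ↔ x ∈ H ∨ ∃ y ∈ H, w * y = x) ∧
      Nat.card K = 2 * Nat.card H := by
  have h4 : ∀ x ∈ H, w⁻¹ * x * w ∈ H := fun x hx => by
    have := h3 _ (H.mul_mem (H.mul_mem (H.inv_mem h2) hx) h2)
    rwa [show w * ((w * w)⁻¹ * x * (w * w)) * w⁻¹ = w⁻¹ * x * w by group] at this
  let K : Subgroup G :=
    { carrier := {x | x ∈ H ∨ ∃ y ∈ H, w * y = x}
      one_mem' := .inl H.one_mem
      mul_mem' := by
        rintro a b (ha | ⟨a, ha, rfl⟩) (hb | ⟨b, hb, rfl⟩)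
        · exact .inl (H.mul_mem ha hb)
        · exact .inr ⟨_, H.mul_mem (h4 a ha) hb, by group⟩
        · exact .inr ⟨_, H.mul_mem ha hb, by group⟩
        · exact .inl (by
            have := H.mul_mem (H.mul_mem h2 (h4 a ha)) hb
            rwa [show w * w * (w⁻¹ * a * w) * b = w * a * (w * b) by group] at this)
      inv_mem' := by
        rintro a (ha | ⟨a, ha, rfl⟩)
        · exact .inl (H.inv_mem ha)
        · exact .inr ⟨_, H.mul_mem (h4 _ (H.inv_mem ha)) (H.inv_mem h2), by group⟩ }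
  refine ⟨K, fun _ => Iff.rfl, ?_⟩
  have e : (K : Set G) = (H : Set G) ∪ (w * ·) '' H := rfl
  rw [← SetLike.coe_sort_coe, ← SetLike.coe_sort_coe H, Nat.card_coe_set_eq, Nat.card_coe_set_eq, e,
    Set.ncard_union_eq, Set.ncard_image_of_injective _ (mul_right_injective w), two_mul]
  refine Set.disjoint_left.2 ?_
  rintro _ hx ⟨y, hy, rfl⟩
  exact h1 (by simpa using H.mul_mem hx (H.inv_mem hy))

theorem PCA.pcm_sound [Finite G] (h : PCA A n g) {ws : List ℕ} {k : List ℕ → ℕ → Bool}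
    (hc : pcm A (2 ^ n) ws k = true) : ∃ L m, k L m = true ∧ Msk g n ws m ∧ Lst g n ws L := by
  suffices ∃ L m, k L m = true ∧ (∀ a, tb m a = true ↔ a ∈ L) ∧ (∀ a ∈ ws, a < 2 ^ n) ∧ Lst g n ws L ∧
      Nat.card (sg g n ws) = 2 ^ ws.length by
    obtain ⟨L, m, h1, h2, h3, h4, h5⟩ := this
    refine ⟨L, m, h1, ⟨h3, fun a ha => (h2 a).trans ⟨fun e => (h4.iff _).2 ⟨a, e, rfl⟩, fun e => ?_⟩, h5⟩, h4⟩
    obtain ⟨b, hb, e⟩ := (h4.iff _).1 e
    exact h.isPC.inj (h4.lt b hb) ha e ▸ hb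
  induction ws generalizing k with
  | nil =>
    have e : sg g n [] = ⊥ := by simp [sg, clos]
    exact ⟨[0], 1, hc, fun a => by simp [tb_one], by simp, ⟨by simp, by simp [e, eq_comm]⟩, by simp [e]⟩
  | cons w ws ih =>
    obtain ⟨L, m, h1, h2, h3, h4, h5⟩ := ih hc
    simp only [band_iff, blt_iff, bneg_iff, allL_iff] at h1
    obtain ⟨hw, h6, h7, h8, h9⟩ := h1
    have hm : ∀ a < 2 ^ n, tb m a = true ↔ elt g n a ∈ sg g n ws := fun a ha =>
      (h2 a).trans ⟨fun e => (h4.iff _).2 ⟨a, e, rfl⟩, fun e => by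
        obtain ⟨b, hb, e⟩ := (h4.iff _).1 e
        exact h.isPC.inj (h4.lt b hb) ha e ▸ hb⟩
    have hr : ∀ a < 2 ^ n, h.cod.Rep a (elt g n a) := fun a ha => ⟨ha, rfl⟩
    have k2 := (hr w hw).mul (hr w hw)
    obtain ⟨K, hK, hc⟩ := exists_double (H := sg g n ws) (w := elt g n w) (fun e => h6 ((hm w hw).2 e))
      (k2.2 ▸ (hm _ k2.1).1 h7) (conj_clos_mem fun x hx => by
        obtain ⟨a, ha, rfl⟩ := List.mem_map.1 hx
        have k3 := h.cj (rp hw) (rp (h3 a ha))
        exact k3.2 ▸ (hm _ k3.1).1 (h8 a ha))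
    have e : sg g n (w :: ws) = K := by
      refine le_antisymm (sg_le.2 fun a ha => (hK _).2 ?_) fun x hx => ?_
      · rcases List.mem_cons.1 ha with rfl | ha
        · exact .inr ⟨1, one_mem _, mul_one _⟩
        · exact .inl (mem_sg ha)
      · have k4 : sg g n ws ≤ sg g n (w :: ws) := sg_le.2 fun a ha => mem_sg (List.mem_cons_of_mem _ ha)
        rcases (hK _).1 hx with hx | ⟨y, hy, rfl⟩
        · exact k4 hx
        · exact mul_mem (mem_sg List.mem_cons_self) (k4 hy)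
    obtain ⟨L', m', k5, k6, k7⟩ := addAll_sound h9
    refine ⟨L', m', k5, fun a => by rw [k7, k6, h2], by simpa [hw] using h3, ⟨fun a ha => ?_, fun x => ?_⟩,
      by rw [e, hc, h5, List.length_cons, pow_succ']⟩
    · rcases (k6 a).1 ha with ha | ⟨b, hb, rfl⟩
      · exact h4.lt a ha
      · exact ((hr w hw).mul (hr b (h4.lt b hb))).1
    · rw [e, hK]
      constructor
      · rintro (hx | ⟨y, hy, rfl⟩)
        · obtain ⟨a, ha, e⟩ := (h4.iff _).1 hx
          exact ⟨a, (k6 a).2 (.inl ha), e⟩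
        · obtain ⟨a, ha, rfl⟩ := (h4.iff _).1 hy
          exact ⟨_, (k6 _).2 (.inr ⟨a, ha, rfl⟩), h.mul _ hw _ (h4.lt a ha)⟩
      · rintro ⟨a, ha, rfl⟩
        rcases (k6 a).1 ha with ha | ⟨b, hb, rfl⟩
        · exact .inl ((h4.iff _).2 ⟨a, ha, rfl⟩)
        · exact .inr ⟨_, (h4.iff _).2 ⟨b, hb, rfl⟩, (h.mul _ hw _ (h4.lt b hb)).symm⟩

theorem sg_pows : sg g n (pows n 1) = genLt g n := by
  refine le_antisymm (sg_le_genLt _) ((closure_le _).2 ?_)
  rintro _ ⟨k, hk, rfl⟩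
  exact elt_pow (g := g) hk ▸ mem_sg (mem_pows.2 ⟨k, hk, rfl⟩)

/-- A mask of conjugates of `x` under the subgroup with the polycyclic sequence `ws`, first generator first. -/
noncomputable def orbM (A : Ar) (h : ℕ) (ws : List ℕ) (x : ℕ) (k : ℕ → Bool) : Bool :=
  List.rec (motive := fun _ => List ℕ → ℕ → Bool) (fun _ m => k m)
    (fun p _ ih L m => frc p fun p => band (blt p h) (frc (A.inv p) fun i =>
      Bool.rec (addAll (fun a => frc (A.mul i a) fun b => A.mul b p) L L m ih) (ih L m)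
        (frc (A.mul i x) fun b => tb m (A.mul b p)))) ws [x] (setB 0 x)

theorem PCA.orbM_sound (h : PCA A n g) {ws : List ℕ} {x : ℕ} (hx : x < 2 ^ n) {k : ℕ → Bool} {P : G → Prop}
    (hP : ∀ p ∈ ws, p < 2 ^ n → ∀ y, P y → P ((elt g n p)⁻¹ * y * elt g n p)) (h0 : P (elt g n x))
    (hc : orbM A (2 ^ n) ws x k = true) : ∃ m, k m = true ∧ ∀ a, tb m a = true → a < 2 ^ n ∧ P (elt g n a) := by
  unfold orbM at hc
  have h1 : ∀ a ∈ [x], a < 2 ^ n ∧ P (elt g n a) := fun a ha => by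
    rw [List.mem_singleton.1 ha]; exact ⟨hx, h0⟩
  have h2 : ∀ a, tb (setB 0 x) a = true → a < 2 ^ n ∧ P (elt g n a) := fun a ha => by
    rw [((tb_setB _ _ _).1 ha).resolve_left (tb_zero a)]; exact ⟨hx, h0⟩
  generalize [x] = L, setB 0 x = m at hc h1 h2
  induction ws generalizing L m with
  | nil => exact ⟨m, hc, h2⟩
  | cons p ws ih =>
    have ih := ih fun q hq => hP q (List.mem_cons_of_mem _ hq)
    simp only [frc_eq, band_iff, blt_iff] at hc
    obtain ⟨hp, hc⟩ := hc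
    cases hb : tb m (A.mul (A.mul (A.inv p) x) p)
    · rw [hb] at hc
      obtain ⟨L', m', k1, k2, k3⟩ := addAll_sound hc
      have k4 : ∀ b ∈ L, A.mul (A.mul (A.inv p) b) p < 2 ^ n ∧ P (elt g n (A.mul (A.mul (A.inv p) b) p)) :=
        fun b hb => by
          have k5 : h.cod.Rep p (elt g n p) := ⟨hp, rfl⟩
          have k6 := (k5.inv.mul (show h.cod.Rep b (elt g n b) from ⟨(h1 b hb).1, rfl⟩)).mul k5
          exact ⟨k6.1, by
            rw [show elt g n _ = _ from k6.2]; exact hP p List.mem_cons_self hp _ (h1 b hb).2⟩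
      refine ih L' m' (by simpa only [frc_eq] using k1) (fun a ha => ?_) fun a ha => ?_
      · rcases (k2 a).1 ha with ha | ⟨b, hb, rfl⟩
        exacts [h1 a ha, k4 b hb]
      · rcases (k3 a).1 ha with ha | ⟨b, hb, rfl⟩
        exacts [h2 a ha, k4 b hb]
    · rw [hb] at hc
      exact ih L m (by simpa only [frc_eq] using hc) h1 h2

/-- Add the images of the pairs `(τ, τ r τ⁻¹)` under `e`. -/
noncomputable def addTr (A : Ar) (e i : ℕ) (L : List (ℕ × ℕ)) :
    List (ℕ × ℕ) → ℕ → (List (ℕ × ℕ) → ℕ → Bool) → Bool :=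
  List.rec (fun L' m k => k L' m) (fun p _ ih L' m k => frc (A.mul e p.1) fun τ => frc (A.mul e p.2) fun b =>
    frc (A.mul b i) fun s => band (bneg (tb m s)) (frc (setB m s) fun m' => ih ((τ, s) :: L') m' k)) L

/-- Conjugates of `r` with conjugating elements in the subgroup with the mask `mm`. -/
noncomputable def trv (A : Ar) (h mm r : ℕ) (es : List ℕ) : (List (ℕ × ℕ) → ℕ → Bool) → Bool :=
  List.rec (fun k => k [(0, r)] (setB 0 r)) (fun e _ ih k => ih fun L m =>
    band (blt e h) (band (tb mm e) (frc (A.inv e) fun i => addTr A e i L L m k))) es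

/-- A list of pairs `(τ, τ r τ⁻¹)` with distinct second entries, and the mask of the latter. -/
structure Trv (g : ℕ → G) (n : ℕ) (M : Subgroup G) (r : ℕ) (L : List (ℕ × ℕ)) (m : ℕ) : Prop where
  rep : ∀ p ∈ L, p.1 < 2 ^ n ∧ p.2 < 2 ^ n ∧ elt g n p.1 ∈ M ∧
    elt g n p.2 = elt g n p.1 * elt g n r * (elt g n p.1)⁻¹
  nd : (L.map Prod.snd).Nodup
  iff : ∀ a, tb m a = true ↔ a ∈ L.map Prod.snd

theorem PCA.addTr_sound (h : PCA A n g) {M : Subgroup G} {r e : ℕ} (he : e < 2 ^ n) (hM : elt g n e ∈ M)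
    {L L' : List (ℕ × ℕ)} {m : ℕ} {k : List (ℕ × ℕ) → ℕ → Bool} (hL : ∀ p ∈ L, p.1 < 2 ^ n ∧ p.2 < 2 ^ n ∧
      elt g n p.1 ∈ M ∧ elt g n p.2 = elt g n p.1 * elt g n r * (elt g n p.1)⁻¹) (h' : Trv g n M r L' m)
    (hc : addTr A e (A.inv e) L L' m k = true) :
    ∃ L'' m', k L'' m' = true ∧ Trv g n M r L'' m' ∧ L''.length = L.length + L'.length := by
  induction L generalizing L' m with
  | nil => exact ⟨L', m, hc, h', by simp⟩
  | cons p L ih =>
    obtain ⟨h1, h2, h3, h4⟩ := hL p List.mem_cons_self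
    have k0 : h.cod.Rep e (elt g n e) := ⟨he, rfl⟩
    have k1 := k0.mul (show h.cod.Rep p.1 (elt g n p.1) from ⟨h1, rfl⟩)
    have k2 := (k0.mul (show h.cod.Rep p.2 (elt g n p.2) from ⟨h2, rfl⟩)).mul k0.inv
    replace hc : band (bneg (tb m (A.mul (A.mul e p.2) (A.inv e)))) (addTr A e (A.inv e) L
      ((A.mul e p.1, A.mul (A.mul e p.2) (A.inv e)) :: L') (setB m (A.mul (A.mul e p.2) (A.inv e))) k) = true := hc
    rw [band_iff, bneg_iff] at hc
    obtain ⟨L'', m', k3, k4, k5⟩ := ih (L' := (A.mul e p.1, A.mul (A.mul e p.2) (A.inv e)) :: L')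
      (fun q hq => hL q (List.mem_cons_of_mem _ hq))
      ⟨fun q hq => by
        rcases List.mem_cons.1 hq with rfl | hq
        · exact ⟨k1.1, k2.1, by rw [show elt g n _ = _ from k1.2]; exact mul_mem hM h3,
            by rw [show elt g n _ = _ from k2.2, show elt g n _ = _ from k1.2, h4]; group⟩
        · exact h'.rep q hq,
      List.nodup_cons.2 ⟨fun e => hc.1 ((h'.iff _).2 e), h'.nd⟩,
      fun a => by rw [tb_setB, h'.iff, List.map_cons, List.mem_cons, or_comm]⟩ hc.2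
    exact ⟨L'', m', k3, k4, by rw [k5]; simp; omega⟩

theorem PCA.trv_sound (h : PCA A n g) {M : Subgroup G} {mm r : ℕ} (hr : r < 2 ^ n)
    (hm : ∀ a < 2 ^ n, tb mm a = true → elt g n a ∈ M) {es : List ℕ} {k : List (ℕ × ℕ) → ℕ → Bool}
    (hc : trv A (2 ^ n) mm r es k = true) :
    ∃ L m, k L m = true ∧ Trv g n M r L m ∧ L.length = 2 ^ es.length := by
  induction es generalizing k with
  | nil =>
    exact ⟨_, _, hc, ⟨by simp [hr, one_mem], by simp, fun a => by simp [tb_setB, tb_zero]⟩, rfl⟩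
  | cons e es ih =>
    obtain ⟨L, m, h1, h2, h3⟩ := ih hc
    simp only [band_iff, blt_iff, frc_eq] at h1
    obtain ⟨L', m', k1, k2, k3⟩ := h.addTr_sound h1.1 (hm e h1.1 h1.2.1) h2.rep h2 h1.2.2
    exact ⟨L', m', k1, k2, by rw [k3, h3, List.length_cons, pow_succ]; omega⟩

end Cfsg.Agent.L33
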