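import Mathlib
import Cfsg.Agent.L33.EEnv
import Cfsg.Agent.L33.EG1
import Cfsg.Agent.L33.EG2

/-!
Labelled groups with operators: the state of the climbing procedure and the basic checks.
-/

set_option autoImplicit false

namespace Cfsg.Agent.L33

open Cfsg.Agent.Spor Cfsg.Agent.Rec Cfsg.Agent.Spor.PC Cfsg.Agent.Inv.Fz Subgroup

/-- A partial map `xs ↦ ys`; `il` lists the products of the `xs` (or is empty, if they are the indices). -/
structure Op where
  xs : List ℕ
  ys : List ℕ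
  il : List ℕ

/-- Instructions: a new element with a given conjugate of the first one, a definition, a test. -/
inductive Ins
  | fr (v : List ℕ)
  | df (v : List ℕ)
  | ts (k : ℕ) (v w : List ℕ)

/-- A labelled presentation. -/
structure Hdr where
  s : ℕ
  n : ℕ
  C : List (List (List ℕ))
  zs : List ℕ
  ps : List ℕ
  ns : List ℕ
  ops : List Op
  pats : ℕ

/-- The state. -/
structure Env where
  DB : ℕ → Hdr
  PT : ℕ → List Ins
  cur : ℕ
  s : ℕ
  A : Ar
  n : ℕ
  h : ℕ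
  pm : ℕ
  nm : ℕ
  alt : ℕ → ℕ
  ops : List Op
  pats : ℕ
  hf : Bool
  fl : List (List ℕ)

variable {G : Type*} [Group G]

/-- The value of a word. -/
noncomputable def ev (e : List G) (v : List ℕ) : G := evalW (nth 1 e) v

/-- The meaning of a test. -/
def TS (t : G) (K : G → ℕ → ℕ → Prop) (k : ℕ) (v w : List ℕ) (e : List G) : Prop :=
  (k = 0 → ev e v = ev e w) ∧ (k = 1 → ev e v ≠ ev e w) ∧ (k = 2 → IsConj t (ev e v)) ∧
    (k = 3 → ¬ IsConj t (ev e v)) ∧ (4 ≤ k → K (ev e v) (nth 0 w 0) (nth 0 w 2))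

/-- The meaning of a program. -/
def Src (t x : G) (D : Subgroup G) (K : G → ℕ → ℕ → Prop) (Q : List G → Prop) : List Ins → List G → Prop
  | [], e => Q e
  | .fr v :: P, e => ∃ y ∈ D, y * x * y⁻¹ = ev e v ∧ Src t x D K Q P (y :: e)
  | .df v :: P, e => Src t x D K Q P (ev e v :: e)
  | .ts k v w :: P, e => TS t K k v w e ∧ Src t x D K Q P e

theorem Src.mono {t x : G} {D : Subgroup G} {K K' : G → ℕ → ℕ → Prop} {Q Q' : List G → Prop}
    (hK : ∀ y c j, K y c j → K' y c j) (hQ : ∀ e, Q e → Q' e) {P : List Ins} {e : List G}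
    (h : Src t x D K Q P e) : Src t x D K' Q' P e := by
  induction P generalizing e with
  | nil => exact hQ _ h
  | cons i P ih =>
    cases i with
    | fr v => obtain ⟨y, h1, h2, h3⟩ := h; exact ⟨y, h1, h2, ih h3⟩
    | df v => exact ih h
    | ts k v w => exact ⟨⟨h.1.1, h.1.2.1, h.1.2.2.1, h.1.2.2.2.1, fun hk => hK _ _ _ (h.1.2.2.2.2 hk)⟩, ih h.2⟩

/-- The pattern does not occur in the centraliser of a conjugate of `t`. -/
def PatOK (t : G) (P : List Ins) : Prop := ∀ (x : G) (D : Subgroup G), IsConj t x → IsPGroup 2 D →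
  D ≤ centralizer {x} → ¬ Src t x D (fun _ _ _ => False) (fun _ => True) P [x]

/-- The default operator. -/
def op0 : Op := ⟨[], [], []⟩

/-- The elements `g`, `σ` realise the labelled presentation. -/
structure HOK (PT : ℕ → List Ins) (t : G) (g σ : ℕ → G) (H : Hdr) : Prop where
  gl : Glob H.s t
  rel : Rel H.C H.n g
  zs : ∀ a ∈ H.zs, elt g H.n a ≠ 1
  ps : ∀ a ∈ H.ps, IsConj t (elt g H.n a)
  ns : ∀ a ∈ H.ns, ¬ IsConj t (elt g H.n a)
  ops : ∀ k, List.Forall₂ (fun x y => elt g H.n y = σ k * elt g H.n x * (σ k)⁻¹) (nth op0 H.ops k).xs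
    (nth op0 H.ops k).ys
  pats : ∀ k, tb H.pats k = true → PatOK t (PT k)

/-- The bound follows from a realisation. -/
def Valid (PT : ℕ → List Ins) (t : G) (H : Hdr) : Prop := ∀ g σ, HOK PT t g σ H → Bd G

/-- The state is realised by `g`, `σ`. -/
structure EOK (t : G) (g σ : ℕ → G) (E : Env) : Prop where
  val : ∀ j < E.cur, Valid E.PT t (E.DB j)
  gl : Glob E.s t
  pc : PCA E.A E.n g
  hh : E.h = 2 ^ E.n
  pm : ∀ a, tb E.pm a = true → a < 2 ^ E.n ∧ IsConj t (elt g E.n a)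
  nm : ∀ a, tb E.nm a = true → a < 2 ^ E.n ∧ ¬ IsConj t (elt g E.n a)
  alt : ∀ a < 2 ^ E.n, E.alt a < 2 ^ E.n ∧ IsConj (elt g E.n a) (elt g E.n (E.alt a))
  ops : ∀ k, List.Forall₂ (Cj g E.n (σ k)) (nth op0 E.ops k).xs (nth op0 E.ops k).ys
  pats : ∀ k, tb E.pats k = true → PatOK t (E.PT k)
  fl : E.hf = true → IsSylIn 2 (genLt g E.n) (KN (E.fl.map (sg g E.n)))

variable {t : G} {g σ : ℕ → G} {E : Env}

/-- Labelled as a conjugate of `t`. -/
noncomputable def Env.isP (E : Env) (a : ℕ) : Bool := bor (tb E.pm a) (frc (E.alt a) (tb E.pm))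

/-- Labelled as not conjugate to `t`. -/
noncomputable def Env.isN (E : Env) (a : ℕ) : Bool := bor (tb E.nm a) (frc (E.alt a) (tb E.nm))

theorem EOK.isP (h : EOK t g σ E) {a : ℕ} {x : G} (ha : Rp g E.n a x) (hc : E.isP a = true) : IsConj t x := by
  rw [← ha.2]
  rcases (bor_iff _ _).1 hc with hc | hc
  · exact (h.pm a hc).2
  · exact (h.pm _ ((frc_eq _ _).symm.trans hc)).2.trans (h.alt a ha.1).2.symm

theorem EOK.isN (h : EOK t g σ E) {a : ℕ} {x : G} (ha : Rp g E.n a x) (hc : E.isN a = true) : ¬ IsConj t x := by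
  rw [← ha.2]
  rcases (bor_iff _ _).1 hc with hc | hc
  · exact (h.nm a hc).2
  · exact fun e => (h.nm _ ((frc_eq _ _).symm.trans hc)).2 (e.trans (h.alt a ha.1).2)

theorem EOK.lt (h : EOK t g σ E) {a : ℕ} (hc : blt a E.h = true) : Rp g E.n a (elt g E.n a) :=
  rp (h.hh ▸ (blt_iff _ _).1 hc)

/-- Pairwise check. -/
noncomputable def all2 {α β : Type} (f : α → β → Bool) (l : List α) : List β → Bool :=
  List.rec (fun m => List.rec true (fun _ _ _ => false) m)
    (fun a _ ih m => List.rec false (fun b m _ => band (f a b) (ih m)) m) l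

theorem all2_iff {α β : Type} {f : α → β → Bool} {l : List α} {m : List β} :
    all2 f l m = true ↔ List.Forall₂ (fun a b => f a b = true) l m := by
  induction l generalizing m with
  | nil => cases m <;> simp [all2]
  | cons a l ih =>
    cases m with
    | nil => simp [all2]
    | cons b m => rw [List.forall₂_cons, ← ih, ← band_iff]; rfl

/-- Evaluated map. -/
noncomputable def mapF (f : ℕ → ℕ) (l : List ℕ) : (List ℕ → Bool) → Bool :=
  List.rec (fun k => k []) (fun a _ ih k => frc (f a) fun b => ih fun m => k (b :: m)) l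

theorem mapF_eq (f : ℕ → ℕ) (l : List ℕ) (k : List ℕ → Bool) : mapF f l k = k (l.map f) := by
  induction l generalizing k with
  | nil => rfl
  | cons a l ih => exact (frc_eq _ _).trans (ih _)

/-- The position in a list. -/
noncomputable def posn (il : List ℕ) (a : ℕ) : ℕ → ℕ :=
  List.rec (fun _ => a) (fun x _ ih i => Bool.rec (ih (Nat.succ i)) i (Nat.beq x a)) il

/-- Application of an operator. -/
noncomputable def apO (A : Ar) (o : Op) (a : ℕ) (k : ℕ → Bool) : Bool :=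
  frc (posn o.il a 0) fun i => band (Nat.beq (phi A o.xs i) a) (frc (phi A o.ys i) k)

theorem PC0.apO {A : Ar} {n : ℕ} (h : PC0 A n g) {o : Op} {u : G} (ho : List.Forall₂ (Cj g n u) o.xs o.ys) {a : ℕ}
    {k : ℕ → Bool} (hc : apO A o a k = true) : ∃ b, k b = true ∧ Cj g n u a b := by
  simp only [L33.apO, frc_eq, band_iff, nbeq_iff] at hc
  have := h.phi_cj ho (posn o.il a 0)
  rw [hc.1] at this
  exact ⟨_, hc.2, this⟩

/-- Application of a word in inner automorphisms (even letters) and operators (odd letters). -/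
noncomputable def apW (E : Env) (w : List ℕ) : ℕ → (ℕ → Bool) → Bool :=
  List.rec (fun a k => k a) (fun s _ ih a k => frc (Nat.shiftRight s (nat_lit 1)) fun m =>
    Bool.rec (band (blt m E.h) (frc (cjA E.A m a) fun b => ih b k)) (apO E.A (nth op0 E.ops m) a fun b => ih b k)
      (tb s (nat_lit 0))) w

/-- The element of a word. -/
noncomputable def wEl (g σ : ℕ → G) (n : ℕ) : List ℕ → G
  | [] => 1
  | s :: w => wEl g σ n w * cond (tb s 0) (σ (s / 2)) (elt g n (s / 2))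

theorem EOK.apW (h : EOK t g σ E) {w : List ℕ} {a : ℕ} (ha : a < 2 ^ E.n) {k : ℕ → Bool}
    (hc : apW E w a k = true) : ∃ b, k b = true ∧ Cj g E.n (wEl g σ E.n w) a b := by
  induction w generalizing a with
  | nil => exact ⟨a, hc, ha, ha, by simp [wEl]⟩
  | cons s w ih =>
    replace hc : (Bool.rec (band (blt (s >>> 1) E.h) (frc (cjA E.A (s >>> 1) a) fun b => L33.apW E w b k))
      (apO E.A (nth op0 E.ops (s >>> 1)) a fun b => L33.apW E w b k) (tb s 0) : Bool) = true := (frc_eq _ _).symm.trans hc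
    rw [Nat.shiftRight_one] at hc
    have h1 : ∃ b, L33.apW E w b k = true ∧ Cj g E.n (cond (tb s 0) (σ (s / 2)) (elt g E.n (s / 2))) a b := by
      cases e : tb s 0 <;> rw [e] at hc
      · simp only [band_iff, frc_eq] at hc
        exact ⟨_, hc.2, ha, h.pc.cj (h.lt hc.1) (rp ha)⟩
      · exact h.pc.apO (h.ops _) hc
    obtain ⟨b, h1, h2⟩ := h1
    obtain ⟨c, h3, h4⟩ := ih h2.2.1 h1
    exact ⟨c, h3, ha, h4.2.1, by rw [h4.2.2, h2.2.2, wEl]; group⟩

theorem wEl_inner {n m : ℕ} : wEl g σ n [Nat.add m m] = elt g n m := by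
  have e : tb (Nat.add m m) 0 = false := by rw [tb_eq, Nat.add_eq, ← two_mul]; simp
  rw [wEl, e, wEl, one_mul, Nat.add_eq, ← two_mul, Nat.mul_div_cancel_left _ two_pos]; rfl

/-- The masks of a list of subgroups. -/
noncomputable def msks (E : Env) (sp : List (List ℕ)) : (List (List ℕ × ℕ) → Bool) → Bool :=
  List.rec (fun k => k []) (fun x _ ih k => pcm E.A E.h x fun _ m => ih fun S => k ((x, m) :: S)) sp

/-- The word normalises the listed subgroups. -/
noncomputable def nrmW (E : Env) (w : List ℕ) (S : List (List ℕ × ℕ)) : Bool :=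
  allL S fun p => allL p.1 fun x => apW E w x (tb p.2)

/-- The elements normalise the listed subgroups. -/
noncomputable def nrmL (E : Env) (ds : List ℕ) (S : List (List ℕ × ℕ)) : Bool :=
  allL ds fun d => frc (Nat.add d d) fun e => nrmW E [e] S

/-- A list of subgroups with their masks. -/
def SOK (g : ℕ → G) (n : ℕ) (sp : List (List ℕ)) (S : List (List ℕ × ℕ)) : Prop :=
  S.map Prod.fst = sp ∧ ∀ p ∈ S, Msk g n p.1 p.2

theorem msk_nil {n : ℕ} {A : Ar} (h : PCA A n g) : Msk g n [] 1 := by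
  have e : sg g n [] = ⊥ := by simp [sg, clos]
  exact ⟨by simp, fun a ha => by
    rw [tb_one, e, mem_bot]; exact ⟨fun e => e ▸ elt_zero, h.ne a ha⟩, by simp [e]⟩

theorem nth_cases {α : Type} (d : α) (l : List α) (i : ℕ) : nth d l i = d ∨ nth d l i ∈ l := by
  by_cases h : i < l.length
  · exact .inr (nth_of_lt d h ▸ List.getElem_mem h)
  · exact .inl (nth_of_ge d l (not_lt.1 h))

theorem SOK.nth {n : ℕ} {A : Ar} (hA : PCA A n g) {sp : List (List ℕ)} {S : List (List ℕ × ℕ)} (h : SOK g n sp S)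
    (i : ℕ) : Msk g n (nth ([], 1) S i).1 (nth ([], 1) S i).2 := by
  rcases nth_cases ([], 1) S i with e | e
  · rw [e]; exact msk_nil hA
  · exact h.2 _ e

theorem SOK.mem {n : ℕ} {sp : List (List ℕ)} {S : List (List ℕ × ℕ)} (h : SOK g n sp S) {i : ℕ} (hi : i < S.length) :
    sg g n (Rec.nth ([], 1) S i).1 ∈ sp.map (sg g n) :=
  List.mem_map_of_mem (h.1 ▸ List.mem_map_of_mem (nth_of_lt _ hi ▸ List.getElem_mem hi))

variable [Finite G]

theorem EOK.pcm (h : EOK t g σ E) {ws : List ℕ} {k : List ℕ → ℕ → Bool} (hc : pcm E.A E.h ws k = true) :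
    ∃ L m, k L m = true ∧ Msk g E.n ws m ∧ Lst g E.n ws L := h.pc.pcm_sound (h.hh ▸ hc)

theorem EOK.msks (h : EOK t g σ E) {sp : List (List ℕ)} {k : List (List ℕ × ℕ) → Bool} (hc : msks E sp k = true) :
    ∃ S, k S = true ∧ SOK g E.n sp S := by
  induction sp generalizing k with
  | nil => exact ⟨[], hc, rfl, by simp⟩
  | cons x sp ih =>
    obtain ⟨L, m, h1, h2, -⟩ := h.pcm hc
    obtain ⟨S, h3, h4, h5⟩ := ih h1
    exact ⟨_, h3, by simp [h4], by simpa [h2] using h5⟩

theorem EOK.nrmW (h : EOK t g σ E) {sp : List (List ℕ)} {S : List (List ℕ × ℕ)} (hS : SOK g E.n sp S) {w : List ℕ}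
    (hc : nrmW E w S = true) : wEl g σ E.n w ∈ KN (sp.map (sg g E.n)) := by
  simp only [L33.nrmW, allL_iff] at hc
  intro X hX
  simp only [← hS.1, List.map_map, List.mem_map] at hX
  obtain ⟨p, hp, rfl⟩ := hX
  refine mem_normalizer_fintype (conj_clos_mem fun x hx => ?_)
  obtain ⟨a, ha, rfl⟩ := List.mem_map.1 hx
  obtain ⟨b, h1, h2⟩ := h.apW ((hS.2 p hp).lt a ha) (hc p hp a ha)
  exact h2.2.2 ▸ ((hS.2 p hp).iff b h2.2.1).1 h1

theorem EOK.nrmL (h : EOK t g σ E) {sp : List (List ℕ)} {S : List (List ℕ × ℕ)} (hS : SOK g E.n sp S) {ds : List ℕ}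
    (hc : nrmL E ds S = true) : sg g E.n ds ≤ KN (sp.map (sg g E.n)) := sg_le.2 fun d hd =>
  wEl_inner (σ := σ) (m := d) ▸ h.nrmW hS ((frc_eq _ _).symm.trans ((allL_iff _ _).1 hc d hd))

/-- The list of subgroups in the three modes. -/
noncomputable def specOf (E : Env) (md x z : ℕ) (ex : List (List ℕ)) : List (List ℕ) :=
  Bool.rec (Bool.rec ([x] :: ex) ([z] :: [x, z] :: ex) (Nat.beq md 2)) (ex ++ E.fl) (Nat.beq md 1)

/-- The mask of all indices. -/
def full (h : ℕ) : ℕ := Nat.sub (Nat.shiftLeft 1 h) 1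

theorem tb_full {h a : ℕ} : tb (full h) a = true ↔ a < h := by
  rw [tb_eq, full, Nat.sub_eq, Nat.shiftLeft_eq', Nat.shiftLeft_eq, one_mul, Nat.testBit_two_pow_sub_one]; simp

/-- A Sylow subgroup of a common normaliser. -/
noncomputable def sylBy (E : Env) (md x z : ℕ) (ex : List (List ℕ)) (ds : List ℕ)
    (k : List (List ℕ × ℕ) → ((ℕ → Bool) → Bool) → ℕ → List ℕ → Bool) : Bool :=
  msks E (specOf E md x z ex) fun S => Bool.rec
    (band (nrmL E ds S) (pcm E.A E.h ds fun L m => band (blt x E.h) (band (E.isP x) (band (Bool.rec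
      (band (Nat.beq E.s 6) (band (Nat.beq ds.length 5) (pcm E.A E.h (nth [] ex 0) fun L m =>
        band (Nat.beq (nth [] ex 0).length 4) (band (tb m x) (allL L fun y => Nat.beq (E.A.mul y y) 0)))))
      (band (blt z E.h) (band (Nat.beq (E.A.mul z z) 0) (band (comA E.A x z) (Nat.beq ds.length (Nat.succ E.s)))))
      (Nat.beq md 2)) (k S (allL L) m ds)))))
    (band E.hf (mapF (fun a => a) (pows E.n 1) fun ps => band (nrmL E ps S)
      (frc (full E.h) fun m => k S (allRange 0 E.h) m ps))) (Nat.beq md 1)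

omit [Finite G] in
theorem EOK.sq (h : EOK t g σ E) {a : ℕ} {x : G} (ha : Rp g E.n a x) : Nat.beq (E.A.mul a a) 0 = true ↔ x * x = 1 :=
  (nbeq_iff _ _).trans (h.pc.req (h.pc.rm ha ha) ⟨Nat.two_pow_pos _, elt_zero⟩)

theorem EOK.sylBy (h : EOK t g σ E) {md x z : ℕ} {ex : List (List ℕ)} {ds : List ℕ}
    {k : List (List ℕ × ℕ) → ((ℕ → Bool) → Bool) → ℕ → List ℕ → Bool} (hc : sylBy E md x z ex ds k = true) :
    ∃ sp S al m ds, k S al m ds = true ∧ SOK g E.n sp S ∧ Msk g E.n ds m ∧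
      IsSylIn 2 (sg g E.n ds) (KN (sp.map (sg g E.n))) ∧
      ∀ f, al f = true → ∀ y ∈ sg g E.n ds, ∃ a, Rp g E.n a y ∧ f a = true := by
  obtain ⟨S, hc, hS⟩ := h.msks hc
  unfold specOf at hS
  cases e : Nat.beq md 1 <;> rw [e] at hc hS
  · rw [band_iff] at hc
    have h1 := h.nrmL hS hc.1
    obtain ⟨L, m, h2, h3, h4⟩ := h.pcm hc.2
    simp only [band_iff] at h2
    obtain ⟨hx, h5, h6, h7⟩ := h2
    have h8 := h.isP (h.lt hx) h5
    refine ⟨_, S, _, m, ds, h7, hS, h3, isSylIn_of_card_le h1 (.of_card h3.card) fun Q hQ hle _ => ?_,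
      fun f hf y hy => ?_⟩
    · rw [h3.card]
      cases e : Nat.beq md 2 <;> rw [e] at h6 hle <;> simp only [band_iff, nbeq_iff] at h6
      · obtain ⟨h6, h9, h10⟩ := h6
        obtain ⟨L, m, h11, h12, h13⟩ := h.pcm h10
        simp only [band_iff, allL_iff, nbeq_iff (nth [] ex 0).length] at h11
        obtain ⟨ex', F, rfl⟩ : ∃ ex' F, ex = F :: ex' := by
          cases ex with
          | nil => simp at h11
          | cons F ex' => exact ⟨_, _, rfl⟩
        rw [h9]
        refine h.gl.o3 h6 _ h8 (sg g E.n F) Q ((h12.iff x (h.lt hx).1).1 h11.2.1) (fun y hy => ?_)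
          (by rw [← nth_zero [] F ex', h12.card, h11.1]; rfl) hQ (fun y hy => ?_) fun y hy => hle hy _ (by simp)
        · obtain ⟨a, ha, rfl⟩ := (h13.iff y).1 hy
          exact (h.sq (rp (h13.lt a ha))).1 (h11.2.2 a ha)
        · have h14 : y ∈ normalizer (clos [elt g E.n x] : Set G) := hle hy _ (by simp [sg])
          have h15 := EG1.conj_t h.gl h8
          rw [mem_cen']
          have h16 : clos [elt g E.n x] ≤ clos [elt g E.n x, elt g E.n x] := clos_le.2 (by simp [mem_clos])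
          rcases EG1.mem_four h15.1 h15.1 rfl (h16 (conj_mem_of_mem_norm h14
            (mem_clos List.mem_cons_self))) with e | e | e | e
          exacts [absurd (conj_eq_one.1 e) h15.2, e, e, absurd (conj_eq_one.1 (e.trans h15.1)) h15.2]
      · obtain ⟨hz, h9, h10, h11⟩ := h6
        rw [h11]
        exact h.gl.o2 h8 ((h.sq (h.lt hz)).1 ((nbeq_iff _ _).2 h9)) ((h.pc.com (h.lt hx) (h.lt hz)).1 h10) hQ
          (fun y hy => hle hy _ (by simp [sg])) fun y hy => hle hy _ (by simp [sg])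
    · obtain ⟨a, ha, rfl⟩ := (h4.iff y).1 hy
      exact ⟨a, rp (h4.lt a ha), (allL_iff _ _).1 hf a ha⟩
  · simp only [band_iff, mapF_eq, List.map_id', frc_eq] at hc
    have h1 := h.nrmL hS hc.2.1
    have h2 := h.fl hc.1
    refine ⟨_, S, _, _, _, hc.2.2, hS, ⟨pows_lt, fun a ha => ?_, ?_⟩, ?_, fun f hf y hy => ?_⟩
    · simp [tb_full, h.hh, ha, sg_pows, elt_mem']
    · rw [sg_pows, length_pows, h.pc.isPC.card]
    · rw [sg_pows] at h1 ⊢
      exact ⟨h1, h2.2.1, fun Q hQ hle => h2.2.2 Q hQ fun y hy X hX => hle hy X (by simp [hX])⟩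
    · obtain ⟨a, ha, rfl⟩ := h.pc.isPC.exists_elt (x := y) (by rwa [sg_pows] at hy)
      exact ⟨a, rp ha, ONT.allRange_iff.1 hf a (h.hh ▸ ha)⟩

/-- New labels. -/
noncomputable def Env.lab (E : Env) (p q : ℕ) (k : Env → Bool) : Bool :=
  Env.casesOn E fun DB PT cur s A n h _ _ alt ops pats hf fl => frc p fun p => frc q fun q =>
    k ⟨DB, PT, cur, s, A, n, h, p, q, alt, ops, pats, hf, fl⟩

theorem Env.lab_eq (E : Env) (p q : ℕ) (k : Env → Bool) : E.lab p q k = k { E with pm := p, nm := q } := by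
  cases E; simp only [Env.lab, frc_eq]

omit [Finite G] in
theorem EOK.addP (h : EOK t g σ E) {m : ℕ} (hm : ∀ a, tb m a = true → a < 2 ^ E.n ∧ IsConj t (elt g E.n a)) :
    EOK t g σ { E with pm := Nat.lor E.pm m, nm := E.nm } :=
  { h with pm := fun a ha => ((tb_lor _ _ _).1 ha).elim (h.pm a) (hm a) }

omit [Finite G] in
theorem EOK.addN (h : EOK t g σ E) {m : ℕ} (hm : ∀ a, tb m a = true → a < 2 ^ E.n ∧ ¬ IsConj t (elt g E.n a)) :
    EOK t g σ { E with pm := E.pm, nm := Nat.lor E.nm m } :=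
  { h with nm := fun a ha => ((tb_lor _ _ _).1 ha).elim (h.nm a) (hm a) }

/-- Transfer of a label between conjugate elements. -/
noncomputable def lnk (E : Env) (x y : ℕ) (k : Env → Bool) : Bool :=
  Bool.rec (band (bor (E.isN x) (E.isN y)) (E.lab E.pm (Nat.lor E.nm (setB (setB 0 x) y)) k))
    (E.lab (Nat.lor E.pm (setB (setB 0 x) y)) E.nm k) (bor (E.isP x) (E.isP y))

omit [Finite G] in
theorem EOK.lnk (h : EOK t g σ E) {x y : ℕ} {u : G} (hu : Cj g E.n u x y) {k : Env → Bool}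
    (hc : lnk E x y k = true) : ∃ E', k E' = true ∧ EOK t g σ E' ∧ E'.n = E.n := by
  have h1 : IsConj (elt g E.n x) (elt g E.n y) := isConj_iff.2 ⟨u, hu.2.2.symm⟩
  have h2 : ∀ a, tb (setB (setB 0 x) y) a = true → a = x ∨ a = y := by simp [tb_setB, tb_zero]
  unfold L33.lnk at hc
  cases e : bor (E.isP x) (E.isP y) <;> rw [e] at hc
  · simp only [band_iff, bor_iff, Env.lab_eq] at hc
    have h3 : ¬ IsConj t (elt g E.n x) :=
      hc.1.elim (h.isN (rp hu.1)) fun e e' => h.isN (rp hu.2.1) e (e'.trans h1)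
    refine ⟨_, hc.2, h.addN fun a ha => ?_, rfl⟩
    rcases h2 a ha with rfl | rfl
    exacts [⟨hu.1, h3⟩, ⟨hu.2.1, fun e => h3 (e.trans h1.symm)⟩]
  · have h3 : IsConj t (elt g E.n x) :=
      ((bor_iff _ _).1 e).elim (h.isP (rp hu.1)) fun e => (h.isP (rp hu.2.1) e).trans h1.symm
    refine ⟨_, (Env.lab_eq _ _ _ _).symm.trans hc, h.addP fun a ha => ?_, rfl⟩
    rcases h2 a ha with rfl | rfl
    exacts [⟨hu.1, h3⟩, ⟨hu.2.1, h3.trans h1⟩]

/-- A labelling step: a class, a conjugate, an image under an operator. -/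
noncomputable def stp (E : Env) (i a b : ℕ) (k : Env → Bool) : Bool :=
  Bool.rec (Bool.rec
    (frc (phi E.A (nth op0 E.ops a).xs b) fun x => frc (phi E.A (nth op0 E.ops a).ys b) fun y => lnk E x y k)
    (band (blt a E.h) (band (blt b E.h) (frc (cjA E.A a b) fun y => lnk E b y k))) (Nat.beq i 1))
    (band (blt a E.h) (orbM E.A E.h (pows E.n 1) a fun m =>
      Bool.rec (band (E.isN a) (E.lab E.pm (Nat.lor E.nm m) k)) (E.lab (Nat.lor E.pm m) E.nm k) (E.isP a)))
    (Nat.beq i 0)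

omit [Finite G] in
theorem EOK.stp (h : EOK t g σ E) {i a b : ℕ} {k : Env → Bool} (hc : stp E i a b k = true) :
    ∃ E', k E' = true ∧ EOK t g σ E' ∧ E'.n = E.n := by
  unfold L33.stp at hc
  cases e : Nat.beq i 0 <;> rw [e] at hc
  · cases e : Nat.beq i 1 <;> rw [e] at hc <;> simp only [frc_eq, band_iff] at hc
    · exact h.lnk (h.pc.phi_cj (h.ops a) b) hc
    · exact h.lnk ⟨(h.lt hc.2.1).1, h.pc.cj (h.lt hc.1) (h.lt hc.2.1)⟩ hc.2.2
  · simp only [band_iff] at hc
    obtain ⟨m, h1, h2⟩ := h.pc.orbM_sound (h.lt hc.1).1 (P := IsConj (elt g E.n a))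
      (fun p _ _ y hy => hy.trans (isConj_iff.2 ⟨(elt g E.n p)⁻¹, by simp⟩)) (IsConj.refl _) (h.hh ▸ hc.2)
    cases e : E.isP a <;> rw [e] at h1
    · simp only [band_iff, Env.lab_eq] at h1
      exact ⟨_, h1.2, h.addN fun c hc' => ⟨(h2 c hc').1, fun e => h.isN (h.lt hc.1) h1.1 (e.trans (h2 c hc').2.symm)⟩,
        rfl⟩
    · exact ⟨_, (Env.lab_eq _ _ _ _).symm.trans h1,
        h.addP fun c hc' => ⟨(h2 c hc').1, (h.isP (h.lt hc.1) e).trans (h2 c hc').2⟩, rfl⟩

/-- A case distinction. -/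
noncomputable def spl (E : Env) (x : ℕ) (k k' : Env → Bool) : Bool :=
  band (blt x E.h) (band (E.lab (Nat.lor E.pm (setB 0 x)) E.nm k) (E.lab E.pm (Nat.lor E.nm (setB 0 x)) k'))

omit [Finite G] in
theorem EOK.spl (h : EOK t g σ E) {x : ℕ} {k k' : Env → Bool} (hc : spl E x k k' = true) :
    ∃ E', (k E' = true ∨ k' E' = true) ∧ EOK t g σ E' ∧ E'.n = E.n := by
  simp only [L33.spl, band_iff, Env.lab_eq] at hc
  have h2 : ∀ a, tb (setB 0 x) a = true → a = x := by simp [tb_setB, tb_zero]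
  by_cases h1 : IsConj t (elt g E.n x)
  · exact ⟨_, .inl hc.2.1, h.addP fun a ha => h2 a ha ▸ ⟨(h.lt hc.1).1, h1⟩, rfl⟩
  · exact ⟨_, .inr hc.2.2, h.addN fun a ha => h2 a ha ▸ ⟨(h.lt hc.1).1, h1⟩, rfl⟩

end Cfsg.Agent.L33
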