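import Mathlib
import Cfsg.Agent.L33.EOp

/-!
The certificates without search: contradictions and maps to other labelled presentations.
-/

set_option autoImplicit false

namespace Cfsg.Agent.L33

open Cfsg.Agent.Spor Cfsg.Agent.Rec Cfsg.Agent.Spor.PC Cfsg.Agent.Inv.Fz Subgroup

variable {G : Type*} [Group G] {t : G} {g σ : ℕ → G} {E : Env}

/-- Five cases. -/
noncomputable def sel (k : ℕ) (b0 b1 b2 b3 b4 : Bool) : Bool :=
  Bool.rec (Bool.rec (Bool.rec (Bool.rec b4 b3 (Nat.beq k 3)) b2 (Nat.beq k 2)) b1 (Nat.beq k 1)) b0 (Nat.beq k 0)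

theorem sel_iff {k : ℕ} {b0 b1 b2 b3 b4 : Bool} : sel k b0 b1 b2 b3 b4 = true ↔
    (k = 0 → b0 = true) ∧ (k = 1 → b1 = true) ∧ (k = 2 → b2 = true) ∧ (k = 3 → b3 = true) ∧ (4 ≤ k → b4 = true) := by
  rcases k with _ | _ | _ | _ | k <;> simp [sel, Nat.beq]

theorem EOK.ev (h : EOK t g σ E) {c : List ℕ} {e : List G} (hc : RL g E.n c e) (v : List ℕ) :
    Rp g E.n (evD E.A c v) (ev e v) := h.pc.evD hc.nth v

/-- The check of a program on given elements. -/
noncomputable def srcChk (E : Env) (x : ℕ) (dm : ℕ → Bool) (km : ℕ → List ℕ → Bool) (k : List ℕ → Bool)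
    (P : List Ins) : List ℕ → List ℕ → Bool :=
  List.rec (fun _ c => k c) (fun i _ ih sup c => Ins.rec
    (fun v => List.rec false (fun e sup _ => band (blt e E.h) (band (dm e) (frc (evD E.A c v) fun s =>
      band (Nat.beq (E.A.mul e x) (E.A.mul s e)) (ih sup (e :: c))))) sup)
    (fun v => frc (evD E.A c v) fun a => ih sup (a :: c))
    (fun j v w => band (frc (evD E.A c v) fun a => sel j (Nat.beq a (evD E.A c w)) (bneg (Nat.beq a (evD E.A c w)))
      (E.isP a) (E.isN a) (km a w)) (ih sup c)) i) P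

theorem EOK.srcChk (h : EOK t g σ E) {x1 : ℕ} {x : G} (hx : Rp g E.n x1 x) {dm : ℕ → Bool} {D : Subgroup G}
    (hD : ∀ a < 2 ^ E.n, dm a = true → elt g E.n a ∈ D) {km : ℕ → List ℕ → Bool} {K : G → ℕ → ℕ → Prop}
    (hK : ∀ a < 2 ^ E.n, ∀ w, km a w = true → K (elt g E.n a) (nth 0 w 0) (nth 0 w 2)) {k : List ℕ → Bool}
    {P : List Ins} {sup c : List ℕ} {e : List G} (he : RL g E.n c e) (hc : srcChk E x1 dm km k P sup c = true) :
    ∃ c', k c' = true ∧ Src t x D K (RL g E.n c') P e := by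
  induction P generalizing sup c e with
  | nil => exact ⟨c, hc, he⟩
  | cons i P ih =>
    cases i with
    | fr v =>
      cases sup with
      | nil => exact absurd hc (by simp [L33.srcChk])
      | cons a sup =>
        replace hc : band (blt a E.h) (band (dm a) (frc (evD E.A c v) fun s =>
          band (Nat.beq (E.A.mul a x1) (E.A.mul s a)) (L33.srcChk E x1 dm km k P sup (a :: c)))) = true := hc
        simp only [band_iff, frc_eq, nbeq_iff] at hc
        obtain ⟨h1, h2, h3, h4⟩ := hc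
        obtain ⟨c', h5, h6⟩ := ih (.cons (h.lt h1) he) h4
        exact ⟨c', h5, _, hD a (h.lt h1).1 h2, mul_inv_eq_of_eq_mul
          ((h.pc.req (h.pc.rm (h.lt h1) hx) (h.pc.rm (h.ev he v) (h.lt h1))).1 h3), h6⟩
    | df v => exact ih (.cons (h.ev he v) he) ((frc_eq _ _).symm.trans hc)
    | ts j v w =>
      obtain ⟨h1, h2⟩ := (band_iff _ _).1 hc
      obtain ⟨c', h5, h6⟩ := ih he h2
      rw [frc_eq, sel_iff, bneg_iff, nbeq_iff, h.pc.req (h.ev he v) (h.ev he w)] at h1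
      exact ⟨c', h5, ⟨h1.1, h1.2.1, fun e => h.isP (h.ev he v) (h1.2.2.1 e), fun e => h.isN (h.ev he v) (h1.2.2.2.1 e),
        fun e => (h.ev he v).2 ▸ hK _ (h.ev he v).1 w (h1.2.2.2.2 e)⟩, h6⟩

theorem f2_left {α β : Type*} {R : α → β → Prop} {l : List α} {m : List β} (h : List.Forall₂ R l m) :
    ∀ a ∈ l, ∃ b ∈ m, R a b := by
  induction h with
  | nil => simp
  | cons h _ ih =>
    intro a ha
    rcases List.mem_cons.1 ha with rfl | ha
    · exact ⟨_, List.mem_cons_self, h⟩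
    · obtain ⟨b, hb, h⟩ := ih a ha
      exact ⟨b, List.mem_cons_of_mem _ hb, h⟩

theorem f2_and {α β : Type*} {R S : α → β → Prop} {l : List α} {m : List β} (h : List.Forall₂ R l m)
    (h' : List.Forall₂ S l m) : List.Forall₂ (fun a b => R a b ∧ S a b) l m := by
  induction h with
  | nil => exact .nil
  | cons h _ ih => cases h' with | cons h1 h2 => exact .cons ⟨h, h1⟩ (ih h2)

theorem f2_nth {α β : Type} {R : α → β → Prop} {l : List α} {m : List β} (h : List.Forall₂ R l m) {a : α} {b : β}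
    (h0 : R a b) (i : ℕ) : R (nth a l i) (nth b m i) := by
  induction h generalizing i with
  | nil => exact h0
  | cons h _ ih => cases i with
    | zero => exact h
    | succ i => exact ih i

/-- Application of a word to a list. -/
noncomputable def apL (E : Env) (w l : List ℕ) : (List ℕ → Bool) → Bool :=
  List.rec (fun k => k []) (fun a _ ih k => apW E w a fun b => ih fun m => k (b :: m)) l

theorem EOK.apL (h : EOK t g σ E) {w l : List ℕ} (hl : ∀ a ∈ l, a < 2 ^ E.n) {k : List ℕ → Bool}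
    (hc : apL E w l k = true) : ∃ m, k m = true ∧ List.Forall₂ (Cj g E.n (wEl g σ E.n w)) l m := by
  induction l generalizing k with
  | nil => exact ⟨[], hc, .nil⟩
  | cons a l ih =>
    obtain ⟨b, h1, h2⟩ := h.apW (hl a List.mem_cons_self) hc
    obtain ⟨m, h3, h4⟩ := ih (fun c hc => hl c (List.mem_cons_of_mem _ hc)) h1
    exact ⟨_, h3, .cons h2 h4⟩

/-- An element of the normaliser that normalises the action of a Sylow subgroup, with square in it, but not in it. -/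
noncomputable def autChk (E : Env) (md x z : ℕ) (ex : List (List ℕ)) (ds w : List ℕ) (qi : ℕ) (il : List ℕ)
    (m2 : ℕ) (ms : List ℕ) : Bool :=
  sylBy E md x z ex ds fun S al dm ds => band (blt qi S.length) (band (nrmW E w S)
    (mapF (fun a => a) (nth ([], 1) S qi).1.reverse fun qs => apL E w qs fun ys =>
      band (all2 (fun d m => band (blt m E.h) (band (tb dm m) (all2 (fun q y => frc (cjA E.A d q) fun a =>
        apO E.A ⟨qs, ys, il⟩ a fun r => Nat.beq r (cjA E.A m y)) qs ys))) ds ms)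
      (band (band (blt m2 E.h) (band (tb dm m2) (all2 (fun q y =>
        apO E.A ⟨qs, ys, il⟩ y fun r => Nat.beq r (cjA E.A m2 q)) qs ys)))
      (al fun m => bneg (all2 (fun q y => Nat.beq (E.A.mul m q) (E.A.mul y m)) qs ys)))))

theorem EOK.autChk [Finite G] (h : EOK t g σ E) {md x z : ℕ} {ex : List (List ℕ)} {ds w : List ℕ} {qi : ℕ}
    {il : List ℕ} {m2 : ℕ} {ms : List ℕ} (hc : autChk E md x z ex ds w qi il m2 ms = true) : False := by
  obtain ⟨sp, S, al, dm, ds, hc, hS, hm, hD, hal⟩ := h.sylBy hc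
  simp only [band_iff, mapF_eq, List.map_id', blt_iff qi] at hc
  obtain ⟨h1, h2, h3⟩ := hc
  have h4 := hS.mem h1
  have h5 := (hS.nth h.pc qi).lt
  generalize (nth ([], 1) S qi).1 = q0 at h3 h4 h5
  have h6 : sg g E.n q0 = clos (q0.reverse.map (elt g E.n)) := by simp [sg, clos]
  replace h5 : ∀ a ∈ q0.reverse, a < 2 ^ E.n := by simpa using h5
  generalize q0.reverse = qs at h3 h5 h6
  obtain ⟨ys, h3, h7⟩ := h.apL h5 h3
  simp only [band_iff, all2_iff, frc_eq] at h3
  obtain ⟨h8, ⟨k1, k2, k3⟩, h9⟩ := h3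
  obtain ⟨m, k4, k5⟩ := aut_lemma (qs := qs.map (elt g E.n)) (fun y hy => h6 ▸ hy _ h4) hD rfl (h.nrmW hS h2)
    (fun _ hd' => by
      obtain ⟨d, hd, rfl⟩ := List.mem_map.1 hd'
      obtain ⟨m, -, j1, j2, j3⟩ := f2_left h8 d hd
      refine ⟨_, (hm.iff m (h.lt j1).1).1 j2, fun _ hq' => ?_⟩
      obtain ⟨q, hq, rfl⟩ := List.mem_map.1 hq'
      obtain ⟨y, -, j4, j5⟩ := f2_left (f2_and h7 j3) q hq
      obtain ⟨r, j6, j7⟩ := h.pc.apO (o := ⟨qs, ys, il⟩) h7 j5
      rw [← (h.pc.cj (rp (hm.lt d hd)) (rp j4.1)).2, ← j7.2.2, (nbeq_iff _ _).1 j6, (h.pc.cj (h.lt j1) j4.2).2])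
    ⟨_, (hm.iff m2 (h.lt k1).1).1 k2, fun _ hq' => by
      obtain ⟨q, hq, rfl⟩ := List.mem_map.1 hq'
      obtain ⟨y, -, j4, j5⟩ := f2_left (f2_and h7 k3) q hq
      obtain ⟨r, j6, j7⟩ := h.pc.apO (o := ⟨qs, ys, il⟩) h7 j5
      rw [← j4.2.2, ← j7.2.2, (nbeq_iff _ _).1 j6, (h.pc.cj (h.lt k1) (rp j4.1)).2]⟩
  obtain ⟨a, k6, k7⟩ := hal _ h9 m k4
  refine (bneg_iff _).1 k7 (all2_iff.2 ?_)
  refine (List.forall₂_and_left _ _).2 ⟨fun q hq => k5 _ (List.mem_map_of_mem hq), h7⟩ |>.imp fun q y j => ?_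
  rw [nbeq_iff, h.pc.req (h.pc.rm k6 (rp j.2.1)) (h.pc.rm j.2.2 k6), j.1]
  group

/-- A map from the labelled presentation `H`. -/
noncomputable def mapChk (E : Env) (H : Hdr) (im : List ℕ) (ows : List (List ℕ)) : Bool :=
  band (Nat.beq H.s E.s) (band (lettersLt E.h im) (band (Nat.beq im.length H.n)
    (band (allLt H.n fun k => frc (nth 0 im k) fun a =>
      band (Nat.beq (E.A.mul a a) (evD E.A im (nth [] (nth [] H.C k) k))) (allLt k fun j => frc (nth 0 im j) fun b =>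
        frc (evD E.A im (nth [] (nth [] H.C k) j)) fun c => Nat.beq (E.A.mul b a) (E.A.mul a c)))
    (band (allL H.zs fun a => bneg (Nat.beq (phi E.A im a) 0))
    (band (allL H.ps fun a => frc (phi E.A im a) E.isP) (band (allL H.ns fun a => frc (phi E.A im a) E.isN)
    (band (all2 (fun o w => all2 (fun x y => frc (phi E.A im x) fun a => apW E w a fun r =>
      Nat.beq r (phi E.A im y)) o.xs o.ys) H.ops ows) (Nat.beq (dif H.pats E.pats) 0))))))))

theorem EOK.mapChk (h : EOK t g σ E) {H : Hdr} {im : List ℕ} {ows : List (List ℕ)} (hc : mapChk E H im ows = true) :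
    ∃ g' σ', HOK E.PT t g' σ' H := by
  simp only [L33.mapChk, band_iff, nbeq_iff, allL_iff, allLt_iff, frc_eq, lettersLt_iff, bneg_iff, all2_iff] at hc
  obtain ⟨h1, h2, h3, h4, h5, h6, h7, h8, h9⟩ := hc
  have k1 : RL g E.n im (im.map (elt g E.n)) := rl_map (h.hh ▸ h2)
  have k2 := fun a => h3 ▸ h.pc.phi k1 a
  have k3 := h.pc.evD k1.nth
  refine ⟨nth 1 (im.map (elt g E.n)), fun k => wEl g σ E.n (nth [] ows k), h1 ▸ h.gl, fun k hk => ⟨?_, fun j hj => ?_⟩,
    fun a ha e => h5 a ha ((h.pc.req (k2 a) ⟨Nat.two_pow_pos _, elt_zero⟩).2 e), fun a ha => h.isP (k2 a) (h6 a ha),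
    fun a ha => h.isN (k2 a) (h7 a ha), fun k => ?_, fun k hk => h.pats k ?_⟩
  · exact (h.pc.req (h.pc.rm (k1.nth k) (k1.nth k)) (k3 _)).1 (h4 k hk).1
  · exact (h.pc.req (h.pc.rm (k1.nth j) (k1.nth k)) (h.pc.rm (k1.nth k) (k3 _))).1 ((h4 k hk).2 j hj)
  · refine (f2_nth h8 (a := op0) (b := []) .nil k).imp fun x y e => ?_
    obtain ⟨r, k4, k5⟩ := h.apW (k2 x).1 e
    rw [← (k2 y).2, ← (nbeq_iff _ _).1 k4, k5.2.2, (k2 x).2]
  · by_contra e
    exact tb_zero k (h9 ▸ (tb_dif _ _ _).2 ⟨hk, e⟩)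

/-- Certificates without search. -/
inductive Leaf
  | st (i a b : ℕ) (c : Leaf)
  | sp (x : ℕ) (c c' : Leaf)
  | cf (x : ℕ)
  | od (x : ℕ) (ws : List ℕ)
  | pt (k x : ℕ) (sup : List ℕ)
  | au (md x z : ℕ) (ex : List (List ℕ)) (ds w : List ℕ) (qi : ℕ) (il : List ℕ) (m2 : ℕ) (ms : List ℕ)
  | mp (τ : ℕ) (im : List ℕ) (ows : List (List ℕ))

/-- A subgroup of the centraliser of `x`. -/
noncomputable def cenM (E : Env) (x : ℕ) (ws : List ℕ) (k : List ℕ → ℕ → Bool) : Bool :=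
  band (blt x E.h) (band (allL ws (comA E.A x)) (pcm E.A E.h ws k))

theorem EOK.cenM [Finite G] (h : EOK t g σ E) {x : ℕ} {ws : List ℕ} {k : List ℕ → ℕ → Bool}
    (hc : cenM E x ws k = true) : ∃ L m, k L m = true ∧ x < 2 ^ E.n ∧ Msk g E.n ws m ∧ Lst g E.n ws L ∧
      sg g E.n ws ≤ centralizer {elt g E.n x} := by
  simp only [L33.cenM, band_iff, allL_iff] at hc
  obtain ⟨L, m, h1, h2, h3⟩ := h.pcm hc.2.2
  exact ⟨L, m, h1, (h.lt hc.1).1, h2, h3, sg_le.2 fun a ha =>
    mem_cen.2 ((h.pc.com (h.lt hc.1) (rp (h2.lt a ha))).1 (hc.2.1 a ha)).symm⟩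

/-- The check of a certificate without search. -/
noncomputable def runL (c : Leaf) : Env → Bool :=
  Leaf.rec (fun i a b _ ih E => stp E i a b ih) (fun x _ _ ih ih' E => spl E x ih ih')
    (fun x E => band (blt x E.h) (band (E.isP x) (E.isN x)))
    (fun x ws E => band (E.isP x) (band (Nat.beq ws.length (Nat.succ E.s)) (cenM E x ws fun _ _ => true)))
    (fun k x sup E => band (blt x E.h) (band (E.isP x) (band (tb E.pats k)
      (srcChk E x (comA E.A x) (fun _ _ => false) (fun _ => true) (E.PT k) sup [x]))))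
    (fun md x z ex ds w qi il m2 ms E => autChk E md x z ex ds w qi il m2 ms)
    (fun τ im ows E => band (blt τ E.cur) (mapChk E (E.DB τ) im ows)) c

theorem EOK.runL [Finite G] {c : Leaf} (h : EOK t g σ E) (hc : runL c E = true) : Bd G := by
  induction c generalizing E with
  | st i a b c ih => obtain ⟨E', h1, h2, -⟩ := h.stp hc; exact ih h2 h1
  | sp x c c' ih ih' => obtain ⟨E', h1, h2, -⟩ := h.spl hc; exact h1.elim (ih h2) (ih' h2)
  | cf x =>
    simp only [L33.runL, band_iff] at hc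
    exact absurd (h.isP (h.lt hc.1) hc.2.1) (h.isN (h.lt hc.1) hc.2.2)
  | od x ws =>
    simp only [L33.runL, band_iff, nbeq_iff] at hc
    obtain ⟨L, m, -, h1, h2, -, h3⟩ := h.cenM hc.2.2
    have := h.gl.o1 _ (h.isP (rp h1) hc.1) _ (.of_card h2.card) h3
    rw [h2.card, hc.2.1, Nat.pow_le_pow_iff_right one_lt_two] at this
    omega
  | pt k x sup =>
    simp only [L33.runL, band_iff] at hc
    obtain ⟨h1, h2, h3, h4⟩ := hc
    obtain ⟨c', -, h5⟩ := h.srcChk (h.lt h1) (D := genLt g E.n ⊓ centralizer {elt g E.n x}) (K := fun _ _ _ => False)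
      (fun a ha e => ⟨elt_mem' a, mem_cen.2 ((h.pc.com (h.lt h1) (rp ha)).1 e).symm⟩) (by simp)
      (.cons (h.lt h1) .nil) h4
    exact absurd (h5.mono (fun _ _ _ => id) fun _ _ => trivial)
      (h.pats k h3 _ _ (h.isP (h.lt h1) h2) (h.pc.isPC.isPGroup.to_le inf_le_left) inf_le_right)
  | au md x z ex ds w qi il m2 ms => exact (h.autChk hc).elim
  | mp τ im ows =>
    simp only [L33.runL, band_iff, blt_iff] at hc
    obtain ⟨g', σ', h1⟩ := h.mapChk hc.2
    exact h.val τ hc.1 g' σ' h1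

end Cfsg.Agent.L33
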