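import Mathlib
import Cfsg.Agent.L33.ESrch

/-!
The certificate of a labelled presentation.
-/

set_option autoImplicit false

namespace Cfsg.Agent.L33

open Cfsg.Agent.Spor Cfsg.Agent.Rec Cfsg.Agent.Spor.PC Cfsg.Agent.Inv.Fz Subgroup

/-- Certificates. -/
inductive Node
  | lf (l : Leaf)
  | st (i a b : ℕ) (c : Node)
  | sp (x : ℕ) (c c' : Node)
  | est (k r : ℕ) (ms : List ℕ) (s : Srch) (c : Node)
  | ext (sp : List (List ℕ)) (x : ℕ) (P : List Ins) (sup pick : List ℕ) (s : Srch) (c : Node)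
  | frat (md x z : ℕ) (ex : List (List ℕ)) (ds : List ℕ) (prs : List (ℕ × ℕ)) (sw os : List ℕ) (r y x1 : ℕ)
      (P : List Ins) (sup pick il : List ℕ) (s : Srch)
  | fuse (x z r : ℕ) (sw ms : List ℕ) (P : List Ins) (sup pick il : List ℕ) (s : Srch)
  | done
  | trf (ms : List ℕ) (x : ℕ)

/-- The check of a membership test. -/
noncomputable def kmW (E : Env) (S : List (List ℕ × ℕ)) (pa : ℕ → ℕ → Bool) (sw : List ℕ) (a : ℕ) (w : List ℕ) : Bool :=
  band (pa (nth 0 w 1) (nth 0 w 2)) (band (tb (nth ([], 1) S (nth 0 w 1)).2 a)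
    (apW E sw a fun y => Nat.beq (nth 0 w 0) (E.A.inv y)))

/-- The involutions that may be conjugate to `t`. -/
def cov (E : Env) (im mm : ℕ) : ℕ := Nat.land mm (dif im (Nat.lor E.nm 1))

/-- The commutator lies in the subgroup with the mask `m`. -/
noncomputable def cmIn (A : Ar) (m a b : ℕ) : Bool :=
  frc (cjA A a b) fun c => frc (A.inv b) fun d => frc (A.mul c d) (tb m)

/-- The initial state of a search. -/
def dy0 (P : List Ins) (W cand : List ℕ) : Dy := ⟨true, P, [], [], 0, [], [], W, 0, cand⟩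

/-- A new pattern. -/
noncomputable def estC (E : Env) (k r : ℕ) (ms : List ℕ) (s : Srch) (ih : Env → Bool) : Bool :=
  band (E.isP r) (band (Nat.beq ms.length E.s) (band
    (cenM E r ms fun _ mm => runS E ⟨2, [], mm, E.s, 0, [], [], []⟩ s (dy0 (E.PT k) [] [r]))
    (frc (setB E.pats k) fun p => ih { E with pats := p })))

/-- The group is a Sylow subgroup or has an extension. -/
noncomputable def extC (E : Env) (im : ℕ) (sp : List (List ℕ)) (x : ℕ) (P : List Ins) (sup pick : List ℕ) (s : Srch)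
    (ih : Env → Bool) : Bool :=
  msks E sp fun S => mapF (fun a => a) (pows E.n 1) fun ps =>
    band (nrmL E ps S) (band (blt x E.h) (band (E.isP x) (band
      (srcChk E x (fun _ => true) (kmW E S (fun i j => band (Nat.beq i j) (blt i S.length)) [])
        (fun sx => band (all2 Nat.beq (pick.map (nth 0 sx)) ps) (frc (full E.h) fun mm => frc (cov E im mm) fun cv =>
          runS E ⟨0, S, mm, E.n, x, sx, pick, []⟩ s (dy0 P ps (bitsW E.h cv)))) P sup [x])
      (ih { E with hf := true, fl := sp }))))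

/-- The Frattini argument. -/
noncomputable def fratC (E : Env) (im md x z : ℕ) (ex : List (List ℕ)) (ds : List ℕ) (prs : List (ℕ × ℕ))
    (sw os : List ℕ) (r y x1 : ℕ) (P : List Ins) (sup pick il : List ℕ) (s : Srch) : Bool :=
  sylBy E md x z ex ds fun S _ _ ds =>
    band (Nat.beq ds.length E.n) (band (nrmW E sw S) (pcm E.A E.h os fun _ mm =>
      band (Nat.beq (Nat.succ os.length) E.n) (band (allL prs fun p => band (blt p.1 S.length) (band (blt p.2 S.length)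
        (allL os fun m => allL (nth ([], 1) S p.1).1 (cmIn E.A (nth ([], 1) S p.2).2 m))))
      (band (blt r E.h) (band (blt y E.h) (band (exL prs fun p => band (tb (nth ([], 1) S p.1).2 y)
        (bneg (cmIn E.A (nth ([], 1) S p.2).2 r y))) (band (blt x1 E.h) (band (E.isP x1) (band (tb mm x1)
      (srcChk E x1 (tb mm) (kmW E S (fun i j => exL prs fun p => band (Nat.beq p.1 i) (Nat.beq p.2 j)) sw)
        (fun sx => frc (cov E im mm) fun cv => mapF (fun a => a) os.reverse fun W =>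
          runS E ⟨1, S, mm, os.length, x1, sx, pick, il⟩ s (dy0 P W (bitsW E.h cv))) P sup [x1]))))))))))

/-- Fusion of a pair. -/
noncomputable def fuseC (E : Env) (x z r : ℕ) (sw ms : List ℕ) (P : List Ins) (sup pick il : List ℕ) (s : Srch) : Bool :=
  band (blt x E.h) (band (blt z E.h) (band (blt r E.h) (band (E.isP r)
    (band (Nat.beq (E.A.mul z z) 0) (band (comA E.A r z) (band (apW E sw x (Nat.beq r)) (band (apW E sw z (Nat.beq z))
    (band (Nat.beq ms.length (Nat.succ E.s)) (band (msks E [[z], [r, z]] (nrmL E ms))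
    (pcm E.A E.h ms fun _ mm => msks E [[z], [x, z]] fun S =>
      srcChk E x (fun e => nrmL E [e] S) (kmW E S (fun i j => band (Nat.beq i 0) (Nat.beq j 2)) sw)
        (fun sx => runS E ⟨1, S, mm, ms.length, x, sx, pick, il⟩ s (dy0 P [] [r])) P sup [x]))))))))))

/-- Transfer. -/
noncomputable def trfC (E : Env) (im : ℕ) (ms : List ℕ) (x : ℕ) : Bool :=
  band E.hf (band E.fl.isEmpty (band (Nat.beq E.n 11) (band (Nat.beq ms.length 10) (band (blt x E.h)
    (band (E.isP x) (pcm E.A E.h ms fun _ m => band (bneg (tb m x)) (Nat.beq (cov E im m) 0)))))))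

/-- The check of a certificate. -/
noncomputable def runN (im : ℕ) (c : Node) : Env → Bool :=
  Node.rec (fun l E => runL l E) (fun i a b _ ih E => stp E i a b ih) (fun x _ _ ih ih' E => spl E x ih ih')
    (fun k r ms s _ ih E => estC E k r ms s ih) (fun sp x P sup pick s _ ih E => extC E im sp x P sup pick s ih)
    (fun md x z ex ds prs sw os r y x1 P sup pick il s E => fratC E im md x z ex ds prs sw os r y x1 P sup pick il s)
    (fun x z r sw ms P sup pick il s E => fuseC E x z r sw ms P sup pick il s)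
    (fun E => band E.hf (band E.fl.isEmpty (Nat.ble E.n 10))) (fun ms x E => trfC E im ms x) c

variable {G : Type*} [Group G] {t : G} {g σ : ℕ → G} {E : Env} {im : ℕ}

theorem mem_bitsW {n m a : ℕ} (h : a < n) (hm : tb m a = true) : a ∈ bitsW n m := by
  induction n with
  | zero => omega
  | succ n ih =>
    rw [bitsW_succ]
    rcases Nat.lt_succ_iff_lt_or_eq.1 h with h | rfl
    · split_ifs
      exacts [List.mem_cons_of_mem _ (ih h), ih h]
    · rw [← tb_eq, if_pos hm]; exact List.mem_cons_self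

theorem EOK.kmW (h : EOK t g σ E) {sp : List (List ℕ)} {S : List (List ℕ × ℕ)} (hS : SOK g E.n sp S)
    {pa : ℕ → ℕ → Bool} {sw : List ℕ} {J : G → Prop} (hJ : ∀ i j, pa i j = true → ∀ u, J u →
      ∀ y ∈ sg g E.n (nth ([], 1) S i).1,
        u * y * u⁻¹ * (wEl g σ E.n sw * y * (wEl g σ E.n sw)⁻¹)⁻¹ ∈ sg g E.n (nth ([], 1) S j).1) :
    ∀ a < 2 ^ E.n, ∀ w, kmW E S pa sw a w = true → KJ g E.n S J (elt g E.n a) (nth 0 w 0) (nth 0 w 2) := by
  intro a ha w hc
  simp only [L33.kmW, band_iff] at hc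
  obtain ⟨y, h1, h2⟩ := h.apW ha hc.2.2
  have h3 := h.pc.ri h2.2
  rw [← (nbeq_iff _ _).1 h1] at h3
  exact ⟨h3.1, fun u hu => h3.2 ▸ hJ _ _ hc.1 u hu _ (((hS.nth h.pc _).iff a ha).1 hc.2.1)⟩

theorem EOK.cmIn (h : EOK t g σ E) {ws : List ℕ} {m a b : ℕ} (hm : Msk g E.n ws m) {x y : G} (ha : Rp g E.n a x)
    (hb : Rp g E.n b y) : cmIn E.A m a b = true ↔ x * y * x⁻¹ * y⁻¹ ∈ sg g E.n ws := by
  have := h.pc.rm (h.pc.cj ha hb) (h.pc.ri hb)
  rw [← this.2, ← hm.iff _ this.1]; simp only [L33.cmIn, frc_eq]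

variable [Finite G]

omit [Finite G] in
theorem EOK.cov (h : EOK t g σ E) (hi : ∀ a < 2 ^ E.n, elt g E.n a * elt g E.n a = 1 → tb im a = true) {mm a : ℕ}
    (ha : a < 2 ^ E.n) (hm : tb mm a = true) (hc : IsConj t (elt g E.n a)) : tb (cov E im mm) a = true := by
  have h1 := EG1.conj_t h.gl hc
  simp only [L33.cov, tb_land, tb_dif, tb_lor, tb_one, hm, hi a ha h1.1, true_and, not_or]
  exact ⟨fun e => (h.nm a e).2 hc, fun e => h1.2 (e ▸ elt_zero)⟩

theorem start {X : Sx} {P : List Ins} {W cand : List ℕ} {s : Srch} (hc : runS E X s (dy0 P W cand) = true)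
    {J : G → Prop} {D M : Subgroup G} {x : G} (hP : Sr t g E X J D x P [x]) (h : SxOK t g σ E X J D M x)
    (hW : ∀ w ∈ W, elt g E.n w ∈ M) {u : G} (hu : J u) {a : ℕ} (ha : a ∈ cand) (ha' : Rp g E.n a (u * x * u⁻¹)) :
    Bd G :=
  h.runS (Y := dy0 P W cand) ⟨fun e => absurd rfl e, ⟨by simp [dy0], fun _ => id⟩,
    fun _ => ⟨fun w hw => ⟨hW w hw, by simp [Cm, dy0]⟩, fun a ha => absurd ha (tb_zero a), a, ha, ha'.1, u, [], x, hu, hP,
      .nil, ha'.2.symm, fun _ => rfl, fun e => absurd rfl e⟩, by simp [dy0]⟩ hc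

omit [Finite G] in
theorem EOK.top (h : EOK t g σ E) (h1 : E.hf = true) (h2 : E.fl.isEmpty = true) : IsSylIn 2 (genLt g E.n) ⊤ := by
  have := h.fl h1
  rwa [List.isEmpty_iff.1 h2, show KN (([] : List (List ℕ)).map (sg g E.n)) = ⊤ from
    eq_top_iff.2 fun _ _ _ hX => by simp at hX] at this

theorem EOK.estC (h : EOK t g σ E) {k r : ℕ} {ms : List ℕ} {s : Srch} {ih : Env → Bool}
    (hc : estC E k r ms s ih = true) : Bd G ∨ ∃ E', ih E' = true ∧ EOK t g σ E' ∧ E'.n = E.n := by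
  simp only [L33.estC, band_iff, nbeq_iff, frc_eq] at hc
  obtain ⟨h1, h2, h3, h4⟩ := hc
  by_cases hP : PatOK t (E.PT k)
  · exact .inr ⟨_, h4, { h with pats := fun j hj => ((tb_setB _ _ _).1 hj).elim (h.pats j) fun e => e ▸ hP }, rfl⟩
  simp only [PatOK, not_forall, not_not] at hP
  obtain ⟨x, D, k1, k2, k3, k4⟩ := hP
  obtain ⟨_, mm, h5, h6, h7, -, h8⟩ := h.cenM h3
  obtain ⟨u, k5, k6⟩ := h.gl.fuse0 k1 (h.isP (rp h6) h1) h8 (h2 ▸ h7.card) k2 k3
  exact .inl <| start h5 (J := fun u => ∀ y ∈ D, u * y * u⁻¹ ∈ sg g E.n ms)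
    (k4.mono (fun _ _ _ => False.elim) (by simp))
    ⟨h, k1, fun _ => id, fun u hu m hm y hy => by
      simpa [mul_assoc] using mul_mem (mul_mem hm (hu y hy)) (inv_mem hm), fun _ => msk_nil h.pc,
      fun a ha => (h7.iff a ha).1, h2 ▸ h7.card, by simp⟩ (by simp) k6 List.mem_cons_self (k5 ▸ rp h6)

theorem EOK.extC (h : EOK t g σ E) (hi : ∀ a < 2 ^ E.n, elt g E.n a * elt g E.n a = 1 → tb im a = true)
    {sp : List (List ℕ)} {x : ℕ} {P : List Ins} {sup pick : List ℕ} {s : Srch} {ih : Env → Bool}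
    (hc : extC E im sp x P sup pick s ih = true) : Bd G ∨ ∃ E', ih E' = true ∧ EOK t g σ E' ∧ E'.n = E.n := by
  obtain ⟨S, hc, hS⟩ := h.msks hc
  simp only [band_iff, mapF_eq, List.map_id'] at hc
  obtain ⟨h1, h2, h3, h4, h5⟩ := hc
  have h6 := h.nrmL hS h1
  rw [sg_pows] at h6
  by_cases h7 : IsSylIn 2 (genLt g E.n) (KN (sp.map (sg g E.n)))
  · exact .inr ⟨_, h5, { h with fl := fun _ => h7 }, rfl⟩
  obtain ⟨v, hv⟩ := exists_ext h.pc.isPC.isPGroup h6 h7
  obtain ⟨sx, k1, k2⟩ := h.srcChk (h.lt h2) (D := genLt g E.n) (fun a _ _ => elt_mem' a)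
    (h.kmW hS (J := fun v => v ∈ KN (sp.map (sg g E.n)) ∧ v ∈ normalizer (genLt g E.n : Set G) ∧ v ∉ genLt g E.n ∧
      v * v ∈ genLt g E.n) fun i j e u hu y hy => by
        simp only [band_iff, nbeq_iff, blt_iff] at e
        simpa [wEl, ← e.1] using mul_mem (conj_mem_of_mem_norm (hu.1 _ (hS.mem e.2)) hy) (inv_mem hy))
    (.cons (h.lt h2) .nil) h4
  simp only [band_iff, all2_iff, frc_eq, nbeq_iff, List.forall₂_eq_eq_eq] at k1
  obtain ⟨a, k3, k4⟩ := h.pc.isPC.exists_elt (conj_mem_of_mem_norm hv.2.1 (elt_mem' x))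
  have k5 := h.isP (h.lt h2) h3
  refine .inl <| start k1.2 (k2.mono (fun _ _ _ => id) fun _ e _ => e) (M := genLt g E.n) ⟨h, k5, fun u hu y hy => conj_mem_of_mem_norm hu.2.1 hy,
    fun u hu m hm => ⟨mul_mem (h6 hm) hu.1, mul_mem (le_normalizer hm) hu.2.1, by simpa [mul_mem_cancel_left hm] using hu.2.2.1, by
      simpa [mul_assoc] using mul_mem (mul_mem hm (conj_mem_of_mem_norm hu.2.1 hm)) hu.2.2.2⟩,
    hS.nth h.pc, fun a _ _ => elt_mem' a, h.pc.isPC.card, fun _ => ⟨rfl, h.lt h2, k1.1, fun u hu => hu.2⟩⟩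
    (fun a _ => elt_mem' a) hv (mem_bitsW (h.hh ▸ k3) ?_) ⟨k3, k4⟩
  exact h.cov hi k3 (tb_full.2 (h.hh ▸ k3)) (k5.trans (isConj_iff.2 ⟨v, k4.symm⟩))

theorem EOK.fratC (h : EOK t g σ E) (hi : ∀ a < 2 ^ E.n, elt g E.n a * elt g E.n a = 1 → tb im a = true)
    {md x z : ℕ} {ex : List (List ℕ)} {ds : List ℕ} {prs : List (ℕ × ℕ)} {sw os : List ℕ} {r y x1 : ℕ}
    {P : List Ins} {sup pick il : List ℕ} {s : Srch}
    (hc : fratC E im md x z ex ds prs sw os r y x1 P sup pick il s = true) : Bd G := by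
  obtain ⟨sp, S, _, dm, ds, hc, hS, h1, h2, -⟩ := h.sylBy hc
  simp only [band_iff, nbeq_iff] at hc
  obtain ⟨h3, h4, h5⟩ := hc
  obtain ⟨_, mm, h5, h6, -⟩ := h.pcm h5
  simp only [band_iff, nbeq_iff, allL_iff, exL_iff, bneg_iff, blt_iff _ S.length] at h5
  obtain ⟨h7, h8, h9, h10, ⟨p, k1, k2, k3⟩, k4, k5, k6, k7⟩ := h5
  have e : sg g E.n ds = genLt g E.n :=
    eq_of_le_of_card_ge (sg_le_genLt _) (by rw [h1.card, h3, h.pc.isPC.card])
  rw [e] at h2
  have hP : ∀ q ∈ prs.map fun p => (sg g E.n (nth ([], 1) S p.1).1, sg g E.n (nth ([], 1) S p.2).1),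
      q.1 ∈ sp.map (sg g E.n) ∧ q.2 ∈ sp.map (sg g E.n) :=
    List.forall_mem_map.2 fun p hp => ⟨hS.mem (h8 p hp).1, hS.mem (h8 p hp).2.1⟩
  have h0 : ∀ m ∈ sg g E.n os, Agr (prs.map fun p => (sg g E.n (nth ([], 1) S p.1).1,
      sg g E.n (nth ([], 1) S p.2).1)) m 1 := fun m hm => List.forall_mem_map.2 fun p hp y hy => by
    simpa using agr_of_gens (fun y hy => h2.1 (sg_le_genLt _ hy) _ (hS.mem (h8 p hp).2.1))
      (fun y hy => h2.1 (sg_le_genLt os hy) _ (hS.mem (h8 p hp).1))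
      (fun y hy => h2.1 (sg_le_genLt os hy) _ (hS.mem (h8 p hp).2.1))
      (List.forall_mem_map.2 fun m hm => List.forall_mem_map.2 fun a ha =>
        (h.cmIn (hS.nth h.pc _) (rp (h6.lt m hm)) (rp ((hS.nth h.pc _).lt a ha))).1 ((h8 p hp).2.2 m hm a ha)) m hm y hy
  obtain ⟨u, hu⟩ := frat_lemma hP h2 (sg_le_genLt os) (by rw [h6.card, h.pc.isPC.card, ← h7, pow_succ']) h0
    (elt_mem' r) (fun e => k3 ((h.cmIn (hS.nth h.pc _) (h.lt h9) (h.lt h10)).2 (by
      simpa using e _ (List.mem_map_of_mem k1) _ (((hS.nth h.pc _).iff y (h.lt h10).1).1 k2)))) (h.nrmW hS h4)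
  obtain ⟨sx, j1, j2⟩ := h.srcChk (h.lt k4) (D := sg g E.n os) (fun a ha => (h6.iff a ha).1)
    (h.kmW hS (J := fun u => u ∈ KN (sp.map (sg g E.n)) ∧ u ∈ normalizer (sg g E.n os : Set G) ∧
      Agr (prs.map fun p => (sg g E.n (nth ([], 1) S p.1).1, sg g E.n (nth ([], 1) S p.2).1)) u (wEl g σ E.n sw))
      fun i j e u hu => by
        simp only [exL_iff, band_iff, nbeq_iff] at e
        obtain ⟨p, hp, rfl, rfl⟩ := e
        exact hu.2.2 _ (List.mem_map_of_mem hp))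
    (.cons (h.lt k4) .nil) k7
  simp only [frc_eq, mapF_eq, List.map_id'] at j1
  have j3 := conj_mem_of_mem_norm hu.2.1 ((h6.iff x1 (h.lt k4).1).1 k6)
  obtain ⟨a, j4, j5⟩ := h.pc.isPC.exists_elt (sg_le_genLt _ j3)
  have j6 := h.isP (h.lt k4) k5
  refine start j1 (j2.mono (fun _ _ _ => id) fun _ e _ => e) (M := sg g E.n os) ⟨h, j6, fun u hu y hy => conj_mem_of_mem_norm hu.2.1 hy,
    fun u hu m hm => ⟨mul_mem (h2.1 (sg_le_genLt _ hm)) hu.1, mul_mem (le_normalizer hm) hu.2.1,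
      Agr.mul hP (h0 m hm) hu.1 hu.2.2⟩, hS.nth h.pc, fun a ha => (h6.iff a ha).1, h6.card, by simp⟩
    (fun a ha => mem_sg (List.mem_reverse.1 ha)) hu (mem_bitsW (h.hh ▸ j4) ?_) ⟨j4, j5⟩
  exact h.cov hi j4 ((h6.iff a j4).2 (j5 ▸ j3)) (j6.trans (isConj_iff.2 ⟨u, j5.symm⟩))

theorem EOK.fuseC (h : EOK t g σ E) {x z r : ℕ} {sw ms : List ℕ} {P : List Ins} {sup pick il : List ℕ} {s : Srch}
    (hc : fuseC E x z r sw ms P sup pick il s = true) : Bd G := by
  simp only [L33.fuseC, band_iff, nbeq_iff ms.length] at hc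
  obtain ⟨hx, hz, hr, h1, h2, h3, h4, h5, h6, h7, h8⟩ := hc
  obtain ⟨S', h9, hS'⟩ := h.msks h7
  obtain ⟨_, mm, h8, h10, -⟩ := h.pcm h8
  obtain ⟨S, h8, hS⟩ := h.msks h8
  have k1 := h.nrmL hS' h9
  have k2 := h.isP (h.lt hr) h1
  have k3 := (h.sq (h.lt hz)).1 h2
  have k4 := (h.pc.com (h.lt hr) (h.lt hz)).1 h3
  obtain ⟨_, k5, k6⟩ := h.apW (h.lt hx).1 h4
  obtain ⟨_, k7, k8⟩ := h.apW (h.lt hz).1 h5
  rw [← (nbeq_iff _ _).1 k5] at k6
  rw [← (nbeq_iff _ _).1 k7] at k8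
  have k9 : sg g E.n ms ≤ normalizer (clos [elt g E.n z] : Set G) := fun y hy => k1 hy _ (by simp [sg])
  have k10 : sg g E.n ms ≤ normalizer (clos [elt g E.n r, elt g E.n z] : Set G) := fun y hy => k1 hy _ (by simp [sg])
  obtain ⟨u, j1, j2, j3⟩ := h.gl.fuse1 k2 k3 k4 k6.2.2.symm k8.2.2.symm k9 k10 (by rw [h10.card, h6])
    (D := genLt g E.n ⊓ KN ([[z], [x, z]].map (sg g E.n))) (h.pc.isPC.isPGroup.to_le inf_le_left)
    (fun y hy => hy.2 _ (by simp [sg])) fun y hy => hy.2 _ (by simp [sg])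
  obtain ⟨sx, j4, j5⟩ := h.srcChk (h.lt hx) (D := genLt g E.n ⊓ KN ([[z], [x, z]].map (sg g E.n)))
    (fun a _ e => ⟨elt_mem' a, h.nrmL hS e (mem_sg List.mem_cons_self)⟩)
    (h.kmW hS (J := fun u => u * elt g E.n z * u⁻¹ = elt g E.n z ∧
      ∀ y ∈ genLt g E.n ⊓ KN ([[z], [x, z]].map (sg g E.n)), u * y * u⁻¹ ∈ sg g E.n ms) fun i j e u hu y hy => by
        simp only [band_iff, nbeq_iff] at e
        obtain ⟨⟨a, b⟩, S, rfl, rfl, -⟩ := List.map_eq_cons_iff.1 hS.1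
        rw [e.1] at hy
        have i1 : ∀ u : G, u * elt g E.n z * u⁻¹ = elt g E.n z → u * y * u⁻¹ = y := fun u hu =>
          mul_inv_eq_of_eq_mul (mem_cen.1 (sg_le (K := centralizer {u}).2
            (by simpa [mem_cen] using (eq_mul_of_mul_inv_eq hu).symm) hy)).symm
        rw [i1 u hu.1, i1 _ k8.2.2.symm, mul_inv_cancel]
        exact one_mem _)
    (.cons (h.lt hx) .nil) h8
  have j6 := EG1.conj_t h.gl k2
  exact start j4 (j5.mono (fun _ _ _ => id) fun _ e _ => e) (M := sg g E.n ms) ⟨h, k2.trans (isConj_iff.2 ⟨_, k6.2.2.symm⟩).symm, fun u hu => hu.2,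
    fun u hu m hm => ⟨by
      conv_rhs => rw [← (EG1.act j6.1 j6.2 k3 k4 (k9 hm) (k10 hm)).1, ← hu.1]
      group, fun y hy => by simpa [mul_assoc] using mul_mem (mul_mem hm (hu.2 y hy)) (inv_mem hm)⟩,
    hS.nth h.pc, fun a ha => (h10.iff a ha).1, h10.card, by simp⟩ (by simp) ⟨j2, j3⟩ List.mem_cons_self (j1 ▸ h.lt hr)

theorem EOK.trfC (h : EOK t g σ E) (hi : ∀ a < 2 ^ E.n, elt g E.n a * elt g E.n a = 1 → tb im a = true)
    {ms : List ℕ} {x : ℕ} (hc : trfC E im ms x = true) : Bd G := by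
  simp only [L33.trfC, band_iff, nbeq_iff] at hc
  obtain ⟨h1, h2, h3, h4, h5, h6, h7⟩ := hc
  obtain ⟨_, m, h7, h8, -⟩ := h.pcm h7
  simp only [band_iff, bneg_iff, nbeq_iff] at h7
  have h9 := h.isP (h.lt h5) h6
  refine bd_of_transfer (h.top h1 h2) (h3 ▸ h.pc.isPC.card) (sg_le_genLt ms) (h4 ▸ h8.card) (elt_mem' x)
    (EG1.conj_t h.gl h9).1 (fun e => h7.1 ((h8.iff x (h.lt h5).1).2 e)) fun y hy e => ?_
  obtain ⟨a, ha, rfl⟩ := h.pc.isPC.exists_elt (sg_le_genLt _ hy)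
  exact tb_zero a (h7.2 ▸ h.cov hi ha ((h8.iff a ha).2 hy) (h9.trans e))

theorem EOK.runN {c : Node} (h : EOK t g σ E) (hi : ∀ a < 2 ^ E.n, elt g E.n a * elt g E.n a = 1 → tb im a = true)
    (hc : runN im c E = true) : Bd G := by
  induction c generalizing E with
  | lf l => exact h.runL hc
  | st i a b c ih => obtain ⟨E', h1, h2, h3⟩ := h.stp hc; exact ih h2 (h3 ▸ hi) h1
  | sp x c c' ih ih' => obtain ⟨E', h1, h2, h3⟩ := h.spl hc; exact h1.elim (ih h2 (h3 ▸ hi)) (ih' h2 (h3 ▸ hi))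
  | est k r ms s c ih => exact (h.estC hc).elim id fun ⟨_, h1, h2, h3⟩ => ih h2 (h3 ▸ hi) h1
  | ext sp x P sup pick s c ih => exact (h.extC hi hc).elim id fun ⟨_, h1, h2, h3⟩ => ih h2 (h3 ▸ hi) h1
  | frat => exact h.fratC hi hc
  | fuse => exact h.fuseC hc
  | done =>
    simp only [L33.runN, band_iff] at hc
    exact bd_of_le (h.top hc.1 hc.2.1) h.pc.isPC.card (Nat.le_of_ble_eq_true hc.2.2)
  | trf ms x => exact h.trfC hi hc

/-- The descent to the indices `zs`, and the mask of the involutions. -/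
noncomputable def zOK (A : Ar) (h : ℕ) (zs : List ℕ) (im zh : ℕ) : Bool :=
  allRange 0 h fun a => frc a fun a => frc (A.mul a a) fun b => Bool.rec (blt b a) (band (tb im a)
    (frc (Nat.land (Nat.shiftRight zh (Nat.shiftLeft a 2)) 15) fun k => Bool.rec
      (frc (Nat.shiftLeft 1 k) fun p => band (blt p h) (frc (cjA A p a) fun c => frc (A.mul a c) fun d =>
        band (bneg (Nat.beq d 0)) (blt d a))) (bor (Nat.beq a 0) (exL zs (Nat.beq a))) (Nat.beq k 15))) (Nat.beq b 0)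

omit [Finite G] in
theorem PC0.zOK {A : Ar} {n : ℕ} (h : PC0 A n g) {zs : List ℕ} {zh : ℕ} (hc : zOK A (2 ^ n) zs im zh = true)
    (hz : ∀ a ∈ zs, elt g n a ≠ 1) : PCA A n g ∧ ∀ a < 2 ^ n, elt g n a * elt g n a = 1 → tb im a = true := by
  simp only [L33.zOK, ONT.allRange_iff, frc_eq] at hc
  have h1 : ∀ a < 2 ^ n, elt g n a = 1 → a = 0 := by
    intro a
    induction a using Nat.strong_induction_on with
    | _ a ih =>
      intro ha e
      have h2 := hc a ha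
      have h3 := h.rm ⟨ha, e⟩ ⟨ha, e⟩
      cases e1 : Nat.beq (A.mul a a) 0 <;> rw [e1] at h2
      · rw [ih _ ((blt_iff _ _).1 h2) h3.1 (by simpa using h3.2)] at e1
        exact absurd e1 (by simp)
      replace h2 := ((band_iff _ _).1 h2).2
      cases e2 : Nat.beq (Nat.land (Nat.shiftRight zh (Nat.shiftLeft a 2)) 15) 15 <;> rw [e2] at h2 <;>
        simp only [band_iff, blt_iff, bneg_iff, nbeq_iff, bor_iff, exL_iff] at h2
      · have h4 := h.rm ⟨ha, e⟩ (h.cj (rp h2.1) ⟨ha, e⟩)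
        exact absurd (ih _ h2.2.2 h4.1 (by simpa using h4.2)) h2.2.1
      · exact h2.resolve_right fun ⟨b, hb, e'⟩ => hz b hb (e' ▸ e)
  refine ⟨⟨h, h1⟩, fun a ha e => ?_⟩
  have h2 := hc a ha
  rw [h1 _ (h.rm (rp ha) (rp ha)).1 ((h.rm (rp ha) (rp ha)).2.trans e)] at h2
  exact ((band_iff _ _).1 h2).1

/-- The mask of a list. -/
noncomputable def mskOf (l : List ℕ) : ℕ := List.rec 0 (fun a _ ih => setB ih a) l

theorem tb_mskOf {l : List ℕ} {a : ℕ} (h : tb (mskOf l) a = true) : a ∈ l := by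
  induction l with
  | nil => exact absurd h (tb_zero a)
  | cons b l ih => exact ((tb_setB _ _ _).1 h).elim (fun e => List.mem_cons_of_mem _ (ih e)) fun e => e ▸ List.mem_cons_self

/-- The check for the presentation number `k`. -/
noncomputable def nodeOK (DB : ℕ → Hdr) (PT : ℕ → List Ins) (k T im zh : ℕ) (c : Node) : Bool :=
  Hdr.casesOn (DB k) fun s n C zs ps ns ops pats => Ar.casesOn (arN T n) fun mu iv on => frc (Nat.pow 2 n) fun h =>
    band (tabOK C T n) (band (zOK ⟨mu, iv, on⟩ h zs im zh) (band (lettersLt h ps) (band (lettersLt h ns)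
      (band (allL ops fun o => band (lettersLt h o.xs) (lettersLt h o.ys)) (frc (mskOf ps) fun pm => frc (mskOf ns) fun nm =>
        runN im c ⟨DB, PT, k, s, ⟨mu, iv, on⟩, n, h, pm, nm, fun a => a, ops, pats, false, []⟩)))))

theorem valid_succ {DB : ℕ → Hdr} {PT : ℕ → List Ins} {k T zh : ℕ} {c : Node} (hc : nodeOK DB PT k T im zh c = true)
    (hv : ∀ j < k, Valid PT t (DB j)) : ∀ j < k + 1, Valid PT t (DB j) := by
  intro j hj
  rcases Nat.lt_succ_iff_lt_or_eq.1 hj with hj | rfl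
  · exact hv j hj
  intro g σ H
  unfold nodeOK at hc
  generalize DB j = H0 at hc H
  obtain ⟨s, n, C, zs, ps, ns, ops, pats⟩ := H0
  dsimp only at hc
  have h1 := fun e => pc0_of_rows (rows_of_tabOK (T := T) e H.rel)
  dsimp only at h1
  generalize arN T n = A at hc h1
  obtain ⟨mu, iv, on⟩ := A
  simp only [frc_eq, band_iff, lettersLt_iff, allL_iff, Nat.pow_eq] at hc
  obtain ⟨h2, h3, h4, h5, h6, h7⟩ := hc
  obtain ⟨h8, h9⟩ := (h1 h2).zOK h3 H.zs
  refine EOK.runN (t := t) (g := g) (σ := σ) ?_ ?_ h7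
  swap
  · exact h9
  refine ⟨hv, H.gl, h8, rfl, fun a ha => ⟨h4 a (tb_mskOf ha), H.ps a (tb_mskOf ha)⟩,
    fun a ha => ⟨h5 a (tb_mskOf ha), H.ns a (tb_mskOf ha)⟩, fun a ha => ⟨ha, IsConj.refl _⟩, fun k => ?_, H.pats, by simp⟩
  have h10 : (∀ a ∈ (nth op0 ops k).xs, a < 2 ^ n) ∧ ∀ a ∈ (nth op0 ops k).ys, a < 2 ^ n := by
    rcases nth_cases op0 ops k with e | e
    · rw [e]; simp [op0]
    · exact h6 _ e
  exact (((List.forall₂_and_left _ _).2 ⟨h10.2, ((List.forall₂_and_left _ _).2 ⟨h10.1, H.ops k⟩).flip⟩).flip).imp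
    fun a b e => ⟨e.2.1, e.1, e.2.2⟩

end Cfsg.Agent.L33
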