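import Mathlib
import Cfsg.Agent.L33.ENode

/-!
The labelled presentations and the patterns.
-/

set_option autoImplicit false
set_option maxRecDepth 100000

namespace Cfsg.Agent.L33.Dat

open Cfsg.Agent.L33

noncomputable def h0 : Hdr :=
  ⟨(nat_lit 5),(nat_lit 8),[[[]],[[nat_lit 0],[]],[[nat_lit 0],[nat_lit 1],[]],[[nat_lit 0],[nat_lit 1,nat_lit 0],[nat_lit 2],[nat_lit 0]],[[nat_lit 0],[nat_lit 1,nat_lit 0],[nat_lit 2,nat_lit 0],[nat_lit 3],[]],[[nat_lit 0],[nat_lit 1],[nat_lit 2,nat_lit 1],[nat_lit 4,nat_lit 1],[nat_lit 3,nat_lit 1],[]],[[nat_lit 0],[nat_lit 1],[nat_lit 4,nat_lit 3,nat_lit 2],[nat_lit 3],[nat_lit 4,nat_lit 0],[nat_lit 5,nat_lit 4,nat_lit 3,nat_lit 1,nat_lit 0],[nat_lit 0]],[[nat_lit 0],[nat_lit 1],[nat_lit 5,nat_lit 1],[nat_lit 6,nat_lit 5,nat_lit 4,nat_lit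 1],[nat_lit 6,nat_lit 5,nat_lit 3,nat_lit 1,nat_lit 0],[nat_lit 2],[nat_lit 6,nat_lit 5,nat_lit 2],[nat_lit 5,nat_lit 2,nat_lit 1]]],[nat_lit 1],[nat_lit 4,nat_lit 14],[],[],nat_lit 0x1114420⟩
noncomputable def h1 : Hdr :=
  ⟨(nat_lit 5),(nat_lit 8),[[[]],[[nat_lit 0],[]],[[nat_lit 0],[nat_lit 1],[]],[[nat_lit 0],[nat_lit 1,nat_lit 0],[nat_lit 2],[nat_lit 0]],[[nat_lit 0],[nat_lit 1,nat_lit 0],[nat_lit 2,nat_lit 0],[nat_lit 3],[]],[[nat_lit 0],[nat_lit 1],[nat_lit 2,nat_lit 1],[nat_lit 4,nat_lit 1],[nat_lit 3,nat_lit 1],[]],[[nat_lit 0],[nat_lit 1],[nat_lit 4,nat_lit 3,nat_lit 2],[nat_lit 3],[nat_lit 4,nat_lit 0],[nat_lit 5,nat_lit 4,nat_lit 3,nat_lit 1,nat_lit 0],[nat_lit 0]],[[nat_lit 0],[nat_lit 1],[nat_lit 5,nat_lit 1],[nat_lit 6,nat_lit 5,nat_lit 4,nat_lit 1],[nat_lit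 6,nat_lit 5,nat_lit 3,nat_lit 1,nat_lit 0],[nat_lit 2],[nat_lit 6,nat_lit 5,nat_lit 2],[nat_lit 5,nat_lit 2,nat_lit 1,nat_lit 0]]],[nat_lit 1],[nat_lit 4,nat_lit 14],[],[],nat_lit 0x1114420⟩
noncomputable def h2 : Hdr :=
  ⟨(nat_lit 5),(nat_lit 8),[[[]],[[nat_lit 0],[]],[[nat_lit 0],[nat_lit 1],[]],[[nat_lit 0],[nat_lit 1,nat_lit 0],[nat_lit 2],[nat_lit 0]],[[nat_lit 0],[nat_lit 1,nat_lit 0],[nat_lit 2,nat_lit 0],[nat_lit 3],[]],[[nat_lit 0],[nat_lit 1],[nat_lit 2,nat_lit 1],[nat_lit 4,nat_lit 1],[nat_lit 3,nat_lit 1],[]],[[nat_lit 0],[nat_lit 1],[nat_lit 4,nat_lit 3,nat_lit 2],[nat_lit 3],[nat_lit 4,nat_lit 0],[nat_lit 5,nat_lit 4,nat_lit 3,nat_lit 1,nat_lit 0],[nat_lit 0]],[[nat_lit 0],[nat_lit 1],[nat_lit 5,nat_lit 1,nat_lit 0],[nat_lit 6,nat_lit 5,nat_lit 4,nat_lit 1,nat_lit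 0],[nat_lit 6,nat_lit 5,nat_lit 3,nat_lit 1],[nat_lit 2,nat_lit 0],[nat_lit 6,nat_lit 5,nat_lit 2],[nat_lit 5,nat_lit 2]]],[nat_lit 1],[nat_lit 4,nat_lit 14],[],[],nat_lit 0x1114420⟩
noncomputable def h3 : Hdr :=
  ⟨(nat_lit 5),(nat_lit 8),[[[]],[[nat_lit 0],[]],[[nat_lit 0],[nat_lit 1],[]],[[nat_lit 0],[nat_lit 1,nat_lit 0],[nat_lit 2],[nat_lit 0]],[[nat_lit 0],[nat_lit 1,nat_lit 0],[nat_lit 2,nat_lit 0],[nat_lit 3],[]],[[nat_lit 0],[nat_lit 1],[nat_lit 2,nat_lit 1],[nat_lit 4,nat_lit 1],[nat_lit 3,nat_lit 1],[]],[[nat_lit 0],[nat_lit 1],[nat_lit 4,nat_lit 3,nat_lit 2],[nat_lit 3],[nat_lit 4,nat_lit 0],[nat_lit 5,nat_lit 4,nat_lit 3,nat_lit 1,nat_lit 0],[nat_lit 0]],[[nat_lit 0],[nat_lit 1],[nat_lit 5,nat_lit 1,nat_lit 0],[nat_lit 6,nat_lit 5,nat_lit 4,nat_lit 1,nat_lit 0],[nat_lit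 6,nat_lit 5,nat_lit 3,nat_lit 1],[nat_lit 2,nat_lit 0],[nat_lit 6,nat_lit 5,nat_lit 2],[nat_lit 5,nat_lit 2,nat_lit 0]]],[nat_lit 1],[nat_lit 4,nat_lit 14],[],[],nat_lit 0x1114420⟩
noncomputable def h4 : Hdr :=
  ⟨(nat_lit 5),(nat_lit 8),[[[]],[[nat_lit 0],[]],[[nat_lit 0],[nat_lit 1],[]],[[nat_lit 0],[nat_lit 1,nat_lit 0],[nat_lit 2],[nat_lit 0]],[[nat_lit 0],[nat_lit 1,nat_lit 0],[nat_lit 2,nat_lit 0],[nat_lit 3],[]],[[nat_lit 0],[nat_lit 1],[nat_lit 2,nat_lit 1],[nat_lit 4,nat_lit 1],[nat_lit 3,nat_lit 1],[]],[[nat_lit 0],[nat_lit 1],[nat_lit 4,nat_lit 3,nat_lit 2],[nat_lit 3],[nat_lit 4,nat_lit 0],[nat_lit 5,nat_lit 4,nat_lit 3,nat_lit 1,nat_lit 0],[nat_lit 0]],[[nat_lit 0],[nat_lit 1],[nat_lit 5,nat_lit 0],[nat_lit 6,nat_lit 4,nat_lit 1,nat_lit 0],[nat_lit 6,nat_lit 3],[nat_lit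 2,nat_lit 0],[nat_lit 6,nat_lit 1],[nat_lit 1]]],[nat_lit 1],[nat_lit 4,nat_lit 14],[],[],nat_lit 0x1114420⟩
noncomputable def h5 : Hdr :=
  ⟨(nat_lit 5),(nat_lit 8),[[[]],[[nat_lit 0],[]],[[nat_lit 0],[nat_lit 1],[]],[[nat_lit 0],[nat_lit 1,nat_lit 0],[nat_lit 2],[nat_lit 0]],[[nat_lit 0],[nat_lit 1,nat_lit 0],[nat_lit 2,nat_lit 0],[nat_lit 3],[]],[[nat_lit 0],[nat_lit 1],[nat_lit 2,nat_lit 1],[nat_lit 4,nat_lit 1],[nat_lit 3,nat_lit 1],[]],[[nat_lit 0],[nat_lit 1],[nat_lit 4,nat_lit 3,nat_lit 2],[nat_lit 3],[nat_lit 4,nat_lit 0],[nat_lit 5,nat_lit 4,nat_lit 3,nat_lit 1,nat_lit 0],[nat_lit 0]],[[nat_lit 0],[nat_lit 1],[nat_lit 5,nat_lit 0],[nat_lit 6,nat_lit 4,nat_lit 1,nat_lit 0],[nat_lit 6,nat_lit 3],[nat_lit 2,nat_lit 0],[nat_lit 6,nat_lit 1],[nat_lit 1,nat_lit 0]]],[nat_lit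 1],[nat_lit 4,nat_lit 14],[],[],nat_lit 0x1114420⟩
noncomputable def h6 : Hdr :=
  ⟨(nat_lit 5),(nat_lit 7),[[[]],[[nat_lit 0],[]],[[nat_lit 0],[nat_lit 1],[]],[[nat_lit 0],[nat_lit 1,nat_lit 0],[nat_lit 2],[nat_lit 0]],[[nat_lit 0],[nat_lit 1,nat_lit 0],[nat_lit 2,nat_lit 0],[nat_lit 3],[]],[[nat_lit 0],[nat_lit 1],[nat_lit 2,nat_lit 1],[nat_lit 4,nat_lit 1],[nat_lit 3,nat_lit 1],[]],[[nat_lit 0],[nat_lit 1],[nat_lit 4,nat_lit 3,nat_lit 2],[nat_lit 3],[nat_lit 4,nat_lit 0],[nat_lit 5,nat_lit 4,nat_lit 3,nat_lit 1,nat_lit 0],[nat_lit 0]]],[nat_lit 1],[nat_lit 4,nat_lit 14],[],[],nat_lit 0x1114420⟩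
noncomputable def h7 : Hdr :=
  ⟨(nat_lit 5),(nat_lit 8),[[[]],[[nat_lit 0],[]],[[nat_lit 0],[nat_lit 1],[]],[[nat_lit 0],[nat_lit 1,nat_lit 0],[nat_lit 2],[nat_lit 0]],[[nat_lit 0],[nat_lit 1,nat_lit 0],[nat_lit 2,nat_lit 0],[nat_lit 3],[]],[[nat_lit 0],[nat_lit 1],[nat_lit 2,nat_lit 1],[nat_lit 4,nat_lit 1],[nat_lit 3,nat_lit 1],[]],[[nat_lit 0],[nat_lit 1],[nat_lit 4,nat_lit 3,nat_lit 2],[nat_lit 3],[nat_lit 4,nat_lit 0],[nat_lit 5,nat_lit 4,nat_lit 3,nat_lit 1],[]],[[nat_lit 0],[nat_lit 1],[nat_lit 5,nat_lit 1,nat_lit 0],[nat_lit 6,nat_lit 4,nat_lit 0],[nat_lit 6,nat_lit 3,nat_lit 1,nat_lit 0],[nat_lit 2,nat_lit 1,nat_lit 0],[nat_lit 6,nat_lit 1],[nat_lit 1]]],[nat_lit 1],[nat_lit 4,nat_lit 14],[],[],nat_lit 0x1114420⟩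
noncomputable def h8 : Hdr :=
  ⟨(nat_lit 5),(nat_lit 8),[[[]],[[nat_lit 0],[]],[[nat_lit 0],[nat_lit 1],[]],[[nat_lit 0],[nat_lit 1,nat_lit 0],[nat_lit 2],[nat_lit 0]],[[nat_lit 0],[nat_lit 1,nat_lit 0],[nat_lit 2,nat_lit 0],[nat_lit 3],[]],[[nat_lit 0],[nat_lit 1],[nat_lit 2,nat_lit 1],[nat_lit 4,nat_lit 1],[nat_lit 3,nat_lit 1],[]],[[nat_lit 0],[nat_lit 1],[nat_lit 4,nat_lit 3,nat_lit 2],[nat_lit 3],[nat_lit 4,nat_lit 0],[nat_lit 5,nat_lit 4,nat_lit 3,nat_lit 1],[]],[[nat_lit 0],[nat_lit 1],[nat_lit 5,nat_lit 1,nat_lit 0],[nat_lit 6,nat_lit 4,nat_lit 0],[nat_lit 6,nat_lit 3,nat_lit 1,nat_lit 0],[nat_lit 2,nat_lit 1,nat_lit 0],[nat_lit 6,nat_lit 1],[nat_lit 1,nat_lit 0]]],[nat_lit 1],[nat_lit 4,nat_lit 14],[],[],nat_lit 0x1114420⟩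
noncomputable def h9 : Hdr :=
  ⟨(nat_lit 5),(nat_lit 7),[[[]],[[nat_lit 0],[]],[[nat_lit 0],[nat_lit 1],[]],[[nat_lit 0],[nat_lit 1,nat_lit 0],[nat_lit 2],[nat_lit 0]],[[nat_lit 0],[nat_lit 1,nat_lit 0],[nat_lit 2,nat_lit 0],[nat_lit 3],[]],[[nat_lit 0],[nat_lit 1],[nat_lit 2,nat_lit 1],[nat_lit 4,nat_lit 1],[nat_lit 3,nat_lit 1],[]],[[nat_lit 0],[nat_lit 1],[nat_lit 4,nat_lit 3,nat_lit 2],[nat_lit 3],[nat_lit 4,nat_lit 0],[nat_lit 5,nat_lit 4,nat_lit 3,nat_lit 1],[]]],[nat_lit 1],[nat_lit 4,nat_lit 14],[],[],nat_lit 0x1114420⟩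
noncomputable def h10 : Hdr :=
  ⟨(nat_lit 5),(nat_lit 6),[[[]],[[nat_lit 0],[]],[[nat_lit 0],[nat_lit 1],[]],[[nat_lit 0],[nat_lit 1,nat_lit 0],[nat_lit 2],[nat_lit 0]],[[nat_lit 0],[nat_lit 1,nat_lit 0],[nat_lit 2,nat_lit 0],[nat_lit 3],[]],[[nat_lit 0],[nat_lit 1],[nat_lit 2,nat_lit 1],[nat_lit 4,nat_lit 1],[nat_lit 3,nat_lit 1],[]]],[nat_lit 1],[nat_lit 4,nat_lit 14],[],[],nat_lit 0x1114420⟩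
noncomputable def h11 : Hdr :=
  ⟨(nat_lit 5),(nat_lit 6),[[[]],[[nat_lit 0],[]],[[nat_lit 0],[nat_lit 1],[]],[[nat_lit 0],[nat_lit 1,nat_lit 0],[nat_lit 2],[nat_lit 0]],[[nat_lit 0],[nat_lit 1,nat_lit 0],[nat_lit 2,nat_lit 0],[nat_lit 3],[]],[[nat_lit 0],[nat_lit 1],[nat_lit 2,nat_lit 1],[nat_lit 4,nat_lit 1],[nat_lit 3,nat_lit 1],[]]],[nat_lit 1],[nat_lit 4,nat_lit 14],[],[⟨[nat_lit 1,nat_lit 2,nat_lit 4],[nat_lit 2,nat_lit 3,nat_lit 4],[]⟩],nat_lit 0x1114420⟩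
noncomputable def h12 : Hdr :=
  ⟨(nat_lit 5),(nat_lit 6),[[[]],[[nat_lit 0],[]],[[nat_lit 0],[nat_lit 1],[]],[[nat_lit 0],[nat_lit 1,nat_lit 0],[nat_lit 2],[nat_lit 0]],[[nat_lit 0],[nat_lit 1,nat_lit 0],[nat_lit 2,nat_lit 0],[nat_lit 3],[]],[[nat_lit 0],[nat_lit 1],[nat_lit 2,nat_lit 1],[nat_lit 4,nat_lit 1],[nat_lit 3,nat_lit 1],[nat_lit 0]]],[nat_lit 1],[nat_lit 4,nat_lit 14],[],[⟨[nat_lit 1,nat_lit 2,nat_lit 4],[nat_lit 2,nat_lit 3,nat_lit 4],[]⟩],nat_lit 0x1114420⟩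
noncomputable def h13 : Hdr :=
  ⟨(nat_lit 5),(nat_lit 7),[[[]],[[nat_lit 0],[]],[[nat_lit 0],[nat_lit 1],[]],[[nat_lit 0],[nat_lit 1,nat_lit 0],[nat_lit 2],[nat_lit 0]],[[nat_lit 0],[nat_lit 1,nat_lit 0],[nat_lit 2,nat_lit 0],[nat_lit 3],[]],[[nat_lit 0],[nat_lit 1],[nat_lit 2,nat_lit 1],[nat_lit 4,nat_lit 2],[nat_lit 3,nat_lit 2,nat_lit 1],[]],[[nat_lit 0],[nat_lit 4,nat_lit 3,nat_lit 2,nat_lit 1],[nat_lit 3,nat_lit 2,nat_lit 1],[nat_lit 4,nat_lit 2],[nat_lit 2,nat_lit 1],[nat_lit 5,nat_lit 4,nat_lit 3,nat_lit 2,nat_lit 1],[nat_lit 4,nat_lit 2,nat_lit 1,nat_lit 0]]],[nat_lit 1],[nat_lit 4],[],[],nat_lit 0x1114420⟩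
noncomputable def h14 : Hdr :=
  ⟨(nat_lit 5),(nat_lit 9),[[[]],[[nat_lit 0],[]],[[nat_lit 0],[nat_lit 1],[]],[[nat_lit 0],[nat_lit 1,nat_lit 0],[nat_lit 2],[nat_lit 0]],[[nat_lit 0],[nat_lit 1,nat_lit 0],[nat_lit 2,nat_lit 0],[nat_lit 3],[]],[[nat_lit 0],[nat_lit 1],[nat_lit 2,nat_lit 1],[nat_lit 4,nat_lit 2],[nat_lit 3,nat_lit 2,nat_lit 1],[]],[[nat_lit 0],[nat_lit 4,nat_lit 3,nat_lit 2,nat_lit 1],[nat_lit 3,nat_lit 2,nat_lit 1],[nat_lit 4,nat_lit 2],[nat_lit 2,nat_lit 1],[nat_lit 5,nat_lit 4,nat_lit 3,nat_lit 2,nat_lit 1],[nat_lit 4,nat_lit 2,nat_lit 1]],[[nat_lit 0],[nat_lit 3,nat_lit 1],[nat_lit 2],[nat_lit 3],[nat_lit 4],[nat_lit 6,nat_lit 4,nat_lit 3,nat_lit 1,nat_lit 0],[nat_lit 5,nat_lit 3,nat_lit 2,nat_lit 1,nat_lit 0],[nat_lit 3]],[[nat_lit 0],[nat_lit 6,nat_lit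 5,nat_lit 4,nat_lit 3,nat_lit 1],[nat_lit 7,nat_lit 4,nat_lit 1],[nat_lit 4,nat_lit 2,nat_lit 0],[nat_lit 7,nat_lit 4,nat_lit 3,nat_lit 1,nat_lit 0],[nat_lit 6,nat_lit 2,nat_lit 1],[nat_lit 7,nat_lit 5,nat_lit 2,nat_lit 0],[nat_lit 7,nat_lit 6,nat_lit 5,nat_lit 3,nat_lit 2],[nat_lit 6,nat_lit 5,nat_lit 4,nat_lit 3]]],[nat_lit 1],[nat_lit 4],[],[],nat_lit 0x1114420⟩
noncomputable def h15 : Hdr :=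
  ⟨(nat_lit 5),(nat_lit 9),[[[]],[[nat_lit 0],[]],[[nat_lit 0],[nat_lit 1],[]],[[nat_lit 0],[nat_lit 1,nat_lit 0],[nat_lit 2],[nat_lit 0]],[[nat_lit 0],[nat_lit 1,nat_lit 0],[nat_lit 2,nat_lit 0],[nat_lit 3],[]],[[nat_lit 0],[nat_lit 1],[nat_lit 2,nat_lit 1],[nat_lit 4,nat_lit 2],[nat_lit 3,nat_lit 2,nat_lit 1],[]],[[nat_lit 0],[nat_lit 4,nat_lit 3,nat_lit 2,nat_lit 1],[nat_lit 3,nat_lit 2,nat_lit 1],[nat_lit 4,nat_lit 2],[nat_lit 2,nat_lit 1],[nat_lit 5,nat_lit 4,nat_lit 3,nat_lit 2,nat_lit 1],[nat_lit 4,nat_lit 2,nat_lit 1]],[[nat_lit 0],[nat_lit 3,nat_lit 1],[nat_lit 2],[nat_lit 3],[nat_lit 4],[nat_lit 6,nat_lit 4,nat_lit 3,nat_lit 1,nat_lit 0],[nat_lit 5,nat_lit 3,nat_lit 2,nat_lit 1,nat_lit 0],[nat_lit 3]],[[nat_lit 0],[nat_lit 6,nat_lit 5,nat_lit 4,nat_lit 3,nat_lit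 1],[nat_lit 7,nat_lit 4,nat_lit 1],[nat_lit 4,nat_lit 2,nat_lit 0],[nat_lit 7,nat_lit 4,nat_lit 3,nat_lit 1,nat_lit 0],[nat_lit 6,nat_lit 2,nat_lit 1],[nat_lit 7,nat_lit 5,nat_lit 2,nat_lit 0],[nat_lit 7,nat_lit 6,nat_lit 5,nat_lit 3,nat_lit 2],[nat_lit 6,nat_lit 5,nat_lit 4,nat_lit 3,nat_lit 0]]],[nat_lit 1],[nat_lit 4],[],[],nat_lit 0x1114420⟩
noncomputable def h16 : Hdr :=
  ⟨(nat_lit 5),(nat_lit 9),[[[]],[[nat_lit 0],[]],[[nat_lit 0],[nat_lit 1],[]],[[nat_lit 0],[nat_lit 1,nat_lit 0],[nat_lit 2],[nat_lit 0]],[[nat_lit 0],[nat_lit 1,nat_lit 0],[nat_lit 2,nat_lit 0],[nat_lit 3],[]],[[nat_lit 0],[nat_lit 1],[nat_lit 2,nat_lit 1],[nat_lit 4,nat_lit 2],[nat_lit 3,nat_lit 2,nat_lit 1],[]],[[nat_lit 0],[nat_lit 4,nat_lit 3,nat_lit 2,nat_lit 1],[nat_lit 3,nat_lit 2,nat_lit 1],[nat_lit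 4,nat_lit 2],[nat_lit 2,nat_lit 1],[nat_lit 5,nat_lit 4,nat_lit 3,nat_lit 2,nat_lit 1],[nat_lit 4,nat_lit 2,nat_lit 1]],[[nat_lit 0],[nat_lit 3,nat_lit 1],[nat_lit 2],[nat_lit 3],[nat_lit 4],[nat_lit 6,nat_lit 4,nat_lit 3,nat_lit 1,nat_lit 0],[nat_lit 5,nat_lit 3,nat_lit 2,nat_lit 1,nat_lit 0],[nat_lit 3]],[[nat_lit 0],[nat_lit 6,nat_lit 5,nat_lit 4,nat_lit 3,nat_lit 1],[nat_lit 7,nat_lit 4,nat_lit 1],[nat_lit 4,nat_lit 2,nat_lit 0],[nat_lit 7,nat_lit 4,nat_lit 3,nat_lit 1,nat_lit 0],[nat_lit 6,nat_lit 2,nat_lit 1,nat_lit 0],[nat_lit 7,nat_lit 5,nat_lit 2],[nat_lit 7,nat_lit 6,nat_lit 5,nat_lit 3,nat_lit 2],[nat_lit 6,nat_lit 5,nat_lit 4,nat_lit 3]]],[nat_lit 1],[nat_lit 4],[],[],nat_lit 0x1114420⟩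
noncomputable def h17 : Hdr :=
  ⟨(nat_lit 5),(nat_lit 9),[[[]],[[nat_lit 0],[]],[[nat_lit 0],[nat_lit 1],[]],[[nat_lit 0],[nat_lit 1,nat_lit 0],[nat_lit 2],[nat_lit 0]],[[nat_lit 0],[nat_lit 1,nat_lit 0],[nat_lit 2,nat_lit 0],[nat_lit 3],[]],[[nat_lit 0],[nat_lit 1],[nat_lit 2,nat_lit 1],[nat_lit 4,nat_lit 2],[nat_lit 3,nat_lit 2,nat_lit 1],[]],[[nat_lit 0],[nat_lit 4,nat_lit 3,nat_lit 2,nat_lit 1],[nat_lit 3,nat_lit 2,nat_lit 1],[nat_lit 4,nat_lit 2],[nat_lit 2,nat_lit 1],[nat_lit 5,nat_lit 4,nat_lit 3,nat_lit 2,nat_lit 1],[nat_lit 4,nat_lit 2,nat_lit 1]],[[nat_lit 0],[nat_lit 3,nat_lit 1],[nat_lit 2],[nat_lit 3],[nat_lit 4],[nat_lit 6,nat_lit 4,nat_lit 3,nat_lit 1,nat_lit 0],[nat_lit 5,nat_lit 3,nat_lit 2,nat_lit 1,nat_lit 0],[nat_lit 3]],[[nat_lit 0],[nat_lit 6,nat_lit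 5,nat_lit 4,nat_lit 3,nat_lit 1],[nat_lit 7,nat_lit 4,nat_lit 1],[nat_lit 4,nat_lit 2,nat_lit 0],[nat_lit 7,nat_lit 4,nat_lit 3,nat_lit 1,nat_lit 0],[nat_lit 6,nat_lit 2,nat_lit 1,nat_lit 0],[nat_lit 7,nat_lit 5,nat_lit 2],[nat_lit 7,nat_lit 6,nat_lit 5,nat_lit 3,nat_lit 2],[nat_lit 6,nat_lit 5,nat_lit 4,nat_lit 3,nat_lit 0]]],[nat_lit 1],[nat_lit 4],[],[],nat_lit 0x1114420⟩
noncomputable def h18 : Hdr :=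
  ⟨(nat_lit 5),(nat_lit 9),[[[]],[[nat_lit 0],[]],[[nat_lit 0],[nat_lit 1],[]],[[nat_lit 0],[nat_lit 1,nat_lit 0],[nat_lit 2],[nat_lit 0]],[[nat_lit 0],[nat_lit 1,nat_lit 0],[nat_lit 2,nat_lit 0],[nat_lit 3],[]],[[nat_lit 0],[nat_lit 1],[nat_lit 2,nat_lit 1],[nat_lit 4,nat_lit 2],[nat_lit 3,nat_lit 2,nat_lit 1],[]],[[nat_lit 0],[nat_lit 4,nat_lit 3,nat_lit 2,nat_lit 1],[nat_lit 3,nat_lit 2,nat_lit 1],[nat_lit 4,nat_lit 2],[nat_lit 2,nat_lit 1],[nat_lit 5,nat_lit 4,nat_lit 3,nat_lit 2,nat_lit 1],[nat_lit 4,nat_lit 2,nat_lit 1]],[[nat_lit 0],[nat_lit 3,nat_lit 1],[nat_lit 2],[nat_lit 3],[nat_lit 4],[nat_lit 6,nat_lit 4,nat_lit 3,nat_lit 1,nat_lit 0],[nat_lit 5,nat_lit 3,nat_lit 2,nat_lit 1,nat_lit 0],[nat_lit 3]],[[nat_lit 0],[nat_lit 6,nat_lit 5,nat_lit 4,nat_lit 3,nat_lit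 1,nat_lit 0],[nat_lit 7,nat_lit 4,nat_lit 1],[nat_lit 4,nat_lit 2,nat_lit 0],[nat_lit 7,nat_lit 4,nat_lit 3,nat_lit 1,nat_lit 0],[nat_lit 6,nat_lit 4,nat_lit 3,nat_lit 1],[nat_lit 7,nat_lit 5,nat_lit 4,nat_lit 3,nat_lit 0],[nat_lit 7,nat_lit 6,nat_lit 5,nat_lit 3,nat_lit 2,nat_lit 0],[nat_lit 6,nat_lit 5,nat_lit 4,nat_lit 3]]],[nat_lit 1],[nat_lit 4],[],[],nat_lit 0x1114420⟩
noncomputable def h19 : Hdr :=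
  ⟨(nat_lit 5),(nat_lit 9),[[[]],[[nat_lit 0],[]],[[nat_lit 0],[nat_lit 1],[]],[[nat_lit 0],[nat_lit 1,nat_lit 0],[nat_lit 2],[nat_lit 0]],[[nat_lit 0],[nat_lit 1,nat_lit 0],[nat_lit 2,nat_lit 0],[nat_lit 3],[]],[[nat_lit 0],[nat_lit 1],[nat_lit 2,nat_lit 1],[nat_lit 4,nat_lit 2],[nat_lit 3,nat_lit 2,nat_lit 1],[]],[[nat_lit 0],[nat_lit 4,nat_lit 3,nat_lit 2,nat_lit 1],[nat_lit 3,nat_lit 2,nat_lit 1],[nat_lit 4,nat_lit 2],[nat_lit 2,nat_lit 1],[nat_lit 5,nat_lit 4,nat_lit 3,nat_lit 2,nat_lit 1],[nat_lit 4,nat_lit 2,nat_lit 1]],[[nat_lit 0],[nat_lit 3,nat_lit 1],[nat_lit 2],[nat_lit 3],[nat_lit 4],[nat_lit 6,nat_lit 4,nat_lit 3,nat_lit 1,nat_lit 0],[nat_lit 5,nat_lit 3,nat_lit 2,nat_lit 1,nat_lit 0],[nat_lit 3]],[[nat_lit 0],[nat_lit 6,nat_lit 5,nat_lit 4,nat_lit 3,nat_lit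 1,nat_lit 0],[nat_lit 7,nat_lit 4,nat_lit 1],[nat_lit 4,nat_lit 2,nat_lit 0],[nat_lit 7,nat_lit 4,nat_lit 3,nat_lit 1,nat_lit 0],[nat_lit 6,nat_lit 4,nat_lit 3,nat_lit 1],[nat_lit 7,nat_lit 5,nat_lit 4,nat_lit 3,nat_lit 0],[nat_lit 7,nat_lit 6,nat_lit 5,nat_lit 3,nat_lit 2,nat_lit 0],[nat_lit 6,nat_lit 5,nat_lit 4,nat_lit 3,nat_lit 0]]],[nat_lit 1],[nat_lit 4],[],[],nat_lit 0x1114420⟩
noncomputable def h20 : Hdr :=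
  ⟨(nat_lit 5),(nat_lit 9),[[[]],[[nat_lit 0],[]],[[nat_lit 0],[nat_lit 1],[]],[[nat_lit 0],[nat_lit 1,nat_lit 0],[nat_lit 2],[nat_lit 0]],[[nat_lit 0],[nat_lit 1,nat_lit 0],[nat_lit 2,nat_lit 0],[nat_lit 3],[]],[[nat_lit 0],[nat_lit 1],[nat_lit 2,nat_lit 1],[nat_lit 4,nat_lit 2],[nat_lit 3,nat_lit 2,nat_lit 1],[]],[[nat_lit 0],[nat_lit 4,nat_lit 3,nat_lit 2,nat_lit 1],[nat_lit 3,nat_lit 2,nat_lit 1],[nat_lit 4,nat_lit 2],[nat_lit 2,nat_lit 1],[nat_lit 5,nat_lit 4,nat_lit 3,nat_lit 2,nat_lit 1],[nat_lit 4,nat_lit 2,nat_lit 1]],[[nat_lit 0],[nat_lit 3,nat_lit 1],[nat_lit 2],[nat_lit 3],[nat_lit 4],[nat_lit 6,nat_lit 4,nat_lit 3,nat_lit 1,nat_lit 0],[nat_lit 5,nat_lit 3,nat_lit 2,nat_lit 1,nat_lit 0],[nat_lit 3]],[[nat_lit 0],[nat_lit 6,nat_lit 5,nat_lit 4,nat_lit 3,nat_lit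 1,nat_lit 0],[nat_lit 7,nat_lit 4,nat_lit 1],[nat_lit 4,nat_lit 2,nat_lit 0],[nat_lit 7,nat_lit 4,nat_lit 3,nat_lit 1,nat_lit 0],[nat_lit 6,nat_lit 4,nat_lit 3,nat_lit 1,nat_lit 0],[nat_lit 7,nat_lit 5,nat_lit 4,nat_lit 3],[nat_lit 7,nat_lit 6,nat_lit 5,nat_lit 3,nat_lit 2,nat_lit 0],[nat_lit 6,nat_lit 5,nat_lit 4,nat_lit 3]]],[nat_lit 1],[nat_lit 4],[],[],nat_lit 0x1114420⟩
noncomputable def h21 : Hdr :=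
  ⟨(nat_lit 5),(nat_lit 9),[[[]],[[nat_lit 0],[]],[[nat_lit 0],[nat_lit 1],[]],[[nat_lit 0],[nat_lit 1,nat_lit 0],[nat_lit 2],[nat_lit 0]],[[nat_lit 0],[nat_lit 1,nat_lit 0],[nat_lit 2,nat_lit 0],[nat_lit 3],[]],[[nat_lit 0],[nat_lit 1],[nat_lit 2,nat_lit 1],[nat_lit 4,nat_lit 2],[nat_lit 3,nat_lit 2,nat_lit 1],[]],[[nat_lit 0],[nat_lit 4,nat_lit 3,nat_lit 2,nat_lit 1],[nat_lit 3,nat_lit 2,nat_lit 1],[nat_lit 4,nat_lit 2],[nat_lit 2,nat_lit 1],[nat_lit 5,nat_lit 4,nat_lit 3,nat_lit 2,nat_lit 1],[nat_lit 4,nat_lit 2,nat_lit 1]],[[nat_lit 0],[nat_lit 3,nat_lit 1],[nat_lit 2],[nat_lit 3],[nat_lit 4],[nat_lit 6,nat_lit 4,nat_lit 3,nat_lit 1,nat_lit 0],[nat_lit 5,nat_lit 3,nat_lit 2,nat_lit 1,nat_lit 0],[nat_lit 3]],[[nat_lit 0],[nat_lit 6,nat_lit 5,nat_lit 4,nat_lit 3,nat_lit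 1,nat_lit 0],[nat_lit 7,nat_lit 4,nat_lit 1],[nat_lit 4,nat_lit 2,nat_lit 0],[nat_lit 7,nat_lit 4,nat_lit 3,nat_lit 1,nat_lit 0],[nat_lit 6,nat_lit 4,nat_lit 3,nat_lit 1,nat_lit 0],[nat_lit 7,nat_lit 5,nat_lit 4,nat_lit 3],[nat_lit 7,nat_lit 6,nat_lit 5,nat_lit 3,nat_lit 2,nat_lit 0],[nat_lit 6,nat_lit 5,nat_lit 4,nat_lit 3,nat_lit 0]]],[nat_lit 1],[nat_lit 4],[],[],nat_lit 0x1114420⟩
noncomputable def h22 : Hdr :=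
  ⟨(nat_lit 5),(nat_lit 8),[[[]],[[nat_lit 0],[]],[[nat_lit 0],[nat_lit 1],[]],[[nat_lit 0],[nat_lit 1,nat_lit 0],[nat_lit 2],[nat_lit 0]],[[nat_lit 0],[nat_lit 1,nat_lit 0],[nat_lit 2,nat_lit 0],[nat_lit 3],[]],[[nat_lit 0],[nat_lit 1],[nat_lit 2,nat_lit 1],[nat_lit 4,nat_lit 2],[nat_lit 3,nat_lit 2,nat_lit 1],[]],[[nat_lit 0],[nat_lit 4,nat_lit 3,nat_lit 2,nat_lit 1],[nat_lit 3,nat_lit 2,nat_lit 1],[nat_lit 4,nat_lit 2],[nat_lit 2,nat_lit 1],[nat_lit 5,nat_lit 4,nat_lit 3,nat_lit 2,nat_lit 1],[nat_lit 4,nat_lit 2,nat_lit 1]],[[nat_lit 0],[nat_lit 3,nat_lit 1],[nat_lit 2],[nat_lit 3],[nat_lit 4],[nat_lit 6,nat_lit 4,nat_lit 3,nat_lit 1,nat_lit 0],[nat_lit 5,nat_lit 3,nat_lit 2,nat_lit 1,nat_lit 0],[nat_lit 3]]],[nat_lit 1],[nat_lit 4],[],[],nat_lit 0x1114420⟩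
noncomputable def h23 : Hdr :=
  ⟨(nat_lit 5),(nat_lit 7),[[[]],[[nat_lit 0],[]],[[nat_lit 0],[nat_lit 1],[]],[[nat_lit 0],[nat_lit 1,nat_lit 0],[nat_lit 2],[nat_lit 0]],[[nat_lit 0],[nat_lit 1,nat_lit 0],[nat_lit 2,nat_lit 0],[nat_lit 3],[]],[[nat_lit 0],[nat_lit 1],[nat_lit 2,nat_lit 1],[nat_lit 4,nat_lit 2],[nat_lit 3,nat_lit 2,nat_lit 1],[]],[[nat_lit 0],[nat_lit 4,nat_lit 3,nat_lit 2,nat_lit 1],[nat_lit 3,nat_lit 2,nat_lit 1],[nat_lit 4,nat_lit 2],[nat_lit 2,nat_lit 1],[nat_lit 5,nat_lit 4,nat_lit 3,nat_lit 2,nat_lit 1],[nat_lit 4,nat_lit 2,nat_lit 1]]],[nat_lit 1],[nat_lit 4],[],[],nat_lit 0x1114420⟩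
noncomputable def h24 : Hdr :=
  ⟨(nat_lit 5),(nat_lit 7),[[[]],[[nat_lit 0],[]],[[nat_lit 0],[nat_lit 1],[]],[[nat_lit 0],[nat_lit 1,nat_lit 0],[nat_lit 2],[nat_lit 0]],[[nat_lit 0],[nat_lit 1,nat_lit 0],[nat_lit 2,nat_lit 0],[nat_lit 3],[]],[[nat_lit 0],[nat_lit 1],[nat_lit 2,nat_lit 1],[nat_lit 4,nat_lit 2],[nat_lit 3,nat_lit 2,nat_lit 1],[]],[[nat_lit 0],[nat_lit 4,nat_lit 3,nat_lit 2,nat_lit 1],[nat_lit 3,nat_lit 2,nat_lit 1],[nat_lit 4,nat_lit 2],[nat_lit 2,nat_lit 1],[nat_lit 5,nat_lit 4,nat_lit 3,nat_lit 2,nat_lit 1,nat_lit 0],[nat_lit 4,nat_lit 2,nat_lit 1,nat_lit 0]]],[nat_lit 1],[nat_lit 4],[],[],nat_lit 0x1114420⟩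
noncomputable def h25 : Hdr :=
  ⟨(nat_lit 5),(nat_lit 8),[[[]],[[nat_lit 0],[]],[[nat_lit 0],[nat_lit 1],[]],[[nat_lit 0],[nat_lit 1,nat_lit 0],[nat_lit 2],[nat_lit 0]],[[nat_lit 0],[nat_lit 1,nat_lit 0],[nat_lit 2,nat_lit 0],[nat_lit 3],[]],[[nat_lit 0],[nat_lit 1],[nat_lit 2,nat_lit 1],[nat_lit 4,nat_lit 2],[nat_lit 3,nat_lit 2,nat_lit 1],[]],[[nat_lit 0],[nat_lit 4,nat_lit 3,nat_lit 2,nat_lit 1],[nat_lit 3,nat_lit 2,nat_lit 1],[nat_lit 4,nat_lit 2],[nat_lit 2,nat_lit 1],[nat_lit 5,nat_lit 4,nat_lit 3,nat_lit 2,nat_lit 1,nat_lit 0],[nat_lit 4,nat_lit 2,nat_lit 1]],[[nat_lit 0],[nat_lit 3,nat_lit 1],[nat_lit 2],[nat_lit 3],[nat_lit 4],[nat_lit 6,nat_lit 4,nat_lit 3,nat_lit 1,nat_lit 0],[nat_lit 5,nat_lit 3,nat_lit 2,nat_lit 1,nat_lit 0],[nat_lit 3]]],[nat_lit 1],[nat_lit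 4],[],[],nat_lit 0x1114420⟩
noncomputable def h26 : Hdr :=
  ⟨(nat_lit 5),(nat_lit 7),[[[]],[[nat_lit 0],[]],[[nat_lit 0],[nat_lit 1],[]],[[nat_lit 0],[nat_lit 1,nat_lit 0],[nat_lit 2],[nat_lit 0]],[[nat_lit 0],[nat_lit 1,nat_lit 0],[nat_lit 2,nat_lit 0],[nat_lit 3],[]],[[nat_lit 0],[nat_lit 1],[nat_lit 2,nat_lit 1],[nat_lit 4,nat_lit 2],[nat_lit 3,nat_lit 2,nat_lit 1],[]],[[nat_lit 0],[nat_lit 4,nat_lit 3,nat_lit 2,nat_lit 1],[nat_lit 3,nat_lit 2,nat_lit 1],[nat_lit 4,nat_lit 2],[nat_lit 2,nat_lit 1],[nat_lit 5,nat_lit 4,nat_lit 3,nat_lit 2,nat_lit 1,nat_lit 0],[nat_lit 4,nat_lit 2,nat_lit 1]]],[nat_lit 1],[nat_lit 4],[],[],nat_lit 0x1114420⟩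
noncomputable def h27 : Hdr :=
  ⟨(nat_lit 5),(nat_lit 6),[[[]],[[nat_lit 0],[]],[[nat_lit 0],[nat_lit 1],[]],[[nat_lit 0],[nat_lit 1,nat_lit 0],[nat_lit 2],[nat_lit 0]],[[nat_lit 0],[nat_lit 1,nat_lit 0],[nat_lit 2,nat_lit 0],[nat_lit 3],[]],[[nat_lit 0],[nat_lit 1],[nat_lit 2,nat_lit 1],[nat_lit 4,nat_lit 2],[nat_lit 3,nat_lit 2,nat_lit 1],[]]],[nat_lit 1],[nat_lit 4,nat_lit 14],[],[],nat_lit 0x1114420⟩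
noncomputable def h28 : Hdr :=
  ⟨(nat_lit 5),(nat_lit 6),[[[]],[[nat_lit 0],[]],[[nat_lit 0],[nat_lit 1],[]],[[nat_lit 0],[nat_lit 1,nat_lit 0],[nat_lit 2],[nat_lit 0]],[[nat_lit 0],[nat_lit 1,nat_lit 0],[nat_lit 2,nat_lit 0],[nat_lit 3],[]],[[nat_lit 0],[nat_lit 1],[nat_lit 2,nat_lit 1],[nat_lit 4,nat_lit 2],[nat_lit 3,nat_lit 2,nat_lit 1],[]]],[nat_lit 1],[nat_lit 4,nat_lit 14],[],[⟨[nat_lit 1,nat_lit 2,nat_lit 4],[nat_lit 2,nat_lit 3,nat_lit 4],[]⟩],nat_lit 0x1114420⟩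
noncomputable def h29 : Hdr :=
  ⟨(nat_lit 5),(nat_lit 6),[[[]],[[nat_lit 0],[]],[[nat_lit 0],[nat_lit 1],[]],[[nat_lit 0],[nat_lit 1,nat_lit 0],[nat_lit 2],[nat_lit 0]],[[nat_lit 0],[nat_lit 1,nat_lit 0],[nat_lit 2,nat_lit 0],[nat_lit 3],[]],[[nat_lit 0],[nat_lit 1],[nat_lit 2,nat_lit 1],[nat_lit 4,nat_lit 2],[nat_lit 3,nat_lit 2,nat_lit 1],[nat_lit 0]]],[nat_lit 1],[nat_lit 4,nat_lit 14],[],[⟨[nat_lit 1,nat_lit 2,nat_lit 4],[nat_lit 2,nat_lit 3,nat_lit 4],[]⟩],nat_lit 0x1114420⟩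
noncomputable def h30 : Hdr :=
  ⟨(nat_lit 5),(nat_lit 5),[[[]],[[nat_lit 0],[]],[[nat_lit 0],[nat_lit 1],[]],[[nat_lit 0],[nat_lit 1,nat_lit 0],[nat_lit 2],[nat_lit 0]],[[nat_lit 0],[nat_lit 1,nat_lit 0],[nat_lit 2,nat_lit 0],[nat_lit 3],[]]],[nat_lit 1],[nat_lit 4,nat_lit 14],[],[⟨[nat_lit 1,nat_lit 2,nat_lit 4],[nat_lit 2,nat_lit 3,nat_lit 4],[]⟩],nat_lit 0x1114420⟩
noncomputable def h31 : Hdr :=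
  ⟨(nat_lit 5),(nat_lit 6),[[[]],[[nat_lit 0],[nat_lit 0]],[[nat_lit 0],[nat_lit 1],[nat_lit 1]],[[nat_lit 0],[nat_lit 1,nat_lit 0],[nat_lit 2,nat_lit 1],[]],[[nat_lit 0],[nat_lit 1],[nat_lit 2],[nat_lit 3],[]],[[nat_lit 0],[nat_lit 1],[nat_lit 2,nat_lit 0],[nat_lit 3,nat_lit 0],[nat_lit 4,nat_lit 0],[]]],[nat_lit 1],[nat_lit 16],[],[⟨[nat_lit 1,nat_lit 8,nat_lit 16],[nat_lit 8,nat_lit 9,nat_lit 16],[nat_lit 0,nat_lit 1,nat_lit 8,nat_lit 9,nat_lit 16,nat_lit 17,nat_lit 24,nat_lit 25]⟩],nat_lit 0x1114420⟩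
noncomputable def h32 : Hdr :=
  ⟨(nat_lit 5),(nat_lit 5),[[[]],[[nat_lit 0],[nat_lit 0]],[[nat_lit 0],[nat_lit 1],[nat_lit 1]],[[nat_lit 0],[nat_lit 1,nat_lit 0],[nat_lit 2,nat_lit 1],[]],[[nat_lit 0],[nat_lit 1],[nat_lit 2],[nat_lit 3],[]]],[nat_lit 1,nat_lit 16,nat_lit 17],[nat_lit 16,nat_lit 17],[nat_lit 1],[⟨[nat_lit 1,nat_lit 8,nat_lit 16],[nat_lit 8,nat_lit 9,nat_lit 16],[nat_lit 0,nat_lit 1,nat_lit 8,nat_lit 9,nat_lit 16,nat_lit 17,nat_lit 24,nat_lit 25]⟩,⟨[nat_lit 1,nat_lit 2,nat_lit 14,nat_lit 16],[nat_lit 1,nat_lit 14,nat_lit 12,nat_lit 16],[nat_lit 0,nat_lit 1,nat_lit 2,nat_lit 3,nat_lit 14,nat_lit 15,nat_lit 13,nat_lit 12,nat_lit 16,nat_lit 17,nat_lit 18,nat_lit 19,nat_lit 30,nat_lit 31,nat_lit 29,nat_lit 28]⟩],nat_lit 0x1114420⟩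
noncomputable def h33 : Hdr :=
  ⟨(nat_lit 5),(nat_lit 5),[[[]],[[nat_lit 0],[nat_lit 0]],[[nat_lit 0],[nat_lit 1],[nat_lit 1]],[[nat_lit 0],[nat_lit 1,nat_lit 0],[nat_lit 2,nat_lit 1],[]],[[nat_lit 0],[nat_lit 1],[nat_lit 2],[nat_lit 3],[]]],[nat_lit 1,nat_lit 16,nat_lit 17],[nat_lit 16,nat_lit 17],[nat_lit 1],[⟨[nat_lit 1,nat_lit 8,nat_lit 16],[nat_lit 8,nat_lit 9,nat_lit 16],[nat_lit 0,nat_lit 1,nat_lit 8,nat_lit 9,nat_lit 16,nat_lit 17,nat_lit 24,nat_lit 25]⟩,⟨[nat_lit 1,nat_lit 2,nat_lit 14,nat_lit 16],[nat_lit 1,nat_lit 14,nat_lit 12,nat_lit 16],[nat_lit 0,nat_lit 1,nat_lit 2,nat_lit 3,nat_lit 14,nat_lit 15,nat_lit 13,nat_lit 12,nat_lit 16,nat_lit 17,nat_lit 18,nat_lit 19,nat_lit 30,nat_lit 31,nat_lit 29,nat_lit 28]⟩],nat_lit 0x0⟩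
noncomputable def h34 : Hdr :=
  ⟨(nat_lit 5),(nat_lit 5),[[[]],[[nat_lit 0],[nat_lit 0]],[[nat_lit 0],[nat_lit 1],[nat_lit 1]],[[nat_lit 0],[nat_lit 1,nat_lit 0],[nat_lit 2,nat_lit 1],[]],[[nat_lit 0],[nat_lit 1],[nat_lit 2],[nat_lit 3],[]]],[nat_lit 1,nat_lit 16,nat_lit 17],[nat_lit 16],[],[⟨[nat_lit 1,nat_lit 8,nat_lit 16],[nat_lit 8,nat_lit 9,nat_lit 16],[nat_lit 0,nat_lit 1,nat_lit 8,nat_lit 9,nat_lit 16,nat_lit 17,nat_lit 24,nat_lit 25]⟩,⟨[nat_lit 1,nat_lit 2,nat_lit 14,nat_lit 16],[nat_lit 1,nat_lit 14,nat_lit 12,nat_lit 16],[nat_lit 0,nat_lit 1,nat_lit 2,nat_lit 3,nat_lit 14,nat_lit 15,nat_lit 13,nat_lit 12,nat_lit 16,nat_lit 17,nat_lit 18,nat_lit 19,nat_lit 30,nat_lit 31,nat_lit 29,nat_lit 28]⟩],nat_lit 0x0⟩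
noncomputable def h35 : Hdr :=
  ⟨(nat_lit 6),(nat_lit 8),[[[]],[[nat_lit 0],[]],[[nat_lit 0],[nat_lit 1],[]],[[nat_lit 0],[nat_lit 1],[nat_lit 2],[]],[[nat_lit 0],[nat_lit 1,nat_lit 0],[nat_lit 2],[nat_lit 3],[nat_lit 0]],[[nat_lit 0],[nat_lit 1],[nat_lit 2,nat_lit 0],[nat_lit 3,nat_lit 0],[nat_lit 4],[]],[[nat_lit 0],[nat_lit 1],[nat_lit 2,nat_lit 1],[nat_lit 3,nat_lit 1],[nat_lit 5,nat_lit 4,nat_lit 3,nat_lit 2],[nat_lit 5,nat_lit 0],[nat_lit 1]],[[nat_lit 0],[nat_lit 5,nat_lit 3,nat_lit 2,nat_lit 1],[nat_lit 4,nat_lit 2,nat_lit 1,nat_lit 0],[nat_lit 4,nat_lit 3,nat_lit 1],[nat_lit 5,nat_lit 4,nat_lit 3,nat_lit 2],[nat_lit 5],[nat_lit 6,nat_lit 5,nat_lit 4,nat_lit 3,nat_lit 2,nat_lit 0],[nat_lit 4,nat_lit 1]]],[nat_lit 1],[nat_lit 8],[],[],nat_lit 0x22089c1⟩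
noncomputable def h36 : Hdr :=
  ⟨(nat_lit 6),(nat_lit 10),[[[]],[[nat_lit 0],[]],[[nat_lit 0],[nat_lit 1],[]],[[nat_lit 0],[nat_lit 1],[nat_lit 2],[]],[[nat_lit 0],[nat_lit 1,nat_lit 0],[nat_lit 2],[nat_lit 3],[nat_lit 0]],[[nat_lit 0],[nat_lit 1],[nat_lit 2,nat_lit 0],[nat_lit 3,nat_lit 0],[nat_lit 4],[]],[[nat_lit 0],[nat_lit 1],[nat_lit 2,nat_lit 1],[nat_lit 3,nat_lit 1],[nat_lit 5,nat_lit 4,nat_lit 3,nat_lit 2],[nat_lit 5,nat_lit 0],[nat_lit 1]],[[nat_lit 0],[nat_lit 5,nat_lit 3,nat_lit 2,nat_lit 1],[nat_lit 4,nat_lit 2,nat_lit 1],[nat_lit 4,nat_lit 3,nat_lit 1],[nat_lit 5,nat_lit 4,nat_lit 3,nat_lit 2],[nat_lit 5],[nat_lit 6,nat_lit 4,nat_lit 1],[]],[[nat_lit 0],[nat_lit 4,nat_lit 1],[nat_lit 2,nat_lit 0],[nat_lit 3],[nat_lit 4],[nat_lit 5],[nat_lit 7,nat_lit 3,nat_lit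 0],[nat_lit 6,nat_lit 5,nat_lit 2,nat_lit 0],[nat_lit 4,nat_lit 0]],[[nat_lit 0],[nat_lit 7,nat_lit 6,nat_lit 5,nat_lit 2,nat_lit 0],[nat_lit 8,nat_lit 1,nat_lit 0],[nat_lit 8,nat_lit 5,nat_lit 1],[nat_lit 5,nat_lit 4,nat_lit 3,nat_lit 2],[nat_lit 3,nat_lit 2],[nat_lit 8,nat_lit 6,nat_lit 2,nat_lit 1,nat_lit 0],[nat_lit 7,nat_lit 5,nat_lit 4,nat_lit 3,nat_lit 2,nat_lit 1,nat_lit 0],[nat_lit 7,nat_lit 6,nat_lit 4,nat_lit 3,nat_lit 2],[nat_lit 8,nat_lit 2,nat_lit 1,nat_lit 0]]],[nat_lit 1],[nat_lit 8],[],[],nat_lit 0x22089c1⟩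
noncomputable def h37 : Hdr :=
  ⟨(nat_lit 6),(nat_lit 10),[[[]],[[nat_lit 0],[]],[[nat_lit 0],[nat_lit 1],[]],[[nat_lit 0],[nat_lit 1],[nat_lit 2],[]],[[nat_lit 0],[nat_lit 1,nat_lit 0],[nat_lit 2],[nat_lit 3],[nat_lit 0]],[[nat_lit 0],[nat_lit 1],[nat_lit 2,nat_lit 0],[nat_lit 3,nat_lit 0],[nat_lit 4],[]],[[nat_lit 0],[nat_lit 1],[nat_lit 2,nat_lit 1],[nat_lit 3,nat_lit 1],[nat_lit 5,nat_lit 4,nat_lit 3,nat_lit 2],[nat_lit 5,nat_lit 0],[nat_lit 1]],[[nat_lit 0],[nat_lit 5,nat_lit 3,nat_lit 2,nat_lit 1],[nat_lit 4,nat_lit 2,nat_lit 1],[nat_lit 4,nat_lit 3,nat_lit 1],[nat_lit 5,nat_lit 4,nat_lit 3,nat_lit 2],[nat_lit 5],[nat_lit 6,nat_lit 4,nat_lit 1],[]],[[nat_lit 0],[nat_lit 4,nat_lit 1],[nat_lit 2,nat_lit 0],[nat_lit 3],[nat_lit 4],[nat_lit 5],[nat_lit 7,nat_lit 3,nat_lit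 0],[nat_lit 6,nat_lit 5,nat_lit 2,nat_lit 0],[nat_lit 4,nat_lit 0]],[[nat_lit 0],[nat_lit 7,nat_lit 6,nat_lit 5,nat_lit 2,nat_lit 0],[nat_lit 8,nat_lit 1,nat_lit 0],[nat_lit 8,nat_lit 5,nat_lit 1],[nat_lit 5,nat_lit 4,nat_lit 3,nat_lit 2],[nat_lit 3,nat_lit 2],[nat_lit 8,nat_lit 6,nat_lit 2,nat_lit 1,nat_lit 0],[nat_lit 7,nat_lit 5,nat_lit 4,nat_lit 3,nat_lit 2,nat_lit 1,nat_lit 0],[nat_lit 7,nat_lit 6,nat_lit 4,nat_lit 3,nat_lit 2],[nat_lit 8,nat_lit 2,nat_lit 1]]],[nat_lit 1],[nat_lit 8],[],[],nat_lit 0x22089c1⟩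
noncomputable def h38 : Hdr :=
  ⟨(nat_lit 6),(nat_lit 10),[[[]],[[nat_lit 0],[]],[[nat_lit 0],[nat_lit 1],[]],[[nat_lit 0],[nat_lit 1],[nat_lit 2],[]],[[nat_lit 0],[nat_lit 1,nat_lit 0],[nat_lit 2],[nat_lit 3],[nat_lit 0]],[[nat_lit 0],[nat_lit 1],[nat_lit 2,nat_lit 0],[nat_lit 3,nat_lit 0],[nat_lit 4],[]],[[nat_lit 0],[nat_lit 1],[nat_lit 2,nat_lit 1],[nat_lit 3,nat_lit 1],[nat_lit 5,nat_lit 4,nat_lit 3,nat_lit 2],[nat_lit 5,nat_lit 0],[nat_lit 1]],[[nat_lit 0],[nat_lit 5,nat_lit 3,nat_lit 2,nat_lit 1],[nat_lit 4,nat_lit 2,nat_lit 1],[nat_lit 4,nat_lit 3,nat_lit 1],[nat_lit 5,nat_lit 4,nat_lit 3,nat_lit 2],[nat_lit 5],[nat_lit 6,nat_lit 4,nat_lit 1],[]],[[nat_lit 0],[nat_lit 4,nat_lit 1],[nat_lit 2,nat_lit 0],[nat_lit 3],[nat_lit 4],[nat_lit 5],[nat_lit 7,nat_lit 3,nat_lit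 0],[nat_lit 6,nat_lit 5,nat_lit 2,nat_lit 0],[nat_lit 4,nat_lit 0]],[[nat_lit 0],[nat_lit 7,nat_lit 6,nat_lit 5,nat_lit 2,nat_lit 0],[nat_lit 8,nat_lit 1,nat_lit 0],[nat_lit 8,nat_lit 5,nat_lit 1],[nat_lit 5,nat_lit 4,nat_lit 3,nat_lit 2],[nat_lit 3,nat_lit 2],[nat_lit 8,nat_lit 6,nat_lit 2,nat_lit 1],[nat_lit 7,nat_lit 5,nat_lit 4,nat_lit 3,nat_lit 2,nat_lit 1],[nat_lit 7,nat_lit 6,nat_lit 4,nat_lit 3,nat_lit 2],[nat_lit 8,nat_lit 2,nat_lit 1,nat_lit 0]]],[nat_lit 1],[nat_lit 8],[],[],nat_lit 0x22089c1⟩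
noncomputable def h39 : Hdr :=
  ⟨(nat_lit 6),(nat_lit 10),[[[]],[[nat_lit 0],[]],[[nat_lit 0],[nat_lit 1],[]],[[nat_lit 0],[nat_lit 1],[nat_lit 2],[]],[[nat_lit 0],[nat_lit 1,nat_lit 0],[nat_lit 2],[nat_lit 3],[nat_lit 0]],[[nat_lit 0],[nat_lit 1],[nat_lit 2,nat_lit 0],[nat_lit 3,nat_lit 0],[nat_lit 4],[]],[[nat_lit 0],[nat_lit 1],[nat_lit 2,nat_lit 1],[nat_lit 3,nat_lit 1],[nat_lit 5,nat_lit 4,nat_lit 3,nat_lit 2],[nat_lit 5,nat_lit 0],[nat_lit 1]],[[nat_lit 0],[nat_lit 5,nat_lit 3,nat_lit 2,nat_lit 1],[nat_lit 4,nat_lit 2,nat_lit 1],[nat_lit 4,nat_lit 3,nat_lit 1],[nat_lit 5,nat_lit 4,nat_lit 3,nat_lit 2],[nat_lit 5],[nat_lit 6,nat_lit 4,nat_lit 1],[]],[[nat_lit 0],[nat_lit 4,nat_lit 1],[nat_lit 2,nat_lit 0],[nat_lit 3],[nat_lit 4],[nat_lit 5],[nat_lit 7,nat_lit 3,nat_lit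 0],[nat_lit 6,nat_lit 5,nat_lit 2,nat_lit 0],[nat_lit 4,nat_lit 0]],[[nat_lit 0],[nat_lit 7,nat_lit 6,nat_lit 5,nat_lit 2,nat_lit 0],[nat_lit 8,nat_lit 1,nat_lit 0],[nat_lit 8,nat_lit 5,nat_lit 1],[nat_lit 5,nat_lit 4,nat_lit 3,nat_lit 2],[nat_lit 3,nat_lit 2],[nat_lit 8,nat_lit 6,nat_lit 2,nat_lit 1],[nat_lit 7,nat_lit 5,nat_lit 4,nat_lit 3,nat_lit 2,nat_lit 1],[nat_lit 7,nat_lit 6,nat_lit 4,nat_lit 3,nat_lit 2],[nat_lit 8,nat_lit 2,nat_lit 1]]],[nat_lit 1],[nat_lit 8],[],[],nat_lit 0x22089c1⟩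
noncomputable def h40 : Hdr :=
  ⟨(nat_lit 6),(nat_lit 10),[[[]],[[nat_lit 0],[]],[[nat_lit 0],[nat_lit 1],[]],[[nat_lit 0],[nat_lit 1],[nat_lit 2],[]],[[nat_lit 0],[nat_lit 1,nat_lit 0],[nat_lit 2],[nat_lit 3],[nat_lit 0]],[[nat_lit 0],[nat_lit 1],[nat_lit 2,nat_lit 0],[nat_lit 3,nat_lit 0],[nat_lit 4],[]],[[nat_lit 0],[nat_lit 1],[nat_lit 2,nat_lit 1],[nat_lit 3,nat_lit 1],[nat_lit 5,nat_lit 4,nat_lit 3,nat_lit 2],[nat_lit 5,nat_lit 0],[nat_lit 1]],[[nat_lit 0],[nat_lit 5,nat_lit 3,nat_lit 2,nat_lit 1],[nat_lit 4,nat_lit 2,nat_lit 1],[nat_lit 4,nat_lit 3,nat_lit 1],[nat_lit 5,nat_lit 4,nat_lit 3,nat_lit 2],[nat_lit 5],[nat_lit 6,nat_lit 4,nat_lit 1],[]],[[nat_lit 0],[nat_lit 4,nat_lit 1],[nat_lit 2,nat_lit 0],[nat_lit 3],[nat_lit 4],[nat_lit 5],[nat_lit 7,nat_lit 3,nat_lit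 0],[nat_lit 6,nat_lit 5,nat_lit 2,nat_lit 0],[nat_lit 4,nat_lit 0]],[[nat_lit 0],[nat_lit 7,nat_lit 6,nat_lit 4,nat_lit 3],[nat_lit 8,nat_lit 1,nat_lit 0],[nat_lit 8,nat_lit 5,nat_lit 1],[nat_lit 5,nat_lit 4,nat_lit 3,nat_lit 2],[nat_lit 3,nat_lit 2],[nat_lit 8,nat_lit 7,nat_lit 4,nat_lit 3,nat_lit 2],[nat_lit 6,nat_lit 5,nat_lit 2,nat_lit 0],[nat_lit 7,nat_lit 6,nat_lit 4,nat_lit 3,nat_lit 2],[nat_lit 8,nat_lit 7,nat_lit 6,nat_lit 5,nat_lit 4]]],[nat_lit 1],[nat_lit 8],[],[],nat_lit 0x22089c1⟩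
noncomputable def h41 : Hdr :=
  ⟨(nat_lit 6),(nat_lit 10),[[[]],[[nat_lit 0],[]],[[nat_lit 0],[nat_lit 1],[]],[[nat_lit 0],[nat_lit 1],[nat_lit 2],[]],[[nat_lit 0],[nat_lit 1,nat_lit 0],[nat_lit 2],[nat_lit 3],[nat_lit 0]],[[nat_lit 0],[nat_lit 1],[nat_lit 2,nat_lit 0],[nat_lit 3,nat_lit 0],[nat_lit 4],[]],[[nat_lit 0],[nat_lit 1],[nat_lit 2,nat_lit 1],[nat_lit 3,nat_lit 1],[nat_lit 5,nat_lit 4,nat_lit 3,nat_lit 2],[nat_lit 5,nat_lit 0],[nat_lit 1]],[[nat_lit 0],[nat_lit 5,nat_lit 3,nat_lit 2,nat_lit 1],[nat_lit 4,nat_lit 2,nat_lit 1],[nat_lit 4,nat_lit 3,nat_lit 1],[nat_lit 5,nat_lit 4,nat_lit 3,nat_lit 2],[nat_lit 5],[nat_lit 6,nat_lit 4,nat_lit 1],[]],[[nat_lit 0],[nat_lit 4,nat_lit 1],[nat_lit 2,nat_lit 0],[nat_lit 3],[nat_lit 4],[nat_lit 5],[nat_lit 7,nat_lit 3,nat_lit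 0],[nat_lit 6,nat_lit 5,nat_lit 2,nat_lit 0],[nat_lit 4,nat_lit 0]],[[nat_lit 0],[nat_lit 7,nat_lit 6,nat_lit 4,nat_lit 3],[nat_lit 8,nat_lit 1,nat_lit 0],[nat_lit 8,nat_lit 5,nat_lit 1],[nat_lit 5,nat_lit 4,nat_lit 3,nat_lit 2],[nat_lit 3,nat_lit 2],[nat_lit 8,nat_lit 7,nat_lit 4,nat_lit 3,nat_lit 2],[nat_lit 6,nat_lit 5,nat_lit 2,nat_lit 0],[nat_lit 7,nat_lit 6,nat_lit 4,nat_lit 3,nat_lit 2],[nat_lit 8,nat_lit 7,nat_lit 6,nat_lit 5,nat_lit 4,nat_lit 0]]],[nat_lit 1],[nat_lit 8],[],[],nat_lit 0x22089c1⟩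
noncomputable def h42 : Hdr :=
  ⟨(nat_lit 6),(nat_lit 9),[[[]],[[nat_lit 0],[]],[[nat_lit 0],[nat_lit 1],[]],[[nat_lit 0],[nat_lit 1],[nat_lit 2],[]],[[nat_lit 0],[nat_lit 1,nat_lit 0],[nat_lit 2],[nat_lit 3],[nat_lit 0]],[[nat_lit 0],[nat_lit 1],[nat_lit 2,nat_lit 0],[nat_lit 3,nat_lit 0],[nat_lit 4],[]],[[nat_lit 0],[nat_lit 1],[nat_lit 2,nat_lit 1],[nat_lit 3,nat_lit 1],[nat_lit 5,nat_lit 4,nat_lit 3,nat_lit 2],[nat_lit 5,nat_lit 0],[nat_lit 1]],[[nat_lit 0],[nat_lit 5,nat_lit 3,nat_lit 2,nat_lit 1],[nat_lit 4,nat_lit 2,nat_lit 1],[nat_lit 4,nat_lit 3,nat_lit 1],[nat_lit 5,nat_lit 4,nat_lit 3,nat_lit 2],[nat_lit 5],[nat_lit 6,nat_lit 4,nat_lit 1],[]],[[nat_lit 0],[nat_lit 4,nat_lit 1],[nat_lit 2,nat_lit 0],[nat_lit 3],[nat_lit 4],[nat_lit 5],[nat_lit 7,nat_lit 3,nat_lit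 0],[nat_lit 6,nat_lit 5,nat_lit 2,nat_lit 0],[nat_lit 4,nat_lit 0]]],[nat_lit 1],[nat_lit 8],[],[],nat_lit 0x22089c1⟩
noncomputable def h43 : Hdr :=
  ⟨(nat_lit 6),(nat_lit 8),[[[]],[[nat_lit 0],[]],[[nat_lit 0],[nat_lit 1],[]],[[nat_lit 0],[nat_lit 1],[nat_lit 2],[]],[[nat_lit 0],[nat_lit 1,nat_lit 0],[nat_lit 2],[nat_lit 3],[nat_lit 0]],[[nat_lit 0],[nat_lit 1],[nat_lit 2,nat_lit 0],[nat_lit 3,nat_lit 0],[nat_lit 4],[]],[[nat_lit 0],[nat_lit 1],[nat_lit 2,nat_lit 1],[nat_lit 3,nat_lit 1],[nat_lit 5,nat_lit 4,nat_lit 3,nat_lit 2],[nat_lit 5,nat_lit 0],[nat_lit 1]],[[nat_lit 0],[nat_lit 5,nat_lit 3,nat_lit 2,nat_lit 1],[nat_lit 4,nat_lit 2,nat_lit 1],[nat_lit 4,nat_lit 3,nat_lit 1],[nat_lit 5,nat_lit 4,nat_lit 3,nat_lit 2],[nat_lit 5],[nat_lit 6,nat_lit 4,nat_lit 1],[]]],[nat_lit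 1,nat_lit 12,nat_lit 13],[nat_lit 8],[],[],nat_lit 0x22089c1⟩
noncomputable def h44 : Hdr :=
  ⟨(nat_lit 6),(nat_lit 8),[[[]],[[nat_lit 0],[]],[[nat_lit 0],[nat_lit 1],[]],[[nat_lit 0],[nat_lit 1],[nat_lit 2],[]],[[nat_lit 0],[nat_lit 1,nat_lit 0],[nat_lit 2],[nat_lit 3],[nat_lit 0]],[[nat_lit 0],[nat_lit 1],[nat_lit 2,nat_lit 0],[nat_lit 3,nat_lit 0],[nat_lit 4],[]],[[nat_lit 0],[nat_lit 1],[nat_lit 2,nat_lit 1],[nat_lit 3,nat_lit 1],[nat_lit 5,nat_lit 4,nat_lit 3,nat_lit 2],[nat_lit 5,nat_lit 0],[nat_lit 1]],[[nat_lit 0],[nat_lit 5,nat_lit 3,nat_lit 2,nat_lit 1],[nat_lit 4,nat_lit 2,nat_lit 1],[nat_lit 4,nat_lit 3,nat_lit 1],[nat_lit 5,nat_lit 4,nat_lit 3,nat_lit 2],[nat_lit 5],[nat_lit 6,nat_lit 4,nat_lit 1],[nat_lit 0]]],[nat_lit 1,nat_lit 12,nat_lit 13],[nat_lit 8],[],[],nat_lit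 0x22089c1⟩
noncomputable def h45 : Hdr :=
  ⟨(nat_lit 6),(nat_lit 8),[[[]],[[nat_lit 0],[]],[[nat_lit 0],[nat_lit 1],[]],[[nat_lit 0],[nat_lit 1],[nat_lit 2],[]],[[nat_lit 0],[nat_lit 1,nat_lit 0],[nat_lit 2],[nat_lit 3],[nat_lit 0]],[[nat_lit 0],[nat_lit 1],[nat_lit 2,nat_lit 0],[nat_lit 3,nat_lit 0],[nat_lit 4],[]],[[nat_lit 0],[nat_lit 1],[nat_lit 2,nat_lit 1],[nat_lit 3,nat_lit 1],[nat_lit 5,nat_lit 4,nat_lit 3,nat_lit 2],[nat_lit 5,nat_lit 0],[nat_lit 1]],[[nat_lit 0],[nat_lit 5,nat_lit 3,nat_lit 2,nat_lit 1],[nat_lit 4,nat_lit 2,nat_lit 1],[nat_lit 4,nat_lit 3,nat_lit 1],[nat_lit 5,nat_lit 4,nat_lit 3,nat_lit 2],[nat_lit 5],[nat_lit 6,nat_lit 4,nat_lit 1],[nat_lit 3,nat_lit 2]]],[nat_lit 1,nat_lit 12,nat_lit 13],[nat_lit 8],[],[],nat_lit 0x22089c1⟩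
noncomputable def h46 : Hdr :=
  ⟨(nat_lit 6),(nat_lit 9),[[[]],[[nat_lit 0],[]],[[nat_lit 0],[nat_lit 1],[]],[[nat_lit 0],[nat_lit 1],[nat_lit 2],[]],[[nat_lit 0],[nat_lit 1,nat_lit 0],[nat_lit 2],[nat_lit 3],[nat_lit 0]],[[nat_lit 0],[nat_lit 1],[nat_lit 2,nat_lit 0],[nat_lit 3,nat_lit 0],[nat_lit 4],[]],[[nat_lit 0],[nat_lit 1],[nat_lit 2,nat_lit 1],[nat_lit 3,nat_lit 1],[nat_lit 5,nat_lit 4,nat_lit 3,nat_lit 2],[nat_lit 5,nat_lit 0],[nat_lit 1]],[[nat_lit 0],[nat_lit 5,nat_lit 3,nat_lit 2,nat_lit 1],[nat_lit 4,nat_lit 2,nat_lit 1],[nat_lit 4,nat_lit 3,nat_lit 1],[nat_lit 5,nat_lit 4,nat_lit 3,nat_lit 2],[nat_lit 5],[nat_lit 6,nat_lit 4,nat_lit 1,nat_lit 0],[]],[[nat_lit 0],[nat_lit 4,nat_lit 1],[nat_lit 2,nat_lit 0],[nat_lit 3],[nat_lit 4],[nat_lit 5],[nat_lit 7,nat_lit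 3,nat_lit 0],[nat_lit 6,nat_lit 5,nat_lit 2,nat_lit 0],[nat_lit 4,nat_lit 0]]],[nat_lit 1],[nat_lit 8],[],[],nat_lit 0x22089c1⟩
noncomputable def h47 : Hdr :=
  ⟨(nat_lit 6),(nat_lit 8),[[[]],[[nat_lit 0],[]],[[nat_lit 0],[nat_lit 1],[]],[[nat_lit 0],[nat_lit 1],[nat_lit 2],[]],[[nat_lit 0],[nat_lit 1,nat_lit 0],[nat_lit 2],[nat_lit 3],[nat_lit 0]],[[nat_lit 0],[nat_lit 1],[nat_lit 2,nat_lit 0],[nat_lit 3,nat_lit 0],[nat_lit 4],[]],[[nat_lit 0],[nat_lit 1],[nat_lit 2,nat_lit 1],[nat_lit 3,nat_lit 1],[nat_lit 5,nat_lit 4,nat_lit 3,nat_lit 2],[nat_lit 5,nat_lit 0],[nat_lit 1]],[[nat_lit 0],[nat_lit 5,nat_lit 3,nat_lit 2,nat_lit 1],[nat_lit 4,nat_lit 2,nat_lit 1],[nat_lit 4,nat_lit 3,nat_lit 1],[nat_lit 5,nat_lit 4,nat_lit 3,nat_lit 2],[nat_lit 5],[nat_lit 6,nat_lit 4,nat_lit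 1,nat_lit 0],[]]],[nat_lit 1,nat_lit 12,nat_lit 13],[nat_lit 8],[],[],nat_lit 0x22089c1⟩
noncomputable def h48 : Hdr :=
  ⟨(nat_lit 6),(nat_lit 8),[[[]],[[nat_lit 0],[]],[[nat_lit 0],[nat_lit 1],[]],[[nat_lit 0],[nat_lit 1],[nat_lit 2],[]],[[nat_lit 0],[nat_lit 1,nat_lit 0],[nat_lit 2],[nat_lit 3],[nat_lit 0]],[[nat_lit 0],[nat_lit 1],[nat_lit 2,nat_lit 0],[nat_lit 3,nat_lit 0],[nat_lit 4],[]],[[nat_lit 0],[nat_lit 1],[nat_lit 2,nat_lit 1],[nat_lit 3,nat_lit 1],[nat_lit 5,nat_lit 4,nat_lit 3,nat_lit 2],[nat_lit 5,nat_lit 0],[nat_lit 1]],[[nat_lit 0],[nat_lit 5,nat_lit 3,nat_lit 2,nat_lit 1],[nat_lit 4,nat_lit 2,nat_lit 1],[nat_lit 4,nat_lit 3,nat_lit 1],[nat_lit 5,nat_lit 4,nat_lit 3,nat_lit 2],[nat_lit 5],[nat_lit 6,nat_lit 4,nat_lit 1,nat_lit 0],[nat_lit 0]]],[nat_lit 1,nat_lit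 12,nat_lit 13],[nat_lit 8],[],[],nat_lit 0x22089c1⟩
noncomputable def h49 : Hdr :=
  ⟨(nat_lit 6),(nat_lit 8),[[[]],[[nat_lit 0],[]],[[nat_lit 0],[nat_lit 1],[]],[[nat_lit 0],[nat_lit 1],[nat_lit 2],[]],[[nat_lit 0],[nat_lit 1,nat_lit 0],[nat_lit 2],[nat_lit 3],[nat_lit 0]],[[nat_lit 0],[nat_lit 1],[nat_lit 2,nat_lit 0],[nat_lit 3,nat_lit 0],[nat_lit 4],[]],[[nat_lit 0],[nat_lit 1],[nat_lit 2,nat_lit 1],[nat_lit 3,nat_lit 1],[nat_lit 5,nat_lit 4,nat_lit 3,nat_lit 2],[nat_lit 5,nat_lit 0],[nat_lit 1]],[[nat_lit 0],[nat_lit 5,nat_lit 3,nat_lit 2,nat_lit 1],[nat_lit 4,nat_lit 2,nat_lit 1],[nat_lit 4,nat_lit 3,nat_lit 1],[nat_lit 5,nat_lit 4,nat_lit 3,nat_lit 2],[nat_lit 5],[nat_lit 6,nat_lit 4,nat_lit 1,nat_lit 0],[nat_lit 3,nat_lit 2]]],[nat_lit 1,nat_lit 12,nat_lit 13],[nat_lit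 8],[],[],nat_lit 0x22089c1⟩
noncomputable def h50 : Hdr :=
  ⟨(nat_lit 6),(nat_lit 8),[[[]],[[nat_lit 0],[]],[[nat_lit 0],[nat_lit 1],[]],[[nat_lit 0],[nat_lit 1],[nat_lit 2],[]],[[nat_lit 0],[nat_lit 1,nat_lit 0],[nat_lit 2],[nat_lit 3],[nat_lit 0]],[[nat_lit 0],[nat_lit 1],[nat_lit 2,nat_lit 0],[nat_lit 3,nat_lit 0],[nat_lit 4],[]],[[nat_lit 0],[nat_lit 1],[nat_lit 2,nat_lit 1],[nat_lit 3,nat_lit 1],[nat_lit 5,nat_lit 4,nat_lit 3,nat_lit 2],[nat_lit 5,nat_lit 0],[nat_lit 1]],[[nat_lit 0],[nat_lit 5,nat_lit 3,nat_lit 2,nat_lit 1],[nat_lit 4,nat_lit 2,nat_lit 1],[nat_lit 4,nat_lit 3,nat_lit 1],[nat_lit 5,nat_lit 4,nat_lit 3,nat_lit 2],[nat_lit 5],[nat_lit 6,nat_lit 4,nat_lit 3,nat_lit 2,nat_lit 1,nat_lit 0],[]]],[nat_lit 1,nat_lit 12,nat_lit 13],[nat_lit 8],[],[],nat_lit 0x22089c1⟩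
noncomputable def h51 : Hdr :=
  ⟨(nat_lit 6),(nat_lit 8),[[[]],[[nat_lit 0],[]],[[nat_lit 0],[nat_lit 1],[]],[[nat_lit 0],[nat_lit 1],[nat_lit 2],[]],[[nat_lit 0],[nat_lit 1,nat_lit 0],[nat_lit 2],[nat_lit 3],[nat_lit 0]],[[nat_lit 0],[nat_lit 1],[nat_lit 2,nat_lit 0],[nat_lit 3,nat_lit 0],[nat_lit 4],[]],[[nat_lit 0],[nat_lit 1],[nat_lit 2,nat_lit 1],[nat_lit 3,nat_lit 1],[nat_lit 5,nat_lit 4,nat_lit 3,nat_lit 2],[nat_lit 5,nat_lit 0],[nat_lit 1]],[[nat_lit 0],[nat_lit 5,nat_lit 3,nat_lit 2,nat_lit 1],[nat_lit 4,nat_lit 2,nat_lit 1],[nat_lit 4,nat_lit 3,nat_lit 1],[nat_lit 5,nat_lit 4,nat_lit 3,nat_lit 2],[nat_lit 5],[nat_lit 6,nat_lit 4,nat_lit 3,nat_lit 2,nat_lit 1,nat_lit 0],[nat_lit 0]]],[nat_lit 1,nat_lit 12,nat_lit 13],[nat_lit 8],[],[],nat_lit 0x22089c1⟩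
noncomputable def h52 : Hdr :=
  ⟨(nat_lit 6),(nat_lit 8),[[[]],[[nat_lit 0],[]],[[nat_lit 0],[nat_lit 1],[]],[[nat_lit 0],[nat_lit 1],[nat_lit 2],[]],[[nat_lit 0],[nat_lit 1,nat_lit 0],[nat_lit 2],[nat_lit 3],[nat_lit 0]],[[nat_lit 0],[nat_lit 1],[nat_lit 2,nat_lit 0],[nat_lit 3,nat_lit 0],[nat_lit 4],[]],[[nat_lit 0],[nat_lit 1],[nat_lit 2,nat_lit 1],[nat_lit 3,nat_lit 1],[nat_lit 5,nat_lit 4,nat_lit 3,nat_lit 2],[nat_lit 5,nat_lit 0],[nat_lit 1]],[[nat_lit 0],[nat_lit 5,nat_lit 3,nat_lit 2,nat_lit 1],[nat_lit 4,nat_lit 2,nat_lit 1],[nat_lit 4,nat_lit 3,nat_lit 1],[nat_lit 5,nat_lit 4,nat_lit 3,nat_lit 2],[nat_lit 5],[nat_lit 6,nat_lit 4,nat_lit 3,nat_lit 2,nat_lit 1,nat_lit 0],[nat_lit 3,nat_lit 2,nat_lit 0]]],[nat_lit 1,nat_lit 12,nat_lit 13],[nat_lit 8],[],[],nat_lit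 0x22089c1⟩
noncomputable def h53 : Hdr :=
  ⟨(nat_lit 6),(nat_lit 8),[[[]],[[nat_lit 0],[]],[[nat_lit 0],[nat_lit 1],[]],[[nat_lit 0],[nat_lit 1],[nat_lit 2],[]],[[nat_lit 0],[nat_lit 1,nat_lit 0],[nat_lit 2],[nat_lit 3],[nat_lit 0]],[[nat_lit 0],[nat_lit 1],[nat_lit 2,nat_lit 0],[nat_lit 3,nat_lit 0],[nat_lit 4],[]],[[nat_lit 0],[nat_lit 1],[nat_lit 2,nat_lit 1],[nat_lit 3,nat_lit 1],[nat_lit 5,nat_lit 4,nat_lit 3,nat_lit 2],[nat_lit 5,nat_lit 0],[nat_lit 1]],[[nat_lit 0],[nat_lit 5,nat_lit 3,nat_lit 2,nat_lit 1],[nat_lit 4,nat_lit 2,nat_lit 1],[nat_lit 4,nat_lit 3,nat_lit 1],[nat_lit 5,nat_lit 4,nat_lit 3,nat_lit 2],[nat_lit 5],[nat_lit 6,nat_lit 4,nat_lit 3,nat_lit 2,nat_lit 1,nat_lit 0],[nat_lit 3,nat_lit 2]]],[nat_lit 1,nat_lit 12,nat_lit 13],[nat_lit 8],[],[],nat_lit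 0x22089c1⟩
noncomputable def h54 : Hdr :=
  ⟨(nat_lit 6),(nat_lit 7),[[[]],[[nat_lit 0],[]],[[nat_lit 0],[nat_lit 1],[]],[[nat_lit 0],[nat_lit 1],[nat_lit 2],[]],[[nat_lit 0],[nat_lit 1,nat_lit 0],[nat_lit 2],[nat_lit 3],[nat_lit 0]],[[nat_lit 0],[nat_lit 1],[nat_lit 2,nat_lit 0],[nat_lit 3,nat_lit 0],[nat_lit 4],[]],[[nat_lit 0],[nat_lit 1],[nat_lit 2,nat_lit 1],[nat_lit 3,nat_lit 1],[nat_lit 5,nat_lit 4,nat_lit 3,nat_lit 2],[nat_lit 5,nat_lit 0],[nat_lit 1]]],[nat_lit 1,nat_lit 12,nat_lit 13],[nat_lit 8,nat_lit 26],[],[],nat_lit 0x22089c1⟩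
noncomputable def h55 : Hdr :=
  ⟨(nat_lit 6),(nat_lit 7),[[[]],[[nat_lit 0],[]],[[nat_lit 0],[nat_lit 1],[]],[[nat_lit 0],[nat_lit 1],[nat_lit 2],[]],[[nat_lit 0],[nat_lit 1,nat_lit 0],[nat_lit 2],[nat_lit 3],[nat_lit 0]],[[nat_lit 0],[nat_lit 1],[nat_lit 2,nat_lit 0],[nat_lit 3,nat_lit 0],[nat_lit 4],[]],[[nat_lit 0],[nat_lit 1],[nat_lit 2,nat_lit 1],[nat_lit 3,nat_lit 1],[nat_lit 5,nat_lit 4,nat_lit 3,nat_lit 2],[nat_lit 5,nat_lit 0],[nat_lit 1]]],[nat_lit 1,nat_lit 12,nat_lit 13],[nat_lit 8,nat_lit 26],[],[⟨[nat_lit 1,nat_lit 2,nat_lit 4,nat_lit 8],[nat_lit 2,nat_lit 3,nat_lit 4,nat_lit 8],[]⟩],nat_lit 0x22089c1⟩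
noncomputable def h56 : Hdr :=
  ⟨(nat_lit 6),(nat_lit 7),[[[]],[[nat_lit 0],[]],[[nat_lit 0],[nat_lit 1],[]],[[nat_lit 0],[nat_lit 1],[nat_lit 2],[]],[[nat_lit 0],[nat_lit 1,nat_lit 0],[nat_lit 2],[nat_lit 3],[nat_lit 0]],[[nat_lit 0],[nat_lit 1],[nat_lit 2,nat_lit 0],[nat_lit 3,nat_lit 0],[nat_lit 4],[]],[[nat_lit 0],[nat_lit 1],[nat_lit 2,nat_lit 1],[nat_lit 3,nat_lit 1],[nat_lit 5,nat_lit 4,nat_lit 3,nat_lit 2],[nat_lit 5,nat_lit 0],[nat_lit 1,nat_lit 0]]],[nat_lit 1,nat_lit 12,nat_lit 13],[nat_lit 8,nat_lit 26],[],[⟨[nat_lit 1,nat_lit 2,nat_lit 4,nat_lit 8],[nat_lit 2,nat_lit 3,nat_lit 4,nat_lit 8],[]⟩],nat_lit 0x22089c1⟩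
noncomputable def h57 : Hdr :=
  ⟨(nat_lit 6),(nat_lit 7),[[[]],[[nat_lit 0],[]],[[nat_lit 0],[nat_lit 1],[]],[[nat_lit 0],[nat_lit 1],[nat_lit 2],[]],[[nat_lit 0],[nat_lit 1,nat_lit 0],[nat_lit 2],[nat_lit 3],[nat_lit 0]],[[nat_lit 0],[nat_lit 1],[nat_lit 2,nat_lit 0],[nat_lit 3,nat_lit 0],[nat_lit 4],[]],[[nat_lit 0],[nat_lit 1],[nat_lit 2,nat_lit 1],[nat_lit 3,nat_lit 1],[nat_lit 5,nat_lit 4,nat_lit 3,nat_lit 2],[nat_lit 5,nat_lit 0],[nat_lit 3,nat_lit 2,nat_lit 1]]],[nat_lit 1,nat_lit 12,nat_lit 13],[nat_lit 8,nat_lit 26],[],[⟨[nat_lit 1,nat_lit 2,nat_lit 4,nat_lit 8],[nat_lit 2,nat_lit 3,nat_lit 4,nat_lit 8],[]⟩],nat_lit 0x22089c1⟩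
noncomputable def h58 : Hdr :=
  ⟨(nat_lit 6),(nat_lit 7),[[[]],[[nat_lit 0],[]],[[nat_lit 0],[nat_lit 1],[]],[[nat_lit 0],[nat_lit 1],[nat_lit 2],[]],[[nat_lit 0],[nat_lit 1,nat_lit 0],[nat_lit 2],[nat_lit 3],[nat_lit 0]],[[nat_lit 0],[nat_lit 1],[nat_lit 2,nat_lit 0],[nat_lit 3,nat_lit 0],[nat_lit 4],[]],[[nat_lit 0],[nat_lit 1],[nat_lit 2,nat_lit 1],[nat_lit 3,nat_lit 1],[nat_lit 5,nat_lit 4,nat_lit 3,nat_lit 2],[nat_lit 5,nat_lit 0],[nat_lit 3,nat_lit 2,nat_lit 1,nat_lit 0]]],[nat_lit 1,nat_lit 12,nat_lit 13],[nat_lit 8,nat_lit 26],[],[⟨[nat_lit 1,nat_lit 2,nat_lit 4,nat_lit 8],[nat_lit 2,nat_lit 3,nat_lit 4,nat_lit 8],[]⟩],nat_lit 0x22089c1⟩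
noncomputable def h59 : Hdr :=
  ⟨(nat_lit 6),(nat_lit 7),[[[]],[[nat_lit 0],[]],[[nat_lit 0],[nat_lit 1],[]],[[nat_lit 0],[nat_lit 1],[nat_lit 2],[]],[[nat_lit 0],[nat_lit 1,nat_lit 0],[nat_lit 2],[nat_lit 3],[nat_lit 0]],[[nat_lit 0],[nat_lit 1],[nat_lit 2,nat_lit 0],[nat_lit 3,nat_lit 0],[nat_lit 4],[]],[[nat_lit 0],[nat_lit 1],[nat_lit 2,nat_lit 1,nat_lit 0],[nat_lit 3,nat_lit 1],[nat_lit 5,nat_lit 4,nat_lit 3,nat_lit 2],[nat_lit 5,nat_lit 0],[]]],[nat_lit 1],[nat_lit 8,nat_lit 26],[],[⟨[nat_lit 1,nat_lit 2,nat_lit 4,nat_lit 8],[nat_lit 2,nat_lit 3,nat_lit 4,nat_lit 8],[]⟩],nat_lit 0x22089c1⟩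
noncomputable def h60 : Hdr :=
  ⟨(nat_lit 6),(nat_lit 9),[[[]],[[nat_lit 0],[]],[[nat_lit 0],[nat_lit 1],[]],[[nat_lit 0],[nat_lit 1],[nat_lit 2],[]],[[nat_lit 0],[nat_lit 1,nat_lit 0],[nat_lit 2],[nat_lit 3],[nat_lit 0]],[[nat_lit 0],[nat_lit 1],[nat_lit 2,nat_lit 0],[nat_lit 3,nat_lit 0],[nat_lit 4],[]],[[nat_lit 0],[nat_lit 1],[nat_lit 2,nat_lit 1],[nat_lit 3,nat_lit 1],[nat_lit 5,nat_lit 4,nat_lit 3,nat_lit 1],[nat_lit 5,nat_lit 1,nat_lit 0],[]],[[nat_lit 0],[nat_lit 1],[nat_lit 5,nat_lit 3,nat_lit 2,nat_lit 0],[nat_lit 5],[nat_lit 4],[nat_lit 3],[nat_lit 6,nat_lit 5,nat_lit 3,nat_lit 1],[]],[[nat_lit 0],[nat_lit 1],[nat_lit 6,nat_lit 1],[nat_lit 6,nat_lit 3,nat_lit 2],[nat_lit 7,nat_lit 6,nat_lit 5,nat_lit 4,nat_lit 2,nat_lit 1],[nat_lit 6,nat_lit 5,nat_lit 2,nat_lit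 0],[nat_lit 2],[nat_lit 7,nat_lit 6,nat_lit 2,nat_lit 1],[nat_lit 6,nat_lit 2,nat_lit 1]]],[nat_lit 1],[nat_lit 8,nat_lit 26],[],[],nat_lit 0x22089c1⟩
noncomputable def h61 : Hdr :=
  ⟨(nat_lit 6),(nat_lit 9),[[[]],[[nat_lit 0],[]],[[nat_lit 0],[nat_lit 1],[]],[[nat_lit 0],[nat_lit 1],[nat_lit 2],[]],[[nat_lit 0],[nat_lit 1,nat_lit 0],[nat_lit 2],[nat_lit 3],[nat_lit 0]],[[nat_lit 0],[nat_lit 1],[nat_lit 2,nat_lit 0],[nat_lit 3,nat_lit 0],[nat_lit 4],[]],[[nat_lit 0],[nat_lit 1],[nat_lit 2,nat_lit 1],[nat_lit 3,nat_lit 1],[nat_lit 5,nat_lit 4,nat_lit 3,nat_lit 1],[nat_lit 5,nat_lit 1,nat_lit 0],[]],[[nat_lit 0],[nat_lit 1],[nat_lit 5,nat_lit 3,nat_lit 2,nat_lit 0],[nat_lit 5],[nat_lit 4],[nat_lit 3],[nat_lit 6,nat_lit 5,nat_lit 3,nat_lit 1],[]],[[nat_lit 0],[nat_lit 1],[nat_lit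 6,nat_lit 1],[nat_lit 6,nat_lit 3,nat_lit 2],[nat_lit 7,nat_lit 6,nat_lit 5,nat_lit 4,nat_lit 2,nat_lit 1],[nat_lit 6,nat_lit 5,nat_lit 2,nat_lit 0],[nat_lit 2],[nat_lit 7,nat_lit 6,nat_lit 2,nat_lit 1],[nat_lit 6,nat_lit 2,nat_lit 1,nat_lit 0]]],[nat_lit 1],[nat_lit 8,nat_lit 26],[],[],nat_lit 0x22089c1⟩
noncomputable def h62 : Hdr :=
  ⟨(nat_lit 6),(nat_lit 9),[[[]],[[nat_lit 0],[]],[[nat_lit 0],[nat_lit 1],[]],[[nat_lit 0],[nat_lit 1],[nat_lit 2],[]],[[nat_lit 0],[nat_lit 1,nat_lit 0],[nat_lit 2],[nat_lit 3],[nat_lit 0]],[[nat_lit 0],[nat_lit 1],[nat_lit 2,nat_lit 0],[nat_lit 3,nat_lit 0],[nat_lit 4],[]],[[nat_lit 0],[nat_lit 1],[nat_lit 2,nat_lit 1],[nat_lit 3,nat_lit 1],[nat_lit 5,nat_lit 4,nat_lit 3,nat_lit 1],[nat_lit 5,nat_lit 1,nat_lit 0],[]],[[nat_lit 0],[nat_lit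 1],[nat_lit 5,nat_lit 3,nat_lit 2,nat_lit 0],[nat_lit 5],[nat_lit 4],[nat_lit 3],[nat_lit 6,nat_lit 5,nat_lit 3,nat_lit 1],[]],[[nat_lit 0],[nat_lit 1],[nat_lit 6,nat_lit 5,nat_lit 3],[nat_lit 6,nat_lit 5,nat_lit 2,nat_lit 1],[nat_lit 7,nat_lit 6,nat_lit 4,nat_lit 3,nat_lit 2,nat_lit 0],[nat_lit 6,nat_lit 3,nat_lit 2,nat_lit 1],[nat_lit 5,nat_lit 3,nat_lit 2,nat_lit 1,nat_lit 0],[nat_lit 7,nat_lit 6,nat_lit 5,nat_lit 3,nat_lit 2,nat_lit 0],[nat_lit 6,nat_lit 5,nat_lit 3,nat_lit 2]]],[nat_lit 1],[nat_lit 8,nat_lit 26],[],[],nat_lit 0x22089c1⟩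
noncomputable def h63 : Hdr :=
  ⟨(nat_lit 6),(nat_lit 9),[[[]],[[nat_lit 0],[]],[[nat_lit 0],[nat_lit 1],[]],[[nat_lit 0],[nat_lit 1],[nat_lit 2],[]],[[nat_lit 0],[nat_lit 1,nat_lit 0],[nat_lit 2],[nat_lit 3],[nat_lit 0]],[[nat_lit 0],[nat_lit 1],[nat_lit 2,nat_lit 0],[nat_lit 3,nat_lit 0],[nat_lit 4],[]],[[nat_lit 0],[nat_lit 1],[nat_lit 2,nat_lit 1],[nat_lit 3,nat_lit 1],[nat_lit 5,nat_lit 4,nat_lit 3,nat_lit 1],[nat_lit 5,nat_lit 1,nat_lit 0],[]],[[nat_lit 0],[nat_lit 1],[nat_lit 5,nat_lit 3,nat_lit 2,nat_lit 0],[nat_lit 5],[nat_lit 4],[nat_lit 3],[nat_lit 6,nat_lit 5,nat_lit 3,nat_lit 1],[]],[[nat_lit 0],[nat_lit 1],[nat_lit 6,nat_lit 5,nat_lit 3],[nat_lit 6,nat_lit 5,nat_lit 2,nat_lit 1],[nat_lit 7,nat_lit 6,nat_lit 4,nat_lit 3,nat_lit 2,nat_lit 0],[nat_lit 6,nat_lit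 3,nat_lit 2,nat_lit 1],[nat_lit 5,nat_lit 3,nat_lit 2,nat_lit 1,nat_lit 0],[nat_lit 7,nat_lit 6,nat_lit 5,nat_lit 3,nat_lit 2,nat_lit 0],[nat_lit 6,nat_lit 5,nat_lit 3,nat_lit 2,nat_lit 0]]],[nat_lit 1],[nat_lit 8,nat_lit 26],[],[],nat_lit 0x22089c1⟩
noncomputable def h64 : Hdr :=
  ⟨(nat_lit 6),(nat_lit 9),[[[]],[[nat_lit 0],[]],[[nat_lit 0],[nat_lit 1],[]],[[nat_lit 0],[nat_lit 1],[nat_lit 2],[]],[[nat_lit 0],[nat_lit 1,nat_lit 0],[nat_lit 2],[nat_lit 3],[nat_lit 0]],[[nat_lit 0],[nat_lit 1],[nat_lit 2,nat_lit 0],[nat_lit 3,nat_lit 0],[nat_lit 4],[]],[[nat_lit 0],[nat_lit 1],[nat_lit 2,nat_lit 1],[nat_lit 3,nat_lit 1],[nat_lit 5,nat_lit 4,nat_lit 3,nat_lit 1],[nat_lit 5,nat_lit 1,nat_lit 0],[]],[[nat_lit 0],[nat_lit 1],[nat_lit 5,nat_lit 3,nat_lit 2,nat_lit 0],[nat_lit 5],[nat_lit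 4],[nat_lit 3],[nat_lit 6,nat_lit 5,nat_lit 3,nat_lit 1],[]],[[nat_lit 0],[nat_lit 1],[nat_lit 6,nat_lit 1],[nat_lit 6,nat_lit 3,nat_lit 2],[nat_lit 7,nat_lit 6,nat_lit 5,nat_lit 4,nat_lit 3],[nat_lit 6,nat_lit 5,nat_lit 2,nat_lit 0],[nat_lit 2],[nat_lit 7,nat_lit 6,nat_lit 2],[nat_lit 6,nat_lit 2]]],[nat_lit 1],[nat_lit 8,nat_lit 26],[],[],nat_lit 0x22089c1⟩
noncomputable def h65 : Hdr :=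
  ⟨(nat_lit 6),(nat_lit 9),[[[]],[[nat_lit 0],[]],[[nat_lit 0],[nat_lit 1],[]],[[nat_lit 0],[nat_lit 1],[nat_lit 2],[]],[[nat_lit 0],[nat_lit 1,nat_lit 0],[nat_lit 2],[nat_lit 3],[nat_lit 0]],[[nat_lit 0],[nat_lit 1],[nat_lit 2,nat_lit 0],[nat_lit 3,nat_lit 0],[nat_lit 4],[]],[[nat_lit 0],[nat_lit 1],[nat_lit 2,nat_lit 1],[nat_lit 3,nat_lit 1],[nat_lit 5,nat_lit 4,nat_lit 3,nat_lit 1],[nat_lit 5,nat_lit 1,nat_lit 0],[]],[[nat_lit 0],[nat_lit 1],[nat_lit 5,nat_lit 3,nat_lit 2,nat_lit 0],[nat_lit 5],[nat_lit 4],[nat_lit 3],[nat_lit 6,nat_lit 5,nat_lit 3,nat_lit 1],[]],[[nat_lit 0],[nat_lit 1],[nat_lit 6,nat_lit 1],[nat_lit 6,nat_lit 3,nat_lit 2],[nat_lit 7,nat_lit 6,nat_lit 5,nat_lit 4,nat_lit 3],[nat_lit 6,nat_lit 5,nat_lit 2,nat_lit 0],[nat_lit 2],[nat_lit 7,nat_lit 6,nat_lit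 2],[nat_lit 6,nat_lit 2,nat_lit 0]]],[nat_lit 1],[nat_lit 8,nat_lit 26],[],[],nat_lit 0x22089c1⟩
noncomputable def h66 : Hdr :=
  ⟨(nat_lit 6),(nat_lit 9),[[[]],[[nat_lit 0],[]],[[nat_lit 0],[nat_lit 1],[]],[[nat_lit 0],[nat_lit 1],[nat_lit 2],[]],[[nat_lit 0],[nat_lit 1,nat_lit 0],[nat_lit 2],[nat_lit 3],[nat_lit 0]],[[nat_lit 0],[nat_lit 1],[nat_lit 2,nat_lit 0],[nat_lit 3,nat_lit 0],[nat_lit 4],[]],[[nat_lit 0],[nat_lit 1],[nat_lit 2,nat_lit 1],[nat_lit 3,nat_lit 1],[nat_lit 5,nat_lit 4,nat_lit 3,nat_lit 1],[nat_lit 5,nat_lit 1,nat_lit 0],[]],[[nat_lit 0],[nat_lit 1],[nat_lit 5,nat_lit 3,nat_lit 2,nat_lit 0],[nat_lit 5],[nat_lit 4],[nat_lit 3],[nat_lit 6,nat_lit 5,nat_lit 3,nat_lit 1],[]],[[nat_lit 0],[nat_lit 1],[nat_lit 6,nat_lit 5,nat_lit 3],[nat_lit 6,nat_lit 5,nat_lit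 2,nat_lit 1],[nat_lit 7,nat_lit 6,nat_lit 4,nat_lit 1,nat_lit 0],[nat_lit 6,nat_lit 3,nat_lit 2,nat_lit 1],[nat_lit 5,nat_lit 3,nat_lit 2,nat_lit 1,nat_lit 0],[nat_lit 7,nat_lit 6,nat_lit 5,nat_lit 3,nat_lit 2,nat_lit 1,nat_lit 0],[nat_lit 6,nat_lit 5,nat_lit 3,nat_lit 2,nat_lit 1]]],[nat_lit 1],[nat_lit 8,nat_lit 26],[],[],nat_lit 0x22089c1⟩
noncomputable def h67 : Hdr :=
  ⟨(nat_lit 6),(nat_lit 9),[[[]],[[nat_lit 0],[]],[[nat_lit 0],[nat_lit 1],[]],[[nat_lit 0],[nat_lit 1],[nat_lit 2],[]],[[nat_lit 0],[nat_lit 1,nat_lit 0],[nat_lit 2],[nat_lit 3],[nat_lit 0]],[[nat_lit 0],[nat_lit 1],[nat_lit 2,nat_lit 0],[nat_lit 3,nat_lit 0],[nat_lit 4],[]],[[nat_lit 0],[nat_lit 1],[nat_lit 2,nat_lit 1],[nat_lit 3,nat_lit 1],[nat_lit 5,nat_lit 4,nat_lit 3,nat_lit 1],[nat_lit 5,nat_lit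 1,nat_lit 0],[]],[[nat_lit 0],[nat_lit 1],[nat_lit 5,nat_lit 3,nat_lit 2,nat_lit 0],[nat_lit 5],[nat_lit 4],[nat_lit 3],[nat_lit 6,nat_lit 5,nat_lit 3,nat_lit 1],[]],[[nat_lit 0],[nat_lit 1],[nat_lit 6,nat_lit 5,nat_lit 3],[nat_lit 6,nat_lit 5,nat_lit 2,nat_lit 1],[nat_lit 7,nat_lit 6,nat_lit 4,nat_lit 1,nat_lit 0],[nat_lit 6,nat_lit 3,nat_lit 2,nat_lit 1],[nat_lit 5,nat_lit 3,nat_lit 2,nat_lit 1,nat_lit 0],[nat_lit 7,nat_lit 6,nat_lit 5,nat_lit 3,nat_lit 2,nat_lit 1,nat_lit 0],[nat_lit 6,nat_lit 5,nat_lit 3,nat_lit 2,nat_lit 1,nat_lit 0]]],[nat_lit 1],[nat_lit 8,nat_lit 26],[],[],nat_lit 0x22089c1⟩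
noncomputable def h68 : Hdr :=
  ⟨(nat_lit 6),(nat_lit 9),[[[]],[[nat_lit 0],[]],[[nat_lit 0],[nat_lit 1],[]],[[nat_lit 0],[nat_lit 1],[nat_lit 2],[]],[[nat_lit 0],[nat_lit 1,nat_lit 0],[nat_lit 2],[nat_lit 3],[nat_lit 0]],[[nat_lit 0],[nat_lit 1],[nat_lit 2,nat_lit 0],[nat_lit 3,nat_lit 0],[nat_lit 4],[]],[[nat_lit 0],[nat_lit 1],[nat_lit 2,nat_lit 1],[nat_lit 3,nat_lit 1],[nat_lit 5,nat_lit 4,nat_lit 3,nat_lit 1],[nat_lit 5,nat_lit 1,nat_lit 0],[]],[[nat_lit 0],[nat_lit 1],[nat_lit 5,nat_lit 3,nat_lit 2,nat_lit 0],[nat_lit 5],[nat_lit 4],[nat_lit 3],[nat_lit 6,nat_lit 5,nat_lit 3,nat_lit 1],[]],[[nat_lit 0],[nat_lit 1],[nat_lit 6],[nat_lit 6,nat_lit 3,nat_lit 2,nat_lit 1],[nat_lit 7,nat_lit 5,nat_lit 4,nat_lit 2,nat_lit 1],[nat_lit 6,nat_lit 5,nat_lit 2,nat_lit 0],[nat_lit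 2],[nat_lit 7],[nat_lit 1]]],[nat_lit 1],[nat_lit 8,nat_lit 26],[],[],nat_lit 0x22089c1⟩
noncomputable def h69 : Hdr :=
  ⟨(nat_lit 6),(nat_lit 9),[[[]],[[nat_lit 0],[]],[[nat_lit 0],[nat_lit 1],[]],[[nat_lit 0],[nat_lit 1],[nat_lit 2],[]],[[nat_lit 0],[nat_lit 1,nat_lit 0],[nat_lit 2],[nat_lit 3],[nat_lit 0]],[[nat_lit 0],[nat_lit 1],[nat_lit 2,nat_lit 0],[nat_lit 3,nat_lit 0],[nat_lit 4],[]],[[nat_lit 0],[nat_lit 1],[nat_lit 2,nat_lit 1],[nat_lit 3,nat_lit 1],[nat_lit 5,nat_lit 4,nat_lit 3,nat_lit 1],[nat_lit 5,nat_lit 1,nat_lit 0],[]],[[nat_lit 0],[nat_lit 1],[nat_lit 5,nat_lit 3,nat_lit 2,nat_lit 0],[nat_lit 5],[nat_lit 4],[nat_lit 3],[nat_lit 6,nat_lit 5,nat_lit 3,nat_lit 1],[]],[[nat_lit 0],[nat_lit 1],[nat_lit 6],[nat_lit 6,nat_lit 3,nat_lit 2,nat_lit 1],[nat_lit 7,nat_lit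 5,nat_lit 4,nat_lit 2,nat_lit 1],[nat_lit 6,nat_lit 5,nat_lit 2,nat_lit 0],[nat_lit 2,nat_lit 0],[nat_lit 7,nat_lit 0],[nat_lit 5,nat_lit 2,nat_lit 0]]],[nat_lit 1],[nat_lit 8,nat_lit 26],[],[],nat_lit 0x22089c1⟩
noncomputable def h70 : Hdr :=
  ⟨(nat_lit 6),(nat_lit 9),[[[]],[[nat_lit 0],[]],[[nat_lit 0],[nat_lit 1],[]],[[nat_lit 0],[nat_lit 1],[nat_lit 2],[]],[[nat_lit 0],[nat_lit 1,nat_lit 0],[nat_lit 2],[nat_lit 3],[nat_lit 0]],[[nat_lit 0],[nat_lit 1],[nat_lit 2,nat_lit 0],[nat_lit 3,nat_lit 0],[nat_lit 4],[]],[[nat_lit 0],[nat_lit 1],[nat_lit 2,nat_lit 1],[nat_lit 3,nat_lit 1],[nat_lit 5,nat_lit 4,nat_lit 3,nat_lit 1],[nat_lit 5,nat_lit 1,nat_lit 0],[]],[[nat_lit 0],[nat_lit 1],[nat_lit 5,nat_lit 3,nat_lit 2,nat_lit 0],[nat_lit 5],[nat_lit 4],[nat_lit 3],[nat_lit 6,nat_lit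 5,nat_lit 3,nat_lit 1],[]],[[nat_lit 0],[nat_lit 1],[nat_lit 6,nat_lit 5,nat_lit 3,nat_lit 0],[nat_lit 6,nat_lit 5,nat_lit 2,nat_lit 1,nat_lit 0],[nat_lit 7,nat_lit 4,nat_lit 3,nat_lit 2,nat_lit 1],[nat_lit 6,nat_lit 3,nat_lit 2,nat_lit 0],[nat_lit 5,nat_lit 3,nat_lit 2],[nat_lit 7,nat_lit 5,nat_lit 3,nat_lit 0],[nat_lit 6,nat_lit 5,nat_lit 3,nat_lit 2,nat_lit 1]]],[nat_lit 1],[nat_lit 8,nat_lit 26],[],[],nat_lit 0x22089c1⟩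
noncomputable def h71 : Hdr :=
  ⟨(nat_lit 6),(nat_lit 9),[[[]],[[nat_lit 0],[]],[[nat_lit 0],[nat_lit 1],[]],[[nat_lit 0],[nat_lit 1],[nat_lit 2],[]],[[nat_lit 0],[nat_lit 1,nat_lit 0],[nat_lit 2],[nat_lit 3],[nat_lit 0]],[[nat_lit 0],[nat_lit 1],[nat_lit 2,nat_lit 0],[nat_lit 3,nat_lit 0],[nat_lit 4],[]],[[nat_lit 0],[nat_lit 1],[nat_lit 2,nat_lit 1],[nat_lit 3,nat_lit 1],[nat_lit 5,nat_lit 4,nat_lit 3,nat_lit 1],[nat_lit 5,nat_lit 1,nat_lit 0],[]],[[nat_lit 0],[nat_lit 1],[nat_lit 5,nat_lit 3,nat_lit 2,nat_lit 0],[nat_lit 5],[nat_lit 4],[nat_lit 3],[nat_lit 6,nat_lit 5,nat_lit 3,nat_lit 1],[]],[[nat_lit 0],[nat_lit 1],[nat_lit 6,nat_lit 5,nat_lit 3,nat_lit 0],[nat_lit 6,nat_lit 5,nat_lit 2,nat_lit 1,nat_lit 0],[nat_lit 7,nat_lit 4,nat_lit 3,nat_lit 2,nat_lit 1],[nat_lit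 6,nat_lit 3,nat_lit 2,nat_lit 0],[nat_lit 5,nat_lit 3,nat_lit 2],[nat_lit 7,nat_lit 5,nat_lit 3,nat_lit 0],[nat_lit 6,nat_lit 5,nat_lit 3,nat_lit 2,nat_lit 1,nat_lit 0]]],[nat_lit 1],[nat_lit 8,nat_lit 26],[],[],nat_lit 0x22089c1⟩
noncomputable def h72 : Hdr :=
  ⟨(nat_lit 6),(nat_lit 9),[[[]],[[nat_lit 0],[]],[[nat_lit 0],[nat_lit 1],[]],[[nat_lit 0],[nat_lit 1],[nat_lit 2],[]],[[nat_lit 0],[nat_lit 1,nat_lit 0],[nat_lit 2],[nat_lit 3],[nat_lit 0]],[[nat_lit 0],[nat_lit 1],[nat_lit 2,nat_lit 0],[nat_lit 3,nat_lit 0],[nat_lit 4],[]],[[nat_lit 0],[nat_lit 1],[nat_lit 2,nat_lit 1],[nat_lit 3,nat_lit 1],[nat_lit 5,nat_lit 4,nat_lit 3,nat_lit 1],[nat_lit 5,nat_lit 1,nat_lit 0],[]],[[nat_lit 0],[nat_lit 1],[nat_lit 5,nat_lit 3,nat_lit 2,nat_lit 0],[nat_lit 5],[nat_lit 4],[nat_lit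 3],[nat_lit 6,nat_lit 5,nat_lit 3,nat_lit 1],[]],[[nat_lit 0],[nat_lit 1],[nat_lit 6,nat_lit 3,nat_lit 2,nat_lit 1],[nat_lit 6],[nat_lit 7,nat_lit 5,nat_lit 4,nat_lit 3],[nat_lit 6,nat_lit 5,nat_lit 3,nat_lit 1],[nat_lit 3],[nat_lit 7,nat_lit 1],[nat_lit 1]]],[nat_lit 1],[nat_lit 8,nat_lit 26],[],[],nat_lit 0x22089c1⟩
noncomputable def h73 : Hdr :=
  ⟨(nat_lit 6),(nat_lit 9),[[[]],[[nat_lit 0],[]],[[nat_lit 0],[nat_lit 1],[]],[[nat_lit 0],[nat_lit 1],[nat_lit 2],[]],[[nat_lit 0],[nat_lit 1,nat_lit 0],[nat_lit 2],[nat_lit 3],[nat_lit 0]],[[nat_lit 0],[nat_lit 1],[nat_lit 2,nat_lit 0],[nat_lit 3,nat_lit 0],[nat_lit 4],[]],[[nat_lit 0],[nat_lit 1],[nat_lit 2,nat_lit 1],[nat_lit 3,nat_lit 1],[nat_lit 5,nat_lit 4,nat_lit 3,nat_lit 1],[nat_lit 5,nat_lit 1,nat_lit 0],[]],[[nat_lit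 0],[nat_lit 1],[nat_lit 5,nat_lit 3,nat_lit 2,nat_lit 0],[nat_lit 5],[nat_lit 4],[nat_lit 3],[nat_lit 6,nat_lit 5,nat_lit 3,nat_lit 1],[]],[[nat_lit 0],[nat_lit 1],[nat_lit 6,nat_lit 3,nat_lit 2,nat_lit 1],[nat_lit 6],[nat_lit 7,nat_lit 5,nat_lit 4,nat_lit 3],[nat_lit 6,nat_lit 5,nat_lit 3,nat_lit 1],[nat_lit 3],[nat_lit 7,nat_lit 1],[nat_lit 1,nat_lit 0]]],[nat_lit 1],[nat_lit 8,nat_lit 26],[],[],nat_lit 0x22089c1⟩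
noncomputable def h74 : Hdr :=
  ⟨(nat_lit 6),(nat_lit 9),[[[]],[[nat_lit 0],[]],[[nat_lit 0],[nat_lit 1],[]],[[nat_lit 0],[nat_lit 1],[nat_lit 2],[]],[[nat_lit 0],[nat_lit 1,nat_lit 0],[nat_lit 2],[nat_lit 3],[nat_lit 0]],[[nat_lit 0],[nat_lit 1],[nat_lit 2,nat_lit 0],[nat_lit 3,nat_lit 0],[nat_lit 4],[]],[[nat_lit 0],[nat_lit 1],[nat_lit 2,nat_lit 1],[nat_lit 3,nat_lit 1],[nat_lit 5,nat_lit 4,nat_lit 3,nat_lit 1],[nat_lit 5,nat_lit 1,nat_lit 0],[]],[[nat_lit 0],[nat_lit 1],[nat_lit 5,nat_lit 3,nat_lit 2,nat_lit 0],[nat_lit 5],[nat_lit 4],[nat_lit 3],[nat_lit 6,nat_lit 5,nat_lit 3,nat_lit 1],[]],[[nat_lit 0],[nat_lit 1],[nat_lit 6,nat_lit 5,nat_lit 2,nat_lit 1,nat_lit 0],[nat_lit 6,nat_lit 5,nat_lit 3,nat_lit 0],[nat_lit 7,nat_lit 4],[nat_lit 6,nat_lit 1],[nat_lit 5,nat_lit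 0],[nat_lit 7,nat_lit 5,nat_lit 3,nat_lit 1],[nat_lit 6,nat_lit 5,nat_lit 1]]],[nat_lit 1],[nat_lit 8,nat_lit 26],[],[],nat_lit 0x22089c1⟩
noncomputable def h75 : Hdr :=
  ⟨(nat_lit 6),(nat_lit 9),[[[]],[[nat_lit 0],[]],[[nat_lit 0],[nat_lit 1],[]],[[nat_lit 0],[nat_lit 1],[nat_lit 2],[]],[[nat_lit 0],[nat_lit 1,nat_lit 0],[nat_lit 2],[nat_lit 3],[nat_lit 0]],[[nat_lit 0],[nat_lit 1],[nat_lit 2,nat_lit 0],[nat_lit 3,nat_lit 0],[nat_lit 4],[]],[[nat_lit 0],[nat_lit 1],[nat_lit 2,nat_lit 1],[nat_lit 3,nat_lit 1],[nat_lit 5,nat_lit 4,nat_lit 3,nat_lit 1],[nat_lit 5,nat_lit 1,nat_lit 0],[]],[[nat_lit 0],[nat_lit 1],[nat_lit 5,nat_lit 3,nat_lit 2,nat_lit 0],[nat_lit 5],[nat_lit 4],[nat_lit 3],[nat_lit 6,nat_lit 5,nat_lit 3,nat_lit 1],[]],[[nat_lit 0],[nat_lit 1],[nat_lit 6,nat_lit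 5,nat_lit 2,nat_lit 1,nat_lit 0],[nat_lit 6,nat_lit 5,nat_lit 3,nat_lit 0],[nat_lit 7,nat_lit 4],[nat_lit 6,nat_lit 1],[nat_lit 5],[nat_lit 7,nat_lit 5,nat_lit 3,nat_lit 1,nat_lit 0],[nat_lit 6,nat_lit 2]]],[nat_lit 1],[nat_lit 8,nat_lit 26],[],[],nat_lit 0x22089c1⟩
noncomputable def h76 : Hdr :=
  ⟨(nat_lit 6),(nat_lit 8),[[[]],[[nat_lit 0],[]],[[nat_lit 0],[nat_lit 1],[]],[[nat_lit 0],[nat_lit 1],[nat_lit 2],[]],[[nat_lit 0],[nat_lit 1,nat_lit 0],[nat_lit 2],[nat_lit 3],[nat_lit 0]],[[nat_lit 0],[nat_lit 1],[nat_lit 2,nat_lit 0],[nat_lit 3,nat_lit 0],[nat_lit 4],[]],[[nat_lit 0],[nat_lit 1],[nat_lit 2,nat_lit 1],[nat_lit 3,nat_lit 1],[nat_lit 5,nat_lit 4,nat_lit 3,nat_lit 1],[nat_lit 5,nat_lit 1,nat_lit 0],[]],[[nat_lit 0],[nat_lit 1],[nat_lit 5,nat_lit 3,nat_lit 2,nat_lit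 0],[nat_lit 5],[nat_lit 4],[nat_lit 3],[nat_lit 6,nat_lit 5,nat_lit 3,nat_lit 1],[]]],[nat_lit 1],[nat_lit 8,nat_lit 26],[],[],nat_lit 0x22089c1⟩
noncomputable def h77 : Hdr :=
  ⟨(nat_lit 6),(nat_lit 8),[[[]],[[nat_lit 0],[]],[[nat_lit 0],[nat_lit 1],[]],[[nat_lit 0],[nat_lit 1],[nat_lit 2],[]],[[nat_lit 0],[nat_lit 1,nat_lit 0],[nat_lit 2],[nat_lit 3],[nat_lit 0]],[[nat_lit 0],[nat_lit 1],[nat_lit 2,nat_lit 0],[nat_lit 3,nat_lit 0],[nat_lit 4],[]],[[nat_lit 0],[nat_lit 1],[nat_lit 2,nat_lit 1],[nat_lit 3,nat_lit 1],[nat_lit 5,nat_lit 4,nat_lit 3,nat_lit 1],[nat_lit 5,nat_lit 1,nat_lit 0],[]],[[nat_lit 0],[nat_lit 1],[nat_lit 5,nat_lit 0],[nat_lit 5,nat_lit 3,nat_lit 2],[nat_lit 4,nat_lit 3,nat_lit 2],[nat_lit 2],[nat_lit 6,nat_lit 5,nat_lit 2,nat_lit 1],[nat_lit 5,nat_lit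 2,nat_lit 1]]],[nat_lit 1],[nat_lit 8,nat_lit 26],[],[],nat_lit 0x22089c1⟩
noncomputable def h78 : Hdr :=
  ⟨(nat_lit 6),(nat_lit 7),[[[]],[[nat_lit 0],[]],[[nat_lit 0],[nat_lit 1],[]],[[nat_lit 0],[nat_lit 1],[nat_lit 2],[]],[[nat_lit 0],[nat_lit 1,nat_lit 0],[nat_lit 2],[nat_lit 3],[nat_lit 0]],[[nat_lit 0],[nat_lit 1],[nat_lit 2,nat_lit 0],[nat_lit 3,nat_lit 0],[nat_lit 4],[]],[[nat_lit 0],[nat_lit 1],[nat_lit 2,nat_lit 1],[nat_lit 3,nat_lit 1],[nat_lit 5,nat_lit 4,nat_lit 3,nat_lit 1],[nat_lit 5,nat_lit 1,nat_lit 0],[]]],[nat_lit 1,nat_lit 12,nat_lit 13],[nat_lit 8,nat_lit 26],[],[],nat_lit 0x22089c1⟩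
noncomputable def h79 : Hdr :=
  ⟨(nat_lit 6),(nat_lit 7),[[[]],[[nat_lit 0],[]],[[nat_lit 0],[nat_lit 1],[]],[[nat_lit 0],[nat_lit 1],[nat_lit 2],[]],[[nat_lit 0],[nat_lit 1,nat_lit 0],[nat_lit 2],[nat_lit 3],[nat_lit 0]],[[nat_lit 0],[nat_lit 1],[nat_lit 2,nat_lit 0],[nat_lit 3,nat_lit 0],[nat_lit 4],[]],[[nat_lit 0],[nat_lit 1],[nat_lit 2,nat_lit 1],[nat_lit 3,nat_lit 1],[nat_lit 5,nat_lit 4,nat_lit 3,nat_lit 1],[nat_lit 5,nat_lit 1,nat_lit 0],[]]],[nat_lit 1,nat_lit 12,nat_lit 13],[nat_lit 8,nat_lit 26],[],[⟨[nat_lit 1,nat_lit 2,nat_lit 4,nat_lit 8],[nat_lit 2,nat_lit 3,nat_lit 4,nat_lit 8],[]⟩],nat_lit 0x22089c1⟩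
noncomputable def h80 : Hdr :=
  ⟨(nat_lit 6),(nat_lit 7),[[[]],[[nat_lit 0],[]],[[nat_lit 0],[nat_lit 1],[]],[[nat_lit 0],[nat_lit 1],[nat_lit 2],[]],[[nat_lit 0],[nat_lit 1,nat_lit 0],[nat_lit 2],[nat_lit 3],[nat_lit 0]],[[nat_lit 0],[nat_lit 1],[nat_lit 2,nat_lit 0],[nat_lit 3,nat_lit 0],[nat_lit 4],[]],[[nat_lit 0],[nat_lit 1],[nat_lit 2,nat_lit 1],[nat_lit 3,nat_lit 1],[nat_lit 5,nat_lit 4,nat_lit 3,nat_lit 1],[nat_lit 5,nat_lit 1,nat_lit 0],[nat_lit 0]]],[nat_lit 1,nat_lit 12,nat_lit 13],[nat_lit 8,nat_lit 26],[],[⟨[nat_lit 1,nat_lit 2,nat_lit 4,nat_lit 8],[nat_lit 2,nat_lit 3,nat_lit 4,nat_lit 8],[]⟩],nat_lit 0x22089c1⟩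
noncomputable def h81 : Hdr :=
  ⟨(nat_lit 6),(nat_lit 7),[[[]],[[nat_lit 0],[]],[[nat_lit 0],[nat_lit 1],[]],[[nat_lit 0],[nat_lit 1],[nat_lit 2],[]],[[nat_lit 0],[nat_lit 1,nat_lit 0],[nat_lit 2],[nat_lit 3],[nat_lit 0]],[[nat_lit 0],[nat_lit 1],[nat_lit 2,nat_lit 0],[nat_lit 3,nat_lit 0],[nat_lit 4],[]],[[nat_lit 0],[nat_lit 1],[nat_lit 2,nat_lit 1],[nat_lit 3,nat_lit 1],[nat_lit 5,nat_lit 4,nat_lit 3,nat_lit 1],[nat_lit 5,nat_lit 1,nat_lit 0],[nat_lit 3,nat_lit 2]]],[nat_lit 1,nat_lit 12,nat_lit 13],[nat_lit 8,nat_lit 26],[],[⟨[nat_lit 1,nat_lit 2,nat_lit 4,nat_lit 8],[nat_lit 2,nat_lit 3,nat_lit 4,nat_lit 8],[]⟩],nat_lit 0x22089c1⟩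
noncomputable def h82 : Hdr :=
  ⟨(nat_lit 6),(nat_lit 7),[[[]],[[nat_lit 0],[]],[[nat_lit 0],[nat_lit 1],[]],[[nat_lit 0],[nat_lit 1],[nat_lit 2],[]],[[nat_lit 0],[nat_lit 1,nat_lit 0],[nat_lit 2],[nat_lit 3],[nat_lit 0]],[[nat_lit 0],[nat_lit 1],[nat_lit 2,nat_lit 0],[nat_lit 3,nat_lit 0],[nat_lit 4],[]],[[nat_lit 0],[nat_lit 1],[nat_lit 2,nat_lit 1],[nat_lit 3,nat_lit 1],[nat_lit 5,nat_lit 4,nat_lit 3,nat_lit 1],[nat_lit 5,nat_lit 1,nat_lit 0],[nat_lit 3,nat_lit 2,nat_lit 0]]],[nat_lit 1,nat_lit 12,nat_lit 13],[nat_lit 8,nat_lit 26],[],[⟨[nat_lit 1,nat_lit 2,nat_lit 4,nat_lit 8],[nat_lit 2,nat_lit 3,nat_lit 4,nat_lit 8],[]⟩],nat_lit 0x22089c1⟩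
noncomputable def h83 : Hdr :=
  ⟨(nat_lit 6),(nat_lit 7),[[[]],[[nat_lit 0],[]],[[nat_lit 0],[nat_lit 1],[]],[[nat_lit 0],[nat_lit 1],[nat_lit 2],[]],[[nat_lit 0],[nat_lit 1,nat_lit 0],[nat_lit 2],[nat_lit 3],[nat_lit 0]],[[nat_lit 0],[nat_lit 1],[nat_lit 2,nat_lit 0],[nat_lit 3,nat_lit 0],[nat_lit 4],[]],[[nat_lit 0],[nat_lit 1],[nat_lit 2,nat_lit 1,nat_lit 0],[nat_lit 3,nat_lit 1],[nat_lit 5,nat_lit 4,nat_lit 3,nat_lit 1],[nat_lit 5,nat_lit 1,nat_lit 0],[]]],[nat_lit 1],[nat_lit 8,nat_lit 26],[],[⟨[nat_lit 1,nat_lit 2,nat_lit 4,nat_lit 8],[nat_lit 2,nat_lit 3,nat_lit 4,nat_lit 8],[]⟩],nat_lit 0x22089c1⟩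
noncomputable def h84 : Hdr :=
  ⟨(nat_lit 6),(nat_lit 6),[[[]],[[nat_lit 0],[]],[[nat_lit 0],[nat_lit 1],[]],[[nat_lit 0],[nat_lit 1],[nat_lit 2],[]],[[nat_lit 0],[nat_lit 1,nat_lit 0],[nat_lit 2],[nat_lit 3],[nat_lit 0]],[[nat_lit 0],[nat_lit 1],[nat_lit 2,nat_lit 0],[nat_lit 3,nat_lit 0],[nat_lit 4],[]]],[nat_lit 1,nat_lit 12,nat_lit 13],[nat_lit 8,nat_lit 26],[],[⟨[nat_lit 1,nat_lit 2,nat_lit 4,nat_lit 8],[nat_lit 2,nat_lit 3,nat_lit 4,nat_lit 8],[]⟩],nat_lit 0x22089c1⟩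
noncomputable def h85 : Hdr :=
  ⟨(nat_lit 6),(nat_lit 7),[[[]],[[nat_lit 0],[nat_lit 0]],[[nat_lit 0],[nat_lit 1],[nat_lit 1]],[[nat_lit 0],[nat_lit 1,nat_lit 0],[nat_lit 2,nat_lit 1],[]],[[nat_lit 0],[nat_lit 1],[nat_lit 2,nat_lit 0],[nat_lit 3],[]],[[nat_lit 0],[nat_lit 1],[nat_lit 2],[nat_lit 3],[nat_lit 4],[]],[[nat_lit 0],[nat_lit 1],[nat_lit 2],[nat_lit 3,nat_lit 1],[nat_lit 4],[nat_lit 5,nat_lit 0],[nat_lit 1,nat_lit 0]]],[nat_lit 1],[nat_lit 32],[],[⟨[nat_lit 1,nat_lit 8,nat_lit 16,nat_lit 32],[nat_lit 8,nat_lit 9,nat_lit 16,nat_lit 32],[nat_lit 0,nat_lit 1,nat_lit 8,nat_lit 9,nat_lit 16,nat_lit 17,nat_lit 24,nat_lit 25,nat_lit 32,nat_lit 33,nat_lit 40,nat_lit 41,nat_lit 48,nat_lit 49,nat_lit 56,nat_lit 57]⟩],nat_lit 0x22089c1⟩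
noncomputable def h86 : Hdr :=
  ⟨(nat_lit 6),(nat_lit 6),[[[]],[[nat_lit 0],[nat_lit 0]],[[nat_lit 0],[nat_lit 1],[nat_lit 1]],[[nat_lit 0],[nat_lit 1,nat_lit 0],[nat_lit 2,nat_lit 1],[]],[[nat_lit 0],[nat_lit 1],[nat_lit 2,nat_lit 0],[nat_lit 3],[]],[[nat_lit 0],[nat_lit 1],[nat_lit 2],[nat_lit 3],[nat_lit 4],[]]],[nat_lit 1,nat_lit 32,nat_lit 33],[nat_lit 32,nat_lit 33],[nat_lit 1,nat_lit 16,nat_lit 48],[⟨[nat_lit 1,nat_lit 8,nat_lit 16,nat_lit 32],[nat_lit 8,nat_lit 9,nat_lit 16,nat_lit 32],[nat_lit 0,nat_lit 1,nat_lit 8,nat_lit 9,nat_lit 16,nat_lit 17,nat_lit 24,nat_lit 25,nat_lit 32,nat_lit 33,nat_lit 40,nat_lit 41,nat_lit 48,nat_lit 49,nat_lit 56,nat_lit 57]⟩,⟨[nat_lit 1,nat_lit 2,nat_lit 14,nat_lit 18,nat_lit 32],[nat_lit 1,nat_lit 14,nat_lit 12,nat_lit 18,nat_lit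 32],[nat_lit 0,nat_lit 1,nat_lit 2,nat_lit 3,nat_lit 14,nat_lit 15,nat_lit 13,nat_lit 12,nat_lit 18,nat_lit 19,nat_lit 17,nat_lit 16,nat_lit 28,nat_lit 29,nat_lit 30,nat_lit 31,nat_lit 32,nat_lit 33,nat_lit 34,nat_lit 35,nat_lit 46,nat_lit 47,nat_lit 45,nat_lit 44,nat_lit 50,nat_lit 51,nat_lit 49,nat_lit 48,nat_lit 60,nat_lit 61,nat_lit 62,nat_lit 63]⟩],nat_lit 0x22089c1⟩
noncomputable def h87 : Hdr :=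
  ⟨(nat_lit 6),(nat_lit 6),[[[]],[[nat_lit 0],[nat_lit 0]],[[nat_lit 0],[nat_lit 1],[nat_lit 1]],[[nat_lit 0],[nat_lit 1,nat_lit 0],[nat_lit 2,nat_lit 1],[]],[[nat_lit 0],[nat_lit 1],[nat_lit 2,nat_lit 0],[nat_lit 3],[]],[[nat_lit 0],[nat_lit 1],[nat_lit 2],[nat_lit 3],[nat_lit 4],[]]],[nat_lit 1,nat_lit 32,nat_lit 33],[nat_lit 32,nat_lit 33],[nat_lit 1,nat_lit 16,nat_lit 48],[⟨[nat_lit 1,nat_lit 8,nat_lit 16,nat_lit 32],[nat_lit 8,nat_lit 9,nat_lit 16,nat_lit 32],[nat_lit 0,nat_lit 1,nat_lit 8,nat_lit 9,nat_lit 16,nat_lit 17,nat_lit 24,nat_lit 25,nat_lit 32,nat_lit 33,nat_lit 40,nat_lit 41,nat_lit 48,nat_lit 49,nat_lit 56,nat_lit 57]⟩,⟨[nat_lit 1,nat_lit 2,nat_lit 14,nat_lit 18,nat_lit 32],[nat_lit 1,nat_lit 14,nat_lit 12,nat_lit 18,nat_lit 32],[nat_lit 0,nat_lit 1,nat_lit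 2,nat_lit 3,nat_lit 14,nat_lit 15,nat_lit 13,nat_lit 12,nat_lit 18,nat_lit 19,nat_lit 17,nat_lit 16,nat_lit 28,nat_lit 29,nat_lit 30,nat_lit 31,nat_lit 32,nat_lit 33,nat_lit 34,nat_lit 35,nat_lit 46,nat_lit 47,nat_lit 45,nat_lit 44,nat_lit 50,nat_lit 51,nat_lit 49,nat_lit 48,nat_lit 60,nat_lit 61,nat_lit 62,nat_lit 63]⟩],nat_lit 0x0⟩
noncomputable def h88 : Hdr :=
  ⟨(nat_lit 6),(nat_lit 6),[[[]],[[nat_lit 0],[nat_lit 0]],[[nat_lit 0],[nat_lit 1],[nat_lit 1]],[[nat_lit 0],[nat_lit 1,nat_lit 0],[nat_lit 2,nat_lit 1],[]],[[nat_lit 0],[nat_lit 1],[nat_lit 2,nat_lit 0],[nat_lit 3],[]],[[nat_lit 0],[nat_lit 1],[nat_lit 2],[nat_lit 3],[nat_lit 4],[]]],[nat_lit 1,nat_lit 32,nat_lit 33],[nat_lit 32],[nat_lit 16,nat_lit 48],[⟨[nat_lit 1,nat_lit 8,nat_lit 16,nat_lit 32],[nat_lit 8,nat_lit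 9,nat_lit 16,nat_lit 32],[nat_lit 0,nat_lit 1,nat_lit 8,nat_lit 9,nat_lit 16,nat_lit 17,nat_lit 24,nat_lit 25,nat_lit 32,nat_lit 33,nat_lit 40,nat_lit 41,nat_lit 48,nat_lit 49,nat_lit 56,nat_lit 57]⟩,⟨[nat_lit 1,nat_lit 2,nat_lit 14,nat_lit 18,nat_lit 32],[nat_lit 1,nat_lit 14,nat_lit 12,nat_lit 18,nat_lit 32],[nat_lit 0,nat_lit 1,nat_lit 2,nat_lit 3,nat_lit 14,nat_lit 15,nat_lit 13,nat_lit 12,nat_lit 18,nat_lit 19,nat_lit 17,nat_lit 16,nat_lit 28,nat_lit 29,nat_lit 30,nat_lit 31,nat_lit 32,nat_lit 33,nat_lit 34,nat_lit 35,nat_lit 46,nat_lit 47,nat_lit 45,nat_lit 44,nat_lit 50,nat_lit 51,nat_lit 49,nat_lit 48,nat_lit 60,nat_lit 61,nat_lit 62,nat_lit 63]⟩],nat_lit 0x0⟩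
noncomputable def h89 : Hdr :=
  ⟨(nat_lit 6),(nat_lit 6),[[[]],[[nat_lit 0],[nat_lit 0]],[[nat_lit 0],[nat_lit 1],[nat_lit 1]],[[nat_lit 0],[nat_lit 1,nat_lit 0],[nat_lit 2,nat_lit 1],[]],[[nat_lit 0],[nat_lit 1],[nat_lit 2,nat_lit 0],[nat_lit 3],[]],[[nat_lit 0],[nat_lit 1],[nat_lit 2],[nat_lit 3],[nat_lit 4],[]]],[nat_lit 1,nat_lit 32,nat_lit 33],[nat_lit 16,nat_lit 48],[nat_lit 1],[⟨[nat_lit 1,nat_lit 8,nat_lit 16,nat_lit 32],[nat_lit 8,nat_lit 9,nat_lit 16,nat_lit 32],[nat_lit 0,nat_lit 1,nat_lit 8,nat_lit 9,nat_lit 16,nat_lit 17,nat_lit 24,nat_lit 25,nat_lit 32,nat_lit 33,nat_lit 40,nat_lit 41,nat_lit 48,nat_lit 49,nat_lit 56,nat_lit 57]⟩,⟨[nat_lit 1,nat_lit 2,nat_lit 14,nat_lit 18,nat_lit 32],[nat_lit 1,nat_lit 14,nat_lit 12,nat_lit 18,nat_lit 32],[nat_lit 0,nat_lit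 1,nat_lit 2,nat_lit 3,nat_lit 14,nat_lit 15,nat_lit 13,nat_lit 12,nat_lit 18,nat_lit 19,nat_lit 17,nat_lit 16,nat_lit 28,nat_lit 29,nat_lit 30,nat_lit 31,nat_lit 32,nat_lit 33,nat_lit 34,nat_lit 35,nat_lit 46,nat_lit 47,nat_lit 45,nat_lit 44,nat_lit 50,nat_lit 51,nat_lit 49,nat_lit 48,nat_lit 60,nat_lit 61,nat_lit 62,nat_lit 63]⟩,⟨[nat_lit 1,nat_lit 16],[nat_lit 1,nat_lit 32],[nat_lit 0,nat_lit 1,nat_lit 16,nat_lit 17]⟩],nat_lit 0x6⟩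
noncomputable def h90 : Hdr :=
  ⟨(nat_lit 6),(nat_lit 6),[[[]],[[nat_lit 0],[nat_lit 0]],[[nat_lit 0],[nat_lit 1],[nat_lit 1]],[[nat_lit 0],[nat_lit 1,nat_lit 0],[nat_lit 2,nat_lit 1],[]],[[nat_lit 0],[nat_lit 1],[nat_lit 2,nat_lit 0],[nat_lit 3],[]],[[nat_lit 0],[nat_lit 1],[nat_lit 2],[nat_lit 3],[nat_lit 4],[]]],[nat_lit 1,nat_lit 32,nat_lit 33],[nat_lit 16,nat_lit 48],[nat_lit 1],[⟨[nat_lit 1,nat_lit 8,nat_lit 16,nat_lit 32],[nat_lit 8,nat_lit 9,nat_lit 16,nat_lit 32],[nat_lit 0,nat_lit 1,nat_lit 8,nat_lit 9,nat_lit 16,nat_lit 17,nat_lit 24,nat_lit 25,nat_lit 32,nat_lit 33,nat_lit 40,nat_lit 41,nat_lit 48,nat_lit 49,nat_lit 56,nat_lit 57]⟩,⟨[nat_lit 1,nat_lit 2,nat_lit 14,nat_lit 18,nat_lit 32],[nat_lit 1,nat_lit 14,nat_lit 12,nat_lit 18,nat_lit 32],[nat_lit 0,nat_lit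 1,nat_lit 2,nat_lit 3,nat_lit 14,nat_lit 15,nat_lit 13,nat_lit 12,nat_lit 18,nat_lit 19,nat_lit 17,nat_lit 16,nat_lit 28,nat_lit 29,nat_lit 30,nat_lit 31,nat_lit 32,nat_lit 33,nat_lit 34,nat_lit 35,nat_lit 46,nat_lit 47,nat_lit 45,nat_lit 44,nat_lit 50,nat_lit 51,nat_lit 49,nat_lit 48,nat_lit 60,nat_lit 61,nat_lit 62,nat_lit 63]⟩,⟨[nat_lit 1,nat_lit 16],[nat_lit 1,nat_lit 32],[nat_lit 0,nat_lit 1,nat_lit 16,nat_lit 17]⟩],nat_lit 0x0⟩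
noncomputable def h91 : Hdr :=
  ⟨(nat_lit 6),(nat_lit 11),[[[]],[[nat_lit 0],[nat_lit 0]],[[nat_lit 0],[nat_lit 1,nat_lit 0],[nat_lit 0]],[[nat_lit 0],[nat_lit 1],[nat_lit 2],[nat_lit 0]],[[nat_lit 0],[nat_lit 1],[nat_lit 2],[nat_lit 3],[]],[[nat_lit 0],[nat_lit 1],[nat_lit 2],[nat_lit 3,nat_lit 0],[nat_lit 4,nat_lit 0],[]],[[nat_lit 0],[nat_lit 1],[nat_lit 2,nat_lit 1,nat_lit 0],[nat_lit 3,nat_lit 0],[nat_lit 4],[nat_lit 5],[nat_lit 1]],[[nat_lit 0],[nat_lit 1],[nat_lit 2,nat_lit 1],[nat_lit 5,nat_lit 4],[nat_lit 5,nat_lit 3],[nat_lit 5],[nat_lit 6,nat_lit 5],[nat_lit 1,nat_lit 0]],[[nat_lit 0],[nat_lit 1],[nat_lit 5,nat_lit 2],[nat_lit 4,nat_lit 1,nat_lit 0],[nat_lit 3,nat_lit 1],[nat_lit 5],[nat_lit 6,nat_lit 5],[nat_lit 7,nat_lit 5],[]],[[nat_lit 0],[nat_lit 5,nat_lit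 1,nat_lit 0],[nat_lit 2,nat_lit 1,nat_lit 0],[nat_lit 5,nat_lit 3,nat_lit 2,nat_lit 1,nat_lit 0],[nat_lit 5,nat_lit 4,nat_lit 2,nat_lit 1],[nat_lit 5,nat_lit 0],[nat_lit 8,nat_lit 7,nat_lit 5,nat_lit 0],[nat_lit 8,nat_lit 6,nat_lit 5,nat_lit 4,nat_lit 3],[nat_lit 8,nat_lit 4,nat_lit 3,nat_lit 1],[nat_lit 8,nat_lit 7,nat_lit 6,nat_lit 2,nat_lit 0]],[[nat_lit 0],[nat_lit 5,nat_lit 1,nat_lit 0],[nat_lit 8,nat_lit 7,nat_lit 6,nat_lit 5,nat_lit 2,nat_lit 1,nat_lit 0],[nat_lit 6,nat_lit 5,nat_lit 3,nat_lit 2,nat_lit 1,nat_lit 0],[nat_lit 6,nat_lit 4,nat_lit 2,nat_lit 1],[nat_lit 5,nat_lit 0],[nat_lit 8,nat_lit 7,nat_lit 5,nat_lit 0],[nat_lit 8,nat_lit 6,nat_lit 4,nat_lit 3],[nat_lit 8,nat_lit 5,nat_lit 4,nat_lit 3,nat_lit 1],[nat_lit 9,nat_lit 6,nat_lit 5,nat_lit 1,nat_lit 0],[nat_lit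 6,nat_lit 2,nat_lit 1]]],[nat_lit 1],[nat_lit 10],[],[],nat_lit 0x4ce3218⟩
noncomputable def h92 : Hdr :=
  ⟨(nat_lit 6),(nat_lit 11),[[[]],[[nat_lit 0],[nat_lit 0]],[[nat_lit 0],[nat_lit 1,nat_lit 0],[nat_lit 0]],[[nat_lit 0],[nat_lit 1],[nat_lit 2],[nat_lit 0]],[[nat_lit 0],[nat_lit 1],[nat_lit 2],[nat_lit 3],[]],[[nat_lit 0],[nat_lit 1],[nat_lit 2],[nat_lit 3,nat_lit 0],[nat_lit 4,nat_lit 0],[]],[[nat_lit 0],[nat_lit 1],[nat_lit 2,nat_lit 1,nat_lit 0],[nat_lit 3,nat_lit 0],[nat_lit 4],[nat_lit 5],[nat_lit 1]],[[nat_lit 0],[nat_lit 1],[nat_lit 2,nat_lit 1],[nat_lit 5,nat_lit 4],[nat_lit 5,nat_lit 3],[nat_lit 5],[nat_lit 6,nat_lit 5],[nat_lit 1,nat_lit 0]],[[nat_lit 0],[nat_lit 1],[nat_lit 5,nat_lit 2],[nat_lit 4,nat_lit 1,nat_lit 0],[nat_lit 3,nat_lit 1],[nat_lit 5],[nat_lit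 6,nat_lit 5],[nat_lit 7,nat_lit 5],[]],[[nat_lit 0],[nat_lit 5,nat_lit 1,nat_lit 0],[nat_lit 2,nat_lit 1,nat_lit 0],[nat_lit 5,nat_lit 3,nat_lit 2,nat_lit 1,nat_lit 0],[nat_lit 5,nat_lit 4,nat_lit 2,nat_lit 1],[nat_lit 5,nat_lit 0],[nat_lit 8,nat_lit 7,nat_lit 5,nat_lit 0],[nat_lit 8,nat_lit 6,nat_lit 5,nat_lit 4,nat_lit 3],[nat_lit 8,nat_lit 4,nat_lit 3,nat_lit 1],[nat_lit 8,nat_lit 7,nat_lit 6,nat_lit 2,nat_lit 0]],[[nat_lit 0],[nat_lit 5,nat_lit 1,nat_lit 0],[nat_lit 8,nat_lit 7,nat_lit 6,nat_lit 5,nat_lit 2,nat_lit 1,nat_lit 0],[nat_lit 6,nat_lit 5,nat_lit 3,nat_lit 2,nat_lit 1,nat_lit 0],[nat_lit 6,nat_lit 4,nat_lit 2,nat_lit 1],[nat_lit 5,nat_lit 0],[nat_lit 8,nat_lit 7,nat_lit 5,nat_lit 0],[nat_lit 8,nat_lit 6,nat_lit 4,nat_lit 3],[nat_lit 8,nat_lit 5,nat_lit 4,nat_lit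 3,nat_lit 1],[nat_lit 9,nat_lit 6,nat_lit 5,nat_lit 1],[nat_lit 6,nat_lit 2,nat_lit 1]]],[nat_lit 1],[nat_lit 10],[],[],nat_lit 0x4ce3218⟩
noncomputable def h93 : Hdr :=
  ⟨(nat_lit 6),(nat_lit 11),[[[]],[[nat_lit 0],[nat_lit 0]],[[nat_lit 0],[nat_lit 1,nat_lit 0],[nat_lit 0]],[[nat_lit 0],[nat_lit 1],[nat_lit 2],[nat_lit 0]],[[nat_lit 0],[nat_lit 1],[nat_lit 2],[nat_lit 3],[]],[[nat_lit 0],[nat_lit 1],[nat_lit 2],[nat_lit 3,nat_lit 0],[nat_lit 4,nat_lit 0],[]],[[nat_lit 0],[nat_lit 1],[nat_lit 2,nat_lit 1,nat_lit 0],[nat_lit 3,nat_lit 0],[nat_lit 4],[nat_lit 5],[nat_lit 1]],[[nat_lit 0],[nat_lit 1],[nat_lit 2,nat_lit 1],[nat_lit 5,nat_lit 4],[nat_lit 5,nat_lit 3],[nat_lit 5],[nat_lit 6,nat_lit 5],[nat_lit 1,nat_lit 0]],[[nat_lit 0],[nat_lit 1],[nat_lit 5,nat_lit 2],[nat_lit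 4,nat_lit 1,nat_lit 0],[nat_lit 3,nat_lit 1],[nat_lit 5],[nat_lit 6,nat_lit 5],[nat_lit 7,nat_lit 5],[]],[[nat_lit 0],[nat_lit 5,nat_lit 1,nat_lit 0],[nat_lit 2,nat_lit 1,nat_lit 0],[nat_lit 5,nat_lit 3,nat_lit 2,nat_lit 1,nat_lit 0],[nat_lit 5,nat_lit 4,nat_lit 2,nat_lit 1],[nat_lit 5,nat_lit 0],[nat_lit 8,nat_lit 7,nat_lit 5,nat_lit 0],[nat_lit 8,nat_lit 6,nat_lit 5,nat_lit 4,nat_lit 3],[nat_lit 8,nat_lit 4,nat_lit 3,nat_lit 1],[nat_lit 8,nat_lit 7,nat_lit 6,nat_lit 2,nat_lit 0]],[[nat_lit 0],[nat_lit 5,nat_lit 1,nat_lit 0],[nat_lit 8,nat_lit 7,nat_lit 6,nat_lit 5,nat_lit 2,nat_lit 1,nat_lit 0],[nat_lit 6,nat_lit 5,nat_lit 3,nat_lit 2,nat_lit 1,nat_lit 0],[nat_lit 6,nat_lit 4,nat_lit 2,nat_lit 1],[nat_lit 5,nat_lit 0],[nat_lit 8,nat_lit 7,nat_lit 5,nat_lit 0],[nat_lit 8,nat_lit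 6,nat_lit 4,nat_lit 3,nat_lit 0],[nat_lit 8,nat_lit 5,nat_lit 4,nat_lit 3,nat_lit 1,nat_lit 0],[nat_lit 9,nat_lit 6,nat_lit 5,nat_lit 1,nat_lit 0],[nat_lit 6,nat_lit 2,nat_lit 1]]],[nat_lit 1],[nat_lit 10],[],[],nat_lit 0x4ce3218⟩
noncomputable def h94 : Hdr :=
  ⟨(nat_lit 6),(nat_lit 11),[[[]],[[nat_lit 0],[nat_lit 0]],[[nat_lit 0],[nat_lit 1,nat_lit 0],[nat_lit 0]],[[nat_lit 0],[nat_lit 1],[nat_lit 2],[nat_lit 0]],[[nat_lit 0],[nat_lit 1],[nat_lit 2],[nat_lit 3],[]],[[nat_lit 0],[nat_lit 1],[nat_lit 2],[nat_lit 3,nat_lit 0],[nat_lit 4,nat_lit 0],[]],[[nat_lit 0],[nat_lit 1],[nat_lit 2,nat_lit 1,nat_lit 0],[nat_lit 3,nat_lit 0],[nat_lit 4],[nat_lit 5],[nat_lit 1]],[[nat_lit 0],[nat_lit 1],[nat_lit 2,nat_lit 1],[nat_lit 5,nat_lit 4],[nat_lit 5,nat_lit 3],[nat_lit 5],[nat_lit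 6,nat_lit 5],[nat_lit 1,nat_lit 0]],[[nat_lit 0],[nat_lit 1],[nat_lit 5,nat_lit 2],[nat_lit 4,nat_lit 1,nat_lit 0],[nat_lit 3,nat_lit 1],[nat_lit 5],[nat_lit 6,nat_lit 5],[nat_lit 7,nat_lit 5],[]],[[nat_lit 0],[nat_lit 5,nat_lit 1,nat_lit 0],[nat_lit 2,nat_lit 1,nat_lit 0],[nat_lit 5,nat_lit 3,nat_lit 2,nat_lit 1,nat_lit 0],[nat_lit 5,nat_lit 4,nat_lit 2,nat_lit 1],[nat_lit 5,nat_lit 0],[nat_lit 8,nat_lit 7,nat_lit 5,nat_lit 0],[nat_lit 8,nat_lit 6,nat_lit 5,nat_lit 4,nat_lit 3],[nat_lit 8,nat_lit 4,nat_lit 3,nat_lit 1],[nat_lit 8,nat_lit 7,nat_lit 6,nat_lit 2,nat_lit 0]],[[nat_lit 0],[nat_lit 5,nat_lit 1,nat_lit 0],[nat_lit 8,nat_lit 7,nat_lit 6,nat_lit 5,nat_lit 2,nat_lit 1,nat_lit 0],[nat_lit 6,nat_lit 5,nat_lit 3,nat_lit 2,nat_lit 1,nat_lit 0],[nat_lit 6,nat_lit 4,nat_lit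 2,nat_lit 1],[nat_lit 5,nat_lit 0],[nat_lit 8,nat_lit 7,nat_lit 5,nat_lit 0],[nat_lit 8,nat_lit 6,nat_lit 4,nat_lit 3,nat_lit 0],[nat_lit 8,nat_lit 5,nat_lit 4,nat_lit 3,nat_lit 1,nat_lit 0],[nat_lit 9,nat_lit 6,nat_lit 5,nat_lit 1,nat_lit 0],[nat_lit 6,nat_lit 2,nat_lit 1,nat_lit 0]]],[nat_lit 1],[nat_lit 10],[],[],nat_lit 0x4ce3218⟩
noncomputable def h95 : Hdr :=
  ⟨(nat_lit 6),(nat_lit 11),[[[]],[[nat_lit 0],[nat_lit 0]],[[nat_lit 0],[nat_lit 1,nat_lit 0],[nat_lit 0]],[[nat_lit 0],[nat_lit 1],[nat_lit 2],[nat_lit 0]],[[nat_lit 0],[nat_lit 1],[nat_lit 2],[nat_lit 3],[]],[[nat_lit 0],[nat_lit 1],[nat_lit 2],[nat_lit 3,nat_lit 0],[nat_lit 4,nat_lit 0],[]],[[nat_lit 0],[nat_lit 1],[nat_lit 2,nat_lit 1,nat_lit 0],[nat_lit 3,nat_lit 0],[nat_lit 4],[nat_lit 5],[nat_lit 1]],[[nat_lit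 0],[nat_lit 1],[nat_lit 2,nat_lit 1],[nat_lit 5,nat_lit 4],[nat_lit 5,nat_lit 3],[nat_lit 5],[nat_lit 6,nat_lit 5],[nat_lit 1,nat_lit 0]],[[nat_lit 0],[nat_lit 1],[nat_lit 5,nat_lit 2],[nat_lit 4,nat_lit 1,nat_lit 0],[nat_lit 3,nat_lit 1],[nat_lit 5],[nat_lit 6,nat_lit 5],[nat_lit 7,nat_lit 5],[]],[[nat_lit 0],[nat_lit 5,nat_lit 1,nat_lit 0],[nat_lit 2,nat_lit 1,nat_lit 0],[nat_lit 5,nat_lit 3,nat_lit 2,nat_lit 1,nat_lit 0],[nat_lit 5,nat_lit 4,nat_lit 2,nat_lit 1],[nat_lit 5,nat_lit 0],[nat_lit 8,nat_lit 7,nat_lit 5,nat_lit 0],[nat_lit 8,nat_lit 6,nat_lit 5,nat_lit 4,nat_lit 3],[nat_lit 8,nat_lit 4,nat_lit 3,nat_lit 1],[nat_lit 8,nat_lit 7,nat_lit 6,nat_lit 2,nat_lit 0]],[[nat_lit 0],[nat_lit 5,nat_lit 1,nat_lit 0],[nat_lit 8,nat_lit 7,nat_lit 6,nat_lit 5,nat_lit 2,nat_lit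 1,nat_lit 0],[nat_lit 6,nat_lit 5,nat_lit 3,nat_lit 2,nat_lit 1,nat_lit 0],[nat_lit 6,nat_lit 4,nat_lit 2,nat_lit 1],[nat_lit 5,nat_lit 0],[nat_lit 8,nat_lit 7,nat_lit 5,nat_lit 0],[nat_lit 8,nat_lit 6,nat_lit 4,nat_lit 3,nat_lit 0],[nat_lit 8,nat_lit 5,nat_lit 4,nat_lit 3,nat_lit 1,nat_lit 0],[nat_lit 9,nat_lit 6,nat_lit 5,nat_lit 1],[nat_lit 6,nat_lit 2,nat_lit 1]]],[nat_lit 1],[nat_lit 10],[],[],nat_lit 0x4ce3218⟩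
noncomputable def h96 : Hdr :=
  ⟨(nat_lit 6),(nat_lit 11),[[[]],[[nat_lit 0],[nat_lit 0]],[[nat_lit 0],[nat_lit 1,nat_lit 0],[nat_lit 0]],[[nat_lit 0],[nat_lit 1],[nat_lit 2],[nat_lit 0]],[[nat_lit 0],[nat_lit 1],[nat_lit 2],[nat_lit 3],[]],[[nat_lit 0],[nat_lit 1],[nat_lit 2],[nat_lit 3,nat_lit 0],[nat_lit 4,nat_lit 0],[]],[[nat_lit 0],[nat_lit 1],[nat_lit 2,nat_lit 1,nat_lit 0],[nat_lit 3,nat_lit 0],[nat_lit 4],[nat_lit 5],[nat_lit 1]],[[nat_lit 0],[nat_lit 1],[nat_lit 2,nat_lit 1],[nat_lit 5,nat_lit 4],[nat_lit 5,nat_lit 3],[nat_lit 5],[nat_lit 6,nat_lit 5],[nat_lit 1,nat_lit 0]],[[nat_lit 0],[nat_lit 1],[nat_lit 5,nat_lit 2],[nat_lit 4,nat_lit 1,nat_lit 0],[nat_lit 3,nat_lit 1],[nat_lit 5],[nat_lit 6,nat_lit 5],[nat_lit 7,nat_lit 5],[]],[[nat_lit 0],[nat_lit 5,nat_lit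 1,nat_lit 0],[nat_lit 2,nat_lit 1,nat_lit 0],[nat_lit 5,nat_lit 3,nat_lit 2,nat_lit 1,nat_lit 0],[nat_lit 5,nat_lit 4,nat_lit 2,nat_lit 1],[nat_lit 5,nat_lit 0],[nat_lit 8,nat_lit 7,nat_lit 5,nat_lit 0],[nat_lit 8,nat_lit 6,nat_lit 5,nat_lit 4,nat_lit 3],[nat_lit 8,nat_lit 4,nat_lit 3,nat_lit 1],[nat_lit 8,nat_lit 7,nat_lit 6,nat_lit 2,nat_lit 0]],[[nat_lit 0],[nat_lit 5,nat_lit 1,nat_lit 0],[nat_lit 8,nat_lit 7,nat_lit 6,nat_lit 5,nat_lit 2,nat_lit 1,nat_lit 0],[nat_lit 6,nat_lit 5,nat_lit 3,nat_lit 2,nat_lit 1,nat_lit 0],[nat_lit 6,nat_lit 4,nat_lit 2,nat_lit 1],[nat_lit 5,nat_lit 0],[nat_lit 8,nat_lit 7,nat_lit 5,nat_lit 0],[nat_lit 8,nat_lit 6,nat_lit 4,nat_lit 3,nat_lit 0],[nat_lit 8,nat_lit 5,nat_lit 4,nat_lit 3,nat_lit 1,nat_lit 0],[nat_lit 9,nat_lit 6,nat_lit 5,nat_lit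 1],[nat_lit 6,nat_lit 2,nat_lit 1,nat_lit 0]]],[nat_lit 1],[nat_lit 10],[],[],nat_lit 0x4ce3218⟩
noncomputable def h97 : Hdr :=
  ⟨(nat_lit 6),(nat_lit 11),[[[]],[[nat_lit 0],[nat_lit 0]],[[nat_lit 0],[nat_lit 1,nat_lit 0],[nat_lit 0]],[[nat_lit 0],[nat_lit 1],[nat_lit 2],[nat_lit 0]],[[nat_lit 0],[nat_lit 1],[nat_lit 2],[nat_lit 3],[]],[[nat_lit 0],[nat_lit 1],[nat_lit 2],[nat_lit 3,nat_lit 0],[nat_lit 4,nat_lit 0],[]],[[nat_lit 0],[nat_lit 1],[nat_lit 2,nat_lit 1,nat_lit 0],[nat_lit 3,nat_lit 0],[nat_lit 4],[nat_lit 5],[nat_lit 1]],[[nat_lit 0],[nat_lit 1],[nat_lit 2,nat_lit 1],[nat_lit 5,nat_lit 4],[nat_lit 5,nat_lit 3],[nat_lit 5],[nat_lit 6,nat_lit 5],[nat_lit 1,nat_lit 0]],[[nat_lit 0],[nat_lit 1],[nat_lit 5,nat_lit 2],[nat_lit 4,nat_lit 1,nat_lit 0],[nat_lit 3,nat_lit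 1],[nat_lit 5],[nat_lit 6,nat_lit 5],[nat_lit 7,nat_lit 5],[]],[[nat_lit 0],[nat_lit 5,nat_lit 1,nat_lit 0],[nat_lit 2,nat_lit 1,nat_lit 0],[nat_lit 5,nat_lit 3,nat_lit 2,nat_lit 1,nat_lit 0],[nat_lit 5,nat_lit 4,nat_lit 2,nat_lit 1],[nat_lit 5,nat_lit 0],[nat_lit 8,nat_lit 7,nat_lit 5,nat_lit 0],[nat_lit 8,nat_lit 6,nat_lit 5,nat_lit 4,nat_lit 3],[nat_lit 8,nat_lit 4,nat_lit 3,nat_lit 1],[nat_lit 8,nat_lit 7,nat_lit 6,nat_lit 2,nat_lit 0]],[[nat_lit 0],[nat_lit 5,nat_lit 1,nat_lit 0],[nat_lit 8,nat_lit 7,nat_lit 6,nat_lit 2],[nat_lit 6,nat_lit 5,nat_lit 3,nat_lit 2,nat_lit 1,nat_lit 0],[nat_lit 6,nat_lit 4,nat_lit 2,nat_lit 1],[nat_lit 5],[nat_lit 8,nat_lit 7,nat_lit 5],[nat_lit 8,nat_lit 6,nat_lit 0],[nat_lit 8,nat_lit 5,nat_lit 0],[nat_lit 9,nat_lit 6,nat_lit 5,nat_lit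 2],[nat_lit 8,nat_lit 7,nat_lit 6,nat_lit 0]]],[nat_lit 1],[nat_lit 10],[],[],nat_lit 0x4ce3218⟩
noncomputable def h98 : Hdr :=
  ⟨(nat_lit 6),(nat_lit 11),[[[]],[[nat_lit 0],[nat_lit 0]],[[nat_lit 0],[nat_lit 1,nat_lit 0],[nat_lit 0]],[[nat_lit 0],[nat_lit 1],[nat_lit 2],[nat_lit 0]],[[nat_lit 0],[nat_lit 1],[nat_lit 2],[nat_lit 3],[]],[[nat_lit 0],[nat_lit 1],[nat_lit 2],[nat_lit 3,nat_lit 0],[nat_lit 4,nat_lit 0],[]],[[nat_lit 0],[nat_lit 1],[nat_lit 2,nat_lit 1,nat_lit 0],[nat_lit 3,nat_lit 0],[nat_lit 4],[nat_lit 5],[nat_lit 1]],[[nat_lit 0],[nat_lit 1],[nat_lit 2,nat_lit 1],[nat_lit 5,nat_lit 4],[nat_lit 5,nat_lit 3],[nat_lit 5],[nat_lit 6,nat_lit 5],[nat_lit 1,nat_lit 0]],[[nat_lit 0],[nat_lit 1],[nat_lit 5,nat_lit 2],[nat_lit 4,nat_lit 1,nat_lit 0],[nat_lit 3,nat_lit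 1],[nat_lit 5],[nat_lit 6,nat_lit 5],[nat_lit 7,nat_lit 5],[]],[[nat_lit 0],[nat_lit 5,nat_lit 1,nat_lit 0],[nat_lit 2,nat_lit 1,nat_lit 0],[nat_lit 5,nat_lit 3,nat_lit 2,nat_lit 1,nat_lit 0],[nat_lit 5,nat_lit 4,nat_lit 2,nat_lit 1],[nat_lit 5,nat_lit 0],[nat_lit 8,nat_lit 7,nat_lit 5,nat_lit 0],[nat_lit 8,nat_lit 6,nat_lit 5,nat_lit 4,nat_lit 3],[nat_lit 8,nat_lit 4,nat_lit 3,nat_lit 1],[nat_lit 8,nat_lit 7,nat_lit 6,nat_lit 2,nat_lit 0]],[[nat_lit 0],[nat_lit 5,nat_lit 1,nat_lit 0],[nat_lit 8,nat_lit 7,nat_lit 6,nat_lit 2],[nat_lit 6,nat_lit 5,nat_lit 3,nat_lit 2,nat_lit 1,nat_lit 0],[nat_lit 6,nat_lit 4,nat_lit 2,nat_lit 1],[nat_lit 5],[nat_lit 8,nat_lit 7,nat_lit 5],[nat_lit 8,nat_lit 6,nat_lit 0],[nat_lit 8,nat_lit 5,nat_lit 0],[nat_lit 9,nat_lit 6,nat_lit 5,nat_lit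 2,nat_lit 0],[nat_lit 8,nat_lit 7,nat_lit 6,nat_lit 0]]],[nat_lit 1],[nat_lit 10],[],[],nat_lit 0x4ce3218⟩
noncomputable def h99 : Hdr :=
  ⟨(nat_lit 6),(nat_lit 11),[[[]],[[nat_lit 0],[nat_lit 0]],[[nat_lit 0],[nat_lit 1,nat_lit 0],[nat_lit 0]],[[nat_lit 0],[nat_lit 1],[nat_lit 2],[nat_lit 0]],[[nat_lit 0],[nat_lit 1],[nat_lit 2],[nat_lit 3],[]],[[nat_lit 0],[nat_lit 1],[nat_lit 2],[nat_lit 3,nat_lit 0],[nat_lit 4,nat_lit 0],[]],[[nat_lit 0],[nat_lit 1],[nat_lit 2,nat_lit 1,nat_lit 0],[nat_lit 3,nat_lit 0],[nat_lit 4],[nat_lit 5],[nat_lit 1]],[[nat_lit 0],[nat_lit 1],[nat_lit 2,nat_lit 1],[nat_lit 5,nat_lit 4],[nat_lit 5,nat_lit 3],[nat_lit 5],[nat_lit 6,nat_lit 5],[nat_lit 1,nat_lit 0]],[[nat_lit 0],[nat_lit 1],[nat_lit 5,nat_lit 2],[nat_lit 4,nat_lit 1,nat_lit 0],[nat_lit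 3,nat_lit 1],[nat_lit 5],[nat_lit 6,nat_lit 5],[nat_lit 7,nat_lit 5],[]],[[nat_lit 0],[nat_lit 5,nat_lit 1,nat_lit 0],[nat_lit 2,nat_lit 1,nat_lit 0],[nat_lit 5,nat_lit 3,nat_lit 2,nat_lit 1,nat_lit 0],[nat_lit 5,nat_lit 4,nat_lit 2,nat_lit 1],[nat_lit 5,nat_lit 0],[nat_lit 8,nat_lit 7,nat_lit 5,nat_lit 0],[nat_lit 8,nat_lit 6,nat_lit 5,nat_lit 4,nat_lit 3],[nat_lit 8,nat_lit 4,nat_lit 3,nat_lit 1],[nat_lit 8,nat_lit 7,nat_lit 6,nat_lit 2,nat_lit 0]],[[nat_lit 0],[nat_lit 5,nat_lit 1,nat_lit 0],[nat_lit 8,nat_lit 7,nat_lit 6,nat_lit 2],[nat_lit 6,nat_lit 5,nat_lit 3,nat_lit 2,nat_lit 1,nat_lit 0],[nat_lit 6,nat_lit 4,nat_lit 2,nat_lit 1],[nat_lit 5],[nat_lit 8,nat_lit 7,nat_lit 5],[nat_lit 8,nat_lit 6],[nat_lit 8,nat_lit 5],[nat_lit 9,nat_lit 6,nat_lit 5,nat_lit 2],[nat_lit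 8,nat_lit 7,nat_lit 6,nat_lit 0]]],[nat_lit 1],[nat_lit 10],[],[],nat_lit 0x4ce3218⟩
noncomputable def h100 : Hdr :=
  ⟨(nat_lit 6),(nat_lit 11),[[[]],[[nat_lit 0],[nat_lit 0]],[[nat_lit 0],[nat_lit 1,nat_lit 0],[nat_lit 0]],[[nat_lit 0],[nat_lit 1],[nat_lit 2],[nat_lit 0]],[[nat_lit 0],[nat_lit 1],[nat_lit 2],[nat_lit 3],[]],[[nat_lit 0],[nat_lit 1],[nat_lit 2],[nat_lit 3,nat_lit 0],[nat_lit 4,nat_lit 0],[]],[[nat_lit 0],[nat_lit 1],[nat_lit 2,nat_lit 1,nat_lit 0],[nat_lit 3,nat_lit 0],[nat_lit 4],[nat_lit 5],[nat_lit 1]],[[nat_lit 0],[nat_lit 1],[nat_lit 2,nat_lit 1],[nat_lit 5,nat_lit 4],[nat_lit 5,nat_lit 3],[nat_lit 5],[nat_lit 6,nat_lit 5],[nat_lit 1,nat_lit 0]],[[nat_lit 0],[nat_lit 1],[nat_lit 5,nat_lit 2],[nat_lit 4,nat_lit 1,nat_lit 0],[nat_lit 3,nat_lit 1],[nat_lit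 5],[nat_lit 6,nat_lit 5],[nat_lit 7,nat_lit 5],[]],[[nat_lit 0],[nat_lit 5,nat_lit 1,nat_lit 0],[nat_lit 2,nat_lit 1,nat_lit 0],[nat_lit 5,nat_lit 3,nat_lit 2,nat_lit 1,nat_lit 0],[nat_lit 5,nat_lit 4,nat_lit 2,nat_lit 1],[nat_lit 5,nat_lit 0],[nat_lit 8,nat_lit 7,nat_lit 5,nat_lit 0],[nat_lit 8,nat_lit 6,nat_lit 5,nat_lit 4,nat_lit 3],[nat_lit 8,nat_lit 4,nat_lit 3,nat_lit 1],[nat_lit 8,nat_lit 7,nat_lit 6,nat_lit 2,nat_lit 0]],[[nat_lit 0],[nat_lit 5,nat_lit 1,nat_lit 0],[nat_lit 8,nat_lit 7,nat_lit 6,nat_lit 2],[nat_lit 6,nat_lit 5,nat_lit 3,nat_lit 2,nat_lit 1,nat_lit 0],[nat_lit 6,nat_lit 4,nat_lit 2,nat_lit 1],[nat_lit 5],[nat_lit 8,nat_lit 7,nat_lit 5],[nat_lit 8,nat_lit 6],[nat_lit 8,nat_lit 5],[nat_lit 9,nat_lit 6,nat_lit 5,nat_lit 2],[nat_lit 8,nat_lit 7,nat_lit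 6]]],[nat_lit 1],[nat_lit 10],[],[],nat_lit 0x4ce3218⟩
noncomputable def h101 : Hdr :=
  ⟨(nat_lit 6),(nat_lit 11),[[[]],[[nat_lit 0],[nat_lit 0]],[[nat_lit 0],[nat_lit 1,nat_lit 0],[nat_lit 0]],[[nat_lit 0],[nat_lit 1],[nat_lit 2],[nat_lit 0]],[[nat_lit 0],[nat_lit 1],[nat_lit 2],[nat_lit 3],[]],[[nat_lit 0],[nat_lit 1],[nat_lit 2],[nat_lit 3,nat_lit 0],[nat_lit 4,nat_lit 0],[]],[[nat_lit 0],[nat_lit 1],[nat_lit 2,nat_lit 1,nat_lit 0],[nat_lit 3,nat_lit 0],[nat_lit 4],[nat_lit 5],[nat_lit 1]],[[nat_lit 0],[nat_lit 1],[nat_lit 2,nat_lit 1],[nat_lit 5,nat_lit 4],[nat_lit 5,nat_lit 3],[nat_lit 5],[nat_lit 6,nat_lit 5],[nat_lit 1,nat_lit 0]],[[nat_lit 0],[nat_lit 1],[nat_lit 5,nat_lit 2],[nat_lit 4,nat_lit 1,nat_lit 0],[nat_lit 3,nat_lit 1],[nat_lit 5],[nat_lit 6,nat_lit 5],[nat_lit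 7,nat_lit 5],[]],[[nat_lit 0],[nat_lit 5,nat_lit 1,nat_lit 0],[nat_lit 2,nat_lit 1,nat_lit 0],[nat_lit 5,nat_lit 3,nat_lit 2,nat_lit 1,nat_lit 0],[nat_lit 5,nat_lit 4,nat_lit 2,nat_lit 1],[nat_lit 5,nat_lit 0],[nat_lit 8,nat_lit 7,nat_lit 5,nat_lit 0],[nat_lit 8,nat_lit 6,nat_lit 5,nat_lit 4,nat_lit 3],[nat_lit 8,nat_lit 4,nat_lit 3,nat_lit 1],[nat_lit 8,nat_lit 7,nat_lit 6,nat_lit 2,nat_lit 0]],[[nat_lit 0],[nat_lit 5,nat_lit 1,nat_lit 0],[nat_lit 8,nat_lit 7,nat_lit 6,nat_lit 2],[nat_lit 6,nat_lit 5,nat_lit 3,nat_lit 2,nat_lit 1,nat_lit 0],[nat_lit 6,nat_lit 4,nat_lit 2,nat_lit 1],[nat_lit 5],[nat_lit 8,nat_lit 7,nat_lit 5],[nat_lit 8,nat_lit 6],[nat_lit 8,nat_lit 5],[nat_lit 9,nat_lit 6,nat_lit 5,nat_lit 2,nat_lit 0],[nat_lit 8,nat_lit 7,nat_lit 6,nat_lit 0]]],[nat_lit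 1],[nat_lit 10],[],[],nat_lit 0x4ce3218⟩
noncomputable def h102 : Hdr :=
  ⟨(nat_lit 6),(nat_lit 11),[[[]],[[nat_lit 0],[nat_lit 0]],[[nat_lit 0],[nat_lit 1,nat_lit 0],[nat_lit 0]],[[nat_lit 0],[nat_lit 1],[nat_lit 2],[nat_lit 0]],[[nat_lit 0],[nat_lit 1],[nat_lit 2],[nat_lit 3],[]],[[nat_lit 0],[nat_lit 1],[nat_lit 2],[nat_lit 3,nat_lit 0],[nat_lit 4,nat_lit 0],[]],[[nat_lit 0],[nat_lit 1],[nat_lit 2,nat_lit 1,nat_lit 0],[nat_lit 3,nat_lit 0],[nat_lit 4],[nat_lit 5],[nat_lit 1]],[[nat_lit 0],[nat_lit 1],[nat_lit 2,nat_lit 1],[nat_lit 5,nat_lit 4],[nat_lit 5,nat_lit 3],[nat_lit 5],[nat_lit 6,nat_lit 5],[nat_lit 1,nat_lit 0]],[[nat_lit 0],[nat_lit 1],[nat_lit 5,nat_lit 2],[nat_lit 4,nat_lit 1,nat_lit 0],[nat_lit 3,nat_lit 1],[nat_lit 5],[nat_lit 6,nat_lit 5],[nat_lit 7,nat_lit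 5],[]],[[nat_lit 0],[nat_lit 5,nat_lit 1,nat_lit 0],[nat_lit 2,nat_lit 1,nat_lit 0],[nat_lit 5,nat_lit 3,nat_lit 2,nat_lit 1,nat_lit 0],[nat_lit 5,nat_lit 4,nat_lit 2,nat_lit 1],[nat_lit 5,nat_lit 0],[nat_lit 8,nat_lit 7,nat_lit 5,nat_lit 0],[nat_lit 8,nat_lit 6,nat_lit 5,nat_lit 4,nat_lit 3],[nat_lit 8,nat_lit 4,nat_lit 3,nat_lit 1],[nat_lit 8,nat_lit 7,nat_lit 6,nat_lit 2,nat_lit 0]],[[nat_lit 0],[nat_lit 5,nat_lit 1,nat_lit 0],[nat_lit 8,nat_lit 7,nat_lit 6,nat_lit 2],[nat_lit 6,nat_lit 5,nat_lit 3,nat_lit 2,nat_lit 1,nat_lit 0],[nat_lit 6,nat_lit 4,nat_lit 2,nat_lit 1],[nat_lit 5],[nat_lit 8,nat_lit 7,nat_lit 5],[nat_lit 8,nat_lit 6],[nat_lit 8,nat_lit 5],[nat_lit 9,nat_lit 6,nat_lit 5,nat_lit 2,nat_lit 0],[nat_lit 8,nat_lit 7,nat_lit 6]]],[nat_lit 1],[nat_lit 10],[],[],nat_lit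 0x4ce3218⟩
noncomputable def h103 : Hdr :=
  ⟨(nat_lit 6),(nat_lit 11),[[[]],[[nat_lit 0],[nat_lit 0]],[[nat_lit 0],[nat_lit 1,nat_lit 0],[nat_lit 0]],[[nat_lit 0],[nat_lit 1],[nat_lit 2],[nat_lit 0]],[[nat_lit 0],[nat_lit 1],[nat_lit 2],[nat_lit 3],[]],[[nat_lit 0],[nat_lit 1],[nat_lit 2],[nat_lit 3,nat_lit 0],[nat_lit 4,nat_lit 0],[]],[[nat_lit 0],[nat_lit 1],[nat_lit 2,nat_lit 1,nat_lit 0],[nat_lit 3,nat_lit 0],[nat_lit 4],[nat_lit 5],[nat_lit 1]],[[nat_lit 0],[nat_lit 1],[nat_lit 2,nat_lit 1],[nat_lit 5,nat_lit 4],[nat_lit 5,nat_lit 3],[nat_lit 5],[nat_lit 6,nat_lit 5],[nat_lit 1,nat_lit 0]],[[nat_lit 0],[nat_lit 1],[nat_lit 5,nat_lit 2],[nat_lit 4,nat_lit 1,nat_lit 0],[nat_lit 3,nat_lit 1],[nat_lit 5],[nat_lit 6,nat_lit 5],[nat_lit 7,nat_lit 5],[]],[[nat_lit 0],[nat_lit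 5,nat_lit 1,nat_lit 0],[nat_lit 2,nat_lit 1,nat_lit 0],[nat_lit 5,nat_lit 3,nat_lit 2,nat_lit 1,nat_lit 0],[nat_lit 5,nat_lit 4,nat_lit 2,nat_lit 1],[nat_lit 5,nat_lit 0],[nat_lit 8,nat_lit 7,nat_lit 5,nat_lit 0],[nat_lit 8,nat_lit 6,nat_lit 5,nat_lit 4,nat_lit 3],[nat_lit 8,nat_lit 4,nat_lit 3,nat_lit 1],[nat_lit 8,nat_lit 7,nat_lit 6,nat_lit 2,nat_lit 0]],[[nat_lit 0],[nat_lit 5,nat_lit 1],[nat_lit 8,nat_lit 7,nat_lit 6,nat_lit 5,nat_lit 2,nat_lit 1,nat_lit 0],[nat_lit 6,nat_lit 5,nat_lit 3,nat_lit 2,nat_lit 1],[nat_lit 6,nat_lit 4,nat_lit 2,nat_lit 1,nat_lit 0],[nat_lit 5,nat_lit 0],[nat_lit 8,nat_lit 7,nat_lit 5,nat_lit 4,nat_lit 3,nat_lit 1,nat_lit 0],[nat_lit 8,nat_lit 6,nat_lit 1,nat_lit 0],[nat_lit 8,nat_lit 4,nat_lit 3,nat_lit 1],[nat_lit 9,nat_lit 6,nat_lit 5,nat_lit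 4,nat_lit 3],[nat_lit 8,nat_lit 6,nat_lit 2,nat_lit 1]]],[nat_lit 1],[nat_lit 10],[],[],nat_lit 0x4ce3218⟩
noncomputable def h104 : Hdr :=
  ⟨(nat_lit 6),(nat_lit 11),[[[]],[[nat_lit 0],[nat_lit 0]],[[nat_lit 0],[nat_lit 1,nat_lit 0],[nat_lit 0]],[[nat_lit 0],[nat_lit 1],[nat_lit 2],[nat_lit 0]],[[nat_lit 0],[nat_lit 1],[nat_lit 2],[nat_lit 3],[]],[[nat_lit 0],[nat_lit 1],[nat_lit 2],[nat_lit 3,nat_lit 0],[nat_lit 4,nat_lit 0],[]],[[nat_lit 0],[nat_lit 1],[nat_lit 2,nat_lit 1,nat_lit 0],[nat_lit 3,nat_lit 0],[nat_lit 4],[nat_lit 5],[nat_lit 1]],[[nat_lit 0],[nat_lit 1],[nat_lit 2,nat_lit 1],[nat_lit 5,nat_lit 4],[nat_lit 5,nat_lit 3],[nat_lit 5],[nat_lit 6,nat_lit 5],[nat_lit 1,nat_lit 0]],[[nat_lit 0],[nat_lit 1],[nat_lit 5,nat_lit 2],[nat_lit 4,nat_lit 1,nat_lit 0],[nat_lit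 3,nat_lit 1],[nat_lit 5],[nat_lit 6,nat_lit 5],[nat_lit 7,nat_lit 5],[]],[[nat_lit 0],[nat_lit 5,nat_lit 1,nat_lit 0],[nat_lit 2,nat_lit 1,nat_lit 0],[nat_lit 5,nat_lit 3,nat_lit 2,nat_lit 1,nat_lit 0],[nat_lit 5,nat_lit 4,nat_lit 2,nat_lit 1],[nat_lit 5,nat_lit 0],[nat_lit 8,nat_lit 7,nat_lit 5,nat_lit 0],[nat_lit 8,nat_lit 6,nat_lit 5,nat_lit 4,nat_lit 3],[nat_lit 8,nat_lit 4,nat_lit 3,nat_lit 1],[nat_lit 8,nat_lit 7,nat_lit 6,nat_lit 2,nat_lit 0]],[[nat_lit 0],[nat_lit 5,nat_lit 1],[nat_lit 8,nat_lit 7,nat_lit 6,nat_lit 5,nat_lit 2,nat_lit 1,nat_lit 0],[nat_lit 6,nat_lit 5,nat_lit 3,nat_lit 2,nat_lit 1],[nat_lit 6,nat_lit 4,nat_lit 2,nat_lit 1,nat_lit 0],[nat_lit 5,nat_lit 0],[nat_lit 8,nat_lit 7,nat_lit 5,nat_lit 4,nat_lit 3,nat_lit 1,nat_lit 0],[nat_lit 8,nat_lit 6,nat_lit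 1,nat_lit 0],[nat_lit 8,nat_lit 4,nat_lit 3,nat_lit 1],[nat_lit 9,nat_lit 6,nat_lit 5,nat_lit 4,nat_lit 3,nat_lit 0],[nat_lit 8,nat_lit 6,nat_lit 2,nat_lit 1]]],[nat_lit 1],[nat_lit 10],[],[],nat_lit 0x4ce3218⟩
noncomputable def h105 : Hdr :=
  ⟨(nat_lit 6),(nat_lit 11),[[[]],[[nat_lit 0],[nat_lit 0]],[[nat_lit 0],[nat_lit 1,nat_lit 0],[nat_lit 0]],[[nat_lit 0],[nat_lit 1],[nat_lit 2],[nat_lit 0]],[[nat_lit 0],[nat_lit 1],[nat_lit 2],[nat_lit 3],[]],[[nat_lit 0],[nat_lit 1],[nat_lit 2],[nat_lit 3,nat_lit 0],[nat_lit 4,nat_lit 0],[]],[[nat_lit 0],[nat_lit 1],[nat_lit 2,nat_lit 1,nat_lit 0],[nat_lit 3,nat_lit 0],[nat_lit 4],[nat_lit 5],[nat_lit 1]],[[nat_lit 0],[nat_lit 1],[nat_lit 2,nat_lit 1],[nat_lit 5,nat_lit 4],[nat_lit 5,nat_lit 3],[nat_lit 5],[nat_lit 6,nat_lit 5],[nat_lit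 1,nat_lit 0]],[[nat_lit 0],[nat_lit 1],[nat_lit 5,nat_lit 2],[nat_lit 4,nat_lit 1,nat_lit 0],[nat_lit 3,nat_lit 1],[nat_lit 5],[nat_lit 6,nat_lit 5],[nat_lit 7,nat_lit 5],[]],[[nat_lit 0],[nat_lit 5,nat_lit 1,nat_lit 0],[nat_lit 2,nat_lit 1,nat_lit 0],[nat_lit 5,nat_lit 3,nat_lit 2,nat_lit 1,nat_lit 0],[nat_lit 5,nat_lit 4,nat_lit 2,nat_lit 1],[nat_lit 5,nat_lit 0],[nat_lit 8,nat_lit 7,nat_lit 5,nat_lit 0],[nat_lit 8,nat_lit 6,nat_lit 5,nat_lit 4,nat_lit 3],[nat_lit 8,nat_lit 4,nat_lit 3,nat_lit 1],[nat_lit 8,nat_lit 7,nat_lit 6,nat_lit 2,nat_lit 0]],[[nat_lit 0],[nat_lit 5,nat_lit 1],[nat_lit 8,nat_lit 7,nat_lit 6,nat_lit 2],[nat_lit 6,nat_lit 5,nat_lit 3,nat_lit 2,nat_lit 1],[nat_lit 6,nat_lit 4,nat_lit 2,nat_lit 1,nat_lit 0],[nat_lit 5],[nat_lit 8,nat_lit 7,nat_lit 5,nat_lit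 4,nat_lit 3,nat_lit 1],[nat_lit 8,nat_lit 6,nat_lit 4,nat_lit 3,nat_lit 1,nat_lit 0],[nat_lit 8],[nat_lit 9,nat_lit 6,nat_lit 5,nat_lit 4,nat_lit 3,nat_lit 2,nat_lit 1],[nat_lit 7,nat_lit 6,nat_lit 4,nat_lit 3,nat_lit 0]]],[nat_lit 1],[nat_lit 10],[],[],nat_lit 0x4ce3218⟩
noncomputable def h106 : Hdr :=
  ⟨(nat_lit 6),(nat_lit 11),[[[]],[[nat_lit 0],[nat_lit 0]],[[nat_lit 0],[nat_lit 1,nat_lit 0],[nat_lit 0]],[[nat_lit 0],[nat_lit 1],[nat_lit 2],[nat_lit 0]],[[nat_lit 0],[nat_lit 1],[nat_lit 2],[nat_lit 3],[]],[[nat_lit 0],[nat_lit 1],[nat_lit 2],[nat_lit 3,nat_lit 0],[nat_lit 4,nat_lit 0],[]],[[nat_lit 0],[nat_lit 1],[nat_lit 2,nat_lit 1,nat_lit 0],[nat_lit 3,nat_lit 0],[nat_lit 4],[nat_lit 5],[nat_lit 1]],[[nat_lit 0],[nat_lit 1],[nat_lit 2,nat_lit 1],[nat_lit 5,nat_lit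 4],[nat_lit 5,nat_lit 3],[nat_lit 5],[nat_lit 6,nat_lit 5],[nat_lit 1,nat_lit 0]],[[nat_lit 0],[nat_lit 1],[nat_lit 5,nat_lit 2],[nat_lit 4,nat_lit 1,nat_lit 0],[nat_lit 3,nat_lit 1],[nat_lit 5],[nat_lit 6,nat_lit 5],[nat_lit 7,nat_lit 5],[]],[[nat_lit 0],[nat_lit 5,nat_lit 1,nat_lit 0],[nat_lit 2,nat_lit 1,nat_lit 0],[nat_lit 5,nat_lit 3,nat_lit 2,nat_lit 1,nat_lit 0],[nat_lit 5,nat_lit 4,nat_lit 2,nat_lit 1],[nat_lit 5,nat_lit 0],[nat_lit 8,nat_lit 7,nat_lit 5,nat_lit 0],[nat_lit 8,nat_lit 6,nat_lit 5,nat_lit 4,nat_lit 3],[nat_lit 8,nat_lit 4,nat_lit 3,nat_lit 1],[nat_lit 8,nat_lit 7,nat_lit 6,nat_lit 2,nat_lit 0]],[[nat_lit 0],[nat_lit 5,nat_lit 1],[nat_lit 8,nat_lit 7,nat_lit 6,nat_lit 2],[nat_lit 6,nat_lit 5,nat_lit 3,nat_lit 2,nat_lit 1],[nat_lit 6,nat_lit 4,nat_lit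 2,nat_lit 1,nat_lit 0],[nat_lit 5],[nat_lit 8,nat_lit 7,nat_lit 5,nat_lit 4,nat_lit 3,nat_lit 1],[nat_lit 8,nat_lit 6,nat_lit 4,nat_lit 3,nat_lit 1,nat_lit 0],[nat_lit 8],[nat_lit 9,nat_lit 6,nat_lit 5,nat_lit 4,nat_lit 3,nat_lit 2,nat_lit 1,nat_lit 0],[nat_lit 7,nat_lit 6,nat_lit 4,nat_lit 3,nat_lit 0]]],[nat_lit 1],[nat_lit 10],[],[],nat_lit 0x4ce3218⟩
noncomputable def h107 : Hdr :=
  ⟨(nat_lit 6),(nat_lit 10),[[[]],[[nat_lit 0],[nat_lit 0]],[[nat_lit 0],[nat_lit 1,nat_lit 0],[nat_lit 0]],[[nat_lit 0],[nat_lit 1],[nat_lit 2],[nat_lit 0]],[[nat_lit 0],[nat_lit 1],[nat_lit 2],[nat_lit 3],[]],[[nat_lit 0],[nat_lit 1],[nat_lit 2],[nat_lit 3,nat_lit 0],[nat_lit 4,nat_lit 0],[]],[[nat_lit 0],[nat_lit 1],[nat_lit 2,nat_lit 1,nat_lit 0],[nat_lit 3,nat_lit 0],[nat_lit 4],[nat_lit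 5],[nat_lit 1]],[[nat_lit 0],[nat_lit 1],[nat_lit 2,nat_lit 1],[nat_lit 5,nat_lit 4],[nat_lit 5,nat_lit 3],[nat_lit 5],[nat_lit 6,nat_lit 5],[nat_lit 1,nat_lit 0]],[[nat_lit 0],[nat_lit 1],[nat_lit 5,nat_lit 2],[nat_lit 4,nat_lit 1,nat_lit 0],[nat_lit 3,nat_lit 1],[nat_lit 5],[nat_lit 6,nat_lit 5],[nat_lit 7,nat_lit 5],[]],[[nat_lit 0],[nat_lit 5,nat_lit 1,nat_lit 0],[nat_lit 2,nat_lit 1,nat_lit 0],[nat_lit 5,nat_lit 3,nat_lit 2,nat_lit 1,nat_lit 0],[nat_lit 5,nat_lit 4,nat_lit 2,nat_lit 1],[nat_lit 5,nat_lit 0],[nat_lit 8,nat_lit 7,nat_lit 5,nat_lit 0],[nat_lit 8,nat_lit 6,nat_lit 5,nat_lit 4,nat_lit 3],[nat_lit 8,nat_lit 4,nat_lit 3,nat_lit 1],[nat_lit 8,nat_lit 7,nat_lit 6,nat_lit 2,nat_lit 0]]],[nat_lit 1],[nat_lit 10,nat_lit 76],[],[],nat_lit 0x4ce3218⟩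
noncomputable def h108 : Hdr :=
  ⟨(nat_lit 6),(nat_lit 10),[[[]],[[nat_lit 0],[nat_lit 0]],[[nat_lit 0],[nat_lit 1,nat_lit 0],[nat_lit 0]],[[nat_lit 0],[nat_lit 1],[nat_lit 2],[nat_lit 0]],[[nat_lit 0],[nat_lit 1],[nat_lit 2],[nat_lit 3],[]],[[nat_lit 0],[nat_lit 1],[nat_lit 2],[nat_lit 3,nat_lit 0],[nat_lit 4,nat_lit 0],[]],[[nat_lit 0],[nat_lit 1],[nat_lit 2,nat_lit 1,nat_lit 0],[nat_lit 3,nat_lit 0],[nat_lit 4],[nat_lit 5],[nat_lit 1]],[[nat_lit 0],[nat_lit 1],[nat_lit 2,nat_lit 1],[nat_lit 5,nat_lit 4],[nat_lit 5,nat_lit 3],[nat_lit 5],[nat_lit 6,nat_lit 5],[nat_lit 1,nat_lit 0]],[[nat_lit 0],[nat_lit 1],[nat_lit 5,nat_lit 2],[nat_lit 4,nat_lit 1,nat_lit 0],[nat_lit 3,nat_lit 1],[nat_lit 5],[nat_lit 6,nat_lit 5],[nat_lit 7,nat_lit 5],[]],[[nat_lit 0],[nat_lit 5,nat_lit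 1,nat_lit 0],[nat_lit 2,nat_lit 1,nat_lit 0],[nat_lit 5,nat_lit 3,nat_lit 2,nat_lit 1,nat_lit 0],[nat_lit 5,nat_lit 4,nat_lit 2,nat_lit 1],[nat_lit 5,nat_lit 0],[nat_lit 8,nat_lit 7,nat_lit 5,nat_lit 0],[nat_lit 8,nat_lit 6,nat_lit 5,nat_lit 4,nat_lit 3],[nat_lit 8,nat_lit 4,nat_lit 3,nat_lit 1],[nat_lit 8,nat_lit 7,nat_lit 6,nat_lit 2,nat_lit 0]]],[nat_lit 1],[nat_lit 10],[],[⟨[nat_lit 1,nat_lit 2,nat_lit 4,nat_lit 8,nat_lit 16,nat_lit 32],[nat_lit 1,nat_lit 6,nat_lit 2,nat_lit 8,nat_lit 16,nat_lit 32],[]⟩,⟨[nat_lit 1,nat_lit 2,nat_lit 4,nat_lit 8,nat_lit 16,nat_lit 32],[nat_lit 1,nat_lit 4,nat_lit 34,nat_lit 20,nat_lit 12,nat_lit 32],[]⟩,⟨[nat_lit 1,nat_lit 69,nat_lit 11,nat_lit 16],[nat_lit 69,nat_lit 68,nat_lit 11,nat_lit 16],[nat_lit 0,nat_lit 1,nat_lit 69,nat_lit 68,nat_lit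 11,nat_lit 10,nat_lit 78,nat_lit 79,nat_lit 16,nat_lit 17,nat_lit 85,nat_lit 84,nat_lit 27,nat_lit 26,nat_lit 94,nat_lit 95]⟩],nat_lit 0x4ce3218⟩
noncomputable def h109 : Hdr :=
  ⟨(nat_lit 6),(nat_lit 10),[[[]],[[nat_lit 0],[nat_lit 0]],[[nat_lit 0],[nat_lit 1,nat_lit 0],[nat_lit 0]],[[nat_lit 0],[nat_lit 1],[nat_lit 2],[nat_lit 0]],[[nat_lit 0],[nat_lit 1],[nat_lit 2],[nat_lit 3],[]],[[nat_lit 0],[nat_lit 1],[nat_lit 2],[nat_lit 3,nat_lit 0],[nat_lit 4,nat_lit 0],[]],[[nat_lit 0],[nat_lit 1],[nat_lit 2,nat_lit 1,nat_lit 0],[nat_lit 3,nat_lit 0],[nat_lit 4],[nat_lit 5],[nat_lit 1]],[[nat_lit 0],[nat_lit 1],[nat_lit 2,nat_lit 1],[nat_lit 5,nat_lit 4],[nat_lit 5,nat_lit 3],[nat_lit 5],[nat_lit 6,nat_lit 5],[nat_lit 1,nat_lit 0]],[[nat_lit 0],[nat_lit 1],[nat_lit 5,nat_lit 2],[nat_lit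 4,nat_lit 1,nat_lit 0],[nat_lit 3,nat_lit 1],[nat_lit 5],[nat_lit 6,nat_lit 5],[nat_lit 7,nat_lit 5],[]],[[nat_lit 0],[nat_lit 5,nat_lit 1,nat_lit 0],[nat_lit 2,nat_lit 1,nat_lit 0],[nat_lit 5,nat_lit 3,nat_lit 2,nat_lit 1,nat_lit 0],[nat_lit 5,nat_lit 4,nat_lit 2,nat_lit 1],[nat_lit 5,nat_lit 0],[nat_lit 8,nat_lit 7,nat_lit 5,nat_lit 0],[nat_lit 8,nat_lit 6,nat_lit 5,nat_lit 4,nat_lit 3],[nat_lit 8,nat_lit 4,nat_lit 3,nat_lit 1,nat_lit 0],[nat_lit 8,nat_lit 7,nat_lit 6,nat_lit 4,nat_lit 3,nat_lit 2]]],[nat_lit 1],[nat_lit 10],[],[⟨[nat_lit 1,nat_lit 2,nat_lit 4,nat_lit 8,nat_lit 16,nat_lit 32],[nat_lit 1,nat_lit 6,nat_lit 2,nat_lit 8,nat_lit 16,nat_lit 32],[]⟩,⟨[nat_lit 1,nat_lit 2,nat_lit 4,nat_lit 8,nat_lit 16,nat_lit 32],[nat_lit 1,nat_lit 4,nat_lit 34,nat_lit 20,nat_lit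 12,nat_lit 32],[]⟩,⟨[nat_lit 1,nat_lit 69,nat_lit 11,nat_lit 16],[nat_lit 69,nat_lit 68,nat_lit 11,nat_lit 16],[nat_lit 0,nat_lit 1,nat_lit 69,nat_lit 68,nat_lit 11,nat_lit 10,nat_lit 78,nat_lit 79,nat_lit 16,nat_lit 17,nat_lit 85,nat_lit 84,nat_lit 27,nat_lit 26,nat_lit 94,nat_lit 95]⟩],nat_lit 0x4ce3218⟩
noncomputable def h110 : Hdr :=
  ⟨(nat_lit 6),(nat_lit 10),[[[]],[[nat_lit 0],[nat_lit 0]],[[nat_lit 0],[nat_lit 1,nat_lit 0],[nat_lit 0]],[[nat_lit 0],[nat_lit 1],[nat_lit 2],[nat_lit 0]],[[nat_lit 0],[nat_lit 1],[nat_lit 2],[nat_lit 3],[]],[[nat_lit 0],[nat_lit 1],[nat_lit 2],[nat_lit 3,nat_lit 0],[nat_lit 4,nat_lit 0],[]],[[nat_lit 0],[nat_lit 1],[nat_lit 2,nat_lit 1,nat_lit 0],[nat_lit 3,nat_lit 0],[nat_lit 4],[nat_lit 5],[nat_lit 1]],[[nat_lit 0],[nat_lit 1],[nat_lit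 2,nat_lit 1],[nat_lit 5,nat_lit 4],[nat_lit 5,nat_lit 3],[nat_lit 5],[nat_lit 6,nat_lit 5],[nat_lit 1,nat_lit 0]],[[nat_lit 0],[nat_lit 1],[nat_lit 5,nat_lit 2],[nat_lit 4,nat_lit 1,nat_lit 0],[nat_lit 3,nat_lit 1],[nat_lit 5],[nat_lit 6,nat_lit 5],[nat_lit 7,nat_lit 5],[]],[[nat_lit 0],[nat_lit 5,nat_lit 1,nat_lit 0],[nat_lit 2,nat_lit 1,nat_lit 0],[nat_lit 5,nat_lit 3,nat_lit 2,nat_lit 1,nat_lit 0],[nat_lit 5,nat_lit 4,nat_lit 2,nat_lit 1],[nat_lit 5,nat_lit 0],[nat_lit 8,nat_lit 7,nat_lit 5,nat_lit 0],[nat_lit 8,nat_lit 6,nat_lit 5,nat_lit 4,nat_lit 3,nat_lit 0],[nat_lit 8,nat_lit 4,nat_lit 3,nat_lit 1],[nat_lit 8,nat_lit 7,nat_lit 6,nat_lit 4,nat_lit 3,nat_lit 2]]],[nat_lit 1],[nat_lit 10],[],[⟨[nat_lit 1,nat_lit 2,nat_lit 4,nat_lit 8,nat_lit 16,nat_lit 32],[nat_lit 1,nat_lit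 6,nat_lit 2,nat_lit 8,nat_lit 16,nat_lit 32],[]⟩,⟨[nat_lit 1,nat_lit 2,nat_lit 4,nat_lit 8,nat_lit 16,nat_lit 32],[nat_lit 1,nat_lit 4,nat_lit 34,nat_lit 20,nat_lit 12,nat_lit 32],[]⟩,⟨[nat_lit 1,nat_lit 69,nat_lit 11,nat_lit 16],[nat_lit 69,nat_lit 68,nat_lit 11,nat_lit 16],[nat_lit 0,nat_lit 1,nat_lit 69,nat_lit 68,nat_lit 11,nat_lit 10,nat_lit 78,nat_lit 79,nat_lit 16,nat_lit 17,nat_lit 85,nat_lit 84,nat_lit 27,nat_lit 26,nat_lit 94,nat_lit 95]⟩],nat_lit 0x4ce3218⟩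
noncomputable def h111 : Hdr :=
  ⟨(nat_lit 6),(nat_lit 10),[[[]],[[nat_lit 0],[nat_lit 0]],[[nat_lit 0],[nat_lit 1,nat_lit 0],[nat_lit 0]],[[nat_lit 0],[nat_lit 1],[nat_lit 2],[nat_lit 0]],[[nat_lit 0],[nat_lit 1],[nat_lit 2],[nat_lit 3],[]],[[nat_lit 0],[nat_lit 1],[nat_lit 2],[nat_lit 3,nat_lit 0],[nat_lit 4,nat_lit 0],[]],[[nat_lit 0],[nat_lit 1],[nat_lit 2,nat_lit 1,nat_lit 0],[nat_lit 3,nat_lit 0],[nat_lit 4],[nat_lit 5],[nat_lit 1]],[[nat_lit 0],[nat_lit 1],[nat_lit 2,nat_lit 1],[nat_lit 5,nat_lit 4],[nat_lit 5,nat_lit 3],[nat_lit 5],[nat_lit 6,nat_lit 5],[nat_lit 1,nat_lit 0]],[[nat_lit 0],[nat_lit 1],[nat_lit 5,nat_lit 2],[nat_lit 4,nat_lit 1,nat_lit 0],[nat_lit 3,nat_lit 1],[nat_lit 5],[nat_lit 6,nat_lit 5],[nat_lit 7,nat_lit 5],[]],[[nat_lit 0],[nat_lit 5,nat_lit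 1,nat_lit 0],[nat_lit 2,nat_lit 1,nat_lit 0],[nat_lit 5,nat_lit 3,nat_lit 2,nat_lit 1,nat_lit 0],[nat_lit 5,nat_lit 4,nat_lit 2,nat_lit 1],[nat_lit 5,nat_lit 0],[nat_lit 8,nat_lit 7,nat_lit 5,nat_lit 0],[nat_lit 8,nat_lit 6,nat_lit 5,nat_lit 4,nat_lit 3,nat_lit 0],[nat_lit 8,nat_lit 4,nat_lit 3,nat_lit 1,nat_lit 0],[nat_lit 8,nat_lit 7,nat_lit 6,nat_lit 2,nat_lit 0]]],[nat_lit 1],[nat_lit 10],[],[⟨[nat_lit 1,nat_lit 2,nat_lit 4,nat_lit 8,nat_lit 16,nat_lit 32],[nat_lit 1,nat_lit 6,nat_lit 2,nat_lit 8,nat_lit 16,nat_lit 32],[]⟩,⟨[nat_lit 1,nat_lit 2,nat_lit 4,nat_lit 8,nat_lit 16,nat_lit 32],[nat_lit 1,nat_lit 4,nat_lit 34,nat_lit 20,nat_lit 12,nat_lit 32],[]⟩,⟨[nat_lit 1,nat_lit 69,nat_lit 11,nat_lit 16],[nat_lit 69,nat_lit 68,nat_lit 11,nat_lit 16],[nat_lit 0,nat_lit 1,nat_lit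 69,nat_lit 68,nat_lit 11,nat_lit 10,nat_lit 78,nat_lit 79,nat_lit 16,nat_lit 17,nat_lit 85,nat_lit 84,nat_lit 27,nat_lit 26,nat_lit 94,nat_lit 95]⟩],nat_lit 0x4ce3218⟩
noncomputable def h112 : Hdr :=
  ⟨(nat_lit 6),(nat_lit 10),[[[]],[[nat_lit 0],[nat_lit 0]],[[nat_lit 0],[nat_lit 1,nat_lit 0],[nat_lit 0]],[[nat_lit 0],[nat_lit 1],[nat_lit 2],[nat_lit 0]],[[nat_lit 0],[nat_lit 1],[nat_lit 2],[nat_lit 3],[]],[[nat_lit 0],[nat_lit 1],[nat_lit 2],[nat_lit 3,nat_lit 0],[nat_lit 4,nat_lit 0],[]],[[nat_lit 0],[nat_lit 1],[nat_lit 2,nat_lit 1,nat_lit 0],[nat_lit 3,nat_lit 0],[nat_lit 4],[nat_lit 5],[nat_lit 1]],[[nat_lit 0],[nat_lit 1],[nat_lit 2,nat_lit 1],[nat_lit 5,nat_lit 4],[nat_lit 5,nat_lit 3],[nat_lit 5],[nat_lit 6,nat_lit 5],[nat_lit 1,nat_lit 0]],[[nat_lit 0],[nat_lit 1],[nat_lit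 5,nat_lit 2],[nat_lit 4,nat_lit 1,nat_lit 0],[nat_lit 3,nat_lit 1],[nat_lit 5],[nat_lit 6,nat_lit 5],[nat_lit 7,nat_lit 5],[]],[[nat_lit 0],[nat_lit 5,nat_lit 1,nat_lit 0],[nat_lit 2,nat_lit 1,nat_lit 0],[nat_lit 5,nat_lit 3,nat_lit 2,nat_lit 1,nat_lit 0],[nat_lit 5,nat_lit 4,nat_lit 2,nat_lit 1],[nat_lit 5,nat_lit 0],[nat_lit 8,nat_lit 7,nat_lit 5,nat_lit 4,nat_lit 3,nat_lit 0],[nat_lit 8,nat_lit 6,nat_lit 5],[nat_lit 8,nat_lit 4,nat_lit 3,nat_lit 1],[nat_lit 8,nat_lit 7,nat_lit 6,nat_lit 4,nat_lit 3,nat_lit 2]]],[nat_lit 1],[nat_lit 10],[],[⟨[nat_lit 1,nat_lit 2,nat_lit 4,nat_lit 8,nat_lit 16,nat_lit 32],[nat_lit 1,nat_lit 6,nat_lit 2,nat_lit 8,nat_lit 16,nat_lit 32],[]⟩,⟨[nat_lit 1,nat_lit 2,nat_lit 4,nat_lit 8,nat_lit 16,nat_lit 32],[nat_lit 1,nat_lit 4,nat_lit 34,nat_lit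 20,nat_lit 12,nat_lit 32],[]⟩,⟨[nat_lit 1,nat_lit 69,nat_lit 11,nat_lit 16],[nat_lit 69,nat_lit 68,nat_lit 11,nat_lit 16],[nat_lit 0,nat_lit 1,nat_lit 69,nat_lit 68,nat_lit 11,nat_lit 10,nat_lit 78,nat_lit 79,nat_lit 16,nat_lit 17,nat_lit 85,nat_lit 84,nat_lit 27,nat_lit 26,nat_lit 94,nat_lit 95]⟩],nat_lit 0x4ce3218⟩
noncomputable def h113 : Hdr :=
  ⟨(nat_lit 6),(nat_lit 10),[[[]],[[nat_lit 0],[nat_lit 0]],[[nat_lit 0],[nat_lit 1,nat_lit 0],[nat_lit 0]],[[nat_lit 0],[nat_lit 1],[nat_lit 2],[nat_lit 0]],[[nat_lit 0],[nat_lit 1],[nat_lit 2],[nat_lit 3],[]],[[nat_lit 0],[nat_lit 1],[nat_lit 2],[nat_lit 3,nat_lit 0],[nat_lit 4,nat_lit 0],[]],[[nat_lit 0],[nat_lit 1],[nat_lit 2,nat_lit 1,nat_lit 0],[nat_lit 3,nat_lit 0],[nat_lit 4],[nat_lit 5],[nat_lit 1]],[[nat_lit 0],[nat_lit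 1],[nat_lit 2,nat_lit 1],[nat_lit 5,nat_lit 4],[nat_lit 5,nat_lit 3],[nat_lit 5],[nat_lit 6,nat_lit 5],[nat_lit 1,nat_lit 0]],[[nat_lit 0],[nat_lit 1],[nat_lit 5,nat_lit 2],[nat_lit 4,nat_lit 1,nat_lit 0],[nat_lit 3,nat_lit 1],[nat_lit 5],[nat_lit 6,nat_lit 5],[nat_lit 7,nat_lit 5],[]],[[nat_lit 0],[nat_lit 5,nat_lit 1,nat_lit 0],[nat_lit 2,nat_lit 1,nat_lit 0],[nat_lit 5,nat_lit 3,nat_lit 2,nat_lit 1,nat_lit 0],[nat_lit 5,nat_lit 4,nat_lit 2,nat_lit 1],[nat_lit 5,nat_lit 0],[nat_lit 8,nat_lit 7,nat_lit 5,nat_lit 4,nat_lit 3,nat_lit 0],[nat_lit 8,nat_lit 6,nat_lit 5],[nat_lit 8,nat_lit 4,nat_lit 3,nat_lit 1,nat_lit 0],[nat_lit 8,nat_lit 7,nat_lit 6,nat_lit 2,nat_lit 0]]],[nat_lit 1],[nat_lit 10],[],[⟨[nat_lit 1,nat_lit 2,nat_lit 4,nat_lit 8,nat_lit 16,nat_lit 32],[nat_lit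 1,nat_lit 6,nat_lit 2,nat_lit 8,nat_lit 16,nat_lit 32],[]⟩,⟨[nat_lit 1,nat_lit 2,nat_lit 4,nat_lit 8,nat_lit 16,nat_lit 32],[nat_lit 1,nat_lit 4,nat_lit 34,nat_lit 20,nat_lit 12,nat_lit 32],[]⟩,⟨[nat_lit 1,nat_lit 69,nat_lit 11,nat_lit 16],[nat_lit 69,nat_lit 68,nat_lit 11,nat_lit 16],[nat_lit 0,nat_lit 1,nat_lit 69,nat_lit 68,nat_lit 11,nat_lit 10,nat_lit 78,nat_lit 79,nat_lit 16,nat_lit 17,nat_lit 85,nat_lit 84,nat_lit 27,nat_lit 26,nat_lit 94,nat_lit 95]⟩],nat_lit 0x4ce3218⟩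
noncomputable def h114 : Hdr :=
  ⟨(nat_lit 6),(nat_lit 10),[[[]],[[nat_lit 0],[nat_lit 0]],[[nat_lit 0],[nat_lit 1,nat_lit 0],[nat_lit 0]],[[nat_lit 0],[nat_lit 1],[nat_lit 2],[nat_lit 0]],[[nat_lit 0],[nat_lit 1],[nat_lit 2],[nat_lit 3],[]],[[nat_lit 0],[nat_lit 1],[nat_lit 2],[nat_lit 3,nat_lit 0],[nat_lit 4,nat_lit 0],[]],[[nat_lit 0],[nat_lit 1],[nat_lit 2,nat_lit 1,nat_lit 0],[nat_lit 3,nat_lit 0],[nat_lit 4],[nat_lit 5],[nat_lit 1]],[[nat_lit 0],[nat_lit 1],[nat_lit 2,nat_lit 1],[nat_lit 5,nat_lit 4],[nat_lit 5,nat_lit 3],[nat_lit 5],[nat_lit 6,nat_lit 5],[nat_lit 1,nat_lit 0]],[[nat_lit 0],[nat_lit 1],[nat_lit 5,nat_lit 2],[nat_lit 4,nat_lit 1,nat_lit 0],[nat_lit 3,nat_lit 1],[nat_lit 5],[nat_lit 6,nat_lit 5],[nat_lit 7,nat_lit 5],[]],[[nat_lit 0],[nat_lit 5,nat_lit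 1,nat_lit 0],[nat_lit 2,nat_lit 1,nat_lit 0],[nat_lit 5,nat_lit 3,nat_lit 2,nat_lit 1,nat_lit 0],[nat_lit 5,nat_lit 4,nat_lit 2,nat_lit 1],[nat_lit 5,nat_lit 0],[nat_lit 8,nat_lit 7,nat_lit 5,nat_lit 4,nat_lit 3,nat_lit 0],[nat_lit 8,nat_lit 6,nat_lit 5,nat_lit 0],[nat_lit 8,nat_lit 4,nat_lit 3,nat_lit 1],[nat_lit 8,nat_lit 7,nat_lit 6,nat_lit 2,nat_lit 0]]],[nat_lit 1],[nat_lit 10],[],[⟨[nat_lit 1,nat_lit 2,nat_lit 4,nat_lit 8,nat_lit 16,nat_lit 32],[nat_lit 1,nat_lit 6,nat_lit 2,nat_lit 8,nat_lit 16,nat_lit 32],[]⟩,⟨[nat_lit 1,nat_lit 2,nat_lit 4,nat_lit 8,nat_lit 16,nat_lit 32],[nat_lit 1,nat_lit 4,nat_lit 34,nat_lit 20,nat_lit 12,nat_lit 32],[]⟩,⟨[nat_lit 1,nat_lit 69,nat_lit 11,nat_lit 16],[nat_lit 69,nat_lit 68,nat_lit 11,nat_lit 16],[nat_lit 0,nat_lit 1,nat_lit 69,nat_lit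 68,nat_lit 11,nat_lit 10,nat_lit 78,nat_lit 79,nat_lit 16,nat_lit 17,nat_lit 85,nat_lit 84,nat_lit 27,nat_lit 26,nat_lit 94,nat_lit 95]⟩],nat_lit 0x4ce3218⟩
noncomputable def h115 : Hdr :=
  ⟨(nat_lit 6),(nat_lit 11),[[[]],[[nat_lit 0],[nat_lit 0]],[[nat_lit 0],[nat_lit 1,nat_lit 0],[nat_lit 0]],[[nat_lit 0],[nat_lit 1],[nat_lit 2],[nat_lit 0]],[[nat_lit 0],[nat_lit 1],[nat_lit 2],[nat_lit 3],[]],[[nat_lit 0],[nat_lit 1],[nat_lit 2],[nat_lit 3,nat_lit 0],[nat_lit 4,nat_lit 0],[]],[[nat_lit 0],[nat_lit 1],[nat_lit 2,nat_lit 1,nat_lit 0],[nat_lit 3,nat_lit 0],[nat_lit 4],[nat_lit 5],[nat_lit 1]],[[nat_lit 0],[nat_lit 1],[nat_lit 2,nat_lit 1],[nat_lit 5,nat_lit 4],[nat_lit 5,nat_lit 3],[nat_lit 5],[nat_lit 6,nat_lit 5],[nat_lit 1,nat_lit 0]],[[nat_lit 0],[nat_lit 1],[nat_lit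 5,nat_lit 2],[nat_lit 4,nat_lit 1,nat_lit 0],[nat_lit 3,nat_lit 1],[nat_lit 5],[nat_lit 6,nat_lit 5],[nat_lit 7,nat_lit 5],[]],[[nat_lit 0],[nat_lit 5,nat_lit 1,nat_lit 0],[nat_lit 2,nat_lit 1,nat_lit 0],[nat_lit 5,nat_lit 3,nat_lit 2,nat_lit 1,nat_lit 0],[nat_lit 5,nat_lit 4,nat_lit 2,nat_lit 1],[nat_lit 5,nat_lit 0],[nat_lit 8,nat_lit 7,nat_lit 5,nat_lit 4,nat_lit 3,nat_lit 0],[nat_lit 8,nat_lit 6,nat_lit 5,nat_lit 0],[nat_lit 8,nat_lit 4,nat_lit 3,nat_lit 1,nat_lit 0],[nat_lit 8,nat_lit 7,nat_lit 6,nat_lit 4,nat_lit 3,nat_lit 2]],[[nat_lit 0],[nat_lit 5,nat_lit 1,nat_lit 0],[nat_lit 8,nat_lit 7,nat_lit 6,nat_lit 5,nat_lit 2,nat_lit 1,nat_lit 0],[nat_lit 6,nat_lit 5,nat_lit 3,nat_lit 2,nat_lit 1,nat_lit 0],[nat_lit 6,nat_lit 4,nat_lit 2,nat_lit 1],[nat_lit 5,nat_lit 0],[nat_lit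 8,nat_lit 7,nat_lit 5,nat_lit 0],[nat_lit 8,nat_lit 6,nat_lit 4,nat_lit 3],[nat_lit 8,nat_lit 5,nat_lit 4,nat_lit 3,nat_lit 1],[nat_lit 9,nat_lit 7,nat_lit 5,nat_lit 1,nat_lit 0],[nat_lit 6,nat_lit 2,nat_lit 1]]],[nat_lit 1],[nat_lit 10],[],[],nat_lit 0x4ce3218⟩
noncomputable def h116 : Hdr :=
  ⟨(nat_lit 6),(nat_lit 11),[[[]],[[nat_lit 0],[nat_lit 0]],[[nat_lit 0],[nat_lit 1,nat_lit 0],[nat_lit 0]],[[nat_lit 0],[nat_lit 1],[nat_lit 2],[nat_lit 0]],[[nat_lit 0],[nat_lit 1],[nat_lit 2],[nat_lit 3],[]],[[nat_lit 0],[nat_lit 1],[nat_lit 2],[nat_lit 3,nat_lit 0],[nat_lit 4,nat_lit 0],[]],[[nat_lit 0],[nat_lit 1],[nat_lit 2,nat_lit 1,nat_lit 0],[nat_lit 3,nat_lit 0],[nat_lit 4],[nat_lit 5],[nat_lit 1]],[[nat_lit 0],[nat_lit 1],[nat_lit 2,nat_lit 1],[nat_lit 5,nat_lit 4],[nat_lit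 5,nat_lit 3],[nat_lit 5],[nat_lit 6,nat_lit 5],[nat_lit 1,nat_lit 0]],[[nat_lit 0],[nat_lit 1],[nat_lit 5,nat_lit 2],[nat_lit 4,nat_lit 1,nat_lit 0],[nat_lit 3,nat_lit 1],[nat_lit 5],[nat_lit 6,nat_lit 5],[nat_lit 7,nat_lit 5],[]],[[nat_lit 0],[nat_lit 5,nat_lit 1,nat_lit 0],[nat_lit 2,nat_lit 1,nat_lit 0],[nat_lit 5,nat_lit 3,nat_lit 2,nat_lit 1,nat_lit 0],[nat_lit 5,nat_lit 4,nat_lit 2,nat_lit 1],[nat_lit 5,nat_lit 0],[nat_lit 8,nat_lit 7,nat_lit 5,nat_lit 4,nat_lit 3,nat_lit 0],[nat_lit 8,nat_lit 6,nat_lit 5,nat_lit 0],[nat_lit 8,nat_lit 4,nat_lit 3,nat_lit 1,nat_lit 0],[nat_lit 8,nat_lit 7,nat_lit 6,nat_lit 4,nat_lit 3,nat_lit 2]],[[nat_lit 0],[nat_lit 5,nat_lit 1,nat_lit 0],[nat_lit 8,nat_lit 7,nat_lit 6,nat_lit 2],[nat_lit 6,nat_lit 5,nat_lit 3,nat_lit 2,nat_lit 1,nat_lit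 0],[nat_lit 6,nat_lit 4,nat_lit 2,nat_lit 1],[nat_lit 5],[nat_lit 8,nat_lit 7,nat_lit 5],[nat_lit 8,nat_lit 6],[nat_lit 8,nat_lit 5,nat_lit 0],[nat_lit 9,nat_lit 7,nat_lit 4,nat_lit 3,nat_lit 2],[nat_lit 8,nat_lit 7,nat_lit 6,nat_lit 4,nat_lit 3,nat_lit 1]]],[nat_lit 1],[nat_lit 10],[],[],nat_lit 0x4ce3218⟩
noncomputable def h117 : Hdr :=
  ⟨(nat_lit 6),(nat_lit 11),[[[]],[[nat_lit 0],[nat_lit 0]],[[nat_lit 0],[nat_lit 1,nat_lit 0],[nat_lit 0]],[[nat_lit 0],[nat_lit 1],[nat_lit 2],[nat_lit 0]],[[nat_lit 0],[nat_lit 1],[nat_lit 2],[nat_lit 3],[]],[[nat_lit 0],[nat_lit 1],[nat_lit 2],[nat_lit 3,nat_lit 0],[nat_lit 4,nat_lit 0],[]],[[nat_lit 0],[nat_lit 1],[nat_lit 2,nat_lit 1,nat_lit 0],[nat_lit 3,nat_lit 0],[nat_lit 4],[nat_lit 5],[nat_lit 1]],[[nat_lit 0],[nat_lit 1],[nat_lit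 2,nat_lit 1],[nat_lit 5,nat_lit 4],[nat_lit 5,nat_lit 3],[nat_lit 5],[nat_lit 6,nat_lit 5],[nat_lit 1,nat_lit 0]],[[nat_lit 0],[nat_lit 1],[nat_lit 5,nat_lit 2],[nat_lit 4,nat_lit 1,nat_lit 0],[nat_lit 3,nat_lit 1],[nat_lit 5],[nat_lit 6,nat_lit 5],[nat_lit 7,nat_lit 5],[]],[[nat_lit 0],[nat_lit 5,nat_lit 1,nat_lit 0],[nat_lit 2,nat_lit 1,nat_lit 0],[nat_lit 5,nat_lit 3,nat_lit 2,nat_lit 1,nat_lit 0],[nat_lit 5,nat_lit 4,nat_lit 2,nat_lit 1],[nat_lit 5,nat_lit 0],[nat_lit 8,nat_lit 7,nat_lit 5,nat_lit 4,nat_lit 3,nat_lit 0],[nat_lit 8,nat_lit 6,nat_lit 5,nat_lit 0],[nat_lit 8,nat_lit 4,nat_lit 3,nat_lit 1,nat_lit 0],[nat_lit 8,nat_lit 7,nat_lit 6,nat_lit 4,nat_lit 3,nat_lit 2]],[[nat_lit 0],[nat_lit 5,nat_lit 1],[nat_lit 8,nat_lit 7,nat_lit 6,nat_lit 2],[nat_lit 6,nat_lit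 5,nat_lit 3,nat_lit 2,nat_lit 1],[nat_lit 6,nat_lit 4,nat_lit 2,nat_lit 1,nat_lit 0],[nat_lit 5],[nat_lit 8,nat_lit 7,nat_lit 5,nat_lit 4,nat_lit 3,nat_lit 1],[nat_lit 8,nat_lit 6,nat_lit 4,nat_lit 3,nat_lit 1,nat_lit 0],[nat_lit 8,nat_lit 0],[nat_lit 9,nat_lit 7,nat_lit 2,nat_lit 1,nat_lit 0],[nat_lit 7,nat_lit 6,nat_lit 1,nat_lit 0]]],[nat_lit 1],[nat_lit 10],[],[],nat_lit 0x4ce3218⟩
noncomputable def h118 : Hdr :=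
  ⟨(nat_lit 6),(nat_lit 11),[[[]],[[nat_lit 0],[nat_lit 0]],[[nat_lit 0],[nat_lit 1,nat_lit 0],[nat_lit 0]],[[nat_lit 0],[nat_lit 1],[nat_lit 2],[nat_lit 0]],[[nat_lit 0],[nat_lit 1],[nat_lit 2],[nat_lit 3],[]],[[nat_lit 0],[nat_lit 1],[nat_lit 2],[nat_lit 3,nat_lit 0],[nat_lit 4,nat_lit 0],[]],[[nat_lit 0],[nat_lit 1],[nat_lit 2,nat_lit 1,nat_lit 0],[nat_lit 3,nat_lit 0],[nat_lit 4],[nat_lit 5],[nat_lit 1]],[[nat_lit 0],[nat_lit 1],[nat_lit 2,nat_lit 1],[nat_lit 5,nat_lit 4],[nat_lit 5,nat_lit 3],[nat_lit 5],[nat_lit 6,nat_lit 5],[nat_lit 1,nat_lit 0]],[[nat_lit 0],[nat_lit 1],[nat_lit 5,nat_lit 2],[nat_lit 4,nat_lit 1,nat_lit 0],[nat_lit 3,nat_lit 1],[nat_lit 5],[nat_lit 6,nat_lit 5],[nat_lit 7,nat_lit 5],[]],[[nat_lit 0],[nat_lit 5,nat_lit 1,nat_lit 0],[nat_lit 2,nat_lit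 1,nat_lit 0],[nat_lit 5,nat_lit 3,nat_lit 2,nat_lit 1,nat_lit 0],[nat_lit 5,nat_lit 4,nat_lit 2,nat_lit 1],[nat_lit 5,nat_lit 0],[nat_lit 8,nat_lit 7,nat_lit 5,nat_lit 4,nat_lit 3,nat_lit 0],[nat_lit 8,nat_lit 6,nat_lit 5,nat_lit 0],[nat_lit 8,nat_lit 4,nat_lit 3,nat_lit 1,nat_lit 0],[nat_lit 8,nat_lit 7,nat_lit 6,nat_lit 4,nat_lit 3,nat_lit 2]],[[nat_lit 0],[nat_lit 5,nat_lit 1],[nat_lit 8,nat_lit 7,nat_lit 6,nat_lit 2],[nat_lit 6,nat_lit 5,nat_lit 3,nat_lit 2,nat_lit 1],[nat_lit 6,nat_lit 4,nat_lit 2,nat_lit 1,nat_lit 0],[nat_lit 5],[nat_lit 8,nat_lit 7,nat_lit 5,nat_lit 4,nat_lit 3,nat_lit 1],[nat_lit 8,nat_lit 6,nat_lit 4,nat_lit 3,nat_lit 1,nat_lit 0],[nat_lit 8,nat_lit 0],[nat_lit 9,nat_lit 7,nat_lit 2,nat_lit 1,nat_lit 0],[nat_lit 7,nat_lit 6,nat_lit 1]]],[nat_lit 1],[nat_lit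 10],[],[],nat_lit 0x4ce3218⟩
noncomputable def h119 : Hdr :=
  ⟨(nat_lit 6),(nat_lit 10),[[[]],[[nat_lit 0],[nat_lit 0]],[[nat_lit 0],[nat_lit 1,nat_lit 0],[nat_lit 0]],[[nat_lit 0],[nat_lit 1],[nat_lit 2],[nat_lit 0]],[[nat_lit 0],[nat_lit 1],[nat_lit 2],[nat_lit 3],[]],[[nat_lit 0],[nat_lit 1],[nat_lit 2],[nat_lit 3,nat_lit 0],[nat_lit 4,nat_lit 0],[]],[[nat_lit 0],[nat_lit 1],[nat_lit 2,nat_lit 1,nat_lit 0],[nat_lit 3,nat_lit 0],[nat_lit 4],[nat_lit 5],[nat_lit 1]],[[nat_lit 0],[nat_lit 1],[nat_lit 2,nat_lit 1],[nat_lit 5,nat_lit 4],[nat_lit 5,nat_lit 3],[nat_lit 5],[nat_lit 6,nat_lit 5],[nat_lit 1,nat_lit 0]],[[nat_lit 0],[nat_lit 1],[nat_lit 5,nat_lit 2],[nat_lit 4,nat_lit 1,nat_lit 0],[nat_lit 3,nat_lit 1],[nat_lit 5],[nat_lit 6,nat_lit 5],[nat_lit 7,nat_lit 5],[]],[[nat_lit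 0],[nat_lit 5,nat_lit 1,nat_lit 0],[nat_lit 2,nat_lit 1,nat_lit 0],[nat_lit 5,nat_lit 3,nat_lit 2,nat_lit 1,nat_lit 0],[nat_lit 5,nat_lit 4,nat_lit 2,nat_lit 1],[nat_lit 5,nat_lit 0],[nat_lit 8,nat_lit 7,nat_lit 5,nat_lit 4,nat_lit 3,nat_lit 0],[nat_lit 8,nat_lit 6,nat_lit 5,nat_lit 0],[nat_lit 8,nat_lit 4,nat_lit 3,nat_lit 1,nat_lit 0],[nat_lit 8,nat_lit 7,nat_lit 6,nat_lit 4,nat_lit 3,nat_lit 2]]],[nat_lit 1],[nat_lit 10,nat_lit 76],[],[],nat_lit 0x4ce3218⟩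
noncomputable def h120 : Hdr :=
  ⟨(nat_lit 6),(nat_lit 10),[[[]],[[nat_lit 0],[nat_lit 0]],[[nat_lit 0],[nat_lit 1,nat_lit 0],[nat_lit 0]],[[nat_lit 0],[nat_lit 1],[nat_lit 2],[nat_lit 0]],[[nat_lit 0],[nat_lit 1],[nat_lit 2],[nat_lit 3],[]],[[nat_lit 0],[nat_lit 1],[nat_lit 2],[nat_lit 3,nat_lit 0],[nat_lit 4,nat_lit 0],[]],[[nat_lit 0],[nat_lit 1],[nat_lit 2,nat_lit 1,nat_lit 0],[nat_lit 3,nat_lit 0],[nat_lit 4],[nat_lit 5],[nat_lit 1]],[[nat_lit 0],[nat_lit 1],[nat_lit 2,nat_lit 1],[nat_lit 5,nat_lit 4],[nat_lit 5,nat_lit 3],[nat_lit 5],[nat_lit 6,nat_lit 5],[nat_lit 1,nat_lit 0]],[[nat_lit 0],[nat_lit 1],[nat_lit 5,nat_lit 2],[nat_lit 4,nat_lit 1,nat_lit 0],[nat_lit 3,nat_lit 1],[nat_lit 5],[nat_lit 6,nat_lit 5],[nat_lit 7,nat_lit 5],[]],[[nat_lit 0],[nat_lit 5,nat_lit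 1,nat_lit 0],[nat_lit 2,nat_lit 1,nat_lit 0],[nat_lit 5,nat_lit 3,nat_lit 2,nat_lit 1,nat_lit 0],[nat_lit 5,nat_lit 4,nat_lit 2,nat_lit 1],[nat_lit 5,nat_lit 0],[nat_lit 8,nat_lit 7,nat_lit 5,nat_lit 4,nat_lit 3,nat_lit 0],[nat_lit 8,nat_lit 6,nat_lit 5,nat_lit 0],[nat_lit 8,nat_lit 4,nat_lit 3,nat_lit 1,nat_lit 0],[nat_lit 8,nat_lit 7,nat_lit 6,nat_lit 4,nat_lit 3,nat_lit 2]]],[nat_lit 1],[nat_lit 10],[],[⟨[nat_lit 1,nat_lit 2,nat_lit 4,nat_lit 8,nat_lit 16,nat_lit 32],[nat_lit 1,nat_lit 6,nat_lit 2,nat_lit 8,nat_lit 16,nat_lit 32],[]⟩,⟨[nat_lit 1,nat_lit 2,nat_lit 4,nat_lit 8,nat_lit 16,nat_lit 32],[nat_lit 1,nat_lit 4,nat_lit 34,nat_lit 20,nat_lit 12,nat_lit 32],[]⟩,⟨[nat_lit 1,nat_lit 69,nat_lit 11,nat_lit 16],[nat_lit 69,nat_lit 68,nat_lit 11,nat_lit 16],[nat_lit 0,nat_lit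 1,nat_lit 69,nat_lit 68,nat_lit 11,nat_lit 10,nat_lit 78,nat_lit 79,nat_lit 16,nat_lit 17,nat_lit 85,nat_lit 84,nat_lit 27,nat_lit 26,nat_lit 94,nat_lit 95]⟩],nat_lit 0x4ce3218⟩
noncomputable def h121 : Hdr :=
  ⟨(nat_lit 6),(nat_lit 9),[[[]],[[nat_lit 0],[nat_lit 0]],[[nat_lit 0],[nat_lit 1,nat_lit 0],[nat_lit 0]],[[nat_lit 0],[nat_lit 1],[nat_lit 2],[nat_lit 0]],[[nat_lit 0],[nat_lit 1],[nat_lit 2],[nat_lit 3],[]],[[nat_lit 0],[nat_lit 1],[nat_lit 2],[nat_lit 3,nat_lit 0],[nat_lit 4,nat_lit 0],[]],[[nat_lit 0],[nat_lit 1],[nat_lit 2,nat_lit 1,nat_lit 0],[nat_lit 3,nat_lit 0],[nat_lit 4],[nat_lit 5],[nat_lit 1]],[[nat_lit 0],[nat_lit 1],[nat_lit 2,nat_lit 1],[nat_lit 5,nat_lit 4],[nat_lit 5,nat_lit 3],[nat_lit 5],[nat_lit 6,nat_lit 5],[nat_lit 1,nat_lit 0]],[[nat_lit 0],[nat_lit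 1],[nat_lit 5,nat_lit 2],[nat_lit 4,nat_lit 1,nat_lit 0],[nat_lit 3,nat_lit 1],[nat_lit 5],[nat_lit 6,nat_lit 5],[nat_lit 7,nat_lit 5],[]]],[nat_lit 1],[nat_lit 10],[],[⟨[nat_lit 1,nat_lit 2,nat_lit 4,nat_lit 8,nat_lit 16,nat_lit 32],[nat_lit 1,nat_lit 6,nat_lit 2,nat_lit 8,nat_lit 16,nat_lit 32],[]⟩,⟨[nat_lit 1,nat_lit 2,nat_lit 4,nat_lit 8,nat_lit 16,nat_lit 32],[nat_lit 1,nat_lit 4,nat_lit 34,nat_lit 20,nat_lit 12,nat_lit 32],[]⟩,⟨[nat_lit 1,nat_lit 69,nat_lit 11,nat_lit 16],[nat_lit 69,nat_lit 68,nat_lit 11,nat_lit 16],[nat_lit 0,nat_lit 1,nat_lit 69,nat_lit 68,nat_lit 11,nat_lit 10,nat_lit 78,nat_lit 79,nat_lit 16,nat_lit 17,nat_lit 85,nat_lit 84,nat_lit 27,nat_lit 26,nat_lit 94,nat_lit 95]⟩],nat_lit 0x4ce3218⟩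
noncomputable def h122 : Hdr :=
  ⟨(nat_lit 6),(nat_lit 9),[[[]],[[nat_lit 0],[nat_lit 0]],[[nat_lit 0],[nat_lit 1,nat_lit 0],[nat_lit 0]],[[nat_lit 0],[nat_lit 1],[nat_lit 2],[nat_lit 0]],[[nat_lit 0],[nat_lit 1],[nat_lit 2],[nat_lit 3],[]],[[nat_lit 0],[nat_lit 1],[nat_lit 2],[nat_lit 3,nat_lit 0],[nat_lit 4,nat_lit 0],[]],[[nat_lit 0],[nat_lit 1],[nat_lit 2,nat_lit 1,nat_lit 0],[nat_lit 3,nat_lit 0],[nat_lit 4],[nat_lit 5],[nat_lit 1]],[[nat_lit 0],[nat_lit 1],[nat_lit 2,nat_lit 1],[nat_lit 5,nat_lit 4],[nat_lit 5,nat_lit 3],[nat_lit 5],[nat_lit 6,nat_lit 5],[nat_lit 1]],[[nat_lit 0],[nat_lit 1],[nat_lit 5,nat_lit 2],[nat_lit 4,nat_lit 1,nat_lit 0],[nat_lit 3,nat_lit 1],[nat_lit 5],[nat_lit 6,nat_lit 5],[nat_lit 7,nat_lit 5,nat_lit 0],[]]],[nat_lit 1],[nat_lit 10],[],[⟨[nat_lit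 1,nat_lit 2,nat_lit 4,nat_lit 8,nat_lit 16,nat_lit 32],[nat_lit 1,nat_lit 6,nat_lit 2,nat_lit 8,nat_lit 16,nat_lit 32],[]⟩,⟨[nat_lit 1,nat_lit 2,nat_lit 4,nat_lit 8,nat_lit 16,nat_lit 32],[nat_lit 1,nat_lit 4,nat_lit 34,nat_lit 20,nat_lit 12,nat_lit 32],[]⟩,⟨[nat_lit 1,nat_lit 69,nat_lit 11,nat_lit 16],[nat_lit 69,nat_lit 68,nat_lit 11,nat_lit 16],[nat_lit 0,nat_lit 1,nat_lit 69,nat_lit 68,nat_lit 11,nat_lit 10,nat_lit 78,nat_lit 79,nat_lit 16,nat_lit 17,nat_lit 85,nat_lit 84,nat_lit 27,nat_lit 26,nat_lit 94,nat_lit 95]⟩],nat_lit 0x4ce3218⟩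
noncomputable def h123 : Hdr :=
  ⟨(nat_lit 6),(nat_lit 8),[[[]],[[nat_lit 0],[nat_lit 0]],[[nat_lit 0],[nat_lit 1,nat_lit 0],[nat_lit 0]],[[nat_lit 0],[nat_lit 1],[nat_lit 2],[nat_lit 0]],[[nat_lit 0],[nat_lit 1],[nat_lit 2],[nat_lit 3],[]],[[nat_lit 0],[nat_lit 1],[nat_lit 2],[nat_lit 3,nat_lit 0],[nat_lit 4,nat_lit 0],[]],[[nat_lit 0],[nat_lit 1],[nat_lit 2,nat_lit 1,nat_lit 0],[nat_lit 3,nat_lit 0],[nat_lit 4],[nat_lit 5],[nat_lit 1]],[[nat_lit 0],[nat_lit 1],[nat_lit 5,nat_lit 2],[nat_lit 4,nat_lit 1,nat_lit 0],[nat_lit 3,nat_lit 1],[nat_lit 5],[nat_lit 6,nat_lit 5],[]]],[nat_lit 1],[nat_lit 10],[],[⟨[nat_lit 1,nat_lit 2,nat_lit 4,nat_lit 8,nat_lit 16,nat_lit 32],[nat_lit 1,nat_lit 6,nat_lit 2,nat_lit 8,nat_lit 16,nat_lit 32],[]⟩,⟨[nat_lit 1,nat_lit 2,nat_lit 4,nat_lit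 8,nat_lit 16,nat_lit 32],[nat_lit 1,nat_lit 4,nat_lit 34,nat_lit 20,nat_lit 12,nat_lit 32],[]⟩,⟨[nat_lit 1,nat_lit 69,nat_lit 11,nat_lit 16],[nat_lit 69,nat_lit 68,nat_lit 11,nat_lit 16],[nat_lit 0,nat_lit 1,nat_lit 69,nat_lit 68,nat_lit 11,nat_lit 10,nat_lit 78,nat_lit 79,nat_lit 16,nat_lit 17,nat_lit 85,nat_lit 84,nat_lit 27,nat_lit 26,nat_lit 94,nat_lit 95]⟩],nat_lit 0x4ce3218⟩
noncomputable def h124 : Hdr :=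
  ⟨(nat_lit 6),(nat_lit 10),[[[]],[[nat_lit 0],[nat_lit 0]],[[nat_lit 0],[nat_lit 1,nat_lit 0],[nat_lit 0]],[[nat_lit 0],[nat_lit 1],[nat_lit 2],[nat_lit 0]],[[nat_lit 0],[nat_lit 1],[nat_lit 2],[nat_lit 3],[]],[[nat_lit 0],[nat_lit 1],[nat_lit 2],[nat_lit 3,nat_lit 0],[nat_lit 4,nat_lit 0],[]],[[nat_lit 0],[nat_lit 1],[nat_lit 2,nat_lit 1,nat_lit 0],[nat_lit 3,nat_lit 0],[nat_lit 4],[nat_lit 5],[nat_lit 1]],[[nat_lit 0],[nat_lit 1],[nat_lit 2,nat_lit 1],[nat_lit 5,nat_lit 4],[nat_lit 5,nat_lit 3],[nat_lit 5],[nat_lit 6,nat_lit 5],[nat_lit 1]],[[nat_lit 0],[nat_lit 1],[nat_lit 5,nat_lit 2],[nat_lit 4,nat_lit 1,nat_lit 0],[nat_lit 3,nat_lit 1],[nat_lit 5],[nat_lit 6,nat_lit 5],[nat_lit 7,nat_lit 5],[nat_lit 0]],[[nat_lit 0],[nat_lit 5,nat_lit 1,nat_lit 0],[nat_lit 2,nat_lit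 1,nat_lit 0],[nat_lit 5,nat_lit 3,nat_lit 2,nat_lit 1,nat_lit 0],[nat_lit 5,nat_lit 4,nat_lit 2,nat_lit 1],[nat_lit 5,nat_lit 0],[nat_lit 8,nat_lit 7,nat_lit 5,nat_lit 0],[nat_lit 8,nat_lit 6,nat_lit 5,nat_lit 4,nat_lit 3,nat_lit 0],[nat_lit 8,nat_lit 4,nat_lit 3,nat_lit 1,nat_lit 0],[nat_lit 8,nat_lit 7,nat_lit 6,nat_lit 4,nat_lit 3,nat_lit 2]]],[nat_lit 1],[nat_lit 10],[],[⟨[nat_lit 1,nat_lit 2,nat_lit 4,nat_lit 8,nat_lit 16,nat_lit 32],[nat_lit 1,nat_lit 6,nat_lit 2,nat_lit 8,nat_lit 16,nat_lit 32],[]⟩,⟨[nat_lit 1,nat_lit 2,nat_lit 4,nat_lit 8,nat_lit 16,nat_lit 32],[nat_lit 1,nat_lit 4,nat_lit 34,nat_lit 20,nat_lit 12,nat_lit 32],[]⟩,⟨[nat_lit 1,nat_lit 69,nat_lit 11,nat_lit 16],[nat_lit 69,nat_lit 68,nat_lit 11,nat_lit 16],[nat_lit 0,nat_lit 1,nat_lit 69,nat_lit 68,nat_lit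 11,nat_lit 10,nat_lit 78,nat_lit 79,nat_lit 16,nat_lit 17,nat_lit 85,nat_lit 84,nat_lit 27,nat_lit 26,nat_lit 94,nat_lit 95]⟩],nat_lit 0x4ce3218⟩
noncomputable def h125 : Hdr :=
  ⟨(nat_lit 6),(nat_lit 11),[[[]],[[nat_lit 0],[nat_lit 0]],[[nat_lit 0],[nat_lit 1,nat_lit 0],[nat_lit 0]],[[nat_lit 0],[nat_lit 1],[nat_lit 2],[nat_lit 0]],[[nat_lit 0],[nat_lit 1],[nat_lit 2],[nat_lit 3],[]],[[nat_lit 0],[nat_lit 1],[nat_lit 2],[nat_lit 3,nat_lit 0],[nat_lit 4,nat_lit 0],[]],[[nat_lit 0],[nat_lit 1],[nat_lit 2,nat_lit 1,nat_lit 0],[nat_lit 3,nat_lit 0],[nat_lit 4],[nat_lit 5],[nat_lit 1]],[[nat_lit 0],[nat_lit 1],[nat_lit 2,nat_lit 1],[nat_lit 5,nat_lit 4],[nat_lit 5,nat_lit 3],[nat_lit 5],[nat_lit 6,nat_lit 5],[nat_lit 1]],[[nat_lit 0],[nat_lit 1],[nat_lit 5,nat_lit 2],[nat_lit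 4,nat_lit 1,nat_lit 0],[nat_lit 3,nat_lit 1],[nat_lit 5],[nat_lit 6,nat_lit 5],[nat_lit 7,nat_lit 5],[nat_lit 0]],[[nat_lit 0],[nat_lit 5,nat_lit 1,nat_lit 0],[nat_lit 2,nat_lit 1,nat_lit 0],[nat_lit 5,nat_lit 3,nat_lit 2,nat_lit 1,nat_lit 0],[nat_lit 5,nat_lit 4,nat_lit 2,nat_lit 1],[nat_lit 5,nat_lit 0],[nat_lit 8,nat_lit 7,nat_lit 5,nat_lit 0],[nat_lit 8,nat_lit 6,nat_lit 5,nat_lit 4,nat_lit 3,nat_lit 0],[nat_lit 8,nat_lit 4,nat_lit 3,nat_lit 1],[nat_lit 8,nat_lit 7,nat_lit 6,nat_lit 2,nat_lit 0]],[[nat_lit 0],[nat_lit 5,nat_lit 1,nat_lit 0],[nat_lit 8,nat_lit 7,nat_lit 6,nat_lit 5,nat_lit 2,nat_lit 1,nat_lit 0],[nat_lit 6,nat_lit 5,nat_lit 3,nat_lit 2,nat_lit 1,nat_lit 0],[nat_lit 6,nat_lit 4,nat_lit 2,nat_lit 1],[nat_lit 5,nat_lit 0],[nat_lit 8,nat_lit 7,nat_lit 5,nat_lit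 0],[nat_lit 8,nat_lit 6,nat_lit 4,nat_lit 3,nat_lit 0],[nat_lit 8,nat_lit 5,nat_lit 4,nat_lit 3,nat_lit 1],[nat_lit 9,nat_lit 6,nat_lit 5,nat_lit 1,nat_lit 0],[nat_lit 6,nat_lit 2,nat_lit 1]]],[nat_lit 1],[nat_lit 10],[],[],nat_lit 0x4ce3218⟩
noncomputable def h126 : Hdr :=
  ⟨(nat_lit 6),(nat_lit 11),[[[]],[[nat_lit 0],[nat_lit 0]],[[nat_lit 0],[nat_lit 1,nat_lit 0],[nat_lit 0]],[[nat_lit 0],[nat_lit 1],[nat_lit 2],[nat_lit 0]],[[nat_lit 0],[nat_lit 1],[nat_lit 2],[nat_lit 3],[]],[[nat_lit 0],[nat_lit 1],[nat_lit 2],[nat_lit 3,nat_lit 0],[nat_lit 4,nat_lit 0],[]],[[nat_lit 0],[nat_lit 1],[nat_lit 2,nat_lit 1,nat_lit 0],[nat_lit 3,nat_lit 0],[nat_lit 4],[nat_lit 5],[nat_lit 1]],[[nat_lit 0],[nat_lit 1],[nat_lit 2,nat_lit 1],[nat_lit 5,nat_lit 4],[nat_lit 5,nat_lit 3],[nat_lit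 5],[nat_lit 6,nat_lit 5],[nat_lit 1]],[[nat_lit 0],[nat_lit 1],[nat_lit 5,nat_lit 2],[nat_lit 4,nat_lit 1,nat_lit 0],[nat_lit 3,nat_lit 1],[nat_lit 5],[nat_lit 6,nat_lit 5],[nat_lit 7,nat_lit 5],[nat_lit 0]],[[nat_lit 0],[nat_lit 5,nat_lit 1,nat_lit 0],[nat_lit 2,nat_lit 1,nat_lit 0],[nat_lit 5,nat_lit 3,nat_lit 2,nat_lit 1,nat_lit 0],[nat_lit 5,nat_lit 4,nat_lit 2,nat_lit 1],[nat_lit 5,nat_lit 0],[nat_lit 8,nat_lit 7,nat_lit 5,nat_lit 0],[nat_lit 8,nat_lit 6,nat_lit 5,nat_lit 4,nat_lit 3,nat_lit 0],[nat_lit 8,nat_lit 4,nat_lit 3,nat_lit 1],[nat_lit 8,nat_lit 7,nat_lit 6,nat_lit 2,nat_lit 0]],[[nat_lit 0],[nat_lit 5,nat_lit 1,nat_lit 0],[nat_lit 8,nat_lit 7,nat_lit 6,nat_lit 5,nat_lit 2,nat_lit 1,nat_lit 0],[nat_lit 6,nat_lit 5,nat_lit 3,nat_lit 2,nat_lit 1,nat_lit 0],[nat_lit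 6,nat_lit 4,nat_lit 2,nat_lit 1],[nat_lit 5,nat_lit 0],[nat_lit 8,nat_lit 7,nat_lit 5,nat_lit 0],[nat_lit 8,nat_lit 6,nat_lit 4,nat_lit 3,nat_lit 0],[nat_lit 8,nat_lit 5,nat_lit 4,nat_lit 3,nat_lit 1],[nat_lit 9,nat_lit 6,nat_lit 5,nat_lit 1,nat_lit 0],[nat_lit 6,nat_lit 2,nat_lit 1,nat_lit 0]]],[nat_lit 1],[nat_lit 10],[],[],nat_lit 0x4ce3218⟩
noncomputable def h127 : Hdr :=
  ⟨(nat_lit 6),(nat_lit 11),[[[]],[[nat_lit 0],[nat_lit 0]],[[nat_lit 0],[nat_lit 1,nat_lit 0],[nat_lit 0]],[[nat_lit 0],[nat_lit 1],[nat_lit 2],[nat_lit 0]],[[nat_lit 0],[nat_lit 1],[nat_lit 2],[nat_lit 3],[]],[[nat_lit 0],[nat_lit 1],[nat_lit 2],[nat_lit 3,nat_lit 0],[nat_lit 4,nat_lit 0],[]],[[nat_lit 0],[nat_lit 1],[nat_lit 2,nat_lit 1,nat_lit 0],[nat_lit 3,nat_lit 0],[nat_lit 4],[nat_lit 5],[nat_lit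 1]],[[nat_lit 0],[nat_lit 1],[nat_lit 2,nat_lit 1],[nat_lit 5,nat_lit 4],[nat_lit 5,nat_lit 3],[nat_lit 5],[nat_lit 6,nat_lit 5],[nat_lit 1]],[[nat_lit 0],[nat_lit 1],[nat_lit 5,nat_lit 2],[nat_lit 4,nat_lit 1,nat_lit 0],[nat_lit 3,nat_lit 1],[nat_lit 5],[nat_lit 6,nat_lit 5],[nat_lit 7,nat_lit 5],[nat_lit 0]],[[nat_lit 0],[nat_lit 5,nat_lit 1,nat_lit 0],[nat_lit 2,nat_lit 1,nat_lit 0],[nat_lit 5,nat_lit 3,nat_lit 2,nat_lit 1,nat_lit 0],[nat_lit 5,nat_lit 4,nat_lit 2,nat_lit 1],[nat_lit 5,nat_lit 0],[nat_lit 8,nat_lit 7,nat_lit 5,nat_lit 0],[nat_lit 8,nat_lit 6,nat_lit 5,nat_lit 4,nat_lit 3,nat_lit 0],[nat_lit 8,nat_lit 4,nat_lit 3,nat_lit 1],[nat_lit 8,nat_lit 7,nat_lit 6,nat_lit 2,nat_lit 0]],[[nat_lit 0],[nat_lit 5,nat_lit 1,nat_lit 0],[nat_lit 8,nat_lit 7,nat_lit 6,nat_lit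 5,nat_lit 2,nat_lit 1,nat_lit 0],[nat_lit 6,nat_lit 5,nat_lit 3,nat_lit 2,nat_lit 1,nat_lit 0],[nat_lit 6,nat_lit 4,nat_lit 2,nat_lit 1],[nat_lit 5,nat_lit 0],[nat_lit 8,nat_lit 7,nat_lit 5,nat_lit 0],[nat_lit 8,nat_lit 6,nat_lit 4,nat_lit 3,nat_lit 0],[nat_lit 8,nat_lit 5,nat_lit 4,nat_lit 3,nat_lit 1],[nat_lit 9,nat_lit 6,nat_lit 5,nat_lit 1],[nat_lit 6,nat_lit 2,nat_lit 1]]],[nat_lit 1],[nat_lit 10],[],[],nat_lit 0x4ce3218⟩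
noncomputable def h128 : Hdr :=
  ⟨(nat_lit 6),(nat_lit 11),[[[]],[[nat_lit 0],[nat_lit 0]],[[nat_lit 0],[nat_lit 1,nat_lit 0],[nat_lit 0]],[[nat_lit 0],[nat_lit 1],[nat_lit 2],[nat_lit 0]],[[nat_lit 0],[nat_lit 1],[nat_lit 2],[nat_lit 3],[]],[[nat_lit 0],[nat_lit 1],[nat_lit 2],[nat_lit 3,nat_lit 0],[nat_lit 4,nat_lit 0],[]],[[nat_lit 0],[nat_lit 1],[nat_lit 2,nat_lit 1,nat_lit 0],[nat_lit 3,nat_lit 0],[nat_lit 4],[nat_lit 5],[nat_lit 1]],[[nat_lit 0],[nat_lit 1],[nat_lit 2,nat_lit 1],[nat_lit 5,nat_lit 4],[nat_lit 5,nat_lit 3],[nat_lit 5],[nat_lit 6,nat_lit 5],[nat_lit 1]],[[nat_lit 0],[nat_lit 1],[nat_lit 5,nat_lit 2],[nat_lit 4,nat_lit 1,nat_lit 0],[nat_lit 3,nat_lit 1],[nat_lit 5],[nat_lit 6,nat_lit 5],[nat_lit 7,nat_lit 5],[nat_lit 0]],[[nat_lit 0],[nat_lit 5,nat_lit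 1,nat_lit 0],[nat_lit 2,nat_lit 1,nat_lit 0],[nat_lit 5,nat_lit 3,nat_lit 2,nat_lit 1,nat_lit 0],[nat_lit 5,nat_lit 4,nat_lit 2,nat_lit 1],[nat_lit 5,nat_lit 0],[nat_lit 8,nat_lit 7,nat_lit 5,nat_lit 0],[nat_lit 8,nat_lit 6,nat_lit 5,nat_lit 4,nat_lit 3,nat_lit 0],[nat_lit 8,nat_lit 4,nat_lit 3,nat_lit 1],[nat_lit 8,nat_lit 7,nat_lit 6,nat_lit 2,nat_lit 0]],[[nat_lit 0],[nat_lit 5,nat_lit 1,nat_lit 0],[nat_lit 8,nat_lit 7,nat_lit 6,nat_lit 5,nat_lit 2,nat_lit 1,nat_lit 0],[nat_lit 6,nat_lit 5,nat_lit 3,nat_lit 2,nat_lit 1,nat_lit 0],[nat_lit 6,nat_lit 4,nat_lit 2,nat_lit 1],[nat_lit 5,nat_lit 0],[nat_lit 8,nat_lit 7,nat_lit 5,nat_lit 0],[nat_lit 8,nat_lit 6,nat_lit 4,nat_lit 3,nat_lit 0],[nat_lit 8,nat_lit 5,nat_lit 4,nat_lit 3,nat_lit 1],[nat_lit 9,nat_lit 6,nat_lit 5,nat_lit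 1],[nat_lit 6,nat_lit 2,nat_lit 1,nat_lit 0]]],[nat_lit 1],[nat_lit 10],[],[],nat_lit 0x4ce3218⟩
noncomputable def h129 : Hdr :=
  ⟨(nat_lit 6),(nat_lit 11),[[[]],[[nat_lit 0],[nat_lit 0]],[[nat_lit 0],[nat_lit 1,nat_lit 0],[nat_lit 0]],[[nat_lit 0],[nat_lit 1],[nat_lit 2],[nat_lit 0]],[[nat_lit 0],[nat_lit 1],[nat_lit 2],[nat_lit 3],[]],[[nat_lit 0],[nat_lit 1],[nat_lit 2],[nat_lit 3,nat_lit 0],[nat_lit 4,nat_lit 0],[]],[[nat_lit 0],[nat_lit 1],[nat_lit 2,nat_lit 1,nat_lit 0],[nat_lit 3,nat_lit 0],[nat_lit 4],[nat_lit 5],[nat_lit 1]],[[nat_lit 0],[nat_lit 1],[nat_lit 2,nat_lit 1],[nat_lit 5,nat_lit 4],[nat_lit 5,nat_lit 3],[nat_lit 5],[nat_lit 6,nat_lit 5],[nat_lit 1]],[[nat_lit 0],[nat_lit 1],[nat_lit 5,nat_lit 2],[nat_lit 4,nat_lit 1,nat_lit 0],[nat_lit 3,nat_lit 1],[nat_lit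 5],[nat_lit 6,nat_lit 5],[nat_lit 7,nat_lit 5],[nat_lit 0]],[[nat_lit 0],[nat_lit 5,nat_lit 1,nat_lit 0],[nat_lit 2,nat_lit 1,nat_lit 0],[nat_lit 5,nat_lit 3,nat_lit 2,nat_lit 1,nat_lit 0],[nat_lit 5,nat_lit 4,nat_lit 2,nat_lit 1],[nat_lit 5,nat_lit 0],[nat_lit 8,nat_lit 7,nat_lit 5,nat_lit 0],[nat_lit 8,nat_lit 6,nat_lit 5,nat_lit 4,nat_lit 3,nat_lit 0],[nat_lit 8,nat_lit 4,nat_lit 3,nat_lit 1],[nat_lit 8,nat_lit 7,nat_lit 6,nat_lit 2,nat_lit 0]],[[nat_lit 0],[nat_lit 5,nat_lit 1,nat_lit 0],[nat_lit 8,nat_lit 7,nat_lit 6,nat_lit 5,nat_lit 2,nat_lit 1,nat_lit 0],[nat_lit 6,nat_lit 5,nat_lit 3,nat_lit 2,nat_lit 1,nat_lit 0],[nat_lit 6,nat_lit 4,nat_lit 2,nat_lit 1],[nat_lit 5,nat_lit 0],[nat_lit 8,nat_lit 7,nat_lit 5,nat_lit 0],[nat_lit 8,nat_lit 6,nat_lit 4,nat_lit 3],[nat_lit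 8,nat_lit 5,nat_lit 4,nat_lit 3,nat_lit 1,nat_lit 0],[nat_lit 9,nat_lit 6,nat_lit 5,nat_lit 1,nat_lit 0],[nat_lit 6,nat_lit 2,nat_lit 1]]],[nat_lit 1],[nat_lit 10],[],[],nat_lit 0x4ce3218⟩
noncomputable def h130 : Hdr :=
  ⟨(nat_lit 6),(nat_lit 11),[[[]],[[nat_lit 0],[nat_lit 0]],[[nat_lit 0],[nat_lit 1,nat_lit 0],[nat_lit 0]],[[nat_lit 0],[nat_lit 1],[nat_lit 2],[nat_lit 0]],[[nat_lit 0],[nat_lit 1],[nat_lit 2],[nat_lit 3],[]],[[nat_lit 0],[nat_lit 1],[nat_lit 2],[nat_lit 3,nat_lit 0],[nat_lit 4,nat_lit 0],[]],[[nat_lit 0],[nat_lit 1],[nat_lit 2,nat_lit 1,nat_lit 0],[nat_lit 3,nat_lit 0],[nat_lit 4],[nat_lit 5],[nat_lit 1]],[[nat_lit 0],[nat_lit 1],[nat_lit 2,nat_lit 1],[nat_lit 5,nat_lit 4],[nat_lit 5,nat_lit 3],[nat_lit 5],[nat_lit 6,nat_lit 5],[nat_lit 1]],[[nat_lit 0],[nat_lit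 1],[nat_lit 5,nat_lit 2],[nat_lit 4,nat_lit 1,nat_lit 0],[nat_lit 3,nat_lit 1],[nat_lit 5],[nat_lit 6,nat_lit 5],[nat_lit 7,nat_lit 5],[nat_lit 0]],[[nat_lit 0],[nat_lit 5,nat_lit 1,nat_lit 0],[nat_lit 2,nat_lit 1,nat_lit 0],[nat_lit 5,nat_lit 3,nat_lit 2,nat_lit 1,nat_lit 0],[nat_lit 5,nat_lit 4,nat_lit 2,nat_lit 1],[nat_lit 5,nat_lit 0],[nat_lit 8,nat_lit 7,nat_lit 5,nat_lit 0],[nat_lit 8,nat_lit 6,nat_lit 5,nat_lit 4,nat_lit 3,nat_lit 0],[nat_lit 8,nat_lit 4,nat_lit 3,nat_lit 1],[nat_lit 8,nat_lit 7,nat_lit 6,nat_lit 2,nat_lit 0]],[[nat_lit 0],[nat_lit 5,nat_lit 1,nat_lit 0],[nat_lit 8,nat_lit 7,nat_lit 6,nat_lit 5,nat_lit 2,nat_lit 1,nat_lit 0],[nat_lit 6,nat_lit 5,nat_lit 3,nat_lit 2,nat_lit 1,nat_lit 0],[nat_lit 6,nat_lit 4,nat_lit 2,nat_lit 1],[nat_lit 5,nat_lit 0],[nat_lit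 8,nat_lit 7,nat_lit 5,nat_lit 0],[nat_lit 8,nat_lit 6,nat_lit 4,nat_lit 3],[nat_lit 8,nat_lit 5,nat_lit 4,nat_lit 3,nat_lit 1,nat_lit 0],[nat_lit 9,nat_lit 6,nat_lit 5,nat_lit 1],[nat_lit 6,nat_lit 2,nat_lit 1]]],[nat_lit 1],[nat_lit 10],[],[],nat_lit 0x4ce3218⟩
noncomputable def h131 : Hdr :=
  ⟨(nat_lit 6),(nat_lit 11),[[[]],[[nat_lit 0],[nat_lit 0]],[[nat_lit 0],[nat_lit 1,nat_lit 0],[nat_lit 0]],[[nat_lit 0],[nat_lit 1],[nat_lit 2],[nat_lit 0]],[[nat_lit 0],[nat_lit 1],[nat_lit 2],[nat_lit 3],[]],[[nat_lit 0],[nat_lit 1],[nat_lit 2],[nat_lit 3,nat_lit 0],[nat_lit 4,nat_lit 0],[]],[[nat_lit 0],[nat_lit 1],[nat_lit 2,nat_lit 1,nat_lit 0],[nat_lit 3,nat_lit 0],[nat_lit 4],[nat_lit 5],[nat_lit 1]],[[nat_lit 0],[nat_lit 1],[nat_lit 2,nat_lit 1],[nat_lit 5,nat_lit 4],[nat_lit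 5,nat_lit 3],[nat_lit 5],[nat_lit 6,nat_lit 5],[nat_lit 1]],[[nat_lit 0],[nat_lit 1],[nat_lit 5,nat_lit 2],[nat_lit 4,nat_lit 1,nat_lit 0],[nat_lit 3,nat_lit 1],[nat_lit 5],[nat_lit 6,nat_lit 5],[nat_lit 7,nat_lit 5],[nat_lit 0]],[[nat_lit 0],[nat_lit 5,nat_lit 1,nat_lit 0],[nat_lit 2,nat_lit 1,nat_lit 0],[nat_lit 5,nat_lit 3,nat_lit 2,nat_lit 1,nat_lit 0],[nat_lit 5,nat_lit 4,nat_lit 2,nat_lit 1],[nat_lit 5,nat_lit 0],[nat_lit 8,nat_lit 7,nat_lit 5,nat_lit 0],[nat_lit 8,nat_lit 6,nat_lit 5,nat_lit 4,nat_lit 3,nat_lit 0],[nat_lit 8,nat_lit 4,nat_lit 3,nat_lit 1],[nat_lit 8,nat_lit 7,nat_lit 6,nat_lit 2,nat_lit 0]],[[nat_lit 0],[nat_lit 5,nat_lit 1,nat_lit 0],[nat_lit 8,nat_lit 7,nat_lit 6,nat_lit 2],[nat_lit 6,nat_lit 5,nat_lit 3,nat_lit 2,nat_lit 1,nat_lit 0],[nat_lit 6,nat_lit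 4,nat_lit 2,nat_lit 1],[nat_lit 5],[nat_lit 8,nat_lit 7,nat_lit 5],[nat_lit 8,nat_lit 6],[nat_lit 8,nat_lit 5,nat_lit 0],[nat_lit 9,nat_lit 6,nat_lit 5,nat_lit 2],[nat_lit 8,nat_lit 7,nat_lit 6,nat_lit 0]]],[nat_lit 1],[nat_lit 10],[],[],nat_lit 0x4ce3218⟩
noncomputable def h132 : Hdr :=
  ⟨(nat_lit 6),(nat_lit 11),[[[]],[[nat_lit 0],[nat_lit 0]],[[nat_lit 0],[nat_lit 1,nat_lit 0],[nat_lit 0]],[[nat_lit 0],[nat_lit 1],[nat_lit 2],[nat_lit 0]],[[nat_lit 0],[nat_lit 1],[nat_lit 2],[nat_lit 3],[]],[[nat_lit 0],[nat_lit 1],[nat_lit 2],[nat_lit 3,nat_lit 0],[nat_lit 4,nat_lit 0],[]],[[nat_lit 0],[nat_lit 1],[nat_lit 2,nat_lit 1,nat_lit 0],[nat_lit 3,nat_lit 0],[nat_lit 4],[nat_lit 5],[nat_lit 1]],[[nat_lit 0],[nat_lit 1],[nat_lit 2,nat_lit 1],[nat_lit 5,nat_lit 4],[nat_lit 5,nat_lit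 3],[nat_lit 5],[nat_lit 6,nat_lit 5],[nat_lit 1]],[[nat_lit 0],[nat_lit 1],[nat_lit 5,nat_lit 2],[nat_lit 4,nat_lit 1,nat_lit 0],[nat_lit 3,nat_lit 1],[nat_lit 5],[nat_lit 6,nat_lit 5],[nat_lit 7,nat_lit 5],[nat_lit 0]],[[nat_lit 0],[nat_lit 5,nat_lit 1,nat_lit 0],[nat_lit 2,nat_lit 1,nat_lit 0],[nat_lit 5,nat_lit 3,nat_lit 2,nat_lit 1,nat_lit 0],[nat_lit 5,nat_lit 4,nat_lit 2,nat_lit 1],[nat_lit 5,nat_lit 0],[nat_lit 8,nat_lit 7,nat_lit 5,nat_lit 0],[nat_lit 8,nat_lit 6,nat_lit 5,nat_lit 4,nat_lit 3,nat_lit 0],[nat_lit 8,nat_lit 4,nat_lit 3,nat_lit 1],[nat_lit 8,nat_lit 7,nat_lit 6,nat_lit 2,nat_lit 0]],[[nat_lit 0],[nat_lit 5,nat_lit 1,nat_lit 0],[nat_lit 8,nat_lit 7,nat_lit 6,nat_lit 2],[nat_lit 6,nat_lit 5,nat_lit 3,nat_lit 2,nat_lit 1,nat_lit 0],[nat_lit 6,nat_lit 4,nat_lit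 2,nat_lit 1],[nat_lit 5],[nat_lit 8,nat_lit 7,nat_lit 5],[nat_lit 8,nat_lit 6],[nat_lit 8,nat_lit 5,nat_lit 0],[nat_lit 9,nat_lit 6,nat_lit 5,nat_lit 2],[nat_lit 8,nat_lit 7,nat_lit 6]]],[nat_lit 1],[nat_lit 10],[],[],nat_lit 0x4ce3218⟩
noncomputable def h133 : Hdr :=
  ⟨(nat_lit 6),(nat_lit 11),[[[]],[[nat_lit 0],[nat_lit 0]],[[nat_lit 0],[nat_lit 1,nat_lit 0],[nat_lit 0]],[[nat_lit 0],[nat_lit 1],[nat_lit 2],[nat_lit 0]],[[nat_lit 0],[nat_lit 1],[nat_lit 2],[nat_lit 3],[]],[[nat_lit 0],[nat_lit 1],[nat_lit 2],[nat_lit 3,nat_lit 0],[nat_lit 4,nat_lit 0],[]],[[nat_lit 0],[nat_lit 1],[nat_lit 2,nat_lit 1,nat_lit 0],[nat_lit 3,nat_lit 0],[nat_lit 4],[nat_lit 5],[nat_lit 1]],[[nat_lit 0],[nat_lit 1],[nat_lit 2,nat_lit 1],[nat_lit 5,nat_lit 4],[nat_lit 5,nat_lit 3],[nat_lit 5],[nat_lit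 6,nat_lit 5],[nat_lit 1]],[[nat_lit 0],[nat_lit 1],[nat_lit 5,nat_lit 2],[nat_lit 4,nat_lit 1,nat_lit 0],[nat_lit 3,nat_lit 1],[nat_lit 5],[nat_lit 6,nat_lit 5],[nat_lit 7,nat_lit 5],[nat_lit 0]],[[nat_lit 0],[nat_lit 5,nat_lit 1,nat_lit 0],[nat_lit 2,nat_lit 1,nat_lit 0],[nat_lit 5,nat_lit 3,nat_lit 2,nat_lit 1,nat_lit 0],[nat_lit 5,nat_lit 4,nat_lit 2,nat_lit 1],[nat_lit 5,nat_lit 0],[nat_lit 8,nat_lit 7,nat_lit 5,nat_lit 0],[nat_lit 8,nat_lit 6,nat_lit 5,nat_lit 4,nat_lit 3,nat_lit 0],[nat_lit 8,nat_lit 4,nat_lit 3,nat_lit 1],[nat_lit 8,nat_lit 7,nat_lit 6,nat_lit 2,nat_lit 0]],[[nat_lit 0],[nat_lit 5,nat_lit 1,nat_lit 0],[nat_lit 8,nat_lit 7,nat_lit 6,nat_lit 2],[nat_lit 6,nat_lit 5,nat_lit 3,nat_lit 2,nat_lit 1,nat_lit 0],[nat_lit 6,nat_lit 4,nat_lit 2,nat_lit 1],[nat_lit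 5],[nat_lit 8,nat_lit 7,nat_lit 5],[nat_lit 8,nat_lit 6],[nat_lit 8,nat_lit 5,nat_lit 0],[nat_lit 9,nat_lit 6,nat_lit 5,nat_lit 2,nat_lit 0],[nat_lit 8,nat_lit 7,nat_lit 6,nat_lit 0]]],[nat_lit 1],[nat_lit 10],[],[],nat_lit 0x4ce3218⟩
noncomputable def h134 : Hdr :=
  ⟨(nat_lit 6),(nat_lit 11),[[[]],[[nat_lit 0],[nat_lit 0]],[[nat_lit 0],[nat_lit 1,nat_lit 0],[nat_lit 0]],[[nat_lit 0],[nat_lit 1],[nat_lit 2],[nat_lit 0]],[[nat_lit 0],[nat_lit 1],[nat_lit 2],[nat_lit 3],[]],[[nat_lit 0],[nat_lit 1],[nat_lit 2],[nat_lit 3,nat_lit 0],[nat_lit 4,nat_lit 0],[]],[[nat_lit 0],[nat_lit 1],[nat_lit 2,nat_lit 1,nat_lit 0],[nat_lit 3,nat_lit 0],[nat_lit 4],[nat_lit 5],[nat_lit 1]],[[nat_lit 0],[nat_lit 1],[nat_lit 2,nat_lit 1],[nat_lit 5,nat_lit 4],[nat_lit 5,nat_lit 3],[nat_lit 5],[nat_lit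 6,nat_lit 5],[nat_lit 1]],[[nat_lit 0],[nat_lit 1],[nat_lit 5,nat_lit 2],[nat_lit 4,nat_lit 1,nat_lit 0],[nat_lit 3,nat_lit 1],[nat_lit 5],[nat_lit 6,nat_lit 5],[nat_lit 7,nat_lit 5],[nat_lit 0]],[[nat_lit 0],[nat_lit 5,nat_lit 1,nat_lit 0],[nat_lit 2,nat_lit 1,nat_lit 0],[nat_lit 5,nat_lit 3,nat_lit 2,nat_lit 1,nat_lit 0],[nat_lit 5,nat_lit 4,nat_lit 2,nat_lit 1],[nat_lit 5,nat_lit 0],[nat_lit 8,nat_lit 7,nat_lit 5,nat_lit 0],[nat_lit 8,nat_lit 6,nat_lit 5,nat_lit 4,nat_lit 3,nat_lit 0],[nat_lit 8,nat_lit 4,nat_lit 3,nat_lit 1],[nat_lit 8,nat_lit 7,nat_lit 6,nat_lit 2,nat_lit 0]],[[nat_lit 0],[nat_lit 5,nat_lit 1,nat_lit 0],[nat_lit 8,nat_lit 7,nat_lit 6,nat_lit 2],[nat_lit 6,nat_lit 5,nat_lit 3,nat_lit 2,nat_lit 1,nat_lit 0],[nat_lit 6,nat_lit 4,nat_lit 2,nat_lit 1],[nat_lit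 5],[nat_lit 8,nat_lit 7,nat_lit 5],[nat_lit 8,nat_lit 6],[nat_lit 8,nat_lit 5,nat_lit 0],[nat_lit 9,nat_lit 6,nat_lit 5,nat_lit 2,nat_lit 0],[nat_lit 8,nat_lit 7,nat_lit 6]]],[nat_lit 1],[nat_lit 10],[],[],nat_lit 0x4ce3218⟩
noncomputable def h135 : Hdr :=
  ⟨(nat_lit 6),(nat_lit 11),[[[]],[[nat_lit 0],[nat_lit 0]],[[nat_lit 0],[nat_lit 1,nat_lit 0],[nat_lit 0]],[[nat_lit 0],[nat_lit 1],[nat_lit 2],[nat_lit 0]],[[nat_lit 0],[nat_lit 1],[nat_lit 2],[nat_lit 3],[]],[[nat_lit 0],[nat_lit 1],[nat_lit 2],[nat_lit 3,nat_lit 0],[nat_lit 4,nat_lit 0],[]],[[nat_lit 0],[nat_lit 1],[nat_lit 2,nat_lit 1,nat_lit 0],[nat_lit 3,nat_lit 0],[nat_lit 4],[nat_lit 5],[nat_lit 1]],[[nat_lit 0],[nat_lit 1],[nat_lit 2,nat_lit 1],[nat_lit 5,nat_lit 4],[nat_lit 5,nat_lit 3],[nat_lit 5],[nat_lit 6,nat_lit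 5],[nat_lit 1]],[[nat_lit 0],[nat_lit 1],[nat_lit 5,nat_lit 2],[nat_lit 4,nat_lit 1,nat_lit 0],[nat_lit 3,nat_lit 1],[nat_lit 5],[nat_lit 6,nat_lit 5],[nat_lit 7,nat_lit 5],[nat_lit 0]],[[nat_lit 0],[nat_lit 5,nat_lit 1,nat_lit 0],[nat_lit 2,nat_lit 1,nat_lit 0],[nat_lit 5,nat_lit 3,nat_lit 2,nat_lit 1,nat_lit 0],[nat_lit 5,nat_lit 4,nat_lit 2,nat_lit 1],[nat_lit 5,nat_lit 0],[nat_lit 8,nat_lit 7,nat_lit 5,nat_lit 0],[nat_lit 8,nat_lit 6,nat_lit 5,nat_lit 4,nat_lit 3,nat_lit 0],[nat_lit 8,nat_lit 4,nat_lit 3,nat_lit 1],[nat_lit 8,nat_lit 7,nat_lit 6,nat_lit 2,nat_lit 0]],[[nat_lit 0],[nat_lit 5,nat_lit 1,nat_lit 0],[nat_lit 8,nat_lit 7,nat_lit 6,nat_lit 2],[nat_lit 6,nat_lit 5,nat_lit 3,nat_lit 2,nat_lit 1,nat_lit 0],[nat_lit 6,nat_lit 4,nat_lit 2,nat_lit 1],[nat_lit 5],[nat_lit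 8,nat_lit 7,nat_lit 5],[nat_lit 8,nat_lit 6,nat_lit 0],[nat_lit 8,nat_lit 5],[nat_lit 9,nat_lit 6,nat_lit 5,nat_lit 2],[nat_lit 8,nat_lit 7,nat_lit 6,nat_lit 0]]],[nat_lit 1],[nat_lit 10],[],[],nat_lit 0x4ce3218⟩
noncomputable def h136 : Hdr :=
  ⟨(nat_lit 6),(nat_lit 11),[[[]],[[nat_lit 0],[nat_lit 0]],[[nat_lit 0],[nat_lit 1,nat_lit 0],[nat_lit 0]],[[nat_lit 0],[nat_lit 1],[nat_lit 2],[nat_lit 0]],[[nat_lit 0],[nat_lit 1],[nat_lit 2],[nat_lit 3],[]],[[nat_lit 0],[nat_lit 1],[nat_lit 2],[nat_lit 3,nat_lit 0],[nat_lit 4,nat_lit 0],[]],[[nat_lit 0],[nat_lit 1],[nat_lit 2,nat_lit 1,nat_lit 0],[nat_lit 3,nat_lit 0],[nat_lit 4],[nat_lit 5],[nat_lit 1]],[[nat_lit 0],[nat_lit 1],[nat_lit 2,nat_lit 1],[nat_lit 5,nat_lit 4],[nat_lit 5,nat_lit 3],[nat_lit 5],[nat_lit 6,nat_lit 5],[nat_lit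 1]],[[nat_lit 0],[nat_lit 1],[nat_lit 5,nat_lit 2],[nat_lit 4,nat_lit 1,nat_lit 0],[nat_lit 3,nat_lit 1],[nat_lit 5],[nat_lit 6,nat_lit 5],[nat_lit 7,nat_lit 5],[nat_lit 0]],[[nat_lit 0],[nat_lit 5,nat_lit 1,nat_lit 0],[nat_lit 2,nat_lit 1,nat_lit 0],[nat_lit 5,nat_lit 3,nat_lit 2,nat_lit 1,nat_lit 0],[nat_lit 5,nat_lit 4,nat_lit 2,nat_lit 1],[nat_lit 5,nat_lit 0],[nat_lit 8,nat_lit 7,nat_lit 5,nat_lit 0],[nat_lit 8,nat_lit 6,nat_lit 5,nat_lit 4,nat_lit 3,nat_lit 0],[nat_lit 8,nat_lit 4,nat_lit 3,nat_lit 1],[nat_lit 8,nat_lit 7,nat_lit 6,nat_lit 2,nat_lit 0]],[[nat_lit 0],[nat_lit 5,nat_lit 1,nat_lit 0],[nat_lit 8,nat_lit 7,nat_lit 6,nat_lit 2],[nat_lit 6,nat_lit 5,nat_lit 3,nat_lit 2,nat_lit 1,nat_lit 0],[nat_lit 6,nat_lit 4,nat_lit 2,nat_lit 1],[nat_lit 5],[nat_lit 8,nat_lit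 7,nat_lit 5],[nat_lit 8,nat_lit 6,nat_lit 0],[nat_lit 8,nat_lit 5],[nat_lit 9,nat_lit 6,nat_lit 5,nat_lit 2,nat_lit 0],[nat_lit 8,nat_lit 7,nat_lit 6,nat_lit 0]]],[nat_lit 1],[nat_lit 10],[],[],nat_lit 0x4ce3218⟩
noncomputable def h137 : Hdr :=
  ⟨(nat_lit 6),(nat_lit 11),[[[]],[[nat_lit 0],[nat_lit 0]],[[nat_lit 0],[nat_lit 1,nat_lit 0],[nat_lit 0]],[[nat_lit 0],[nat_lit 1],[nat_lit 2],[nat_lit 0]],[[nat_lit 0],[nat_lit 1],[nat_lit 2],[nat_lit 3],[]],[[nat_lit 0],[nat_lit 1],[nat_lit 2],[nat_lit 3,nat_lit 0],[nat_lit 4,nat_lit 0],[]],[[nat_lit 0],[nat_lit 1],[nat_lit 2,nat_lit 1,nat_lit 0],[nat_lit 3,nat_lit 0],[nat_lit 4],[nat_lit 5],[nat_lit 1]],[[nat_lit 0],[nat_lit 1],[nat_lit 2,nat_lit 1],[nat_lit 5,nat_lit 4],[nat_lit 5,nat_lit 3],[nat_lit 5],[nat_lit 6,nat_lit 5],[nat_lit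 1]],[[nat_lit 0],[nat_lit 1],[nat_lit 5,nat_lit 2],[nat_lit 4,nat_lit 1,nat_lit 0],[nat_lit 3,nat_lit 1],[nat_lit 5],[nat_lit 6,nat_lit 5],[nat_lit 7,nat_lit 5],[nat_lit 0]],[[nat_lit 0],[nat_lit 5,nat_lit 1,nat_lit 0],[nat_lit 2,nat_lit 1,nat_lit 0],[nat_lit 5,nat_lit 3,nat_lit 2,nat_lit 1,nat_lit 0],[nat_lit 5,nat_lit 4,nat_lit 2,nat_lit 1],[nat_lit 5,nat_lit 0],[nat_lit 8,nat_lit 7,nat_lit 5,nat_lit 0],[nat_lit 8,nat_lit 6,nat_lit 5,nat_lit 4,nat_lit 3,nat_lit 0],[nat_lit 8,nat_lit 4,nat_lit 3,nat_lit 1],[nat_lit 8,nat_lit 7,nat_lit 6,nat_lit 2,nat_lit 0]],[[nat_lit 0],[nat_lit 5,nat_lit 1],[nat_lit 8,nat_lit 7,nat_lit 6,nat_lit 5,nat_lit 2,nat_lit 1,nat_lit 0],[nat_lit 6,nat_lit 5,nat_lit 3,nat_lit 2,nat_lit 1],[nat_lit 6,nat_lit 4,nat_lit 2,nat_lit 1,nat_lit 0],[nat_lit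 5,nat_lit 0],[nat_lit 8,nat_lit 7,nat_lit 5,nat_lit 4,nat_lit 3,nat_lit 1,nat_lit 0],[nat_lit 8,nat_lit 6,nat_lit 1],[nat_lit 8,nat_lit 4,nat_lit 3,nat_lit 1],[nat_lit 9,nat_lit 6,nat_lit 5,nat_lit 4,nat_lit 3],[nat_lit 8,nat_lit 6,nat_lit 2,nat_lit 1]]],[nat_lit 1],[nat_lit 10],[],[],nat_lit 0x4ce3218⟩
noncomputable def h138 : Hdr :=
  ⟨(nat_lit 6),(nat_lit 11),[[[]],[[nat_lit 0],[nat_lit 0]],[[nat_lit 0],[nat_lit 1,nat_lit 0],[nat_lit 0]],[[nat_lit 0],[nat_lit 1],[nat_lit 2],[nat_lit 0]],[[nat_lit 0],[nat_lit 1],[nat_lit 2],[nat_lit 3],[]],[[nat_lit 0],[nat_lit 1],[nat_lit 2],[nat_lit 3,nat_lit 0],[nat_lit 4,nat_lit 0],[]],[[nat_lit 0],[nat_lit 1],[nat_lit 2,nat_lit 1,nat_lit 0],[nat_lit 3,nat_lit 0],[nat_lit 4],[nat_lit 5],[nat_lit 1]],[[nat_lit 0],[nat_lit 1],[nat_lit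 2,nat_lit 1],[nat_lit 5,nat_lit 4],[nat_lit 5,nat_lit 3],[nat_lit 5],[nat_lit 6,nat_lit 5],[nat_lit 1]],[[nat_lit 0],[nat_lit 1],[nat_lit 5,nat_lit 2],[nat_lit 4,nat_lit 1,nat_lit 0],[nat_lit 3,nat_lit 1],[nat_lit 5],[nat_lit 6,nat_lit 5],[nat_lit 7,nat_lit 5],[nat_lit 0]],[[nat_lit 0],[nat_lit 5,nat_lit 1,nat_lit 0],[nat_lit 2,nat_lit 1,nat_lit 0],[nat_lit 5,nat_lit 3,nat_lit 2,nat_lit 1,nat_lit 0],[nat_lit 5,nat_lit 4,nat_lit 2,nat_lit 1],[nat_lit 5,nat_lit 0],[nat_lit 8,nat_lit 7,nat_lit 5,nat_lit 0],[nat_lit 8,nat_lit 6,nat_lit 5,nat_lit 4,nat_lit 3,nat_lit 0],[nat_lit 8,nat_lit 4,nat_lit 3,nat_lit 1],[nat_lit 8,nat_lit 7,nat_lit 6,nat_lit 2,nat_lit 0]],[[nat_lit 0],[nat_lit 5,nat_lit 1],[nat_lit 8,nat_lit 7,nat_lit 6,nat_lit 5,nat_lit 2,nat_lit 1,nat_lit 0],[nat_lit 6,nat_lit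 5,nat_lit 3,nat_lit 2,nat_lit 1],[nat_lit 6,nat_lit 4,nat_lit 2,nat_lit 1,nat_lit 0],[nat_lit 5,nat_lit 0],[nat_lit 8,nat_lit 7,nat_lit 5,nat_lit 4,nat_lit 3,nat_lit 1,nat_lit 0],[nat_lit 8,nat_lit 6,nat_lit 1],[nat_lit 8,nat_lit 4,nat_lit 3,nat_lit 1],[nat_lit 9,nat_lit 6,nat_lit 5,nat_lit 4,nat_lit 3,nat_lit 0],[nat_lit 8,nat_lit 6,nat_lit 2,nat_lit 1]]],[nat_lit 1],[nat_lit 10],[],[],nat_lit 0x4ce3218⟩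
noncomputable def h139 : Hdr :=
  ⟨(nat_lit 6),(nat_lit 11),[[[]],[[nat_lit 0],[nat_lit 0]],[[nat_lit 0],[nat_lit 1,nat_lit 0],[nat_lit 0]],[[nat_lit 0],[nat_lit 1],[nat_lit 2],[nat_lit 0]],[[nat_lit 0],[nat_lit 1],[nat_lit 2],[nat_lit 3],[]],[[nat_lit 0],[nat_lit 1],[nat_lit 2],[nat_lit 3,nat_lit 0],[nat_lit 4,nat_lit 0],[]],[[nat_lit 0],[nat_lit 1],[nat_lit 2,nat_lit 1,nat_lit 0],[nat_lit 3,nat_lit 0],[nat_lit 4],[nat_lit 5],[nat_lit 1]],[[nat_lit 0],[nat_lit 1],[nat_lit 2,nat_lit 1],[nat_lit 5,nat_lit 4],[nat_lit 5,nat_lit 3],[nat_lit 5],[nat_lit 6,nat_lit 5],[nat_lit 1]],[[nat_lit 0],[nat_lit 1],[nat_lit 5,nat_lit 2],[nat_lit 4,nat_lit 1,nat_lit 0],[nat_lit 3,nat_lit 1],[nat_lit 5],[nat_lit 6,nat_lit 5],[nat_lit 7,nat_lit 5],[nat_lit 0]],[[nat_lit 0],[nat_lit 5,nat_lit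 1,nat_lit 0],[nat_lit 2,nat_lit 1,nat_lit 0],[nat_lit 5,nat_lit 3,nat_lit 2,nat_lit 1,nat_lit 0],[nat_lit 5,nat_lit 4,nat_lit 2,nat_lit 1],[nat_lit 5,nat_lit 0],[nat_lit 8,nat_lit 7,nat_lit 5,nat_lit 0],[nat_lit 8,nat_lit 6,nat_lit 5,nat_lit 4,nat_lit 3,nat_lit 0],[nat_lit 8,nat_lit 4,nat_lit 3,nat_lit 1],[nat_lit 8,nat_lit 7,nat_lit 6,nat_lit 2,nat_lit 0]],[[nat_lit 0],[nat_lit 5,nat_lit 1],[nat_lit 8,nat_lit 7,nat_lit 6,nat_lit 2],[nat_lit 6,nat_lit 5,nat_lit 3,nat_lit 2,nat_lit 1],[nat_lit 6,nat_lit 4,nat_lit 2,nat_lit 1,nat_lit 0],[nat_lit 5],[nat_lit 8,nat_lit 7,nat_lit 5,nat_lit 4,nat_lit 3,nat_lit 1],[nat_lit 8,nat_lit 6,nat_lit 4,nat_lit 3,nat_lit 1],[nat_lit 8],[nat_lit 9,nat_lit 6,nat_lit 5,nat_lit 4,nat_lit 3,nat_lit 2,nat_lit 1],[nat_lit 7,nat_lit 6,nat_lit 4,nat_lit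 3]]],[nat_lit 1],[nat_lit 10],[],[],nat_lit 0x4ce3218⟩
noncomputable def h140 : Hdr :=
  ⟨(nat_lit 6),(nat_lit 11),[[[]],[[nat_lit 0],[nat_lit 0]],[[nat_lit 0],[nat_lit 1,nat_lit 0],[nat_lit 0]],[[nat_lit 0],[nat_lit 1],[nat_lit 2],[nat_lit 0]],[[nat_lit 0],[nat_lit 1],[nat_lit 2],[nat_lit 3],[]],[[nat_lit 0],[nat_lit 1],[nat_lit 2],[nat_lit 3,nat_lit 0],[nat_lit 4,nat_lit 0],[]],[[nat_lit 0],[nat_lit 1],[nat_lit 2,nat_lit 1,nat_lit 0],[nat_lit 3,nat_lit 0],[nat_lit 4],[nat_lit 5],[nat_lit 1]],[[nat_lit 0],[nat_lit 1],[nat_lit 2,nat_lit 1],[nat_lit 5,nat_lit 4],[nat_lit 5,nat_lit 3],[nat_lit 5],[nat_lit 6,nat_lit 5],[nat_lit 1]],[[nat_lit 0],[nat_lit 1],[nat_lit 5,nat_lit 2],[nat_lit 4,nat_lit 1,nat_lit 0],[nat_lit 3,nat_lit 1],[nat_lit 5],[nat_lit 6,nat_lit 5],[nat_lit 7,nat_lit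 5],[nat_lit 0]],[[nat_lit 0],[nat_lit 5,nat_lit 1,nat_lit 0],[nat_lit 2,nat_lit 1,nat_lit 0],[nat_lit 5,nat_lit 3,nat_lit 2,nat_lit 1,nat_lit 0],[nat_lit 5,nat_lit 4,nat_lit 2,nat_lit 1],[nat_lit 5,nat_lit 0],[nat_lit 8,nat_lit 7,nat_lit 5,nat_lit 0],[nat_lit 8,nat_lit 6,nat_lit 5,nat_lit 4,nat_lit 3,nat_lit 0],[nat_lit 8,nat_lit 4,nat_lit 3,nat_lit 1],[nat_lit 8,nat_lit 7,nat_lit 6,nat_lit 2,nat_lit 0]],[[nat_lit 0],[nat_lit 5,nat_lit 1],[nat_lit 8,nat_lit 7,nat_lit 6,nat_lit 2],[nat_lit 6,nat_lit 5,nat_lit 3,nat_lit 2,nat_lit 1],[nat_lit 6,nat_lit 4,nat_lit 2,nat_lit 1,nat_lit 0],[nat_lit 5],[nat_lit 8,nat_lit 7,nat_lit 5,nat_lit 4,nat_lit 3,nat_lit 1],[nat_lit 8,nat_lit 6,nat_lit 4,nat_lit 3,nat_lit 1],[nat_lit 8],[nat_lit 9,nat_lit 6,nat_lit 5,nat_lit 4,nat_lit 3,nat_lit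 2,nat_lit 1,nat_lit 0],[nat_lit 7,nat_lit 6,nat_lit 4,nat_lit 3]]],[nat_lit 1],[nat_lit 10],[],[],nat_lit 0x4ce3218⟩
noncomputable def h141 : Hdr :=
  ⟨(nat_lit 6),(nat_lit 10),[[[]],[[nat_lit 0],[nat_lit 0]],[[nat_lit 0],[nat_lit 1,nat_lit 0],[nat_lit 0]],[[nat_lit 0],[nat_lit 1],[nat_lit 2],[nat_lit 0]],[[nat_lit 0],[nat_lit 1],[nat_lit 2],[nat_lit 3],[]],[[nat_lit 0],[nat_lit 1],[nat_lit 2],[nat_lit 3,nat_lit 0],[nat_lit 4,nat_lit 0],[]],[[nat_lit 0],[nat_lit 1],[nat_lit 2,nat_lit 1,nat_lit 0],[nat_lit 3,nat_lit 0],[nat_lit 4],[nat_lit 5],[nat_lit 1]],[[nat_lit 0],[nat_lit 1],[nat_lit 2,nat_lit 1],[nat_lit 5,nat_lit 4],[nat_lit 5,nat_lit 3],[nat_lit 5],[nat_lit 6,nat_lit 5],[nat_lit 1]],[[nat_lit 0],[nat_lit 1],[nat_lit 5,nat_lit 2],[nat_lit 4,nat_lit 1,nat_lit 0],[nat_lit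 3,nat_lit 1],[nat_lit 5],[nat_lit 6,nat_lit 5],[nat_lit 7,nat_lit 5],[nat_lit 0]],[[nat_lit 0],[nat_lit 5,nat_lit 1,nat_lit 0],[nat_lit 2,nat_lit 1,nat_lit 0],[nat_lit 5,nat_lit 3,nat_lit 2,nat_lit 1,nat_lit 0],[nat_lit 5,nat_lit 4,nat_lit 2,nat_lit 1],[nat_lit 5,nat_lit 0],[nat_lit 8,nat_lit 7,nat_lit 5,nat_lit 0],[nat_lit 8,nat_lit 6,nat_lit 5,nat_lit 4,nat_lit 3,nat_lit 0],[nat_lit 8,nat_lit 4,nat_lit 3,nat_lit 1],[nat_lit 8,nat_lit 7,nat_lit 6,nat_lit 2,nat_lit 0]]],[nat_lit 1],[nat_lit 10,nat_lit 76],[],[],nat_lit 0x4ce3218⟩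
noncomputable def h142 : Hdr :=
  ⟨(nat_lit 6),(nat_lit 10),[[[]],[[nat_lit 0],[nat_lit 0]],[[nat_lit 0],[nat_lit 1,nat_lit 0],[nat_lit 0]],[[nat_lit 0],[nat_lit 1],[nat_lit 2],[nat_lit 0]],[[nat_lit 0],[nat_lit 1],[nat_lit 2],[nat_lit 3],[]],[[nat_lit 0],[nat_lit 1],[nat_lit 2],[nat_lit 3,nat_lit 0],[nat_lit 4,nat_lit 0],[]],[[nat_lit 0],[nat_lit 1],[nat_lit 2,nat_lit 1,nat_lit 0],[nat_lit 3,nat_lit 0],[nat_lit 4],[nat_lit 5],[nat_lit 1]],[[nat_lit 0],[nat_lit 1],[nat_lit 2,nat_lit 1],[nat_lit 5,nat_lit 4],[nat_lit 5,nat_lit 3],[nat_lit 5],[nat_lit 6,nat_lit 5],[nat_lit 1]],[[nat_lit 0],[nat_lit 1],[nat_lit 5,nat_lit 2],[nat_lit 4,nat_lit 1,nat_lit 0],[nat_lit 3,nat_lit 1],[nat_lit 5],[nat_lit 6,nat_lit 5],[nat_lit 7,nat_lit 5],[nat_lit 0]],[[nat_lit 0],[nat_lit 5,nat_lit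 1,nat_lit 0],[nat_lit 2,nat_lit 1,nat_lit 0],[nat_lit 5,nat_lit 3,nat_lit 2,nat_lit 1,nat_lit 0],[nat_lit 5,nat_lit 4,nat_lit 2,nat_lit 1],[nat_lit 5,nat_lit 0],[nat_lit 8,nat_lit 7,nat_lit 5,nat_lit 0],[nat_lit 8,nat_lit 6,nat_lit 5,nat_lit 4,nat_lit 3,nat_lit 0],[nat_lit 8,nat_lit 4,nat_lit 3,nat_lit 1],[nat_lit 8,nat_lit 7,nat_lit 6,nat_lit 2,nat_lit 0]]],[nat_lit 1],[nat_lit 10],[],[⟨[nat_lit 1,nat_lit 2,nat_lit 4,nat_lit 8,nat_lit 16,nat_lit 32],[nat_lit 1,nat_lit 6,nat_lit 2,nat_lit 8,nat_lit 16,nat_lit 32],[]⟩,⟨[nat_lit 1,nat_lit 2,nat_lit 4,nat_lit 8,nat_lit 16,nat_lit 32],[nat_lit 1,nat_lit 4,nat_lit 34,nat_lit 20,nat_lit 12,nat_lit 32],[]⟩,⟨[nat_lit 1,nat_lit 69,nat_lit 11,nat_lit 16],[nat_lit 69,nat_lit 68,nat_lit 11,nat_lit 16],[nat_lit 0,nat_lit 1,nat_lit 69,nat_lit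 68,nat_lit 11,nat_lit 10,nat_lit 78,nat_lit 79,nat_lit 16,nat_lit 17,nat_lit 85,nat_lit 84,nat_lit 27,nat_lit 26,nat_lit 94,nat_lit 95]⟩],nat_lit 0x4ce3218⟩
noncomputable def h143 : Hdr :=
  ⟨(nat_lit 6),(nat_lit 10),[[[]],[[nat_lit 0],[nat_lit 0]],[[nat_lit 0],[nat_lit 1,nat_lit 0],[nat_lit 0]],[[nat_lit 0],[nat_lit 1],[nat_lit 2],[nat_lit 0]],[[nat_lit 0],[nat_lit 1],[nat_lit 2],[nat_lit 3],[]],[[nat_lit 0],[nat_lit 1],[nat_lit 2],[nat_lit 3,nat_lit 0],[nat_lit 4,nat_lit 0],[]],[[nat_lit 0],[nat_lit 1],[nat_lit 2,nat_lit 1,nat_lit 0],[nat_lit 3,nat_lit 0],[nat_lit 4],[nat_lit 5],[nat_lit 1]],[[nat_lit 0],[nat_lit 1],[nat_lit 2,nat_lit 1],[nat_lit 5,nat_lit 4],[nat_lit 5,nat_lit 3],[nat_lit 5],[nat_lit 6,nat_lit 5],[nat_lit 1]],[[nat_lit 0],[nat_lit 1],[nat_lit 5,nat_lit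 2],[nat_lit 4,nat_lit 1,nat_lit 0],[nat_lit 3,nat_lit 1],[nat_lit 5],[nat_lit 6,nat_lit 5],[nat_lit 7,nat_lit 5],[nat_lit 0]],[[nat_lit 0],[nat_lit 5,nat_lit 1,nat_lit 0],[nat_lit 2,nat_lit 1,nat_lit 0],[nat_lit 5,nat_lit 3,nat_lit 2,nat_lit 1,nat_lit 0],[nat_lit 5,nat_lit 4,nat_lit 2,nat_lit 1],[nat_lit 5,nat_lit 0],[nat_lit 8,nat_lit 7,nat_lit 5,nat_lit 0],[nat_lit 8,nat_lit 6,nat_lit 5,nat_lit 4,nat_lit 3],[nat_lit 8,nat_lit 4,nat_lit 3,nat_lit 1,nat_lit 0],[nat_lit 8,nat_lit 7,nat_lit 6,nat_lit 2,nat_lit 0]]],[nat_lit 1],[nat_lit 10],[],[⟨[nat_lit 1,nat_lit 2,nat_lit 4,nat_lit 8,nat_lit 16,nat_lit 32],[nat_lit 1,nat_lit 6,nat_lit 2,nat_lit 8,nat_lit 16,nat_lit 32],[]⟩,⟨[nat_lit 1,nat_lit 2,nat_lit 4,nat_lit 8,nat_lit 16,nat_lit 32],[nat_lit 1,nat_lit 4,nat_lit 34,nat_lit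 20,nat_lit 12,nat_lit 32],[]⟩,⟨[nat_lit 1,nat_lit 69,nat_lit 11,nat_lit 16],[nat_lit 69,nat_lit 68,nat_lit 11,nat_lit 16],[nat_lit 0,nat_lit 1,nat_lit 69,nat_lit 68,nat_lit 11,nat_lit 10,nat_lit 78,nat_lit 79,nat_lit 16,nat_lit 17,nat_lit 85,nat_lit 84,nat_lit 27,nat_lit 26,nat_lit 94,nat_lit 95]⟩],nat_lit 0x4ce3218⟩
noncomputable def h144 : Hdr :=
  ⟨(nat_lit 6),(nat_lit 10),[[[]],[[nat_lit 0],[nat_lit 0]],[[nat_lit 0],[nat_lit 1,nat_lit 0],[nat_lit 0]],[[nat_lit 0],[nat_lit 1],[nat_lit 2],[nat_lit 0]],[[nat_lit 0],[nat_lit 1],[nat_lit 2],[nat_lit 3],[]],[[nat_lit 0],[nat_lit 1],[nat_lit 2],[nat_lit 3,nat_lit 0],[nat_lit 4,nat_lit 0],[]],[[nat_lit 0],[nat_lit 1],[nat_lit 2,nat_lit 1,nat_lit 0],[nat_lit 3,nat_lit 0],[nat_lit 4],[nat_lit 5],[nat_lit 1]],[[nat_lit 0],[nat_lit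 1],[nat_lit 2,nat_lit 1],[nat_lit 5,nat_lit 4],[nat_lit 5,nat_lit 3],[nat_lit 5],[nat_lit 6,nat_lit 5],[nat_lit 1]],[[nat_lit 0],[nat_lit 1],[nat_lit 5,nat_lit 2],[nat_lit 4,nat_lit 1,nat_lit 0],[nat_lit 3,nat_lit 1],[nat_lit 5],[nat_lit 6,nat_lit 5],[nat_lit 7,nat_lit 5],[nat_lit 0]],[[nat_lit 0],[nat_lit 5,nat_lit 1,nat_lit 0],[nat_lit 2,nat_lit 1,nat_lit 0],[nat_lit 5,nat_lit 3,nat_lit 2,nat_lit 1,nat_lit 0],[nat_lit 5,nat_lit 4,nat_lit 2,nat_lit 1],[nat_lit 5,nat_lit 0],[nat_lit 8,nat_lit 7,nat_lit 5,nat_lit 0],[nat_lit 8,nat_lit 6,nat_lit 5,nat_lit 4,nat_lit 3],[nat_lit 8,nat_lit 4,nat_lit 3,nat_lit 1],[nat_lit 8,nat_lit 7,nat_lit 6,nat_lit 4,nat_lit 3,nat_lit 2]]],[nat_lit 1],[nat_lit 10],[],[⟨[nat_lit 1,nat_lit 2,nat_lit 4,nat_lit 8,nat_lit 16,nat_lit 32],[nat_lit 1,nat_lit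 6,nat_lit 2,nat_lit 8,nat_lit 16,nat_lit 32],[]⟩,⟨[nat_lit 1,nat_lit 2,nat_lit 4,nat_lit 8,nat_lit 16,nat_lit 32],[nat_lit 1,nat_lit 4,nat_lit 34,nat_lit 20,nat_lit 12,nat_lit 32],[]⟩,⟨[nat_lit 1,nat_lit 69,nat_lit 11,nat_lit 16],[nat_lit 69,nat_lit 68,nat_lit 11,nat_lit 16],[nat_lit 0,nat_lit 1,nat_lit 69,nat_lit 68,nat_lit 11,nat_lit 10,nat_lit 78,nat_lit 79,nat_lit 16,nat_lit 17,nat_lit 85,nat_lit 84,nat_lit 27,nat_lit 26,nat_lit 94,nat_lit 95]⟩],nat_lit 0x4ce3218⟩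
noncomputable def h145 : Hdr :=
  ⟨(nat_lit 6),(nat_lit 10),[[[]],[[nat_lit 0],[nat_lit 0]],[[nat_lit 0],[nat_lit 1,nat_lit 0],[nat_lit 0]],[[nat_lit 0],[nat_lit 1],[nat_lit 2],[nat_lit 0]],[[nat_lit 0],[nat_lit 1],[nat_lit 2],[nat_lit 3],[]],[[nat_lit 0],[nat_lit 1],[nat_lit 2],[nat_lit 3,nat_lit 0],[nat_lit 4,nat_lit 0],[]],[[nat_lit 0],[nat_lit 1],[nat_lit 2,nat_lit 1,nat_lit 0],[nat_lit 3,nat_lit 0],[nat_lit 4],[nat_lit 5],[nat_lit 1]],[[nat_lit 0],[nat_lit 1],[nat_lit 2,nat_lit 1],[nat_lit 5,nat_lit 4],[nat_lit 5,nat_lit 3],[nat_lit 5],[nat_lit 6,nat_lit 5],[nat_lit 1]],[[nat_lit 0],[nat_lit 1],[nat_lit 5,nat_lit 2],[nat_lit 4,nat_lit 1,nat_lit 0],[nat_lit 3,nat_lit 1],[nat_lit 5],[nat_lit 6,nat_lit 5],[nat_lit 7,nat_lit 5],[nat_lit 0]],[[nat_lit 0],[nat_lit 5,nat_lit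 1,nat_lit 0],[nat_lit 2,nat_lit 1,nat_lit 0],[nat_lit 5,nat_lit 3,nat_lit 2,nat_lit 1,nat_lit 0],[nat_lit 5,nat_lit 4,nat_lit 2,nat_lit 1],[nat_lit 5,nat_lit 0],[nat_lit 8,nat_lit 7,nat_lit 5,nat_lit 4,nat_lit 3,nat_lit 0],[nat_lit 8,nat_lit 6,nat_lit 5,nat_lit 0],[nat_lit 8,nat_lit 4,nat_lit 3,nat_lit 1,nat_lit 0],[nat_lit 8,nat_lit 7,nat_lit 6,nat_lit 2,nat_lit 0]]],[nat_lit 1],[nat_lit 10],[],[⟨[nat_lit 1,nat_lit 2,nat_lit 4,nat_lit 8,nat_lit 16,nat_lit 32],[nat_lit 1,nat_lit 6,nat_lit 2,nat_lit 8,nat_lit 16,nat_lit 32],[]⟩,⟨[nat_lit 1,nat_lit 2,nat_lit 4,nat_lit 8,nat_lit 16,nat_lit 32],[nat_lit 1,nat_lit 4,nat_lit 34,nat_lit 20,nat_lit 12,nat_lit 32],[]⟩,⟨[nat_lit 1,nat_lit 69,nat_lit 11,nat_lit 16],[nat_lit 69,nat_lit 68,nat_lit 11,nat_lit 16],[nat_lit 0,nat_lit 1,nat_lit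 69,nat_lit 68,nat_lit 11,nat_lit 10,nat_lit 78,nat_lit 79,nat_lit 16,nat_lit 17,nat_lit 85,nat_lit 84,nat_lit 27,nat_lit 26,nat_lit 94,nat_lit 95]⟩],nat_lit 0x4ce3218⟩
noncomputable def h146 : Hdr :=
  ⟨(nat_lit 6),(nat_lit 10),[[[]],[[nat_lit 0],[nat_lit 0]],[[nat_lit 0],[nat_lit 1,nat_lit 0],[nat_lit 0]],[[nat_lit 0],[nat_lit 1],[nat_lit 2],[nat_lit 0]],[[nat_lit 0],[nat_lit 1],[nat_lit 2],[nat_lit 3],[]],[[nat_lit 0],[nat_lit 1],[nat_lit 2],[nat_lit 3,nat_lit 0],[nat_lit 4,nat_lit 0],[]],[[nat_lit 0],[nat_lit 1],[nat_lit 2,nat_lit 1,nat_lit 0],[nat_lit 3,nat_lit 0],[nat_lit 4],[nat_lit 5],[nat_lit 1]],[[nat_lit 0],[nat_lit 1],[nat_lit 2,nat_lit 1],[nat_lit 5,nat_lit 4],[nat_lit 5,nat_lit 3],[nat_lit 5],[nat_lit 6,nat_lit 5],[nat_lit 1]],[[nat_lit 0],[nat_lit 1],[nat_lit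 5,nat_lit 2],[nat_lit 4,nat_lit 1,nat_lit 0],[nat_lit 3,nat_lit 1],[nat_lit 5],[nat_lit 6,nat_lit 5],[nat_lit 7,nat_lit 5],[nat_lit 0]],[[nat_lit 0],[nat_lit 5,nat_lit 1,nat_lit 0],[nat_lit 2,nat_lit 1,nat_lit 0],[nat_lit 5,nat_lit 3,nat_lit 2,nat_lit 1,nat_lit 0],[nat_lit 5,nat_lit 4,nat_lit 2,nat_lit 1],[nat_lit 5,nat_lit 0],[nat_lit 8,nat_lit 7,nat_lit 5,nat_lit 4,nat_lit 3,nat_lit 0],[nat_lit 8,nat_lit 6,nat_lit 5,nat_lit 0],[nat_lit 8,nat_lit 4,nat_lit 3,nat_lit 1],[nat_lit 8,nat_lit 7,nat_lit 6,nat_lit 4,nat_lit 3,nat_lit 2]]],[nat_lit 1],[nat_lit 10],[],[⟨[nat_lit 1,nat_lit 2,nat_lit 4,nat_lit 8,nat_lit 16,nat_lit 32],[nat_lit 1,nat_lit 6,nat_lit 2,nat_lit 8,nat_lit 16,nat_lit 32],[]⟩,⟨[nat_lit 1,nat_lit 2,nat_lit 4,nat_lit 8,nat_lit 16,nat_lit 32],[nat_lit 1,nat_lit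 4,nat_lit 34,nat_lit 20,nat_lit 12,nat_lit 32],[]⟩,⟨[nat_lit 1,nat_lit 69,nat_lit 11,nat_lit 16],[nat_lit 69,nat_lit 68,nat_lit 11,nat_lit 16],[nat_lit 0,nat_lit 1,nat_lit 69,nat_lit 68,nat_lit 11,nat_lit 10,nat_lit 78,nat_lit 79,nat_lit 16,nat_lit 17,nat_lit 85,nat_lit 84,nat_lit 27,nat_lit 26,nat_lit 94,nat_lit 95]⟩],nat_lit 0x4ce3218⟩
noncomputable def h147 : Hdr :=
  ⟨(nat_lit 6),(nat_lit 11),[[[]],[[nat_lit 0],[nat_lit 0]],[[nat_lit 0],[nat_lit 1,nat_lit 0],[nat_lit 0]],[[nat_lit 0],[nat_lit 1],[nat_lit 2],[nat_lit 0]],[[nat_lit 0],[nat_lit 1],[nat_lit 2],[nat_lit 3],[]],[[nat_lit 0],[nat_lit 1],[nat_lit 2],[nat_lit 3,nat_lit 0],[nat_lit 4,nat_lit 0],[]],[[nat_lit 0],[nat_lit 1],[nat_lit 2,nat_lit 1,nat_lit 0],[nat_lit 3,nat_lit 0],[nat_lit 4],[nat_lit 5],[nat_lit 1]],[[nat_lit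 0],[nat_lit 1],[nat_lit 2,nat_lit 1],[nat_lit 5,nat_lit 4],[nat_lit 5,nat_lit 3],[nat_lit 5],[nat_lit 6,nat_lit 5],[nat_lit 1]],[[nat_lit 0],[nat_lit 1],[nat_lit 5,nat_lit 2],[nat_lit 4,nat_lit 1,nat_lit 0],[nat_lit 3,nat_lit 1],[nat_lit 5],[nat_lit 6,nat_lit 5],[nat_lit 7,nat_lit 5],[nat_lit 0]],[[nat_lit 0],[nat_lit 5,nat_lit 1,nat_lit 0],[nat_lit 2,nat_lit 1,nat_lit 0],[nat_lit 5,nat_lit 3,nat_lit 2,nat_lit 1,nat_lit 0],[nat_lit 5,nat_lit 4,nat_lit 2,nat_lit 1],[nat_lit 5,nat_lit 0],[nat_lit 8,nat_lit 7,nat_lit 5,nat_lit 4,nat_lit 3,nat_lit 0],[nat_lit 8,nat_lit 6,nat_lit 5],[nat_lit 8,nat_lit 4,nat_lit 3,nat_lit 1,nat_lit 0],[nat_lit 8,nat_lit 7,nat_lit 6,nat_lit 4,nat_lit 3,nat_lit 2]],[[nat_lit 0],[nat_lit 5,nat_lit 1,nat_lit 0],[nat_lit 8,nat_lit 7,nat_lit 6,nat_lit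 2],[nat_lit 6,nat_lit 5,nat_lit 3,nat_lit 2,nat_lit 1,nat_lit 0],[nat_lit 6,nat_lit 4,nat_lit 2,nat_lit 1],[nat_lit 5],[nat_lit 8,nat_lit 7,nat_lit 5],[nat_lit 8,nat_lit 6],[nat_lit 8,nat_lit 5,nat_lit 0],[nat_lit 9,nat_lit 7,nat_lit 5,nat_lit 2],[nat_lit 8,nat_lit 7,nat_lit 6,nat_lit 0]]],[nat_lit 1],[nat_lit 10],[],[],nat_lit 0x4ce3218⟩
noncomputable def h148 : Hdr :=
  ⟨(nat_lit 6),(nat_lit 11),[[[]],[[nat_lit 0],[nat_lit 0]],[[nat_lit 0],[nat_lit 1,nat_lit 0],[nat_lit 0]],[[nat_lit 0],[nat_lit 1],[nat_lit 2],[nat_lit 0]],[[nat_lit 0],[nat_lit 1],[nat_lit 2],[nat_lit 3],[]],[[nat_lit 0],[nat_lit 1],[nat_lit 2],[nat_lit 3,nat_lit 0],[nat_lit 4,nat_lit 0],[]],[[nat_lit 0],[nat_lit 1],[nat_lit 2,nat_lit 1,nat_lit 0],[nat_lit 3,nat_lit 0],[nat_lit 4],[nat_lit 5],[nat_lit 1]],[[nat_lit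 0],[nat_lit 1],[nat_lit 2,nat_lit 1],[nat_lit 5,nat_lit 4],[nat_lit 5,nat_lit 3],[nat_lit 5],[nat_lit 6,nat_lit 5],[nat_lit 1]],[[nat_lit 0],[nat_lit 1],[nat_lit 5,nat_lit 2],[nat_lit 4,nat_lit 1,nat_lit 0],[nat_lit 3,nat_lit 1],[nat_lit 5],[nat_lit 6,nat_lit 5],[nat_lit 7,nat_lit 5],[nat_lit 0]],[[nat_lit 0],[nat_lit 5,nat_lit 1,nat_lit 0],[nat_lit 2,nat_lit 1,nat_lit 0],[nat_lit 5,nat_lit 3,nat_lit 2,nat_lit 1,nat_lit 0],[nat_lit 5,nat_lit 4,nat_lit 2,nat_lit 1],[nat_lit 5,nat_lit 0],[nat_lit 8,nat_lit 7,nat_lit 5,nat_lit 4,nat_lit 3,nat_lit 0],[nat_lit 8,nat_lit 6,nat_lit 5],[nat_lit 8,nat_lit 4,nat_lit 3,nat_lit 1,nat_lit 0],[nat_lit 8,nat_lit 7,nat_lit 6,nat_lit 4,nat_lit 3,nat_lit 2]],[[nat_lit 0],[nat_lit 5,nat_lit 1,nat_lit 0],[nat_lit 8,nat_lit 7,nat_lit 6,nat_lit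 2],[nat_lit 6,nat_lit 5,nat_lit 3,nat_lit 2,nat_lit 1,nat_lit 0],[nat_lit 6,nat_lit 4,nat_lit 2,nat_lit 1],[nat_lit 5],[nat_lit 8,nat_lit 7,nat_lit 5],[nat_lit 8,nat_lit 6],[nat_lit 8,nat_lit 5,nat_lit 0],[nat_lit 9,nat_lit 7,nat_lit 5,nat_lit 2],[nat_lit 8,nat_lit 7,nat_lit 6]]],[nat_lit 1],[nat_lit 10],[],[],nat_lit 0x4ce3218⟩
noncomputable def h149 : Hdr :=
  ⟨(nat_lit 6),(nat_lit 11),[[[]],[[nat_lit 0],[nat_lit 0]],[[nat_lit 0],[nat_lit 1,nat_lit 0],[nat_lit 0]],[[nat_lit 0],[nat_lit 1],[nat_lit 2],[nat_lit 0]],[[nat_lit 0],[nat_lit 1],[nat_lit 2],[nat_lit 3],[]],[[nat_lit 0],[nat_lit 1],[nat_lit 2],[nat_lit 3,nat_lit 0],[nat_lit 4,nat_lit 0],[]],[[nat_lit 0],[nat_lit 1],[nat_lit 2,nat_lit 1,nat_lit 0],[nat_lit 3,nat_lit 0],[nat_lit 4],[nat_lit 5],[nat_lit 1]],[[nat_lit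 0],[nat_lit 1],[nat_lit 2,nat_lit 1],[nat_lit 5,nat_lit 4],[nat_lit 5,nat_lit 3],[nat_lit 5],[nat_lit 6,nat_lit 5],[nat_lit 1]],[[nat_lit 0],[nat_lit 1],[nat_lit 5,nat_lit 2],[nat_lit 4,nat_lit 1,nat_lit 0],[nat_lit 3,nat_lit 1],[nat_lit 5],[nat_lit 6,nat_lit 5],[nat_lit 7,nat_lit 5],[nat_lit 0]],[[nat_lit 0],[nat_lit 5,nat_lit 1,nat_lit 0],[nat_lit 2,nat_lit 1,nat_lit 0],[nat_lit 5,nat_lit 3,nat_lit 2,nat_lit 1,nat_lit 0],[nat_lit 5,nat_lit 4,nat_lit 2,nat_lit 1],[nat_lit 5,nat_lit 0],[nat_lit 8,nat_lit 7,nat_lit 5,nat_lit 4,nat_lit 3,nat_lit 0],[nat_lit 8,nat_lit 6,nat_lit 5],[nat_lit 8,nat_lit 4,nat_lit 3,nat_lit 1,nat_lit 0],[nat_lit 8,nat_lit 7,nat_lit 6,nat_lit 4,nat_lit 3,nat_lit 2]],[[nat_lit 0],[nat_lit 5,nat_lit 1],[nat_lit 8,nat_lit 7,nat_lit 6,nat_lit 5,nat_lit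 2,nat_lit 1,nat_lit 0],[nat_lit 6,nat_lit 5,nat_lit 3,nat_lit 2,nat_lit 1],[nat_lit 6,nat_lit 4,nat_lit 2,nat_lit 1,nat_lit 0],[nat_lit 5,nat_lit 0],[nat_lit 8,nat_lit 7,nat_lit 5,nat_lit 4,nat_lit 3,nat_lit 1,nat_lit 0],[nat_lit 8,nat_lit 6,nat_lit 1,nat_lit 0],[nat_lit 8,nat_lit 4,nat_lit 3,nat_lit 1],[nat_lit 9,nat_lit 7,nat_lit 0],[nat_lit 8,nat_lit 6,nat_lit 4,nat_lit 3,nat_lit 2]]],[nat_lit 1],[nat_lit 10],[],[],nat_lit 0x4ce3218⟩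
noncomputable def h150 : Hdr :=
  ⟨(nat_lit 6),(nat_lit 11),[[[]],[[nat_lit 0],[nat_lit 0]],[[nat_lit 0],[nat_lit 1,nat_lit 0],[nat_lit 0]],[[nat_lit 0],[nat_lit 1],[nat_lit 2],[nat_lit 0]],[[nat_lit 0],[nat_lit 1],[nat_lit 2],[nat_lit 3],[]],[[nat_lit 0],[nat_lit 1],[nat_lit 2],[nat_lit 3,nat_lit 0],[nat_lit 4,nat_lit 0],[]],[[nat_lit 0],[nat_lit 1],[nat_lit 2,nat_lit 1,nat_lit 0],[nat_lit 3,nat_lit 0],[nat_lit 4],[nat_lit 5],[nat_lit 1]],[[nat_lit 0],[nat_lit 1],[nat_lit 2,nat_lit 1],[nat_lit 5,nat_lit 4],[nat_lit 5,nat_lit 3],[nat_lit 5],[nat_lit 6,nat_lit 5],[nat_lit 1]],[[nat_lit 0],[nat_lit 1],[nat_lit 5,nat_lit 2],[nat_lit 4,nat_lit 1,nat_lit 0],[nat_lit 3,nat_lit 1],[nat_lit 5],[nat_lit 6,nat_lit 5],[nat_lit 7,nat_lit 5],[nat_lit 0]],[[nat_lit 0],[nat_lit 5,nat_lit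 1,nat_lit 0],[nat_lit 2,nat_lit 1,nat_lit 0],[nat_lit 5,nat_lit 3,nat_lit 2,nat_lit 1,nat_lit 0],[nat_lit 5,nat_lit 4,nat_lit 2,nat_lit 1],[nat_lit 5,nat_lit 0],[nat_lit 8,nat_lit 7,nat_lit 5,nat_lit 4,nat_lit 3,nat_lit 0],[nat_lit 8,nat_lit 6,nat_lit 5],[nat_lit 8,nat_lit 4,nat_lit 3,nat_lit 1,nat_lit 0],[nat_lit 8,nat_lit 7,nat_lit 6,nat_lit 4,nat_lit 3,nat_lit 2]],[[nat_lit 0],[nat_lit 5,nat_lit 1],[nat_lit 8,nat_lit 7,nat_lit 6,nat_lit 5,nat_lit 2,nat_lit 1,nat_lit 0],[nat_lit 6,nat_lit 5,nat_lit 3,nat_lit 2,nat_lit 1],[nat_lit 6,nat_lit 4,nat_lit 2,nat_lit 1,nat_lit 0],[nat_lit 5,nat_lit 0],[nat_lit 8,nat_lit 7,nat_lit 5,nat_lit 4,nat_lit 3,nat_lit 1,nat_lit 0],[nat_lit 8,nat_lit 6,nat_lit 1,nat_lit 0],[nat_lit 8,nat_lit 4,nat_lit 3,nat_lit 1],[nat_lit 9,nat_lit 7,nat_lit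 0],[nat_lit 8,nat_lit 6,nat_lit 4,nat_lit 3,nat_lit 2,nat_lit 0]]],[nat_lit 1],[nat_lit 10],[],[],nat_lit 0x4ce3218⟩
noncomputable def h151 : Hdr :=
  ⟨(nat_lit 6),(nat_lit 10),[[[]],[[nat_lit 0],[nat_lit 0]],[[nat_lit 0],[nat_lit 1,nat_lit 0],[nat_lit 0]],[[nat_lit 0],[nat_lit 1],[nat_lit 2],[nat_lit 0]],[[nat_lit 0],[nat_lit 1],[nat_lit 2],[nat_lit 3],[]],[[nat_lit 0],[nat_lit 1],[nat_lit 2],[nat_lit 3,nat_lit 0],[nat_lit 4,nat_lit 0],[]],[[nat_lit 0],[nat_lit 1],[nat_lit 2,nat_lit 1,nat_lit 0],[nat_lit 3,nat_lit 0],[nat_lit 4],[nat_lit 5],[nat_lit 1]],[[nat_lit 0],[nat_lit 1],[nat_lit 2,nat_lit 1],[nat_lit 5,nat_lit 4],[nat_lit 5,nat_lit 3],[nat_lit 5],[nat_lit 6,nat_lit 5],[nat_lit 1]],[[nat_lit 0],[nat_lit 1],[nat_lit 5,nat_lit 2],[nat_lit 4,nat_lit 1,nat_lit 0],[nat_lit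 3,nat_lit 1],[nat_lit 5],[nat_lit 6,nat_lit 5],[nat_lit 7,nat_lit 5],[nat_lit 0]],[[nat_lit 0],[nat_lit 5,nat_lit 1,nat_lit 0],[nat_lit 2,nat_lit 1,nat_lit 0],[nat_lit 5,nat_lit 3,nat_lit 2,nat_lit 1,nat_lit 0],[nat_lit 5,nat_lit 4,nat_lit 2,nat_lit 1],[nat_lit 5,nat_lit 0],[nat_lit 8,nat_lit 7,nat_lit 5,nat_lit 4,nat_lit 3,nat_lit 0],[nat_lit 8,nat_lit 6,nat_lit 5],[nat_lit 8,nat_lit 4,nat_lit 3,nat_lit 1,nat_lit 0],[nat_lit 8,nat_lit 7,nat_lit 6,nat_lit 4,nat_lit 3,nat_lit 2]]],[nat_lit 1],[nat_lit 10,nat_lit 76],[],[],nat_lit 0x4ce3218⟩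
noncomputable def h152 : Hdr :=
  ⟨(nat_lit 6),(nat_lit 10),[[[]],[[nat_lit 0],[nat_lit 0]],[[nat_lit 0],[nat_lit 1,nat_lit 0],[nat_lit 0]],[[nat_lit 0],[nat_lit 1],[nat_lit 2],[nat_lit 0]],[[nat_lit 0],[nat_lit 1],[nat_lit 2],[nat_lit 3],[]],[[nat_lit 0],[nat_lit 1],[nat_lit 2],[nat_lit 3,nat_lit 0],[nat_lit 4,nat_lit 0],[]],[[nat_lit 0],[nat_lit 1],[nat_lit 2,nat_lit 1,nat_lit 0],[nat_lit 3,nat_lit 0],[nat_lit 4],[nat_lit 5],[nat_lit 1]],[[nat_lit 0],[nat_lit 1],[nat_lit 2,nat_lit 1],[nat_lit 5,nat_lit 4],[nat_lit 5,nat_lit 3],[nat_lit 5],[nat_lit 6,nat_lit 5],[nat_lit 1]],[[nat_lit 0],[nat_lit 1],[nat_lit 5,nat_lit 2],[nat_lit 4,nat_lit 1,nat_lit 0],[nat_lit 3,nat_lit 1],[nat_lit 5],[nat_lit 6,nat_lit 5],[nat_lit 7,nat_lit 5],[nat_lit 0]],[[nat_lit 0],[nat_lit 5,nat_lit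 1,nat_lit 0],[nat_lit 2,nat_lit 1,nat_lit 0],[nat_lit 5,nat_lit 3,nat_lit 2,nat_lit 1,nat_lit 0],[nat_lit 5,nat_lit 4,nat_lit 2,nat_lit 1],[nat_lit 5,nat_lit 0],[nat_lit 8,nat_lit 7,nat_lit 5,nat_lit 4,nat_lit 3,nat_lit 0],[nat_lit 8,nat_lit 6,nat_lit 5],[nat_lit 8,nat_lit 4,nat_lit 3,nat_lit 1,nat_lit 0],[nat_lit 8,nat_lit 7,nat_lit 6,nat_lit 4,nat_lit 3,nat_lit 2]]],[nat_lit 1],[nat_lit 10],[],[⟨[nat_lit 1,nat_lit 2,nat_lit 4,nat_lit 8,nat_lit 16,nat_lit 32],[nat_lit 1,nat_lit 6,nat_lit 2,nat_lit 8,nat_lit 16,nat_lit 32],[]⟩,⟨[nat_lit 1,nat_lit 2,nat_lit 4,nat_lit 8,nat_lit 16,nat_lit 32],[nat_lit 1,nat_lit 4,nat_lit 34,nat_lit 20,nat_lit 12,nat_lit 32],[]⟩,⟨[nat_lit 1,nat_lit 69,nat_lit 11,nat_lit 16],[nat_lit 69,nat_lit 68,nat_lit 11,nat_lit 16],[nat_lit 0,nat_lit 1,nat_lit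 69,nat_lit 68,nat_lit 11,nat_lit 10,nat_lit 78,nat_lit 79,nat_lit 16,nat_lit 17,nat_lit 85,nat_lit 84,nat_lit 27,nat_lit 26,nat_lit 94,nat_lit 95]⟩],nat_lit 0x4ce3218⟩
noncomputable def h153 : Hdr :=
  ⟨(nat_lit 6),(nat_lit 10),[[[]],[[nat_lit 0],[nat_lit 0]],[[nat_lit 0],[nat_lit 1,nat_lit 0],[nat_lit 0]],[[nat_lit 0],[nat_lit 1],[nat_lit 2],[nat_lit 0]],[[nat_lit 0],[nat_lit 1],[nat_lit 2],[nat_lit 3],[]],[[nat_lit 0],[nat_lit 1],[nat_lit 2],[nat_lit 3,nat_lit 0],[nat_lit 4,nat_lit 0],[]],[[nat_lit 0],[nat_lit 1],[nat_lit 2,nat_lit 1,nat_lit 0],[nat_lit 3,nat_lit 0],[nat_lit 4],[nat_lit 5],[nat_lit 1]],[[nat_lit 0],[nat_lit 1],[nat_lit 2,nat_lit 1],[nat_lit 5,nat_lit 4],[nat_lit 5,nat_lit 3],[nat_lit 5],[nat_lit 6,nat_lit 5],[nat_lit 1]],[[nat_lit 0],[nat_lit 1],[nat_lit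 5,nat_lit 2],[nat_lit 4,nat_lit 1,nat_lit 0],[nat_lit 3,nat_lit 1],[nat_lit 5],[nat_lit 6,nat_lit 5],[nat_lit 7,nat_lit 5],[nat_lit 0]],[[nat_lit 0],[nat_lit 5,nat_lit 1,nat_lit 0],[nat_lit 2,nat_lit 1,nat_lit 0],[nat_lit 5,nat_lit 3,nat_lit 2,nat_lit 1,nat_lit 0],[nat_lit 5,nat_lit 4,nat_lit 2,nat_lit 1],[nat_lit 5,nat_lit 0],[nat_lit 8,nat_lit 7,nat_lit 5,nat_lit 4,nat_lit 3,nat_lit 0],[nat_lit 8,nat_lit 6,nat_lit 5],[nat_lit 8,nat_lit 4,nat_lit 3,nat_lit 1],[nat_lit 8,nat_lit 7,nat_lit 6,nat_lit 2,nat_lit 0]]],[nat_lit 1],[nat_lit 10],[],[⟨[nat_lit 1,nat_lit 2,nat_lit 4,nat_lit 8,nat_lit 16,nat_lit 32],[nat_lit 1,nat_lit 6,nat_lit 2,nat_lit 8,nat_lit 16,nat_lit 32],[]⟩,⟨[nat_lit 1,nat_lit 2,nat_lit 4,nat_lit 8,nat_lit 16,nat_lit 32],[nat_lit 1,nat_lit 4,nat_lit 34,nat_lit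 20,nat_lit 12,nat_lit 32],[]⟩,⟨[nat_lit 1,nat_lit 69,nat_lit 11,nat_lit 16],[nat_lit 69,nat_lit 68,nat_lit 11,nat_lit 16],[nat_lit 0,nat_lit 1,nat_lit 69,nat_lit 68,nat_lit 11,nat_lit 10,nat_lit 78,nat_lit 79,nat_lit 16,nat_lit 17,nat_lit 85,nat_lit 84,nat_lit 27,nat_lit 26,nat_lit 94,nat_lit 95]⟩],nat_lit 0x4ce3218⟩
noncomputable def h154 : Hdr :=
  ⟨(nat_lit 6),(nat_lit 9),[[[]],[[nat_lit 0],[nat_lit 0]],[[nat_lit 0],[nat_lit 1,nat_lit 0],[nat_lit 0]],[[nat_lit 0],[nat_lit 1],[nat_lit 2],[nat_lit 0]],[[nat_lit 0],[nat_lit 1],[nat_lit 2],[nat_lit 3],[]],[[nat_lit 0],[nat_lit 1],[nat_lit 2],[nat_lit 3,nat_lit 0],[nat_lit 4,nat_lit 0],[]],[[nat_lit 0],[nat_lit 1],[nat_lit 2,nat_lit 1,nat_lit 0],[nat_lit 3,nat_lit 0],[nat_lit 4],[nat_lit 5],[nat_lit 1]],[[nat_lit 0],[nat_lit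 1],[nat_lit 2,nat_lit 1],[nat_lit 5,nat_lit 4],[nat_lit 5,nat_lit 3],[nat_lit 5],[nat_lit 6,nat_lit 5],[nat_lit 1]],[[nat_lit 0],[nat_lit 1],[nat_lit 5,nat_lit 2],[nat_lit 4,nat_lit 1,nat_lit 0],[nat_lit 3,nat_lit 1],[nat_lit 5],[nat_lit 6,nat_lit 5],[nat_lit 7,nat_lit 5],[nat_lit 0]]],[nat_lit 1],[nat_lit 10],[],[⟨[nat_lit 1,nat_lit 2,nat_lit 4,nat_lit 8,nat_lit 16,nat_lit 32],[nat_lit 1,nat_lit 6,nat_lit 2,nat_lit 8,nat_lit 16,nat_lit 32],[]⟩,⟨[nat_lit 1,nat_lit 2,nat_lit 4,nat_lit 8,nat_lit 16,nat_lit 32],[nat_lit 1,nat_lit 4,nat_lit 34,nat_lit 20,nat_lit 12,nat_lit 32],[]⟩,⟨[nat_lit 1,nat_lit 69,nat_lit 11,nat_lit 16],[nat_lit 69,nat_lit 68,nat_lit 11,nat_lit 16],[nat_lit 0,nat_lit 1,nat_lit 69,nat_lit 68,nat_lit 11,nat_lit 10,nat_lit 78,nat_lit 79,nat_lit 16,nat_lit 17,nat_lit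 85,nat_lit 84,nat_lit 27,nat_lit 26,nat_lit 94,nat_lit 95]⟩],nat_lit 0x4ce3218⟩
noncomputable def h155 : Hdr :=
  ⟨(nat_lit 6),(nat_lit 9),[[[]],[[nat_lit 0],[nat_lit 0]],[[nat_lit 0],[nat_lit 1,nat_lit 0],[nat_lit 0]],[[nat_lit 0],[nat_lit 1],[nat_lit 2],[nat_lit 0]],[[nat_lit 0],[nat_lit 1],[nat_lit 2],[nat_lit 3],[]],[[nat_lit 0],[nat_lit 1],[nat_lit 2],[nat_lit 3,nat_lit 0],[nat_lit 4,nat_lit 0],[]],[[nat_lit 0],[nat_lit 1],[nat_lit 2,nat_lit 1,nat_lit 0],[nat_lit 3,nat_lit 0],[nat_lit 4],[nat_lit 5],[nat_lit 1]],[[nat_lit 0],[nat_lit 1],[nat_lit 2,nat_lit 1],[nat_lit 5,nat_lit 4],[nat_lit 5,nat_lit 3],[nat_lit 5],[nat_lit 6,nat_lit 5],[nat_lit 1,nat_lit 0]],[[nat_lit 0],[nat_lit 1],[nat_lit 5,nat_lit 2],[nat_lit 4,nat_lit 1,nat_lit 0],[nat_lit 3,nat_lit 1],[nat_lit 5],[nat_lit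 6,nat_lit 5],[nat_lit 7,nat_lit 5,nat_lit 0],[nat_lit 0]]],[nat_lit 1],[nat_lit 10],[],[⟨[nat_lit 1,nat_lit 2,nat_lit 4,nat_lit 8,nat_lit 16,nat_lit 32],[nat_lit 1,nat_lit 6,nat_lit 2,nat_lit 8,nat_lit 16,nat_lit 32],[]⟩,⟨[nat_lit 1,nat_lit 2,nat_lit 4,nat_lit 8,nat_lit 16,nat_lit 32],[nat_lit 1,nat_lit 4,nat_lit 34,nat_lit 20,nat_lit 12,nat_lit 32],[]⟩,⟨[nat_lit 1,nat_lit 69,nat_lit 11,nat_lit 16],[nat_lit 69,nat_lit 68,nat_lit 11,nat_lit 16],[nat_lit 0,nat_lit 1,nat_lit 69,nat_lit 68,nat_lit 11,nat_lit 10,nat_lit 78,nat_lit 79,nat_lit 16,nat_lit 17,nat_lit 85,nat_lit 84,nat_lit 27,nat_lit 26,nat_lit 94,nat_lit 95]⟩],nat_lit 0x4ce3218⟩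
noncomputable def h156 : Hdr :=
  ⟨(nat_lit 6),(nat_lit 8),[[[]],[[nat_lit 0],[nat_lit 0]],[[nat_lit 0],[nat_lit 1,nat_lit 0],[nat_lit 0]],[[nat_lit 0],[nat_lit 1],[nat_lit 2],[nat_lit 0]],[[nat_lit 0],[nat_lit 1],[nat_lit 2],[nat_lit 3],[]],[[nat_lit 0],[nat_lit 1],[nat_lit 2],[nat_lit 3,nat_lit 0],[nat_lit 4,nat_lit 0],[]],[[nat_lit 0],[nat_lit 1],[nat_lit 2,nat_lit 1,nat_lit 0],[nat_lit 3,nat_lit 0],[nat_lit 4],[nat_lit 5],[nat_lit 1]],[[nat_lit 0],[nat_lit 1],[nat_lit 5,nat_lit 2],[nat_lit 4,nat_lit 1,nat_lit 0],[nat_lit 3,nat_lit 1],[nat_lit 5],[nat_lit 6,nat_lit 5],[nat_lit 0]]],[nat_lit 1],[nat_lit 10],[],[⟨[nat_lit 1,nat_lit 2,nat_lit 4,nat_lit 8,nat_lit 16,nat_lit 32],[nat_lit 1,nat_lit 6,nat_lit 2,nat_lit 8,nat_lit 16,nat_lit 32],[]⟩,⟨[nat_lit 1,nat_lit 2,nat_lit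 4,nat_lit 8,nat_lit 16,nat_lit 32],[nat_lit 1,nat_lit 4,nat_lit 34,nat_lit 20,nat_lit 12,nat_lit 32],[]⟩,⟨[nat_lit 1,nat_lit 69,nat_lit 11,nat_lit 16],[nat_lit 69,nat_lit 68,nat_lit 11,nat_lit 16],[nat_lit 0,nat_lit 1,nat_lit 69,nat_lit 68,nat_lit 11,nat_lit 10,nat_lit 78,nat_lit 79,nat_lit 16,nat_lit 17,nat_lit 85,nat_lit 84,nat_lit 27,nat_lit 26,nat_lit 94,nat_lit 95]⟩],nat_lit 0x4ce3218⟩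
noncomputable def h157 : Hdr :=
  ⟨(nat_lit 6),(nat_lit 9),[[[]],[[nat_lit 0],[nat_lit 0]],[[nat_lit 0],[nat_lit 1,nat_lit 0],[nat_lit 0]],[[nat_lit 0],[nat_lit 1],[nat_lit 2],[nat_lit 0]],[[nat_lit 0],[nat_lit 1],[nat_lit 2],[nat_lit 3],[]],[[nat_lit 0],[nat_lit 1],[nat_lit 2],[nat_lit 3,nat_lit 0],[nat_lit 4,nat_lit 0],[]],[[nat_lit 0],[nat_lit 1],[nat_lit 2,nat_lit 1,nat_lit 0],[nat_lit 3,nat_lit 0],[nat_lit 4],[nat_lit 5],[nat_lit 1]],[[nat_lit 0],[nat_lit 1],[nat_lit 5,nat_lit 2,nat_lit 1],[nat_lit 5,nat_lit 3,nat_lit 1,nat_lit 0],[nat_lit 5,nat_lit 4,nat_lit 1],[nat_lit 5],[nat_lit 6],[nat_lit 5,nat_lit 1,nat_lit 0]],[[nat_lit 0],[nat_lit 5,nat_lit 1,nat_lit 0],[nat_lit 2,nat_lit 1,nat_lit 0],[nat_lit 5,nat_lit 3,nat_lit 2,nat_lit 1,nat_lit 0],[nat_lit 5,nat_lit 4,nat_lit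 2,nat_lit 1],[nat_lit 5,nat_lit 0],[nat_lit 7,nat_lit 5,nat_lit 0],[nat_lit 6,nat_lit 5,nat_lit 1],[nat_lit 7,nat_lit 6,nat_lit 2,nat_lit 0]]],[nat_lit 1],[nat_lit 10],[],[⟨[nat_lit 1,nat_lit 2,nat_lit 4,nat_lit 8,nat_lit 16,nat_lit 32],[nat_lit 1,nat_lit 6,nat_lit 2,nat_lit 8,nat_lit 16,nat_lit 32],[]⟩,⟨[nat_lit 1,nat_lit 2,nat_lit 4,nat_lit 8,nat_lit 16,nat_lit 32],[nat_lit 1,nat_lit 4,nat_lit 34,nat_lit 20,nat_lit 12,nat_lit 32],[]⟩,⟨[nat_lit 1,nat_lit 69,nat_lit 11,nat_lit 16],[nat_lit 69,nat_lit 68,nat_lit 11,nat_lit 16],[nat_lit 0,nat_lit 1,nat_lit 69,nat_lit 68,nat_lit 11,nat_lit 10,nat_lit 78,nat_lit 79,nat_lit 16,nat_lit 17,nat_lit 85,nat_lit 84,nat_lit 27,nat_lit 26,nat_lit 94,nat_lit 95]⟩],nat_lit 0x4ce3218⟩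
noncomputable def h158 : Hdr :=
  ⟨(nat_lit 6),(nat_lit 9),[[[]],[[nat_lit 0],[nat_lit 0]],[[nat_lit 0],[nat_lit 1,nat_lit 0],[nat_lit 0]],[[nat_lit 0],[nat_lit 1],[nat_lit 2],[nat_lit 0]],[[nat_lit 0],[nat_lit 1],[nat_lit 2],[nat_lit 3],[]],[[nat_lit 0],[nat_lit 1],[nat_lit 2],[nat_lit 3,nat_lit 0],[nat_lit 4,nat_lit 0],[]],[[nat_lit 0],[nat_lit 1],[nat_lit 2,nat_lit 1,nat_lit 0],[nat_lit 3,nat_lit 0],[nat_lit 4],[nat_lit 5],[nat_lit 1]],[[nat_lit 0],[nat_lit 1],[nat_lit 5,nat_lit 2,nat_lit 1],[nat_lit 5,nat_lit 3,nat_lit 1,nat_lit 0],[nat_lit 5,nat_lit 4,nat_lit 1],[nat_lit 5],[nat_lit 6],[nat_lit 5,nat_lit 1,nat_lit 0]],[[nat_lit 0],[nat_lit 5,nat_lit 1,nat_lit 0],[nat_lit 2,nat_lit 1,nat_lit 0],[nat_lit 5,nat_lit 3,nat_lit 2,nat_lit 1,nat_lit 0],[nat_lit 5,nat_lit 4,nat_lit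 2,nat_lit 1],[nat_lit 5,nat_lit 0],[nat_lit 7,nat_lit 5,nat_lit 0],[nat_lit 6,nat_lit 5,nat_lit 1,nat_lit 0],[nat_lit 7,nat_lit 6,nat_lit 4,nat_lit 3,nat_lit 2]]],[nat_lit 1],[nat_lit 10],[],[⟨[nat_lit 1,nat_lit 2,nat_lit 4,nat_lit 8,nat_lit 16,nat_lit 32],[nat_lit 1,nat_lit 6,nat_lit 2,nat_lit 8,nat_lit 16,nat_lit 32],[]⟩,⟨[nat_lit 1,nat_lit 2,nat_lit 4,nat_lit 8,nat_lit 16,nat_lit 32],[nat_lit 1,nat_lit 4,nat_lit 34,nat_lit 20,nat_lit 12,nat_lit 32],[]⟩,⟨[nat_lit 1,nat_lit 69,nat_lit 11,nat_lit 16],[nat_lit 69,nat_lit 68,nat_lit 11,nat_lit 16],[nat_lit 0,nat_lit 1,nat_lit 69,nat_lit 68,nat_lit 11,nat_lit 10,nat_lit 78,nat_lit 79,nat_lit 16,nat_lit 17,nat_lit 85,nat_lit 84,nat_lit 27,nat_lit 26,nat_lit 94,nat_lit 95]⟩],nat_lit 0x4ce3218⟩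
noncomputable def h159 : Hdr :=
  ⟨(nat_lit 6),(nat_lit 9),[[[]],[[nat_lit 0],[nat_lit 0]],[[nat_lit 0],[nat_lit 1,nat_lit 0],[nat_lit 0]],[[nat_lit 0],[nat_lit 1],[nat_lit 2],[nat_lit 0]],[[nat_lit 0],[nat_lit 1],[nat_lit 2],[nat_lit 3],[]],[[nat_lit 0],[nat_lit 1],[nat_lit 2],[nat_lit 3,nat_lit 0],[nat_lit 4,nat_lit 0],[]],[[nat_lit 0],[nat_lit 1],[nat_lit 2,nat_lit 1,nat_lit 0],[nat_lit 3,nat_lit 0],[nat_lit 4],[nat_lit 5],[nat_lit 1]],[[nat_lit 0],[nat_lit 1],[nat_lit 5,nat_lit 2,nat_lit 1],[nat_lit 5,nat_lit 3,nat_lit 1,nat_lit 0],[nat_lit 5,nat_lit 4,nat_lit 1],[nat_lit 5],[nat_lit 6],[nat_lit 5,nat_lit 1,nat_lit 0]],[[nat_lit 0],[nat_lit 5,nat_lit 1,nat_lit 0],[nat_lit 2,nat_lit 1,nat_lit 0],[nat_lit 5,nat_lit 3,nat_lit 2,nat_lit 1,nat_lit 0],[nat_lit 5,nat_lit 4,nat_lit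 2,nat_lit 1],[nat_lit 5,nat_lit 0],[nat_lit 7,nat_lit 5,nat_lit 4,nat_lit 3,nat_lit 0],[nat_lit 6,nat_lit 5,nat_lit 4,nat_lit 3,nat_lit 1],[nat_lit 7,nat_lit 6,nat_lit 2,nat_lit 0]]],[nat_lit 1],[nat_lit 10],[],[⟨[nat_lit 1,nat_lit 2,nat_lit 4,nat_lit 8,nat_lit 16,nat_lit 32],[nat_lit 1,nat_lit 6,nat_lit 2,nat_lit 8,nat_lit 16,nat_lit 32],[]⟩,⟨[nat_lit 1,nat_lit 2,nat_lit 4,nat_lit 8,nat_lit 16,nat_lit 32],[nat_lit 1,nat_lit 4,nat_lit 34,nat_lit 20,nat_lit 12,nat_lit 32],[]⟩,⟨[nat_lit 1,nat_lit 69,nat_lit 11,nat_lit 16],[nat_lit 69,nat_lit 68,nat_lit 11,nat_lit 16],[nat_lit 0,nat_lit 1,nat_lit 69,nat_lit 68,nat_lit 11,nat_lit 10,nat_lit 78,nat_lit 79,nat_lit 16,nat_lit 17,nat_lit 85,nat_lit 84,nat_lit 27,nat_lit 26,nat_lit 94,nat_lit 95]⟩],nat_lit 0x4ce3218⟩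
noncomputable def h160 : Hdr :=
  ⟨(nat_lit 6),(nat_lit 9),[[[]],[[nat_lit 0],[nat_lit 0]],[[nat_lit 0],[nat_lit 1,nat_lit 0],[nat_lit 0]],[[nat_lit 0],[nat_lit 1],[nat_lit 2],[nat_lit 0]],[[nat_lit 0],[nat_lit 1],[nat_lit 2],[nat_lit 3],[]],[[nat_lit 0],[nat_lit 1],[nat_lit 2],[nat_lit 3,nat_lit 0],[nat_lit 4,nat_lit 0],[]],[[nat_lit 0],[nat_lit 1],[nat_lit 2,nat_lit 1,nat_lit 0],[nat_lit 3,nat_lit 0],[nat_lit 4],[nat_lit 5],[nat_lit 1]],[[nat_lit 0],[nat_lit 1],[nat_lit 5,nat_lit 2,nat_lit 1],[nat_lit 5,nat_lit 3,nat_lit 1,nat_lit 0],[nat_lit 5,nat_lit 4,nat_lit 1],[nat_lit 5],[nat_lit 6],[nat_lit 5,nat_lit 1,nat_lit 0]],[[nat_lit 0],[nat_lit 5,nat_lit 1,nat_lit 0],[nat_lit 2,nat_lit 1,nat_lit 0],[nat_lit 5,nat_lit 3,nat_lit 2,nat_lit 1,nat_lit 0],[nat_lit 5,nat_lit 4,nat_lit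 2,nat_lit 1],[nat_lit 5,nat_lit 0],[nat_lit 7,nat_lit 5,nat_lit 4,nat_lit 3,nat_lit 0],[nat_lit 6,nat_lit 5,nat_lit 4,nat_lit 3,nat_lit 1,nat_lit 0],[nat_lit 7,nat_lit 6,nat_lit 4,nat_lit 3,nat_lit 2]]],[nat_lit 1],[nat_lit 10],[],[⟨[nat_lit 1,nat_lit 2,nat_lit 4,nat_lit 8,nat_lit 16,nat_lit 32],[nat_lit 1,nat_lit 6,nat_lit 2,nat_lit 8,nat_lit 16,nat_lit 32],[]⟩,⟨[nat_lit 1,nat_lit 2,nat_lit 4,nat_lit 8,nat_lit 16,nat_lit 32],[nat_lit 1,nat_lit 4,nat_lit 34,nat_lit 20,nat_lit 12,nat_lit 32],[]⟩,⟨[nat_lit 1,nat_lit 69,nat_lit 11,nat_lit 16],[nat_lit 69,nat_lit 68,nat_lit 11,nat_lit 16],[nat_lit 0,nat_lit 1,nat_lit 69,nat_lit 68,nat_lit 11,nat_lit 10,nat_lit 78,nat_lit 79,nat_lit 16,nat_lit 17,nat_lit 85,nat_lit 84,nat_lit 27,nat_lit 26,nat_lit 94,nat_lit 95]⟩],nat_lit 0x4ce3218⟩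
noncomputable def h161 : Hdr :=
  ⟨(nat_lit 6),(nat_lit 9),[[[]],[[nat_lit 0],[nat_lit 0]],[[nat_lit 0],[nat_lit 1,nat_lit 0],[nat_lit 0]],[[nat_lit 0],[nat_lit 1],[nat_lit 2],[nat_lit 0]],[[nat_lit 0],[nat_lit 1],[nat_lit 2],[nat_lit 3],[]],[[nat_lit 0],[nat_lit 1],[nat_lit 2],[nat_lit 3,nat_lit 0],[nat_lit 4,nat_lit 0],[]],[[nat_lit 0],[nat_lit 1],[nat_lit 2,nat_lit 1,nat_lit 0],[nat_lit 3,nat_lit 0],[nat_lit 4],[nat_lit 5],[nat_lit 1]],[[nat_lit 0],[nat_lit 1],[nat_lit 5,nat_lit 2,nat_lit 1],[nat_lit 5,nat_lit 3,nat_lit 1,nat_lit 0],[nat_lit 5,nat_lit 4,nat_lit 1],[nat_lit 5],[nat_lit 6],[nat_lit 5,nat_lit 1,nat_lit 0]],[[nat_lit 0],[nat_lit 5,nat_lit 1],[nat_lit 2,nat_lit 1,nat_lit 0],[nat_lit 4,nat_lit 2,nat_lit 1],[nat_lit 3,nat_lit 2,nat_lit 1],[nat_lit 5,nat_lit 0],[nat_lit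 7,nat_lit 5,nat_lit 1,nat_lit 0],[nat_lit 6],[nat_lit 7,nat_lit 6,nat_lit 2,nat_lit 1,nat_lit 0]]],[nat_lit 1],[nat_lit 10],[],[⟨[nat_lit 1,nat_lit 2,nat_lit 4,nat_lit 8,nat_lit 16,nat_lit 32],[nat_lit 1,nat_lit 6,nat_lit 2,nat_lit 8,nat_lit 16,nat_lit 32],[]⟩,⟨[nat_lit 1,nat_lit 2,nat_lit 4,nat_lit 8,nat_lit 16,nat_lit 32],[nat_lit 1,nat_lit 4,nat_lit 34,nat_lit 20,nat_lit 12,nat_lit 32],[]⟩,⟨[nat_lit 1,nat_lit 69,nat_lit 11,nat_lit 16],[nat_lit 69,nat_lit 68,nat_lit 11,nat_lit 16],[nat_lit 0,nat_lit 1,nat_lit 69,nat_lit 68,nat_lit 11,nat_lit 10,nat_lit 78,nat_lit 79,nat_lit 16,nat_lit 17,nat_lit 85,nat_lit 84,nat_lit 27,nat_lit 26,nat_lit 94,nat_lit 95]⟩],nat_lit 0x4ce3218⟩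
noncomputable def h162 : Hdr :=
  ⟨(nat_lit 6),(nat_lit 9),[[[]],[[nat_lit 0],[nat_lit 0]],[[nat_lit 0],[nat_lit 1,nat_lit 0],[nat_lit 0]],[[nat_lit 0],[nat_lit 1],[nat_lit 2],[nat_lit 0]],[[nat_lit 0],[nat_lit 1],[nat_lit 2],[nat_lit 3],[]],[[nat_lit 0],[nat_lit 1],[nat_lit 2],[nat_lit 3,nat_lit 0],[nat_lit 4,nat_lit 0],[]],[[nat_lit 0],[nat_lit 1],[nat_lit 2,nat_lit 1,nat_lit 0],[nat_lit 3,nat_lit 0],[nat_lit 4],[nat_lit 5],[nat_lit 1]],[[nat_lit 0],[nat_lit 1],[nat_lit 5,nat_lit 2,nat_lit 1],[nat_lit 5,nat_lit 3,nat_lit 1,nat_lit 0],[nat_lit 5,nat_lit 4,nat_lit 1],[nat_lit 5],[nat_lit 6],[nat_lit 5,nat_lit 1,nat_lit 0]],[[nat_lit 0],[nat_lit 5,nat_lit 1],[nat_lit 2,nat_lit 1,nat_lit 0],[nat_lit 4,nat_lit 2,nat_lit 1],[nat_lit 3,nat_lit 2,nat_lit 1],[nat_lit 5,nat_lit 0],[nat_lit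 7,nat_lit 5,nat_lit 1,nat_lit 0],[nat_lit 6,nat_lit 0],[nat_lit 7,nat_lit 6,nat_lit 4,nat_lit 3,nat_lit 2,nat_lit 1]]],[nat_lit 1],[nat_lit 10],[],[⟨[nat_lit 1,nat_lit 2,nat_lit 4,nat_lit 8,nat_lit 16,nat_lit 32],[nat_lit 1,nat_lit 6,nat_lit 2,nat_lit 8,nat_lit 16,nat_lit 32],[]⟩,⟨[nat_lit 1,nat_lit 2,nat_lit 4,nat_lit 8,nat_lit 16,nat_lit 32],[nat_lit 1,nat_lit 4,nat_lit 34,nat_lit 20,nat_lit 12,nat_lit 32],[]⟩,⟨[nat_lit 1,nat_lit 69,nat_lit 11,nat_lit 16],[nat_lit 69,nat_lit 68,nat_lit 11,nat_lit 16],[nat_lit 0,nat_lit 1,nat_lit 69,nat_lit 68,nat_lit 11,nat_lit 10,nat_lit 78,nat_lit 79,nat_lit 16,nat_lit 17,nat_lit 85,nat_lit 84,nat_lit 27,nat_lit 26,nat_lit 94,nat_lit 95]⟩],nat_lit 0x4ce3218⟩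
noncomputable def h163 : Hdr :=
  ⟨(nat_lit 6),(nat_lit 9),[[[]],[[nat_lit 0],[nat_lit 0]],[[nat_lit 0],[nat_lit 1,nat_lit 0],[nat_lit 0]],[[nat_lit 0],[nat_lit 1],[nat_lit 2],[nat_lit 0]],[[nat_lit 0],[nat_lit 1],[nat_lit 2],[nat_lit 3],[]],[[nat_lit 0],[nat_lit 1],[nat_lit 2],[nat_lit 3,nat_lit 0],[nat_lit 4,nat_lit 0],[]],[[nat_lit 0],[nat_lit 1],[nat_lit 2,nat_lit 1,nat_lit 0],[nat_lit 3,nat_lit 0],[nat_lit 4],[nat_lit 5],[nat_lit 1]],[[nat_lit 0],[nat_lit 1],[nat_lit 5,nat_lit 2,nat_lit 1],[nat_lit 5,nat_lit 3,nat_lit 1,nat_lit 0],[nat_lit 5,nat_lit 4,nat_lit 1],[nat_lit 5],[nat_lit 6],[nat_lit 5,nat_lit 1,nat_lit 0]],[[nat_lit 0],[nat_lit 5,nat_lit 1],[nat_lit 5,nat_lit 2],[nat_lit 4,nat_lit 2,nat_lit 1],[nat_lit 3,nat_lit 2,nat_lit 1,nat_lit 0],[nat_lit 5],[nat_lit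 7,nat_lit 5,nat_lit 4,nat_lit 3,nat_lit 1],[nat_lit 6,nat_lit 4,nat_lit 3,nat_lit 1],[]]],[nat_lit 1],[nat_lit 10],[],[⟨[nat_lit 1,nat_lit 2,nat_lit 4,nat_lit 8,nat_lit 16,nat_lit 32],[nat_lit 1,nat_lit 6,nat_lit 2,nat_lit 8,nat_lit 16,nat_lit 32],[]⟩,⟨[nat_lit 1,nat_lit 2,nat_lit 4,nat_lit 8,nat_lit 16,nat_lit 32],[nat_lit 1,nat_lit 4,nat_lit 34,nat_lit 20,nat_lit 12,nat_lit 32],[]⟩,⟨[nat_lit 1,nat_lit 69,nat_lit 11,nat_lit 16],[nat_lit 69,nat_lit 68,nat_lit 11,nat_lit 16],[nat_lit 0,nat_lit 1,nat_lit 69,nat_lit 68,nat_lit 11,nat_lit 10,nat_lit 78,nat_lit 79,nat_lit 16,nat_lit 17,nat_lit 85,nat_lit 84,nat_lit 27,nat_lit 26,nat_lit 94,nat_lit 95]⟩],nat_lit 0x4ce3218⟩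
noncomputable def h164 : Hdr :=
  ⟨(nat_lit 6),(nat_lit 9),[[[]],[[nat_lit 0],[nat_lit 0]],[[nat_lit 0],[nat_lit 1,nat_lit 0],[nat_lit 0]],[[nat_lit 0],[nat_lit 1],[nat_lit 2],[nat_lit 0]],[[nat_lit 0],[nat_lit 1],[nat_lit 2],[nat_lit 3],[]],[[nat_lit 0],[nat_lit 1],[nat_lit 2],[nat_lit 3,nat_lit 0],[nat_lit 4,nat_lit 0],[]],[[nat_lit 0],[nat_lit 1],[nat_lit 2,nat_lit 1,nat_lit 0],[nat_lit 3,nat_lit 0],[nat_lit 4],[nat_lit 5],[nat_lit 1]],[[nat_lit 0],[nat_lit 1],[nat_lit 5,nat_lit 2,nat_lit 1],[nat_lit 5,nat_lit 3,nat_lit 1,nat_lit 0],[nat_lit 5,nat_lit 4,nat_lit 1],[nat_lit 5],[nat_lit 6],[nat_lit 5,nat_lit 1,nat_lit 0]],[[nat_lit 0],[nat_lit 5,nat_lit 1],[nat_lit 5,nat_lit 2],[nat_lit 4,nat_lit 2,nat_lit 1],[nat_lit 3,nat_lit 2,nat_lit 1,nat_lit 0],[nat_lit 5],[nat_lit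 7,nat_lit 5,nat_lit 4,nat_lit 3,nat_lit 1],[nat_lit 6,nat_lit 4,nat_lit 3,nat_lit 1,nat_lit 0],[nat_lit 4,nat_lit 3,nat_lit 0]]],[nat_lit 1],[nat_lit 10],[],[⟨[nat_lit 1,nat_lit 2,nat_lit 4,nat_lit 8,nat_lit 16,nat_lit 32],[nat_lit 1,nat_lit 6,nat_lit 2,nat_lit 8,nat_lit 16,nat_lit 32],[]⟩,⟨[nat_lit 1,nat_lit 2,nat_lit 4,nat_lit 8,nat_lit 16,nat_lit 32],[nat_lit 1,nat_lit 4,nat_lit 34,nat_lit 20,nat_lit 12,nat_lit 32],[]⟩,⟨[nat_lit 1,nat_lit 69,nat_lit 11,nat_lit 16],[nat_lit 69,nat_lit 68,nat_lit 11,nat_lit 16],[nat_lit 0,nat_lit 1,nat_lit 69,nat_lit 68,nat_lit 11,nat_lit 10,nat_lit 78,nat_lit 79,nat_lit 16,nat_lit 17,nat_lit 85,nat_lit 84,nat_lit 27,nat_lit 26,nat_lit 94,nat_lit 95]⟩],nat_lit 0x4ce3218⟩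
noncomputable def h165 : Hdr :=
  ⟨(nat_lit 6),(nat_lit 8),[[[]],[[nat_lit 0],[nat_lit 0]],[[nat_lit 0],[nat_lit 1,nat_lit 0],[nat_lit 0]],[[nat_lit 0],[nat_lit 1],[nat_lit 2],[nat_lit 0]],[[nat_lit 0],[nat_lit 1],[nat_lit 2],[nat_lit 3],[]],[[nat_lit 0],[nat_lit 1],[nat_lit 2],[nat_lit 3,nat_lit 0],[nat_lit 4,nat_lit 0],[]],[[nat_lit 0],[nat_lit 1],[nat_lit 2,nat_lit 1,nat_lit 0],[nat_lit 3,nat_lit 0],[nat_lit 4],[nat_lit 5],[nat_lit 1]],[[nat_lit 0],[nat_lit 1],[nat_lit 5,nat_lit 2,nat_lit 1],[nat_lit 5,nat_lit 3,nat_lit 1,nat_lit 0],[nat_lit 5,nat_lit 4,nat_lit 1],[nat_lit 5],[nat_lit 6],[nat_lit 5,nat_lit 1,nat_lit 0]]],[nat_lit 1],[nat_lit 10],[],[⟨[nat_lit 1,nat_lit 2,nat_lit 4,nat_lit 8,nat_lit 16,nat_lit 32],[nat_lit 1,nat_lit 6,nat_lit 2,nat_lit 8,nat_lit 16,nat_lit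 32],[]⟩,⟨[nat_lit 1,nat_lit 2,nat_lit 4,nat_lit 8,nat_lit 16,nat_lit 32],[nat_lit 1,nat_lit 4,nat_lit 34,nat_lit 20,nat_lit 12,nat_lit 32],[]⟩,⟨[nat_lit 1,nat_lit 69,nat_lit 11,nat_lit 16],[nat_lit 69,nat_lit 68,nat_lit 11,nat_lit 16],[nat_lit 0,nat_lit 1,nat_lit 69,nat_lit 68,nat_lit 11,nat_lit 10,nat_lit 78,nat_lit 79,nat_lit 16,nat_lit 17,nat_lit 85,nat_lit 84,nat_lit 27,nat_lit 26,nat_lit 94,nat_lit 95]⟩],nat_lit 0x4ce3218⟩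
noncomputable def h166 : Hdr :=
  ⟨(nat_lit 6),(nat_lit 8),[[[]],[[nat_lit 0],[nat_lit 0]],[[nat_lit 0],[nat_lit 1,nat_lit 0],[nat_lit 0]],[[nat_lit 0],[nat_lit 1],[nat_lit 2],[nat_lit 0]],[[nat_lit 0],[nat_lit 1],[nat_lit 2],[nat_lit 3],[]],[[nat_lit 0],[nat_lit 1],[nat_lit 2],[nat_lit 3,nat_lit 0],[nat_lit 4,nat_lit 0],[]],[[nat_lit 0],[nat_lit 1],[nat_lit 2,nat_lit 1,nat_lit 0],[nat_lit 3,nat_lit 0],[nat_lit 4],[nat_lit 5],[nat_lit 1]],[[nat_lit 0],[nat_lit 1],[nat_lit 5,nat_lit 2,nat_lit 1],[nat_lit 5,nat_lit 3,nat_lit 1,nat_lit 0],[nat_lit 5,nat_lit 4,nat_lit 1],[nat_lit 5],[nat_lit 6,nat_lit 4,nat_lit 3],[nat_lit 5,nat_lit 1,nat_lit 0]]],[nat_lit 1],[nat_lit 10],[],[⟨[nat_lit 1,nat_lit 2,nat_lit 4,nat_lit 8,nat_lit 16,nat_lit 32],[nat_lit 1,nat_lit 6,nat_lit 2,nat_lit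 8,nat_lit 16,nat_lit 32],[]⟩,⟨[nat_lit 1,nat_lit 2,nat_lit 4,nat_lit 8,nat_lit 16,nat_lit 32],[nat_lit 1,nat_lit 4,nat_lit 34,nat_lit 20,nat_lit 12,nat_lit 32],[]⟩,⟨[nat_lit 1,nat_lit 69,nat_lit 11,nat_lit 16],[nat_lit 69,nat_lit 68,nat_lit 11,nat_lit 16],[nat_lit 0,nat_lit 1,nat_lit 69,nat_lit 68,nat_lit 11,nat_lit 10,nat_lit 78,nat_lit 79,nat_lit 16,nat_lit 17,nat_lit 85,nat_lit 84,nat_lit 27,nat_lit 26,nat_lit 94,nat_lit 95]⟩],nat_lit 0x4ce3218⟩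
noncomputable def h167 : Hdr :=
  ⟨(nat_lit 6),(nat_lit 8),[[[]],[[nat_lit 0],[nat_lit 0]],[[nat_lit 0],[nat_lit 1,nat_lit 0],[nat_lit 0]],[[nat_lit 0],[nat_lit 1],[nat_lit 2],[nat_lit 0]],[[nat_lit 0],[nat_lit 1],[nat_lit 2],[nat_lit 3],[]],[[nat_lit 0],[nat_lit 1],[nat_lit 2],[nat_lit 3,nat_lit 0],[nat_lit 4,nat_lit 0],[]],[[nat_lit 0],[nat_lit 1],[nat_lit 2,nat_lit 1,nat_lit 0],[nat_lit 3,nat_lit 0],[nat_lit 4],[nat_lit 5],[nat_lit 1]],[[nat_lit 0],[nat_lit 1],[nat_lit 2,nat_lit 1],[nat_lit 5,nat_lit 4],[nat_lit 5,nat_lit 3],[nat_lit 5],[nat_lit 6,nat_lit 5],[nat_lit 1,nat_lit 0]]],[nat_lit 1],[nat_lit 10],[],[⟨[nat_lit 1,nat_lit 2,nat_lit 4,nat_lit 8,nat_lit 16,nat_lit 32],[nat_lit 1,nat_lit 6,nat_lit 2,nat_lit 8,nat_lit 16,nat_lit 32],[]⟩,⟨[nat_lit 1,nat_lit 2,nat_lit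 4,nat_lit 8,nat_lit 16,nat_lit 32],[nat_lit 1,nat_lit 4,nat_lit 34,nat_lit 20,nat_lit 12,nat_lit 32],[]⟩,⟨[nat_lit 1,nat_lit 69,nat_lit 11,nat_lit 16],[nat_lit 69,nat_lit 68,nat_lit 11,nat_lit 16],[nat_lit 0,nat_lit 1,nat_lit 69,nat_lit 68,nat_lit 11,nat_lit 10,nat_lit 78,nat_lit 79,nat_lit 16,nat_lit 17,nat_lit 85,nat_lit 84,nat_lit 27,nat_lit 26,nat_lit 94,nat_lit 95]⟩],nat_lit 0x4ce3218⟩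
noncomputable def h168 : Hdr :=
  ⟨(nat_lit 6),(nat_lit 8),[[[]],[[nat_lit 0],[nat_lit 0]],[[nat_lit 0],[nat_lit 1,nat_lit 0],[nat_lit 0]],[[nat_lit 0],[nat_lit 1],[nat_lit 2],[nat_lit 0]],[[nat_lit 0],[nat_lit 1],[nat_lit 2],[nat_lit 3],[]],[[nat_lit 0],[nat_lit 1],[nat_lit 2],[nat_lit 3,nat_lit 0],[nat_lit 4,nat_lit 0],[]],[[nat_lit 0],[nat_lit 1],[nat_lit 2,nat_lit 1,nat_lit 0],[nat_lit 3,nat_lit 0],[nat_lit 4],[nat_lit 5],[nat_lit 1]],[[nat_lit 0],[nat_lit 1],[nat_lit 2,nat_lit 1],[nat_lit 5,nat_lit 4],[nat_lit 5,nat_lit 3],[nat_lit 5],[nat_lit 6,nat_lit 5],[nat_lit 1]]],[nat_lit 1],[nat_lit 10],[],[⟨[nat_lit 1,nat_lit 2,nat_lit 4,nat_lit 8,nat_lit 16,nat_lit 32],[nat_lit 1,nat_lit 6,nat_lit 2,nat_lit 8,nat_lit 16,nat_lit 32],[]⟩,⟨[nat_lit 1,nat_lit 2,nat_lit 4,nat_lit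 8,nat_lit 16,nat_lit 32],[nat_lit 1,nat_lit 4,nat_lit 34,nat_lit 20,nat_lit 12,nat_lit 32],[]⟩,⟨[nat_lit 1,nat_lit 69,nat_lit 11,nat_lit 16],[nat_lit 69,nat_lit 68,nat_lit 11,nat_lit 16],[nat_lit 0,nat_lit 1,nat_lit 69,nat_lit 68,nat_lit 11,nat_lit 10,nat_lit 78,nat_lit 79,nat_lit 16,nat_lit 17,nat_lit 85,nat_lit 84,nat_lit 27,nat_lit 26,nat_lit 94,nat_lit 95]⟩],nat_lit 0x4ce3218⟩
noncomputable def h169 : Hdr :=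
  ⟨(nat_lit 6),(nat_lit 7),[[[]],[[nat_lit 0],[nat_lit 0]],[[nat_lit 0],[nat_lit 1,nat_lit 0],[nat_lit 0]],[[nat_lit 0],[nat_lit 1],[nat_lit 2],[nat_lit 0]],[[nat_lit 0],[nat_lit 1],[nat_lit 2],[nat_lit 3],[]],[[nat_lit 0],[nat_lit 1],[nat_lit 2],[nat_lit 3,nat_lit 0],[nat_lit 4,nat_lit 0],[]],[[nat_lit 0],[nat_lit 1],[nat_lit 2,nat_lit 1,nat_lit 0],[nat_lit 3,nat_lit 0],[nat_lit 4],[nat_lit 5],[nat_lit 1]]],[nat_lit 1],[nat_lit 10],[],[⟨[nat_lit 1,nat_lit 2,nat_lit 4,nat_lit 8,nat_lit 16,nat_lit 32],[nat_lit 1,nat_lit 6,nat_lit 2,nat_lit 8,nat_lit 16,nat_lit 32],[]⟩,⟨[nat_lit 1,nat_lit 2,nat_lit 4,nat_lit 8,nat_lit 16,nat_lit 32],[nat_lit 1,nat_lit 4,nat_lit 34,nat_lit 20,nat_lit 12,nat_lit 32],[]⟩,⟨[nat_lit 1,nat_lit 69,nat_lit 11,nat_lit 16],[nat_lit 69,nat_lit 68,nat_lit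 11,nat_lit 16],[nat_lit 0,nat_lit 1,nat_lit 69,nat_lit 68,nat_lit 11,nat_lit 10,nat_lit 78,nat_lit 79,nat_lit 16,nat_lit 17,nat_lit 85,nat_lit 84,nat_lit 27,nat_lit 26,nat_lit 94,nat_lit 95]⟩],nat_lit 0x4ce3218⟩
noncomputable def h170 : Hdr :=
  ⟨(nat_lit 6),(nat_lit 9),[[[]],[[nat_lit 0],[nat_lit 0]],[[nat_lit 0],[nat_lit 1,nat_lit 0],[nat_lit 0]],[[nat_lit 0],[nat_lit 1],[nat_lit 2],[nat_lit 0]],[[nat_lit 0],[nat_lit 1],[nat_lit 2],[nat_lit 3],[]],[[nat_lit 0],[nat_lit 1],[nat_lit 2],[nat_lit 3,nat_lit 0],[nat_lit 4,nat_lit 0],[]],[[nat_lit 0],[nat_lit 1],[nat_lit 2,nat_lit 1,nat_lit 0],[nat_lit 3,nat_lit 0],[nat_lit 4],[nat_lit 5],[nat_lit 1]],[[nat_lit 0],[nat_lit 1],[nat_lit 5,nat_lit 2,nat_lit 1],[nat_lit 5,nat_lit 3,nat_lit 1,nat_lit 0],[nat_lit 5,nat_lit 4,nat_lit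 1],[nat_lit 5],[nat_lit 6],[nat_lit 5,nat_lit 1,nat_lit 0]],[[nat_lit 0],[nat_lit 5,nat_lit 1,nat_lit 0],[nat_lit 2,nat_lit 1,nat_lit 0],[nat_lit 5,nat_lit 3,nat_lit 2,nat_lit 1,nat_lit 0],[nat_lit 5,nat_lit 4,nat_lit 2,nat_lit 1],[nat_lit 5,nat_lit 0],[nat_lit 7,nat_lit 5,nat_lit 0],[nat_lit 6,nat_lit 5,nat_lit 1],[nat_lit 7,nat_lit 6,nat_lit 2,nat_lit 0]]],[nat_lit 1],[nat_lit 10],[],[⟨[nat_lit 1,nat_lit 2,nat_lit 4,nat_lit 8,nat_lit 16,nat_lit 32],[nat_lit 1,nat_lit 6,nat_lit 2,nat_lit 8,nat_lit 16,nat_lit 32],[]⟩,⟨[nat_lit 1,nat_lit 2,nat_lit 4,nat_lit 8,nat_lit 16,nat_lit 32],[nat_lit 1,nat_lit 4,nat_lit 38,nat_lit 20,nat_lit 12,nat_lit 32],[]⟩,⟨[nat_lit 1,nat_lit 69,nat_lit 11,nat_lit 16],[nat_lit 69,nat_lit 68,nat_lit 11,nat_lit 16],[nat_lit 0,nat_lit 1,nat_lit 69,nat_lit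 68,nat_lit 11,nat_lit 10,nat_lit 78,nat_lit 79,nat_lit 16,nat_lit 17,nat_lit 85,nat_lit 84,nat_lit 27,nat_lit 26,nat_lit 94,nat_lit 95]⟩],nat_lit 0x4ce3218⟩
noncomputable def h171 : Hdr :=
  ⟨(nat_lit 6),(nat_lit 9),[[[]],[[nat_lit 0],[nat_lit 0]],[[nat_lit 0],[nat_lit 1,nat_lit 0],[nat_lit 0]],[[nat_lit 0],[nat_lit 1],[nat_lit 2],[nat_lit 0]],[[nat_lit 0],[nat_lit 1],[nat_lit 2],[nat_lit 3],[]],[[nat_lit 0],[nat_lit 1],[nat_lit 2],[nat_lit 3,nat_lit 0],[nat_lit 4,nat_lit 0],[]],[[nat_lit 0],[nat_lit 1],[nat_lit 2,nat_lit 1,nat_lit 0],[nat_lit 3,nat_lit 0],[nat_lit 4],[nat_lit 5],[nat_lit 1]],[[nat_lit 0],[nat_lit 1],[nat_lit 5,nat_lit 2,nat_lit 1],[nat_lit 5,nat_lit 3,nat_lit 1,nat_lit 0],[nat_lit 5,nat_lit 4,nat_lit 1],[nat_lit 5],[nat_lit 6],[nat_lit 5,nat_lit 1,nat_lit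 0]],[[nat_lit 0],[nat_lit 5,nat_lit 1,nat_lit 0],[nat_lit 2,nat_lit 1,nat_lit 0],[nat_lit 5,nat_lit 3,nat_lit 2,nat_lit 1,nat_lit 0],[nat_lit 5,nat_lit 4,nat_lit 2,nat_lit 1],[nat_lit 5,nat_lit 0],[nat_lit 7,nat_lit 5,nat_lit 0],[nat_lit 6,nat_lit 5,nat_lit 1,nat_lit 0],[nat_lit 7,nat_lit 6,nat_lit 4,nat_lit 3,nat_lit 2]]],[nat_lit 1],[nat_lit 10],[],[⟨[nat_lit 1,nat_lit 2,nat_lit 4,nat_lit 8,nat_lit 16,nat_lit 32],[nat_lit 1,nat_lit 6,nat_lit 2,nat_lit 8,nat_lit 16,nat_lit 32],[]⟩,⟨[nat_lit 1,nat_lit 2,nat_lit 4,nat_lit 8,nat_lit 16,nat_lit 32],[nat_lit 1,nat_lit 4,nat_lit 38,nat_lit 20,nat_lit 12,nat_lit 32],[]⟩,⟨[nat_lit 1,nat_lit 69,nat_lit 11,nat_lit 16],[nat_lit 69,nat_lit 68,nat_lit 11,nat_lit 16],[nat_lit 0,nat_lit 1,nat_lit 69,nat_lit 68,nat_lit 11,nat_lit 10,nat_lit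 78,nat_lit 79,nat_lit 16,nat_lit 17,nat_lit 85,nat_lit 84,nat_lit 27,nat_lit 26,nat_lit 94,nat_lit 95]⟩],nat_lit 0x4ce3218⟩
noncomputable def h172 : Hdr :=
  ⟨(nat_lit 6),(nat_lit 9),[[[]],[[nat_lit 0],[nat_lit 0]],[[nat_lit 0],[nat_lit 1,nat_lit 0],[nat_lit 0]],[[nat_lit 0],[nat_lit 1],[nat_lit 2],[nat_lit 0]],[[nat_lit 0],[nat_lit 1],[nat_lit 2],[nat_lit 3],[]],[[nat_lit 0],[nat_lit 1],[nat_lit 2],[nat_lit 3,nat_lit 0],[nat_lit 4,nat_lit 0],[]],[[nat_lit 0],[nat_lit 1],[nat_lit 2,nat_lit 1,nat_lit 0],[nat_lit 3,nat_lit 0],[nat_lit 4],[nat_lit 5],[nat_lit 1]],[[nat_lit 0],[nat_lit 1],[nat_lit 5,nat_lit 2,nat_lit 1],[nat_lit 5,nat_lit 3,nat_lit 1,nat_lit 0],[nat_lit 5,nat_lit 4,nat_lit 1],[nat_lit 5],[nat_lit 6],[nat_lit 5,nat_lit 1,nat_lit 0]],[[nat_lit 0],[nat_lit 5,nat_lit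 1,nat_lit 0],[nat_lit 2,nat_lit 1,nat_lit 0],[nat_lit 5,nat_lit 3,nat_lit 2,nat_lit 1,nat_lit 0],[nat_lit 5,nat_lit 4,nat_lit 2,nat_lit 1],[nat_lit 5,nat_lit 0],[nat_lit 7,nat_lit 5,nat_lit 4,nat_lit 3,nat_lit 0],[nat_lit 6,nat_lit 5,nat_lit 4,nat_lit 3,nat_lit 1],[nat_lit 7,nat_lit 6,nat_lit 2,nat_lit 0]]],[nat_lit 1],[nat_lit 10],[],[⟨[nat_lit 1,nat_lit 2,nat_lit 4,nat_lit 8,nat_lit 16,nat_lit 32],[nat_lit 1,nat_lit 6,nat_lit 2,nat_lit 8,nat_lit 16,nat_lit 32],[]⟩,⟨[nat_lit 1,nat_lit 2,nat_lit 4,nat_lit 8,nat_lit 16,nat_lit 32],[nat_lit 1,nat_lit 4,nat_lit 38,nat_lit 20,nat_lit 12,nat_lit 32],[]⟩,⟨[nat_lit 1,nat_lit 69,nat_lit 11,nat_lit 16],[nat_lit 69,nat_lit 68,nat_lit 11,nat_lit 16],[nat_lit 0,nat_lit 1,nat_lit 69,nat_lit 68,nat_lit 11,nat_lit 10,nat_lit 78,nat_lit 79,nat_lit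 16,nat_lit 17,nat_lit 85,nat_lit 84,nat_lit 27,nat_lit 26,nat_lit 94,nat_lit 95]⟩],nat_lit 0x4ce3218⟩
noncomputable def h173 : Hdr :=
  ⟨(nat_lit 6),(nat_lit 9),[[[]],[[nat_lit 0],[nat_lit 0]],[[nat_lit 0],[nat_lit 1,nat_lit 0],[nat_lit 0]],[[nat_lit 0],[nat_lit 1],[nat_lit 2],[nat_lit 0]],[[nat_lit 0],[nat_lit 1],[nat_lit 2],[nat_lit 3],[]],[[nat_lit 0],[nat_lit 1],[nat_lit 2],[nat_lit 3,nat_lit 0],[nat_lit 4,nat_lit 0],[]],[[nat_lit 0],[nat_lit 1],[nat_lit 2,nat_lit 1,nat_lit 0],[nat_lit 3,nat_lit 0],[nat_lit 4],[nat_lit 5],[nat_lit 1]],[[nat_lit 0],[nat_lit 1],[nat_lit 5,nat_lit 2,nat_lit 1],[nat_lit 5,nat_lit 3,nat_lit 1,nat_lit 0],[nat_lit 5,nat_lit 4,nat_lit 1],[nat_lit 5],[nat_lit 6],[nat_lit 5,nat_lit 1,nat_lit 0]],[[nat_lit 0],[nat_lit 5,nat_lit 1,nat_lit 0],[nat_lit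 2,nat_lit 1,nat_lit 0],[nat_lit 5,nat_lit 3,nat_lit 2,nat_lit 1,nat_lit 0],[nat_lit 5,nat_lit 4,nat_lit 2,nat_lit 1],[nat_lit 5,nat_lit 0],[nat_lit 7,nat_lit 5,nat_lit 4,nat_lit 3,nat_lit 0],[nat_lit 6,nat_lit 5,nat_lit 4,nat_lit 3,nat_lit 1,nat_lit 0],[nat_lit 7,nat_lit 6,nat_lit 4,nat_lit 3,nat_lit 2]]],[nat_lit 1],[nat_lit 10],[],[⟨[nat_lit 1,nat_lit 2,nat_lit 4,nat_lit 8,nat_lit 16,nat_lit 32],[nat_lit 1,nat_lit 6,nat_lit 2,nat_lit 8,nat_lit 16,nat_lit 32],[]⟩,⟨[nat_lit 1,nat_lit 2,nat_lit 4,nat_lit 8,nat_lit 16,nat_lit 32],[nat_lit 1,nat_lit 4,nat_lit 38,nat_lit 20,nat_lit 12,nat_lit 32],[]⟩,⟨[nat_lit 1,nat_lit 69,nat_lit 11,nat_lit 16],[nat_lit 69,nat_lit 68,nat_lit 11,nat_lit 16],[nat_lit 0,nat_lit 1,nat_lit 69,nat_lit 68,nat_lit 11,nat_lit 10,nat_lit 78,nat_lit 79,nat_lit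 16,nat_lit 17,nat_lit 85,nat_lit 84,nat_lit 27,nat_lit 26,nat_lit 94,nat_lit 95]⟩],nat_lit 0x4ce3218⟩
noncomputable def h174 : Hdr :=
  ⟨(nat_lit 6),(nat_lit 9),[[[]],[[nat_lit 0],[nat_lit 0]],[[nat_lit 0],[nat_lit 1,nat_lit 0],[nat_lit 0]],[[nat_lit 0],[nat_lit 1],[nat_lit 2],[nat_lit 0]],[[nat_lit 0],[nat_lit 1],[nat_lit 2],[nat_lit 3],[]],[[nat_lit 0],[nat_lit 1],[nat_lit 2],[nat_lit 3,nat_lit 0],[nat_lit 4,nat_lit 0],[]],[[nat_lit 0],[nat_lit 1],[nat_lit 2,nat_lit 1,nat_lit 0],[nat_lit 3,nat_lit 0],[nat_lit 4],[nat_lit 5],[nat_lit 1]],[[nat_lit 0],[nat_lit 1],[nat_lit 5,nat_lit 2,nat_lit 1],[nat_lit 5,nat_lit 3,nat_lit 1,nat_lit 0],[nat_lit 5,nat_lit 4,nat_lit 1],[nat_lit 5],[nat_lit 6],[nat_lit 5,nat_lit 1,nat_lit 0]],[[nat_lit 0],[nat_lit 5,nat_lit 1],[nat_lit 5,nat_lit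 2],[nat_lit 4,nat_lit 2,nat_lit 1],[nat_lit 3,nat_lit 2,nat_lit 1],[nat_lit 5],[nat_lit 7,nat_lit 5,nat_lit 1],[nat_lit 6,nat_lit 1,nat_lit 0],[nat_lit 5,nat_lit 0]]],[nat_lit 1],[nat_lit 10],[],[⟨[nat_lit 1,nat_lit 2,nat_lit 4,nat_lit 8,nat_lit 16,nat_lit 32],[nat_lit 1,nat_lit 6,nat_lit 2,nat_lit 8,nat_lit 16,nat_lit 32],[]⟩,⟨[nat_lit 1,nat_lit 2,nat_lit 4,nat_lit 8,nat_lit 16,nat_lit 32],[nat_lit 1,nat_lit 4,nat_lit 38,nat_lit 20,nat_lit 12,nat_lit 32],[]⟩,⟨[nat_lit 1,nat_lit 69,nat_lit 11,nat_lit 16],[nat_lit 69,nat_lit 68,nat_lit 11,nat_lit 16],[nat_lit 0,nat_lit 1,nat_lit 69,nat_lit 68,nat_lit 11,nat_lit 10,nat_lit 78,nat_lit 79,nat_lit 16,nat_lit 17,nat_lit 85,nat_lit 84,nat_lit 27,nat_lit 26,nat_lit 94,nat_lit 95]⟩],nat_lit 0x4ce3218⟩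
noncomputable def h175 : Hdr :=
  ⟨(nat_lit 6),(nat_lit 9),[[[]],[[nat_lit 0],[nat_lit 0]],[[nat_lit 0],[nat_lit 1,nat_lit 0],[nat_lit 0]],[[nat_lit 0],[nat_lit 1],[nat_lit 2],[nat_lit 0]],[[nat_lit 0],[nat_lit 1],[nat_lit 2],[nat_lit 3],[]],[[nat_lit 0],[nat_lit 1],[nat_lit 2],[nat_lit 3,nat_lit 0],[nat_lit 4,nat_lit 0],[]],[[nat_lit 0],[nat_lit 1],[nat_lit 2,nat_lit 1,nat_lit 0],[nat_lit 3,nat_lit 0],[nat_lit 4],[nat_lit 5],[nat_lit 1]],[[nat_lit 0],[nat_lit 1],[nat_lit 5,nat_lit 2,nat_lit 1],[nat_lit 5,nat_lit 3,nat_lit 1,nat_lit 0],[nat_lit 5,nat_lit 4,nat_lit 1],[nat_lit 5],[nat_lit 6],[nat_lit 5,nat_lit 1,nat_lit 0]],[[nat_lit 0],[nat_lit 5,nat_lit 1],[nat_lit 5,nat_lit 2],[nat_lit 4,nat_lit 2,nat_lit 1],[nat_lit 3,nat_lit 2,nat_lit 1],[nat_lit 5],[nat_lit 7,nat_lit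 5,nat_lit 1],[nat_lit 6,nat_lit 1,nat_lit 0],[nat_lit 5]]],[nat_lit 1],[nat_lit 10],[],[⟨[nat_lit 1,nat_lit 2,nat_lit 4,nat_lit 8,nat_lit 16,nat_lit 32],[nat_lit 1,nat_lit 6,nat_lit 2,nat_lit 8,nat_lit 16,nat_lit 32],[]⟩,⟨[nat_lit 1,nat_lit 2,nat_lit 4,nat_lit 8,nat_lit 16,nat_lit 32],[nat_lit 1,nat_lit 4,nat_lit 38,nat_lit 20,nat_lit 12,nat_lit 32],[]⟩,⟨[nat_lit 1,nat_lit 69,nat_lit 11,nat_lit 16],[nat_lit 69,nat_lit 68,nat_lit 11,nat_lit 16],[nat_lit 0,nat_lit 1,nat_lit 69,nat_lit 68,nat_lit 11,nat_lit 10,nat_lit 78,nat_lit 79,nat_lit 16,nat_lit 17,nat_lit 85,nat_lit 84,nat_lit 27,nat_lit 26,nat_lit 94,nat_lit 95]⟩],nat_lit 0x4ce3218⟩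
noncomputable def h176 : Hdr :=
  ⟨(nat_lit 6),(nat_lit 9),[[[]],[[nat_lit 0],[nat_lit 0]],[[nat_lit 0],[nat_lit 1,nat_lit 0],[nat_lit 0]],[[nat_lit 0],[nat_lit 1],[nat_lit 2],[nat_lit 0]],[[nat_lit 0],[nat_lit 1],[nat_lit 2],[nat_lit 3],[]],[[nat_lit 0],[nat_lit 1],[nat_lit 2],[nat_lit 3,nat_lit 0],[nat_lit 4,nat_lit 0],[]],[[nat_lit 0],[nat_lit 1],[nat_lit 2,nat_lit 1,nat_lit 0],[nat_lit 3,nat_lit 0],[nat_lit 4],[nat_lit 5],[nat_lit 1]],[[nat_lit 0],[nat_lit 1],[nat_lit 5,nat_lit 2,nat_lit 1],[nat_lit 5,nat_lit 3,nat_lit 1,nat_lit 0],[nat_lit 5,nat_lit 4,nat_lit 1],[nat_lit 5],[nat_lit 6],[nat_lit 5,nat_lit 1,nat_lit 0]],[[nat_lit 0],[nat_lit 5,nat_lit 1],[nat_lit 2,nat_lit 1,nat_lit 0],[nat_lit 4,nat_lit 2,nat_lit 1],[nat_lit 3,nat_lit 2,nat_lit 1,nat_lit 0],[nat_lit 5,nat_lit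 0],[nat_lit 7,nat_lit 5,nat_lit 4,nat_lit 3,nat_lit 1,nat_lit 0],[nat_lit 6,nat_lit 4,nat_lit 3,nat_lit 0],[nat_lit 7,nat_lit 6,nat_lit 5,nat_lit 2,nat_lit 1]]],[nat_lit 1],[nat_lit 10],[],[⟨[nat_lit 1,nat_lit 2,nat_lit 4,nat_lit 8,nat_lit 16,nat_lit 32],[nat_lit 1,nat_lit 6,nat_lit 2,nat_lit 8,nat_lit 16,nat_lit 32],[]⟩,⟨[nat_lit 1,nat_lit 2,nat_lit 4,nat_lit 8,nat_lit 16,nat_lit 32],[nat_lit 1,nat_lit 4,nat_lit 38,nat_lit 20,nat_lit 12,nat_lit 32],[]⟩,⟨[nat_lit 1,nat_lit 69,nat_lit 11,nat_lit 16],[nat_lit 69,nat_lit 68,nat_lit 11,nat_lit 16],[nat_lit 0,nat_lit 1,nat_lit 69,nat_lit 68,nat_lit 11,nat_lit 10,nat_lit 78,nat_lit 79,nat_lit 16,nat_lit 17,nat_lit 85,nat_lit 84,nat_lit 27,nat_lit 26,nat_lit 94,nat_lit 95]⟩],nat_lit 0x4ce3218⟩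
noncomputable def h177 : Hdr :=
  ⟨(nat_lit 6),(nat_lit 9),[[[]],[[nat_lit 0],[nat_lit 0]],[[nat_lit 0],[nat_lit 1,nat_lit 0],[nat_lit 0]],[[nat_lit 0],[nat_lit 1],[nat_lit 2],[nat_lit 0]],[[nat_lit 0],[nat_lit 1],[nat_lit 2],[nat_lit 3],[]],[[nat_lit 0],[nat_lit 1],[nat_lit 2],[nat_lit 3,nat_lit 0],[nat_lit 4,nat_lit 0],[]],[[nat_lit 0],[nat_lit 1],[nat_lit 2,nat_lit 1,nat_lit 0],[nat_lit 3,nat_lit 0],[nat_lit 4],[nat_lit 5],[nat_lit 1]],[[nat_lit 0],[nat_lit 1],[nat_lit 5,nat_lit 2,nat_lit 1],[nat_lit 5,nat_lit 3,nat_lit 1,nat_lit 0],[nat_lit 5,nat_lit 4,nat_lit 1],[nat_lit 5],[nat_lit 6],[nat_lit 5,nat_lit 1,nat_lit 0]],[[nat_lit 0],[nat_lit 5,nat_lit 1],[nat_lit 2,nat_lit 1,nat_lit 0],[nat_lit 4,nat_lit 2,nat_lit 1],[nat_lit 3,nat_lit 2,nat_lit 1,nat_lit 0],[nat_lit 5,nat_lit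 0],[nat_lit 7,nat_lit 5,nat_lit 4,nat_lit 3,nat_lit 1,nat_lit 0],[nat_lit 6,nat_lit 4,nat_lit 3,nat_lit 0],[nat_lit 7,nat_lit 6,nat_lit 5,nat_lit 2,nat_lit 1,nat_lit 0]]],[nat_lit 1],[nat_lit 10],[],[⟨[nat_lit 1,nat_lit 2,nat_lit 4,nat_lit 8,nat_lit 16,nat_lit 32],[nat_lit 1,nat_lit 6,nat_lit 2,nat_lit 8,nat_lit 16,nat_lit 32],[]⟩,⟨[nat_lit 1,nat_lit 2,nat_lit 4,nat_lit 8,nat_lit 16,nat_lit 32],[nat_lit 1,nat_lit 4,nat_lit 38,nat_lit 20,nat_lit 12,nat_lit 32],[]⟩,⟨[nat_lit 1,nat_lit 69,nat_lit 11,nat_lit 16],[nat_lit 69,nat_lit 68,nat_lit 11,nat_lit 16],[nat_lit 0,nat_lit 1,nat_lit 69,nat_lit 68,nat_lit 11,nat_lit 10,nat_lit 78,nat_lit 79,nat_lit 16,nat_lit 17,nat_lit 85,nat_lit 84,nat_lit 27,nat_lit 26,nat_lit 94,nat_lit 95]⟩],nat_lit 0x4ce3218⟩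
noncomputable def h178 : Hdr :=
  ⟨(nat_lit 6),(nat_lit 8),[[[]],[[nat_lit 0],[nat_lit 0]],[[nat_lit 0],[nat_lit 1,nat_lit 0],[nat_lit 0]],[[nat_lit 0],[nat_lit 1],[nat_lit 2],[nat_lit 0]],[[nat_lit 0],[nat_lit 1],[nat_lit 2],[nat_lit 3],[]],[[nat_lit 0],[nat_lit 1],[nat_lit 2],[nat_lit 3,nat_lit 0],[nat_lit 4,nat_lit 0],[]],[[nat_lit 0],[nat_lit 1],[nat_lit 2,nat_lit 1,nat_lit 0],[nat_lit 3,nat_lit 0],[nat_lit 4],[nat_lit 5],[nat_lit 1]],[[nat_lit 0],[nat_lit 1],[nat_lit 5,nat_lit 2,nat_lit 1],[nat_lit 5,nat_lit 3,nat_lit 1,nat_lit 0],[nat_lit 5,nat_lit 4,nat_lit 1],[nat_lit 5],[nat_lit 6],[nat_lit 5,nat_lit 1,nat_lit 0]]],[nat_lit 1],[nat_lit 10],[],[⟨[nat_lit 1,nat_lit 2,nat_lit 4,nat_lit 8,nat_lit 16,nat_lit 32],[nat_lit 1,nat_lit 6,nat_lit 2,nat_lit 8,nat_lit 16,nat_lit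 32],[]⟩,⟨[nat_lit 1,nat_lit 2,nat_lit 4,nat_lit 8,nat_lit 16,nat_lit 32],[nat_lit 1,nat_lit 4,nat_lit 38,nat_lit 20,nat_lit 12,nat_lit 32],[]⟩,⟨[nat_lit 1,nat_lit 69,nat_lit 11,nat_lit 16],[nat_lit 69,nat_lit 68,nat_lit 11,nat_lit 16],[nat_lit 0,nat_lit 1,nat_lit 69,nat_lit 68,nat_lit 11,nat_lit 10,nat_lit 78,nat_lit 79,nat_lit 16,nat_lit 17,nat_lit 85,nat_lit 84,nat_lit 27,nat_lit 26,nat_lit 94,nat_lit 95]⟩],nat_lit 0x4ce3218⟩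
noncomputable def h179 : Hdr :=
  ⟨(nat_lit 6),(nat_lit 9),[[[]],[[nat_lit 0],[nat_lit 0]],[[nat_lit 0],[nat_lit 1,nat_lit 0],[nat_lit 0]],[[nat_lit 0],[nat_lit 1],[nat_lit 2],[nat_lit 0]],[[nat_lit 0],[nat_lit 1],[nat_lit 2],[nat_lit 3],[]],[[nat_lit 0],[nat_lit 1],[nat_lit 2],[nat_lit 3,nat_lit 0],[nat_lit 4,nat_lit 0],[]],[[nat_lit 0],[nat_lit 1],[nat_lit 2,nat_lit 1,nat_lit 0],[nat_lit 3,nat_lit 0],[nat_lit 4],[nat_lit 5],[nat_lit 1]],[[nat_lit 0],[nat_lit 1],[nat_lit 5,nat_lit 2,nat_lit 1],[nat_lit 5,nat_lit 3,nat_lit 1,nat_lit 0],[nat_lit 5,nat_lit 4,nat_lit 1],[nat_lit 5],[nat_lit 6,nat_lit 4,nat_lit 3],[nat_lit 5,nat_lit 1,nat_lit 0]],[[nat_lit 0],[nat_lit 5,nat_lit 1],[nat_lit 5,nat_lit 2],[nat_lit 4,nat_lit 2,nat_lit 1],[nat_lit 3,nat_lit 2,nat_lit 1],[nat_lit 5],[nat_lit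 7,nat_lit 5,nat_lit 1],[nat_lit 6,nat_lit 1,nat_lit 0],[nat_lit 5,nat_lit 0]]],[nat_lit 1],[nat_lit 10],[],[⟨[nat_lit 1,nat_lit 2,nat_lit 4,nat_lit 8,nat_lit 16,nat_lit 32],[nat_lit 1,nat_lit 6,nat_lit 2,nat_lit 8,nat_lit 16,nat_lit 32],[]⟩,⟨[nat_lit 1,nat_lit 2,nat_lit 4,nat_lit 8,nat_lit 16,nat_lit 32],[nat_lit 1,nat_lit 4,nat_lit 38,nat_lit 20,nat_lit 12,nat_lit 32],[]⟩,⟨[nat_lit 1,nat_lit 69,nat_lit 11,nat_lit 16],[nat_lit 69,nat_lit 68,nat_lit 11,nat_lit 16],[nat_lit 0,nat_lit 1,nat_lit 69,nat_lit 68,nat_lit 11,nat_lit 10,nat_lit 78,nat_lit 79,nat_lit 16,nat_lit 17,nat_lit 85,nat_lit 84,nat_lit 27,nat_lit 26,nat_lit 94,nat_lit 95]⟩],nat_lit 0x4ce3218⟩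
noncomputable def h180 : Hdr :=
  ⟨(nat_lit 6),(nat_lit 9),[[[]],[[nat_lit 0],[nat_lit 0]],[[nat_lit 0],[nat_lit 1,nat_lit 0],[nat_lit 0]],[[nat_lit 0],[nat_lit 1],[nat_lit 2],[nat_lit 0]],[[nat_lit 0],[nat_lit 1],[nat_lit 2],[nat_lit 3],[]],[[nat_lit 0],[nat_lit 1],[nat_lit 2],[nat_lit 3,nat_lit 0],[nat_lit 4,nat_lit 0],[]],[[nat_lit 0],[nat_lit 1],[nat_lit 2,nat_lit 1,nat_lit 0],[nat_lit 3,nat_lit 0],[nat_lit 4],[nat_lit 5],[nat_lit 1]],[[nat_lit 0],[nat_lit 1],[nat_lit 5,nat_lit 2,nat_lit 1],[nat_lit 5,nat_lit 3,nat_lit 1,nat_lit 0],[nat_lit 5,nat_lit 4,nat_lit 1],[nat_lit 5],[nat_lit 6,nat_lit 4,nat_lit 3],[nat_lit 5,nat_lit 1,nat_lit 0]],[[nat_lit 0],[nat_lit 5,nat_lit 1],[nat_lit 5,nat_lit 2],[nat_lit 4,nat_lit 2,nat_lit 1],[nat_lit 3,nat_lit 2,nat_lit 1],[nat_lit 5],[nat_lit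 7,nat_lit 5,nat_lit 1],[nat_lit 6,nat_lit 1,nat_lit 0],[nat_lit 5]]],[nat_lit 1],[nat_lit 10],[],[⟨[nat_lit 1,nat_lit 2,nat_lit 4,nat_lit 8,nat_lit 16,nat_lit 32],[nat_lit 1,nat_lit 6,nat_lit 2,nat_lit 8,nat_lit 16,nat_lit 32],[]⟩,⟨[nat_lit 1,nat_lit 2,nat_lit 4,nat_lit 8,nat_lit 16,nat_lit 32],[nat_lit 1,nat_lit 4,nat_lit 38,nat_lit 20,nat_lit 12,nat_lit 32],[]⟩,⟨[nat_lit 1,nat_lit 69,nat_lit 11,nat_lit 16],[nat_lit 69,nat_lit 68,nat_lit 11,nat_lit 16],[nat_lit 0,nat_lit 1,nat_lit 69,nat_lit 68,nat_lit 11,nat_lit 10,nat_lit 78,nat_lit 79,nat_lit 16,nat_lit 17,nat_lit 85,nat_lit 84,nat_lit 27,nat_lit 26,nat_lit 94,nat_lit 95]⟩],nat_lit 0x4ce3218⟩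
noncomputable def h181 : Hdr :=
  ⟨(nat_lit 6),(nat_lit 9),[[[]],[[nat_lit 0],[nat_lit 0]],[[nat_lit 0],[nat_lit 1,nat_lit 0],[nat_lit 0]],[[nat_lit 0],[nat_lit 1],[nat_lit 2],[nat_lit 0]],[[nat_lit 0],[nat_lit 1],[nat_lit 2],[nat_lit 3],[]],[[nat_lit 0],[nat_lit 1],[nat_lit 2],[nat_lit 3,nat_lit 0],[nat_lit 4,nat_lit 0],[]],[[nat_lit 0],[nat_lit 1],[nat_lit 2,nat_lit 1,nat_lit 0],[nat_lit 3,nat_lit 0],[nat_lit 4],[nat_lit 5],[nat_lit 1]],[[nat_lit 0],[nat_lit 1],[nat_lit 5,nat_lit 2,nat_lit 1],[nat_lit 5,nat_lit 3,nat_lit 1,nat_lit 0],[nat_lit 5,nat_lit 4,nat_lit 1],[nat_lit 5],[nat_lit 6,nat_lit 4,nat_lit 3],[nat_lit 5,nat_lit 1,nat_lit 0]],[[nat_lit 0],[nat_lit 5,nat_lit 1],[nat_lit 2,nat_lit 1,nat_lit 0],[nat_lit 4,nat_lit 2,nat_lit 1],[nat_lit 3,nat_lit 2,nat_lit 1,nat_lit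 0],[nat_lit 5,nat_lit 0],[nat_lit 7,nat_lit 5,nat_lit 4,nat_lit 3,nat_lit 1,nat_lit 0],[nat_lit 6],[nat_lit 7,nat_lit 6,nat_lit 5,nat_lit 4,nat_lit 3,nat_lit 2,nat_lit 1,nat_lit 0]]],[nat_lit 1],[nat_lit 10],[],[⟨[nat_lit 1,nat_lit 2,nat_lit 4,nat_lit 8,nat_lit 16,nat_lit 32],[nat_lit 1,nat_lit 6,nat_lit 2,nat_lit 8,nat_lit 16,nat_lit 32],[]⟩,⟨[nat_lit 1,nat_lit 2,nat_lit 4,nat_lit 8,nat_lit 16,nat_lit 32],[nat_lit 1,nat_lit 4,nat_lit 38,nat_lit 20,nat_lit 12,nat_lit 32],[]⟩,⟨[nat_lit 1,nat_lit 69,nat_lit 11,nat_lit 16],[nat_lit 69,nat_lit 68,nat_lit 11,nat_lit 16],[nat_lit 0,nat_lit 1,nat_lit 69,nat_lit 68,nat_lit 11,nat_lit 10,nat_lit 78,nat_lit 79,nat_lit 16,nat_lit 17,nat_lit 85,nat_lit 84,nat_lit 27,nat_lit 26,nat_lit 94,nat_lit 95]⟩],nat_lit 0x4ce3218⟩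
noncomputable def h182 : Hdr :=
  ⟨(nat_lit 6),(nat_lit 9),[[[]],[[nat_lit 0],[nat_lit 0]],[[nat_lit 0],[nat_lit 1,nat_lit 0],[nat_lit 0]],[[nat_lit 0],[nat_lit 1],[nat_lit 2],[nat_lit 0]],[[nat_lit 0],[nat_lit 1],[nat_lit 2],[nat_lit 3],[]],[[nat_lit 0],[nat_lit 1],[nat_lit 2],[nat_lit 3,nat_lit 0],[nat_lit 4,nat_lit 0],[]],[[nat_lit 0],[nat_lit 1],[nat_lit 2,nat_lit 1,nat_lit 0],[nat_lit 3,nat_lit 0],[nat_lit 4],[nat_lit 5],[nat_lit 1]],[[nat_lit 0],[nat_lit 1],[nat_lit 5,nat_lit 2,nat_lit 1],[nat_lit 5,nat_lit 3,nat_lit 1,nat_lit 0],[nat_lit 5,nat_lit 4,nat_lit 1],[nat_lit 5],[nat_lit 6,nat_lit 4,nat_lit 3],[nat_lit 5,nat_lit 1,nat_lit 0]],[[nat_lit 0],[nat_lit 5,nat_lit 1],[nat_lit 2,nat_lit 1,nat_lit 0],[nat_lit 4,nat_lit 2,nat_lit 1],[nat_lit 3,nat_lit 2,nat_lit 1,nat_lit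 0],[nat_lit 5,nat_lit 0],[nat_lit 7,nat_lit 5,nat_lit 4,nat_lit 3,nat_lit 1,nat_lit 0],[nat_lit 6],[nat_lit 7,nat_lit 6,nat_lit 5,nat_lit 4,nat_lit 3,nat_lit 2,nat_lit 1]]],[nat_lit 1],[nat_lit 10],[],[⟨[nat_lit 1,nat_lit 2,nat_lit 4,nat_lit 8,nat_lit 16,nat_lit 32],[nat_lit 1,nat_lit 6,nat_lit 2,nat_lit 8,nat_lit 16,nat_lit 32],[]⟩,⟨[nat_lit 1,nat_lit 2,nat_lit 4,nat_lit 8,nat_lit 16,nat_lit 32],[nat_lit 1,nat_lit 4,nat_lit 38,nat_lit 20,nat_lit 12,nat_lit 32],[]⟩,⟨[nat_lit 1,nat_lit 69,nat_lit 11,nat_lit 16],[nat_lit 69,nat_lit 68,nat_lit 11,nat_lit 16],[nat_lit 0,nat_lit 1,nat_lit 69,nat_lit 68,nat_lit 11,nat_lit 10,nat_lit 78,nat_lit 79,nat_lit 16,nat_lit 17,nat_lit 85,nat_lit 84,nat_lit 27,nat_lit 26,nat_lit 94,nat_lit 95]⟩],nat_lit 0x4ce3218⟩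
noncomputable def h183 : Hdr :=
  ⟨(nat_lit 6),(nat_lit 8),[[[]],[[nat_lit 0],[nat_lit 0]],[[nat_lit 0],[nat_lit 1,nat_lit 0],[nat_lit 0]],[[nat_lit 0],[nat_lit 1],[nat_lit 2],[nat_lit 0]],[[nat_lit 0],[nat_lit 1],[nat_lit 2],[nat_lit 3],[]],[[nat_lit 0],[nat_lit 1],[nat_lit 2],[nat_lit 3,nat_lit 0],[nat_lit 4,nat_lit 0],[]],[[nat_lit 0],[nat_lit 1],[nat_lit 2,nat_lit 1,nat_lit 0],[nat_lit 3,nat_lit 0],[nat_lit 4],[nat_lit 5],[nat_lit 1]],[[nat_lit 0],[nat_lit 1],[nat_lit 5,nat_lit 2,nat_lit 1],[nat_lit 5,nat_lit 3,nat_lit 1,nat_lit 0],[nat_lit 5,nat_lit 4,nat_lit 1],[nat_lit 5],[nat_lit 6,nat_lit 4,nat_lit 3],[nat_lit 5,nat_lit 1,nat_lit 0]]],[nat_lit 1],[nat_lit 10],[],[⟨[nat_lit 1,nat_lit 2,nat_lit 4,nat_lit 8,nat_lit 16,nat_lit 32],[nat_lit 1,nat_lit 6,nat_lit 2,nat_lit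 8,nat_lit 16,nat_lit 32],[]⟩,⟨[nat_lit 1,nat_lit 2,nat_lit 4,nat_lit 8,nat_lit 16,nat_lit 32],[nat_lit 1,nat_lit 4,nat_lit 38,nat_lit 20,nat_lit 12,nat_lit 32],[]⟩,⟨[nat_lit 1,nat_lit 69,nat_lit 11,nat_lit 16],[nat_lit 69,nat_lit 68,nat_lit 11,nat_lit 16],[nat_lit 0,nat_lit 1,nat_lit 69,nat_lit 68,nat_lit 11,nat_lit 10,nat_lit 78,nat_lit 79,nat_lit 16,nat_lit 17,nat_lit 85,nat_lit 84,nat_lit 27,nat_lit 26,nat_lit 94,nat_lit 95]⟩],nat_lit 0x4ce3218⟩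
noncomputable def h184 : Hdr :=
  ⟨(nat_lit 6),(nat_lit 8),[[[]],[[nat_lit 0],[nat_lit 0]],[[nat_lit 0],[nat_lit 1,nat_lit 0],[nat_lit 0]],[[nat_lit 0],[nat_lit 1],[nat_lit 2],[nat_lit 0]],[[nat_lit 0],[nat_lit 1],[nat_lit 2],[nat_lit 3],[]],[[nat_lit 0],[nat_lit 1],[nat_lit 2],[nat_lit 3,nat_lit 0],[nat_lit 4,nat_lit 0],[]],[[nat_lit 0],[nat_lit 1],[nat_lit 2,nat_lit 1,nat_lit 0],[nat_lit 3,nat_lit 0],[nat_lit 4],[nat_lit 5],[nat_lit 1]],[[nat_lit 0],[nat_lit 1],[nat_lit 2],[nat_lit 5,nat_lit 4],[nat_lit 5,nat_lit 3],[nat_lit 5],[nat_lit 6,nat_lit 5],[]]],[nat_lit 1],[nat_lit 10],[],[⟨[nat_lit 1,nat_lit 2,nat_lit 4,nat_lit 8,nat_lit 16,nat_lit 32],[nat_lit 1,nat_lit 6,nat_lit 2,nat_lit 8,nat_lit 16,nat_lit 32],[]⟩,⟨[nat_lit 1,nat_lit 2,nat_lit 4,nat_lit 8,nat_lit 16,nat_lit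 32],[nat_lit 1,nat_lit 4,nat_lit 38,nat_lit 20,nat_lit 12,nat_lit 32],[]⟩,⟨[nat_lit 1,nat_lit 69,nat_lit 11,nat_lit 16],[nat_lit 69,nat_lit 68,nat_lit 11,nat_lit 16],[nat_lit 0,nat_lit 1,nat_lit 69,nat_lit 68,nat_lit 11,nat_lit 10,nat_lit 78,nat_lit 79,nat_lit 16,nat_lit 17,nat_lit 85,nat_lit 84,nat_lit 27,nat_lit 26,nat_lit 94,nat_lit 95]⟩],nat_lit 0x4ce3218⟩
noncomputable def h185 : Hdr :=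
  ⟨(nat_lit 6),(nat_lit 8),[[[]],[[nat_lit 0],[nat_lit 0]],[[nat_lit 0],[nat_lit 1,nat_lit 0],[nat_lit 0]],[[nat_lit 0],[nat_lit 1],[nat_lit 2],[nat_lit 0]],[[nat_lit 0],[nat_lit 1],[nat_lit 2],[nat_lit 3],[]],[[nat_lit 0],[nat_lit 1],[nat_lit 2],[nat_lit 3,nat_lit 0],[nat_lit 4,nat_lit 0],[]],[[nat_lit 0],[nat_lit 1],[nat_lit 2,nat_lit 1,nat_lit 0],[nat_lit 3,nat_lit 0],[nat_lit 4],[nat_lit 5],[nat_lit 1]],[[nat_lit 0],[nat_lit 1],[nat_lit 2],[nat_lit 5,nat_lit 4],[nat_lit 5,nat_lit 3],[nat_lit 5],[nat_lit 6,nat_lit 5],[nat_lit 0]]],[nat_lit 1],[nat_lit 10],[],[⟨[nat_lit 1,nat_lit 2,nat_lit 4,nat_lit 8,nat_lit 16,nat_lit 32],[nat_lit 1,nat_lit 6,nat_lit 2,nat_lit 8,nat_lit 16,nat_lit 32],[]⟩,⟨[nat_lit 1,nat_lit 2,nat_lit 4,nat_lit 8,nat_lit 16,nat_lit 32],[nat_lit 1,nat_lit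 4,nat_lit 38,nat_lit 20,nat_lit 12,nat_lit 32],[]⟩,⟨[nat_lit 1,nat_lit 69,nat_lit 11,nat_lit 16],[nat_lit 69,nat_lit 68,nat_lit 11,nat_lit 16],[nat_lit 0,nat_lit 1,nat_lit 69,nat_lit 68,nat_lit 11,nat_lit 10,nat_lit 78,nat_lit 79,nat_lit 16,nat_lit 17,nat_lit 85,nat_lit 84,nat_lit 27,nat_lit 26,nat_lit 94,nat_lit 95]⟩],nat_lit 0x4ce3218⟩
noncomputable def h186 : Hdr :=
  ⟨(nat_lit 6),(nat_lit 8),[[[]],[[nat_lit 0],[nat_lit 0]],[[nat_lit 0],[nat_lit 1,nat_lit 0],[nat_lit 0]],[[nat_lit 0],[nat_lit 1],[nat_lit 2],[nat_lit 0]],[[nat_lit 0],[nat_lit 1],[nat_lit 2],[nat_lit 3],[]],[[nat_lit 0],[nat_lit 1],[nat_lit 2],[nat_lit 3,nat_lit 0],[nat_lit 4,nat_lit 0],[]],[[nat_lit 0],[nat_lit 1],[nat_lit 2,nat_lit 1,nat_lit 0],[nat_lit 3,nat_lit 0],[nat_lit 4],[nat_lit 5],[nat_lit 1]],[[nat_lit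 0],[nat_lit 1],[nat_lit 2,nat_lit 1],[nat_lit 5,nat_lit 4],[nat_lit 5,nat_lit 3,nat_lit 0],[nat_lit 5],[nat_lit 6,nat_lit 5,nat_lit 4,nat_lit 3],[nat_lit 5,nat_lit 4,nat_lit 3,nat_lit 1,nat_lit 0]]],[nat_lit 1],[nat_lit 10],[],[⟨[nat_lit 1,nat_lit 2,nat_lit 4,nat_lit 8,nat_lit 16,nat_lit 32],[nat_lit 1,nat_lit 6,nat_lit 2,nat_lit 8,nat_lit 16,nat_lit 32],[]⟩,⟨[nat_lit 1,nat_lit 2,nat_lit 4,nat_lit 8,nat_lit 16,nat_lit 32],[nat_lit 1,nat_lit 4,nat_lit 38,nat_lit 20,nat_lit 12,nat_lit 32],[]⟩,⟨[nat_lit 1,nat_lit 69,nat_lit 11,nat_lit 16],[nat_lit 69,nat_lit 68,nat_lit 11,nat_lit 16],[nat_lit 0,nat_lit 1,nat_lit 69,nat_lit 68,nat_lit 11,nat_lit 10,nat_lit 78,nat_lit 79,nat_lit 16,nat_lit 17,nat_lit 85,nat_lit 84,nat_lit 27,nat_lit 26,nat_lit 94,nat_lit 95]⟩],nat_lit 0x4ce3218⟩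
noncomputable def h187 : Hdr :=
  ⟨(nat_lit 6),(nat_lit 8),[[[]],[[nat_lit 0],[nat_lit 0]],[[nat_lit 0],[nat_lit 1,nat_lit 0],[nat_lit 0]],[[nat_lit 0],[nat_lit 1],[nat_lit 2],[nat_lit 0]],[[nat_lit 0],[nat_lit 1],[nat_lit 2],[nat_lit 3],[]],[[nat_lit 0],[nat_lit 1],[nat_lit 2],[nat_lit 3,nat_lit 0],[nat_lit 4,nat_lit 0],[]],[[nat_lit 0],[nat_lit 1],[nat_lit 2,nat_lit 1,nat_lit 0],[nat_lit 3,nat_lit 0],[nat_lit 4],[nat_lit 5],[nat_lit 1]],[[nat_lit 0],[nat_lit 1],[nat_lit 2,nat_lit 1],[nat_lit 5,nat_lit 4],[nat_lit 5,nat_lit 3,nat_lit 0],[nat_lit 5],[nat_lit 6,nat_lit 5,nat_lit 4,nat_lit 3],[nat_lit 5,nat_lit 4,nat_lit 3,nat_lit 1]]],[nat_lit 1],[nat_lit 10],[],[⟨[nat_lit 1,nat_lit 2,nat_lit 4,nat_lit 8,nat_lit 16,nat_lit 32],[nat_lit 1,nat_lit 6,nat_lit 2,nat_lit 8,nat_lit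 16,nat_lit 32],[]⟩,⟨[nat_lit 1,nat_lit 2,nat_lit 4,nat_lit 8,nat_lit 16,nat_lit 32],[nat_lit 1,nat_lit 4,nat_lit 38,nat_lit 20,nat_lit 12,nat_lit 32],[]⟩,⟨[nat_lit 1,nat_lit 69,nat_lit 11,nat_lit 16],[nat_lit 69,nat_lit 68,nat_lit 11,nat_lit 16],[nat_lit 0,nat_lit 1,nat_lit 69,nat_lit 68,nat_lit 11,nat_lit 10,nat_lit 78,nat_lit 79,nat_lit 16,nat_lit 17,nat_lit 85,nat_lit 84,nat_lit 27,nat_lit 26,nat_lit 94,nat_lit 95]⟩],nat_lit 0x4ce3218⟩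
noncomputable def h188 : Hdr :=
  ⟨(nat_lit 6),(nat_lit 7),[[[]],[[nat_lit 0],[nat_lit 0]],[[nat_lit 0],[nat_lit 1,nat_lit 0],[nat_lit 0]],[[nat_lit 0],[nat_lit 1],[nat_lit 2],[nat_lit 0]],[[nat_lit 0],[nat_lit 1],[nat_lit 2],[nat_lit 3],[]],[[nat_lit 0],[nat_lit 1],[nat_lit 2],[nat_lit 3,nat_lit 0],[nat_lit 4,nat_lit 0],[]],[[nat_lit 0],[nat_lit 1],[nat_lit 2,nat_lit 1,nat_lit 0],[nat_lit 3,nat_lit 0],[nat_lit 4],[nat_lit 5],[nat_lit 1]]],[nat_lit 1],[nat_lit 10],[],[⟨[nat_lit 1,nat_lit 2,nat_lit 4,nat_lit 8,nat_lit 16,nat_lit 32],[nat_lit 1,nat_lit 6,nat_lit 2,nat_lit 8,nat_lit 16,nat_lit 32],[]⟩,⟨[nat_lit 1,nat_lit 2,nat_lit 4,nat_lit 8,nat_lit 16,nat_lit 32],[nat_lit 1,nat_lit 4,nat_lit 38,nat_lit 20,nat_lit 12,nat_lit 32],[]⟩,⟨[nat_lit 1,nat_lit 69,nat_lit 11,nat_lit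 16],[nat_lit 69,nat_lit 68,nat_lit 11,nat_lit 16],[nat_lit 0,nat_lit 1,nat_lit 69,nat_lit 68,nat_lit 11,nat_lit 10,nat_lit 78,nat_lit 79,nat_lit 16,nat_lit 17,nat_lit 85,nat_lit 84,nat_lit 27,nat_lit 26,nat_lit 94,nat_lit 95]⟩],nat_lit 0x4ce3218⟩
noncomputable def h189 : Hdr :=
  ⟨(nat_lit 6),(nat_lit 10),[[[]],[[nat_lit 0],[nat_lit 0]],[[nat_lit 0],[nat_lit 1,nat_lit 0],[nat_lit 0]],[[nat_lit 0],[nat_lit 1],[nat_lit 2],[nat_lit 0]],[[nat_lit 0],[nat_lit 1],[nat_lit 2],[nat_lit 3],[]],[[nat_lit 0],[nat_lit 1],[nat_lit 2],[nat_lit 3,nat_lit 0],[nat_lit 4,nat_lit 0],[]],[[nat_lit 0],[nat_lit 1],[nat_lit 2,nat_lit 1,nat_lit 0],[nat_lit 3,nat_lit 0],[nat_lit 4],[nat_lit 5],[nat_lit 1]],[[nat_lit 0],[nat_lit 1],[nat_lit 2],[nat_lit 5,nat_lit 4,nat_lit 3],[nat_lit 5,nat_lit 0],[nat_lit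 4],[nat_lit 6],[nat_lit 5,nat_lit 4]],[[nat_lit 0],[nat_lit 1],[nat_lit 5,nat_lit 3,nat_lit 2,nat_lit 1],[nat_lit 4,nat_lit 1,nat_lit 0],[nat_lit 3,nat_lit 1],[nat_lit 5,nat_lit 4,nat_lit 3,nat_lit 1,nat_lit 0],[nat_lit 6,nat_lit 5,nat_lit 3,nat_lit 1],[nat_lit 7,nat_lit 4,nat_lit 3,nat_lit 1,nat_lit 0],[]],[[nat_lit 0],[nat_lit 5,nat_lit 3,nat_lit 1,nat_lit 0],[nat_lit 2,nat_lit 1,nat_lit 0],[nat_lit 5,nat_lit 2,nat_lit 1],[nat_lit 5,nat_lit 4,nat_lit 3,nat_lit 2,nat_lit 1],[nat_lit 3,nat_lit 2,nat_lit 1],[nat_lit 8,nat_lit 7,nat_lit 3,nat_lit 2],[nat_lit 7,nat_lit 4,nat_lit 3,nat_lit 2,nat_lit 1],[nat_lit 7,nat_lit 6,nat_lit 4,nat_lit 2],[nat_lit 8,nat_lit 7,nat_lit 6,nat_lit 3,nat_lit 1,nat_lit 0]]],[nat_lit 1],[nat_lit 10,nat_lit 76],[],[],nat_lit 0x4ce3218⟩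
noncomputable def h190 : Hdr :=
  ⟨(nat_lit 6),(nat_lit 10),[[[]],[[nat_lit 0],[nat_lit 0]],[[nat_lit 0],[nat_lit 1,nat_lit 0],[nat_lit 0]],[[nat_lit 0],[nat_lit 1],[nat_lit 2],[nat_lit 0]],[[nat_lit 0],[nat_lit 1],[nat_lit 2],[nat_lit 3],[]],[[nat_lit 0],[nat_lit 1],[nat_lit 2],[nat_lit 3,nat_lit 0],[nat_lit 4,nat_lit 0],[]],[[nat_lit 0],[nat_lit 1],[nat_lit 2,nat_lit 1,nat_lit 0],[nat_lit 3,nat_lit 0],[nat_lit 4],[nat_lit 5],[nat_lit 1]],[[nat_lit 0],[nat_lit 1],[nat_lit 2],[nat_lit 5,nat_lit 4,nat_lit 3],[nat_lit 5,nat_lit 0],[nat_lit 4],[nat_lit 6],[nat_lit 5,nat_lit 4]],[[nat_lit 0],[nat_lit 1],[nat_lit 5,nat_lit 3,nat_lit 2,nat_lit 1],[nat_lit 4,nat_lit 1,nat_lit 0],[nat_lit 3,nat_lit 1],[nat_lit 5,nat_lit 4,nat_lit 3,nat_lit 1,nat_lit 0],[nat_lit 6,nat_lit 5,nat_lit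 3,nat_lit 1],[nat_lit 7,nat_lit 4,nat_lit 3,nat_lit 1,nat_lit 0],[]],[[nat_lit 0],[nat_lit 5,nat_lit 3,nat_lit 1,nat_lit 0],[nat_lit 2,nat_lit 1,nat_lit 0],[nat_lit 5,nat_lit 2,nat_lit 1],[nat_lit 5,nat_lit 4,nat_lit 3,nat_lit 2,nat_lit 1],[nat_lit 3,nat_lit 2,nat_lit 1],[nat_lit 8,nat_lit 7,nat_lit 3,nat_lit 2],[nat_lit 7,nat_lit 4,nat_lit 3,nat_lit 2,nat_lit 1],[nat_lit 7,nat_lit 6,nat_lit 4,nat_lit 2],[nat_lit 8,nat_lit 7,nat_lit 6,nat_lit 3,nat_lit 1,nat_lit 0]]],[nat_lit 1],[nat_lit 10],[],[⟨[nat_lit 1,nat_lit 2,nat_lit 4,nat_lit 8,nat_lit 16,nat_lit 32],[nat_lit 1,nat_lit 6,nat_lit 2,nat_lit 8,nat_lit 16,nat_lit 32],[]⟩,⟨[nat_lit 1,nat_lit 2,nat_lit 4,nat_lit 8,nat_lit 16,nat_lit 32],[nat_lit 1,nat_lit 4,nat_lit 46,nat_lit 20,nat_lit 12,nat_lit 60],[]⟩,⟨[nat_lit 1,nat_lit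 69,nat_lit 11,nat_lit 16],[nat_lit 69,nat_lit 68,nat_lit 11,nat_lit 16],[nat_lit 0,nat_lit 1,nat_lit 69,nat_lit 68,nat_lit 11,nat_lit 10,nat_lit 78,nat_lit 79,nat_lit 16,nat_lit 17,nat_lit 85,nat_lit 84,nat_lit 27,nat_lit 26,nat_lit 94,nat_lit 95]⟩],nat_lit 0x4ce3218⟩
noncomputable def h191 : Hdr :=
  ⟨(nat_lit 6),(nat_lit 10),[[[]],[[nat_lit 0],[nat_lit 0]],[[nat_lit 0],[nat_lit 1,nat_lit 0],[nat_lit 0]],[[nat_lit 0],[nat_lit 1],[nat_lit 2],[nat_lit 0]],[[nat_lit 0],[nat_lit 1],[nat_lit 2],[nat_lit 3],[]],[[nat_lit 0],[nat_lit 1],[nat_lit 2],[nat_lit 3,nat_lit 0],[nat_lit 4,nat_lit 0],[]],[[nat_lit 0],[nat_lit 1],[nat_lit 2,nat_lit 1,nat_lit 0],[nat_lit 3,nat_lit 0],[nat_lit 4],[nat_lit 5],[nat_lit 1]],[[nat_lit 0],[nat_lit 1],[nat_lit 2],[nat_lit 5,nat_lit 4,nat_lit 3],[nat_lit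 5,nat_lit 0],[nat_lit 4],[nat_lit 6],[nat_lit 5,nat_lit 4]],[[nat_lit 0],[nat_lit 1],[nat_lit 5,nat_lit 3,nat_lit 2,nat_lit 1],[nat_lit 4,nat_lit 1,nat_lit 0],[nat_lit 3,nat_lit 1],[nat_lit 5,nat_lit 4,nat_lit 3,nat_lit 1,nat_lit 0],[nat_lit 6,nat_lit 5,nat_lit 3,nat_lit 1],[nat_lit 7,nat_lit 4,nat_lit 3,nat_lit 1,nat_lit 0],[]],[[nat_lit 0],[nat_lit 5,nat_lit 3,nat_lit 1,nat_lit 0],[nat_lit 2,nat_lit 1,nat_lit 0],[nat_lit 5,nat_lit 2,nat_lit 1],[nat_lit 5,nat_lit 4,nat_lit 3,nat_lit 2,nat_lit 1],[nat_lit 3,nat_lit 2,nat_lit 1],[nat_lit 8,nat_lit 7,nat_lit 3,nat_lit 2],[nat_lit 7,nat_lit 4,nat_lit 3,nat_lit 2,nat_lit 1],[nat_lit 7,nat_lit 6,nat_lit 4,nat_lit 2],[nat_lit 8,nat_lit 7,nat_lit 6,nat_lit 3,nat_lit 1]]],[nat_lit 1],[nat_lit 10],[],[⟨[nat_lit 1,nat_lit 2,nat_lit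 4,nat_lit 8,nat_lit 16,nat_lit 32],[nat_lit 1,nat_lit 6,nat_lit 2,nat_lit 8,nat_lit 16,nat_lit 32],[]⟩,⟨[nat_lit 1,nat_lit 2,nat_lit 4,nat_lit 8,nat_lit 16,nat_lit 32],[nat_lit 1,nat_lit 4,nat_lit 46,nat_lit 20,nat_lit 12,nat_lit 60],[]⟩,⟨[nat_lit 1,nat_lit 69,nat_lit 11,nat_lit 16],[nat_lit 69,nat_lit 68,nat_lit 11,nat_lit 16],[nat_lit 0,nat_lit 1,nat_lit 69,nat_lit 68,nat_lit 11,nat_lit 10,nat_lit 78,nat_lit 79,nat_lit 16,nat_lit 17,nat_lit 85,nat_lit 84,nat_lit 27,nat_lit 26,nat_lit 94,nat_lit 95]⟩],nat_lit 0x4ce3218⟩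
noncomputable def h192 : Hdr :=
  ⟨(nat_lit 6),(nat_lit 10),[[[]],[[nat_lit 0],[nat_lit 0]],[[nat_lit 0],[nat_lit 1,nat_lit 0],[nat_lit 0]],[[nat_lit 0],[nat_lit 1],[nat_lit 2],[nat_lit 0]],[[nat_lit 0],[nat_lit 1],[nat_lit 2],[nat_lit 3],[]],[[nat_lit 0],[nat_lit 1],[nat_lit 2],[nat_lit 3,nat_lit 0],[nat_lit 4,nat_lit 0],[]],[[nat_lit 0],[nat_lit 1],[nat_lit 2,nat_lit 1,nat_lit 0],[nat_lit 3,nat_lit 0],[nat_lit 4],[nat_lit 5],[nat_lit 1]],[[nat_lit 0],[nat_lit 1],[nat_lit 2],[nat_lit 5,nat_lit 4,nat_lit 3],[nat_lit 5,nat_lit 0],[nat_lit 4],[nat_lit 6],[nat_lit 5,nat_lit 4]],[[nat_lit 0],[nat_lit 1],[nat_lit 5,nat_lit 3,nat_lit 2,nat_lit 1],[nat_lit 4,nat_lit 1,nat_lit 0],[nat_lit 3,nat_lit 1],[nat_lit 5,nat_lit 4,nat_lit 3,nat_lit 1,nat_lit 0],[nat_lit 6,nat_lit 5,nat_lit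 3,nat_lit 1],[nat_lit 7,nat_lit 4,nat_lit 3,nat_lit 1,nat_lit 0],[]],[[nat_lit 0],[nat_lit 5,nat_lit 3,nat_lit 1,nat_lit 0],[nat_lit 5,nat_lit 3,nat_lit 2],[nat_lit 5,nat_lit 2,nat_lit 1],[nat_lit 5,nat_lit 4,nat_lit 3,nat_lit 2,nat_lit 1,nat_lit 0],[nat_lit 3,nat_lit 2,nat_lit 1],[nat_lit 8,nat_lit 7,nat_lit 4,nat_lit 2,nat_lit 0],[nat_lit 7,nat_lit 5,nat_lit 4,nat_lit 2,nat_lit 1,nat_lit 0],[nat_lit 7,nat_lit 6,nat_lit 5,nat_lit 2,nat_lit 0],[nat_lit 4,nat_lit 3]]],[nat_lit 1],[nat_lit 10],[],[⟨[nat_lit 1,nat_lit 2,nat_lit 4,nat_lit 8,nat_lit 16,nat_lit 32],[nat_lit 1,nat_lit 6,nat_lit 2,nat_lit 8,nat_lit 16,nat_lit 32],[]⟩,⟨[nat_lit 1,nat_lit 2,nat_lit 4,nat_lit 8,nat_lit 16,nat_lit 32],[nat_lit 1,nat_lit 4,nat_lit 46,nat_lit 20,nat_lit 12,nat_lit 60],[]⟩,⟨[nat_lit 1,nat_lit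 69,nat_lit 11,nat_lit 16],[nat_lit 69,nat_lit 68,nat_lit 11,nat_lit 16],[nat_lit 0,nat_lit 1,nat_lit 69,nat_lit 68,nat_lit 11,nat_lit 10,nat_lit 78,nat_lit 79,nat_lit 16,nat_lit 17,nat_lit 85,nat_lit 84,nat_lit 27,nat_lit 26,nat_lit 94,nat_lit 95]⟩],nat_lit 0x4ce3218⟩
noncomputable def h193 : Hdr :=
  ⟨(nat_lit 6),(nat_lit 10),[[[]],[[nat_lit 0],[nat_lit 0]],[[nat_lit 0],[nat_lit 1,nat_lit 0],[nat_lit 0]],[[nat_lit 0],[nat_lit 1],[nat_lit 2],[nat_lit 0]],[[nat_lit 0],[nat_lit 1],[nat_lit 2],[nat_lit 3],[]],[[nat_lit 0],[nat_lit 1],[nat_lit 2],[nat_lit 3,nat_lit 0],[nat_lit 4,nat_lit 0],[]],[[nat_lit 0],[nat_lit 1],[nat_lit 2,nat_lit 1,nat_lit 0],[nat_lit 3,nat_lit 0],[nat_lit 4],[nat_lit 5],[nat_lit 1]],[[nat_lit 0],[nat_lit 1],[nat_lit 2],[nat_lit 5,nat_lit 4,nat_lit 3],[nat_lit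 5,nat_lit 0],[nat_lit 4],[nat_lit 6],[nat_lit 5,nat_lit 4]],[[nat_lit 0],[nat_lit 1],[nat_lit 5,nat_lit 3,nat_lit 2,nat_lit 1],[nat_lit 4,nat_lit 1,nat_lit 0],[nat_lit 3,nat_lit 1],[nat_lit 5,nat_lit 4,nat_lit 3,nat_lit 1,nat_lit 0],[nat_lit 6,nat_lit 5,nat_lit 3,nat_lit 1],[nat_lit 7,nat_lit 4,nat_lit 3,nat_lit 1,nat_lit 0],[]],[[nat_lit 0],[nat_lit 5,nat_lit 3,nat_lit 1,nat_lit 0],[nat_lit 5,nat_lit 3,nat_lit 2],[nat_lit 5,nat_lit 2,nat_lit 1],[nat_lit 5,nat_lit 4,nat_lit 3,nat_lit 2,nat_lit 1,nat_lit 0],[nat_lit 3,nat_lit 2,nat_lit 1],[nat_lit 8,nat_lit 7,nat_lit 4,nat_lit 2,nat_lit 0],[nat_lit 7,nat_lit 5,nat_lit 4,nat_lit 2,nat_lit 1,nat_lit 0],[nat_lit 7,nat_lit 6,nat_lit 5,nat_lit 2,nat_lit 0],[nat_lit 4,nat_lit 3,nat_lit 0]]],[nat_lit 1],[nat_lit 10],[],[⟨[nat_lit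 1,nat_lit 2,nat_lit 4,nat_lit 8,nat_lit 16,nat_lit 32],[nat_lit 1,nat_lit 6,nat_lit 2,nat_lit 8,nat_lit 16,nat_lit 32],[]⟩,⟨[nat_lit 1,nat_lit 2,nat_lit 4,nat_lit 8,nat_lit 16,nat_lit 32],[nat_lit 1,nat_lit 4,nat_lit 46,nat_lit 20,nat_lit 12,nat_lit 60],[]⟩,⟨[nat_lit 1,nat_lit 69,nat_lit 11,nat_lit 16],[nat_lit 69,nat_lit 68,nat_lit 11,nat_lit 16],[nat_lit 0,nat_lit 1,nat_lit 69,nat_lit 68,nat_lit 11,nat_lit 10,nat_lit 78,nat_lit 79,nat_lit 16,nat_lit 17,nat_lit 85,nat_lit 84,nat_lit 27,nat_lit 26,nat_lit 94,nat_lit 95]⟩],nat_lit 0x4ce3218⟩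
noncomputable def h194 : Hdr :=
  ⟨(nat_lit 6),(nat_lit 9),[[[]],[[nat_lit 0],[nat_lit 0]],[[nat_lit 0],[nat_lit 1,nat_lit 0],[nat_lit 0]],[[nat_lit 0],[nat_lit 1],[nat_lit 2],[nat_lit 0]],[[nat_lit 0],[nat_lit 1],[nat_lit 2],[nat_lit 3],[]],[[nat_lit 0],[nat_lit 1],[nat_lit 2],[nat_lit 3,nat_lit 0],[nat_lit 4,nat_lit 0],[]],[[nat_lit 0],[nat_lit 1],[nat_lit 2,nat_lit 1,nat_lit 0],[nat_lit 3,nat_lit 0],[nat_lit 4],[nat_lit 5],[nat_lit 1]],[[nat_lit 0],[nat_lit 1],[nat_lit 2],[nat_lit 5,nat_lit 4,nat_lit 3],[nat_lit 5,nat_lit 0],[nat_lit 4],[nat_lit 6],[nat_lit 5,nat_lit 4]],[[nat_lit 0],[nat_lit 1],[nat_lit 5,nat_lit 3,nat_lit 2,nat_lit 1],[nat_lit 4,nat_lit 1,nat_lit 0],[nat_lit 3,nat_lit 1],[nat_lit 5,nat_lit 4,nat_lit 3,nat_lit 1,nat_lit 0],[nat_lit 6,nat_lit 5,nat_lit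 3,nat_lit 1],[nat_lit 7,nat_lit 4,nat_lit 3,nat_lit 1,nat_lit 0],[]]],[nat_lit 1],[nat_lit 10],[],[⟨[nat_lit 1,nat_lit 2,nat_lit 4,nat_lit 8,nat_lit 16,nat_lit 32],[nat_lit 1,nat_lit 6,nat_lit 2,nat_lit 8,nat_lit 16,nat_lit 32],[]⟩,⟨[nat_lit 1,nat_lit 2,nat_lit 4,nat_lit 8,nat_lit 16,nat_lit 32],[nat_lit 1,nat_lit 4,nat_lit 46,nat_lit 20,nat_lit 12,nat_lit 60],[]⟩,⟨[nat_lit 1,nat_lit 69,nat_lit 11,nat_lit 16],[nat_lit 69,nat_lit 68,nat_lit 11,nat_lit 16],[nat_lit 0,nat_lit 1,nat_lit 69,nat_lit 68,nat_lit 11,nat_lit 10,nat_lit 78,nat_lit 79,nat_lit 16,nat_lit 17,nat_lit 85,nat_lit 84,nat_lit 27,nat_lit 26,nat_lit 94,nat_lit 95]⟩],nat_lit 0x4ce3218⟩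
noncomputable def h195 : Hdr :=
  ⟨(nat_lit 6),(nat_lit 10),[[[]],[[nat_lit 0],[nat_lit 0]],[[nat_lit 0],[nat_lit 1,nat_lit 0],[nat_lit 0]],[[nat_lit 0],[nat_lit 1],[nat_lit 2],[nat_lit 0]],[[nat_lit 0],[nat_lit 1],[nat_lit 2],[nat_lit 3],[]],[[nat_lit 0],[nat_lit 1],[nat_lit 2],[nat_lit 3,nat_lit 0],[nat_lit 4,nat_lit 0],[]],[[nat_lit 0],[nat_lit 1],[nat_lit 2,nat_lit 1,nat_lit 0],[nat_lit 3,nat_lit 0],[nat_lit 4],[nat_lit 5],[nat_lit 1]],[[nat_lit 0],[nat_lit 1],[nat_lit 2],[nat_lit 5,nat_lit 4,nat_lit 3],[nat_lit 5,nat_lit 0],[nat_lit 4],[nat_lit 6],[nat_lit 5,nat_lit 4,nat_lit 0]],[[nat_lit 0],[nat_lit 1],[nat_lit 5,nat_lit 3,nat_lit 2,nat_lit 1],[nat_lit 4,nat_lit 1,nat_lit 0],[nat_lit 3,nat_lit 1],[nat_lit 5,nat_lit 4,nat_lit 3,nat_lit 1,nat_lit 0],[nat_lit 6,nat_lit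 5,nat_lit 3,nat_lit 1],[nat_lit 7,nat_lit 4,nat_lit 3,nat_lit 1],[]],[[nat_lit 0],[nat_lit 5,nat_lit 3,nat_lit 1,nat_lit 0],[nat_lit 2,nat_lit 1,nat_lit 0],[nat_lit 5,nat_lit 2,nat_lit 1],[nat_lit 5,nat_lit 4,nat_lit 3,nat_lit 2,nat_lit 1],[nat_lit 3,nat_lit 2,nat_lit 1],[nat_lit 8,nat_lit 7,nat_lit 3,nat_lit 2],[nat_lit 7,nat_lit 2,nat_lit 1],[nat_lit 7,nat_lit 6,nat_lit 3,nat_lit 2,nat_lit 0],[nat_lit 8,nat_lit 7,nat_lit 6,nat_lit 4,nat_lit 1]]],[nat_lit 1],[nat_lit 10],[],[⟨[nat_lit 1,nat_lit 2,nat_lit 4,nat_lit 8,nat_lit 16,nat_lit 32],[nat_lit 1,nat_lit 6,nat_lit 2,nat_lit 8,nat_lit 16,nat_lit 32],[]⟩,⟨[nat_lit 1,nat_lit 2,nat_lit 4,nat_lit 8,nat_lit 16,nat_lit 32],[nat_lit 1,nat_lit 4,nat_lit 46,nat_lit 20,nat_lit 12,nat_lit 60],[]⟩,⟨[nat_lit 1,nat_lit 69,nat_lit 11,nat_lit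 16],[nat_lit 69,nat_lit 68,nat_lit 11,nat_lit 16],[nat_lit 0,nat_lit 1,nat_lit 69,nat_lit 68,nat_lit 11,nat_lit 10,nat_lit 78,nat_lit 79,nat_lit 16,nat_lit 17,nat_lit 85,nat_lit 84,nat_lit 27,nat_lit 26,nat_lit 94,nat_lit 95]⟩],nat_lit 0x4ce3218⟩
noncomputable def h196 : Hdr :=
  ⟨(nat_lit 6),(nat_lit 10),[[[]],[[nat_lit 0],[nat_lit 0]],[[nat_lit 0],[nat_lit 1,nat_lit 0],[nat_lit 0]],[[nat_lit 0],[nat_lit 1],[nat_lit 2],[nat_lit 0]],[[nat_lit 0],[nat_lit 1],[nat_lit 2],[nat_lit 3],[]],[[nat_lit 0],[nat_lit 1],[nat_lit 2],[nat_lit 3,nat_lit 0],[nat_lit 4,nat_lit 0],[]],[[nat_lit 0],[nat_lit 1],[nat_lit 2,nat_lit 1,nat_lit 0],[nat_lit 3,nat_lit 0],[nat_lit 4],[nat_lit 5],[nat_lit 1]],[[nat_lit 0],[nat_lit 1],[nat_lit 2],[nat_lit 5,nat_lit 4,nat_lit 3],[nat_lit 5,nat_lit 0],[nat_lit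 4],[nat_lit 6],[nat_lit 5,nat_lit 4,nat_lit 0]],[[nat_lit 0],[nat_lit 1],[nat_lit 5,nat_lit 3,nat_lit 2,nat_lit 1],[nat_lit 4,nat_lit 1,nat_lit 0],[nat_lit 3,nat_lit 1],[nat_lit 5,nat_lit 4,nat_lit 3,nat_lit 1,nat_lit 0],[nat_lit 6,nat_lit 5,nat_lit 3,nat_lit 1],[nat_lit 7,nat_lit 4,nat_lit 3,nat_lit 1],[]],[[nat_lit 0],[nat_lit 5,nat_lit 3,nat_lit 1,nat_lit 0],[nat_lit 2,nat_lit 1,nat_lit 0],[nat_lit 5,nat_lit 2,nat_lit 1],[nat_lit 5,nat_lit 4,nat_lit 3,nat_lit 2,nat_lit 1],[nat_lit 3,nat_lit 2,nat_lit 1],[nat_lit 8,nat_lit 7,nat_lit 3,nat_lit 2],[nat_lit 7,nat_lit 2,nat_lit 1],[nat_lit 7,nat_lit 6,nat_lit 3,nat_lit 2,nat_lit 0],[nat_lit 8,nat_lit 7,nat_lit 6,nat_lit 4,nat_lit 1,nat_lit 0]]],[nat_lit 1],[nat_lit 10],[],[⟨[nat_lit 1,nat_lit 2,nat_lit 4,nat_lit 8,nat_lit 16,nat_lit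 32],[nat_lit 1,nat_lit 6,nat_lit 2,nat_lit 8,nat_lit 16,nat_lit 32],[]⟩,⟨[nat_lit 1,nat_lit 2,nat_lit 4,nat_lit 8,nat_lit 16,nat_lit 32],[nat_lit 1,nat_lit 4,nat_lit 46,nat_lit 20,nat_lit 12,nat_lit 60],[]⟩,⟨[nat_lit 1,nat_lit 69,nat_lit 11,nat_lit 16],[nat_lit 69,nat_lit 68,nat_lit 11,nat_lit 16],[nat_lit 0,nat_lit 1,nat_lit 69,nat_lit 68,nat_lit 11,nat_lit 10,nat_lit 78,nat_lit 79,nat_lit 16,nat_lit 17,nat_lit 85,nat_lit 84,nat_lit 27,nat_lit 26,nat_lit 94,nat_lit 95]⟩],nat_lit 0x4ce3218⟩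
noncomputable def h197 : Hdr :=
  ⟨(nat_lit 6),(nat_lit 10),[[[]],[[nat_lit 0],[nat_lit 0]],[[nat_lit 0],[nat_lit 1,nat_lit 0],[nat_lit 0]],[[nat_lit 0],[nat_lit 1],[nat_lit 2],[nat_lit 0]],[[nat_lit 0],[nat_lit 1],[nat_lit 2],[nat_lit 3],[]],[[nat_lit 0],[nat_lit 1],[nat_lit 2],[nat_lit 3,nat_lit 0],[nat_lit 4,nat_lit 0],[]],[[nat_lit 0],[nat_lit 1],[nat_lit 2,nat_lit 1,nat_lit 0],[nat_lit 3,nat_lit 0],[nat_lit 4],[nat_lit 5],[nat_lit 1]],[[nat_lit 0],[nat_lit 1],[nat_lit 2],[nat_lit 5,nat_lit 4,nat_lit 3],[nat_lit 5,nat_lit 0],[nat_lit 4],[nat_lit 6],[nat_lit 5,nat_lit 4,nat_lit 0]],[[nat_lit 0],[nat_lit 1],[nat_lit 5,nat_lit 3,nat_lit 2,nat_lit 1],[nat_lit 4,nat_lit 1,nat_lit 0],[nat_lit 3,nat_lit 1],[nat_lit 5,nat_lit 4,nat_lit 3,nat_lit 1,nat_lit 0],[nat_lit 6,nat_lit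 5,nat_lit 3,nat_lit 1],[nat_lit 7,nat_lit 4,nat_lit 3,nat_lit 1],[]],[[nat_lit 0],[nat_lit 5,nat_lit 3,nat_lit 1,nat_lit 0],[nat_lit 5,nat_lit 3,nat_lit 2],[nat_lit 5,nat_lit 2,nat_lit 1],[nat_lit 5,nat_lit 4,nat_lit 3,nat_lit 2,nat_lit 1,nat_lit 0],[nat_lit 3,nat_lit 2,nat_lit 1],[nat_lit 8,nat_lit 7,nat_lit 4,nat_lit 2,nat_lit 0],[nat_lit 7,nat_lit 5,nat_lit 3,nat_lit 2,nat_lit 1,nat_lit 0],[nat_lit 7,nat_lit 6,nat_lit 5,nat_lit 4,nat_lit 3,nat_lit 2,nat_lit 0],[nat_lit 0]]],[nat_lit 1],[nat_lit 10],[],[⟨[nat_lit 1,nat_lit 2,nat_lit 4,nat_lit 8,nat_lit 16,nat_lit 32],[nat_lit 1,nat_lit 6,nat_lit 2,nat_lit 8,nat_lit 16,nat_lit 32],[]⟩,⟨[nat_lit 1,nat_lit 2,nat_lit 4,nat_lit 8,nat_lit 16,nat_lit 32],[nat_lit 1,nat_lit 4,nat_lit 46,nat_lit 20,nat_lit 12,nat_lit 60],[]⟩,⟨[nat_lit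 1,nat_lit 69,nat_lit 11,nat_lit 16],[nat_lit 69,nat_lit 68,nat_lit 11,nat_lit 16],[nat_lit 0,nat_lit 1,nat_lit 69,nat_lit 68,nat_lit 11,nat_lit 10,nat_lit 78,nat_lit 79,nat_lit 16,nat_lit 17,nat_lit 85,nat_lit 84,nat_lit 27,nat_lit 26,nat_lit 94,nat_lit 95]⟩],nat_lit 0x4ce3218⟩
noncomputable def h198 : Hdr :=
  ⟨(nat_lit 6),(nat_lit 10),[[[]],[[nat_lit 0],[nat_lit 0]],[[nat_lit 0],[nat_lit 1,nat_lit 0],[nat_lit 0]],[[nat_lit 0],[nat_lit 1],[nat_lit 2],[nat_lit 0]],[[nat_lit 0],[nat_lit 1],[nat_lit 2],[nat_lit 3],[]],[[nat_lit 0],[nat_lit 1],[nat_lit 2],[nat_lit 3,nat_lit 0],[nat_lit 4,nat_lit 0],[]],[[nat_lit 0],[nat_lit 1],[nat_lit 2,nat_lit 1,nat_lit 0],[nat_lit 3,nat_lit 0],[nat_lit 4],[nat_lit 5],[nat_lit 1]],[[nat_lit 0],[nat_lit 1],[nat_lit 2],[nat_lit 5,nat_lit 4,nat_lit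 3],[nat_lit 5,nat_lit 0],[nat_lit 4],[nat_lit 6],[nat_lit 5,nat_lit 4,nat_lit 0]],[[nat_lit 0],[nat_lit 1],[nat_lit 5,nat_lit 3,nat_lit 2,nat_lit 1],[nat_lit 4,nat_lit 1,nat_lit 0],[nat_lit 3,nat_lit 1],[nat_lit 5,nat_lit 4,nat_lit 3,nat_lit 1,nat_lit 0],[nat_lit 6,nat_lit 5,nat_lit 3,nat_lit 1],[nat_lit 7,nat_lit 4,nat_lit 3,nat_lit 1],[]],[[nat_lit 0],[nat_lit 5,nat_lit 3,nat_lit 1,nat_lit 0],[nat_lit 5,nat_lit 3,nat_lit 2],[nat_lit 5,nat_lit 2,nat_lit 1],[nat_lit 5,nat_lit 4,nat_lit 3,nat_lit 2,nat_lit 1,nat_lit 0],[nat_lit 3,nat_lit 2,nat_lit 1],[nat_lit 8,nat_lit 7,nat_lit 4,nat_lit 2,nat_lit 0],[nat_lit 7,nat_lit 5,nat_lit 3,nat_lit 2,nat_lit 1,nat_lit 0],[nat_lit 7,nat_lit 6,nat_lit 5,nat_lit 4,nat_lit 3,nat_lit 2,nat_lit 0],[]]],[nat_lit 1],[nat_lit 10,nat_lit 76],[],[],nat_lit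 0x4ce3218⟩
noncomputable def h199 : Hdr :=
  ⟨(nat_lit 6),(nat_lit 10),[[[]],[[nat_lit 0],[nat_lit 0]],[[nat_lit 0],[nat_lit 1,nat_lit 0],[nat_lit 0]],[[nat_lit 0],[nat_lit 1],[nat_lit 2],[nat_lit 0]],[[nat_lit 0],[nat_lit 1],[nat_lit 2],[nat_lit 3],[]],[[nat_lit 0],[nat_lit 1],[nat_lit 2],[nat_lit 3,nat_lit 0],[nat_lit 4,nat_lit 0],[]],[[nat_lit 0],[nat_lit 1],[nat_lit 2,nat_lit 1,nat_lit 0],[nat_lit 3,nat_lit 0],[nat_lit 4],[nat_lit 5],[nat_lit 1]],[[nat_lit 0],[nat_lit 1],[nat_lit 2],[nat_lit 5,nat_lit 4,nat_lit 3],[nat_lit 5,nat_lit 0],[nat_lit 4],[nat_lit 6],[nat_lit 5,nat_lit 4,nat_lit 0]],[[nat_lit 0],[nat_lit 1],[nat_lit 5,nat_lit 3,nat_lit 2,nat_lit 1],[nat_lit 4,nat_lit 1,nat_lit 0],[nat_lit 3,nat_lit 1],[nat_lit 5,nat_lit 4,nat_lit 3,nat_lit 1,nat_lit 0],[nat_lit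 6,nat_lit 5,nat_lit 3,nat_lit 1],[nat_lit 7,nat_lit 4,nat_lit 3,nat_lit 1],[]],[[nat_lit 0],[nat_lit 5,nat_lit 3,nat_lit 1,nat_lit 0],[nat_lit 5,nat_lit 3,nat_lit 2],[nat_lit 5,nat_lit 2,nat_lit 1],[nat_lit 5,nat_lit 4,nat_lit 3,nat_lit 2,nat_lit 1,nat_lit 0],[nat_lit 3,nat_lit 2,nat_lit 1],[nat_lit 8,nat_lit 7,nat_lit 4,nat_lit 2,nat_lit 0],[nat_lit 7,nat_lit 5,nat_lit 3,nat_lit 2,nat_lit 1,nat_lit 0],[nat_lit 7,nat_lit 6,nat_lit 5,nat_lit 4,nat_lit 3,nat_lit 2,nat_lit 0],[]]],[nat_lit 1],[nat_lit 10],[],[⟨[nat_lit 1,nat_lit 2,nat_lit 4,nat_lit 8,nat_lit 16,nat_lit 32],[nat_lit 1,nat_lit 6,nat_lit 2,nat_lit 8,nat_lit 16,nat_lit 32],[]⟩,⟨[nat_lit 1,nat_lit 2,nat_lit 4,nat_lit 8,nat_lit 16,nat_lit 32],[nat_lit 1,nat_lit 4,nat_lit 46,nat_lit 20,nat_lit 12,nat_lit 60],[]⟩,⟨[nat_lit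 1,nat_lit 69,nat_lit 11,nat_lit 16],[nat_lit 69,nat_lit 68,nat_lit 11,nat_lit 16],[nat_lit 0,nat_lit 1,nat_lit 69,nat_lit 68,nat_lit 11,nat_lit 10,nat_lit 78,nat_lit 79,nat_lit 16,nat_lit 17,nat_lit 85,nat_lit 84,nat_lit 27,nat_lit 26,nat_lit 94,nat_lit 95]⟩],nat_lit 0x4ce3218⟩
noncomputable def h200 : Hdr :=
  ⟨(nat_lit 6),(nat_lit 9),[[[]],[[nat_lit 0],[nat_lit 0]],[[nat_lit 0],[nat_lit 1,nat_lit 0],[nat_lit 0]],[[nat_lit 0],[nat_lit 1],[nat_lit 2],[nat_lit 0]],[[nat_lit 0],[nat_lit 1],[nat_lit 2],[nat_lit 3],[]],[[nat_lit 0],[nat_lit 1],[nat_lit 2],[nat_lit 3,nat_lit 0],[nat_lit 4,nat_lit 0],[]],[[nat_lit 0],[nat_lit 1],[nat_lit 2,nat_lit 1,nat_lit 0],[nat_lit 3,nat_lit 0],[nat_lit 4],[nat_lit 5],[nat_lit 1]],[[nat_lit 0],[nat_lit 1],[nat_lit 2],[nat_lit 5,nat_lit 4,nat_lit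 3],[nat_lit 5,nat_lit 0],[nat_lit 4],[nat_lit 6],[nat_lit 5,nat_lit 4,nat_lit 0]],[[nat_lit 0],[nat_lit 1],[nat_lit 5,nat_lit 3,nat_lit 2,nat_lit 1],[nat_lit 4,nat_lit 1,nat_lit 0],[nat_lit 3,nat_lit 1],[nat_lit 5,nat_lit 4,nat_lit 3,nat_lit 1,nat_lit 0],[nat_lit 6,nat_lit 5,nat_lit 3,nat_lit 1],[nat_lit 7,nat_lit 4,nat_lit 3,nat_lit 1],[]]],[nat_lit 1],[nat_lit 10],[],[⟨[nat_lit 1,nat_lit 2,nat_lit 4,nat_lit 8,nat_lit 16,nat_lit 32],[nat_lit 1,nat_lit 6,nat_lit 2,nat_lit 8,nat_lit 16,nat_lit 32],[]⟩,⟨[nat_lit 1,nat_lit 2,nat_lit 4,nat_lit 8,nat_lit 16,nat_lit 32],[nat_lit 1,nat_lit 4,nat_lit 46,nat_lit 20,nat_lit 12,nat_lit 60],[]⟩,⟨[nat_lit 1,nat_lit 69,nat_lit 11,nat_lit 16],[nat_lit 69,nat_lit 68,nat_lit 11,nat_lit 16],[nat_lit 0,nat_lit 1,nat_lit 69,nat_lit 68,nat_lit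 11,nat_lit 10,nat_lit 78,nat_lit 79,nat_lit 16,nat_lit 17,nat_lit 85,nat_lit 84,nat_lit 27,nat_lit 26,nat_lit 94,nat_lit 95]⟩],nat_lit 0x4ce3218⟩
noncomputable def h201 : Hdr :=
  ⟨(nat_lit 6),(nat_lit 9),[[[]],[[nat_lit 0],[nat_lit 0]],[[nat_lit 0],[nat_lit 1,nat_lit 0],[nat_lit 0]],[[nat_lit 0],[nat_lit 1],[nat_lit 2],[nat_lit 0]],[[nat_lit 0],[nat_lit 1],[nat_lit 2],[nat_lit 3],[]],[[nat_lit 0],[nat_lit 1],[nat_lit 2],[nat_lit 3,nat_lit 0],[nat_lit 4,nat_lit 0],[]],[[nat_lit 0],[nat_lit 1],[nat_lit 2,nat_lit 1,nat_lit 0],[nat_lit 3,nat_lit 0],[nat_lit 4],[nat_lit 5],[nat_lit 1]],[[nat_lit 0],[nat_lit 1],[nat_lit 2],[nat_lit 5,nat_lit 4,nat_lit 3],[nat_lit 5,nat_lit 0],[nat_lit 4],[nat_lit 6,nat_lit 4,nat_lit 3],[nat_lit 5,nat_lit 4]],[[nat_lit 0],[nat_lit 1],[nat_lit 5,nat_lit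 3,nat_lit 2,nat_lit 1],[nat_lit 4,nat_lit 1,nat_lit 0],[nat_lit 3,nat_lit 1],[nat_lit 5,nat_lit 4,nat_lit 3,nat_lit 1,nat_lit 0],[nat_lit 6,nat_lit 5,nat_lit 3,nat_lit 1],[nat_lit 7,nat_lit 4,nat_lit 3,nat_lit 1,nat_lit 0],[]]],[nat_lit 1],[nat_lit 10],[],[⟨[nat_lit 1,nat_lit 2,nat_lit 4,nat_lit 8,nat_lit 16,nat_lit 32],[nat_lit 1,nat_lit 6,nat_lit 2,nat_lit 8,nat_lit 16,nat_lit 32],[]⟩,⟨[nat_lit 1,nat_lit 2,nat_lit 4,nat_lit 8,nat_lit 16,nat_lit 32],[nat_lit 1,nat_lit 4,nat_lit 46,nat_lit 20,nat_lit 12,nat_lit 60],[]⟩,⟨[nat_lit 1,nat_lit 69,nat_lit 11,nat_lit 16],[nat_lit 69,nat_lit 68,nat_lit 11,nat_lit 16],[nat_lit 0,nat_lit 1,nat_lit 69,nat_lit 68,nat_lit 11,nat_lit 10,nat_lit 78,nat_lit 79,nat_lit 16,nat_lit 17,nat_lit 85,nat_lit 84,nat_lit 27,nat_lit 26,nat_lit 94,nat_lit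 95]⟩],nat_lit 0x4ce3218⟩
noncomputable def h202 : Hdr :=
  ⟨(nat_lit 6),(nat_lit 9),[[[]],[[nat_lit 0],[nat_lit 0]],[[nat_lit 0],[nat_lit 1,nat_lit 0],[nat_lit 0]],[[nat_lit 0],[nat_lit 1],[nat_lit 2],[nat_lit 0]],[[nat_lit 0],[nat_lit 1],[nat_lit 2],[nat_lit 3],[]],[[nat_lit 0],[nat_lit 1],[nat_lit 2],[nat_lit 3,nat_lit 0],[nat_lit 4,nat_lit 0],[]],[[nat_lit 0],[nat_lit 1],[nat_lit 2,nat_lit 1,nat_lit 0],[nat_lit 3,nat_lit 0],[nat_lit 4],[nat_lit 5],[nat_lit 1]],[[nat_lit 0],[nat_lit 1],[nat_lit 2],[nat_lit 5,nat_lit 4,nat_lit 3],[nat_lit 5,nat_lit 0],[nat_lit 4],[nat_lit 6,nat_lit 4,nat_lit 3],[nat_lit 5,nat_lit 4,nat_lit 0]],[[nat_lit 0],[nat_lit 1],[nat_lit 5,nat_lit 3,nat_lit 2,nat_lit 1],[nat_lit 4,nat_lit 1,nat_lit 0],[nat_lit 3,nat_lit 1],[nat_lit 5,nat_lit 4,nat_lit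 3,nat_lit 1,nat_lit 0],[nat_lit 6,nat_lit 5,nat_lit 3,nat_lit 1],[nat_lit 7,nat_lit 4,nat_lit 3,nat_lit 1],[]]],[nat_lit 1],[nat_lit 10],[],[⟨[nat_lit 1,nat_lit 2,nat_lit 4,nat_lit 8,nat_lit 16,nat_lit 32],[nat_lit 1,nat_lit 6,nat_lit 2,nat_lit 8,nat_lit 16,nat_lit 32],[]⟩,⟨[nat_lit 1,nat_lit 2,nat_lit 4,nat_lit 8,nat_lit 16,nat_lit 32],[nat_lit 1,nat_lit 4,nat_lit 46,nat_lit 20,nat_lit 12,nat_lit 60],[]⟩,⟨[nat_lit 1,nat_lit 69,nat_lit 11,nat_lit 16],[nat_lit 69,nat_lit 68,nat_lit 11,nat_lit 16],[nat_lit 0,nat_lit 1,nat_lit 69,nat_lit 68,nat_lit 11,nat_lit 10,nat_lit 78,nat_lit 79,nat_lit 16,nat_lit 17,nat_lit 85,nat_lit 84,nat_lit 27,nat_lit 26,nat_lit 94,nat_lit 95]⟩],nat_lit 0x4ce3218⟩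
noncomputable def h203 : Hdr :=
  ⟨(nat_lit 6),(nat_lit 8),[[[]],[[nat_lit 0],[nat_lit 0]],[[nat_lit 0],[nat_lit 1,nat_lit 0],[nat_lit 0]],[[nat_lit 0],[nat_lit 1],[nat_lit 2],[nat_lit 0]],[[nat_lit 0],[nat_lit 1],[nat_lit 2],[nat_lit 3],[]],[[nat_lit 0],[nat_lit 1],[nat_lit 2],[nat_lit 3,nat_lit 0],[nat_lit 4,nat_lit 0],[]],[[nat_lit 0],[nat_lit 1],[nat_lit 2,nat_lit 1,nat_lit 0],[nat_lit 3,nat_lit 0],[nat_lit 4],[nat_lit 5],[nat_lit 1]],[[nat_lit 0],[nat_lit 1],[nat_lit 5,nat_lit 3,nat_lit 2,nat_lit 1],[nat_lit 4,nat_lit 1,nat_lit 0],[nat_lit 3,nat_lit 1],[nat_lit 5,nat_lit 4,nat_lit 3,nat_lit 1,nat_lit 0],[nat_lit 6,nat_lit 5,nat_lit 3,nat_lit 1],[]]],[nat_lit 1],[nat_lit 10],[],[⟨[nat_lit 1,nat_lit 2,nat_lit 4,nat_lit 8,nat_lit 16,nat_lit 32],[nat_lit 1,nat_lit 6,nat_lit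 2,nat_lit 8,nat_lit 16,nat_lit 32],[]⟩,⟨[nat_lit 1,nat_lit 2,nat_lit 4,nat_lit 8,nat_lit 16,nat_lit 32],[nat_lit 1,nat_lit 4,nat_lit 46,nat_lit 20,nat_lit 12,nat_lit 60],[]⟩,⟨[nat_lit 1,nat_lit 69,nat_lit 11,nat_lit 16],[nat_lit 69,nat_lit 68,nat_lit 11,nat_lit 16],[nat_lit 0,nat_lit 1,nat_lit 69,nat_lit 68,nat_lit 11,nat_lit 10,nat_lit 78,nat_lit 79,nat_lit 16,nat_lit 17,nat_lit 85,nat_lit 84,nat_lit 27,nat_lit 26,nat_lit 94,nat_lit 95]⟩],nat_lit 0x4ce3218⟩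
noncomputable def h204 : Hdr :=
  ⟨(nat_lit 6),(nat_lit 10),[[[]],[[nat_lit 0],[nat_lit 0]],[[nat_lit 0],[nat_lit 1,nat_lit 0],[nat_lit 0]],[[nat_lit 0],[nat_lit 1],[nat_lit 2],[nat_lit 0]],[[nat_lit 0],[nat_lit 1],[nat_lit 2],[nat_lit 3],[]],[[nat_lit 0],[nat_lit 1],[nat_lit 2],[nat_lit 3,nat_lit 0],[nat_lit 4,nat_lit 0],[]],[[nat_lit 0],[nat_lit 1],[nat_lit 2,nat_lit 1,nat_lit 0],[nat_lit 3,nat_lit 0],[nat_lit 4],[nat_lit 5],[nat_lit 1]],[[nat_lit 0],[nat_lit 1],[nat_lit 2],[nat_lit 5,nat_lit 4,nat_lit 3],[nat_lit 5,nat_lit 0],[nat_lit 4],[nat_lit 6],[nat_lit 5,nat_lit 4,nat_lit 0]],[[nat_lit 0],[nat_lit 1],[nat_lit 5,nat_lit 3,nat_lit 2,nat_lit 1],[nat_lit 4,nat_lit 1,nat_lit 0],[nat_lit 3,nat_lit 1],[nat_lit 5,nat_lit 4,nat_lit 3,nat_lit 1,nat_lit 0],[nat_lit 6,nat_lit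 5,nat_lit 3,nat_lit 1],[nat_lit 7,nat_lit 4,nat_lit 3,nat_lit 1,nat_lit 0],[nat_lit 0]],[[nat_lit 0],[nat_lit 5,nat_lit 3,nat_lit 1,nat_lit 0],[nat_lit 2,nat_lit 1,nat_lit 0],[nat_lit 5,nat_lit 2,nat_lit 1],[nat_lit 5,nat_lit 4,nat_lit 3,nat_lit 2,nat_lit 1],[nat_lit 3,nat_lit 2,nat_lit 1],[nat_lit 8,nat_lit 7,nat_lit 3,nat_lit 2],[nat_lit 7,nat_lit 4,nat_lit 3,nat_lit 2,nat_lit 1],[nat_lit 7,nat_lit 6,nat_lit 4,nat_lit 2,nat_lit 0],[nat_lit 8,nat_lit 7,nat_lit 6,nat_lit 3,nat_lit 1,nat_lit 0]]],[nat_lit 1],[nat_lit 10,nat_lit 76],[],[],nat_lit 0x4ce3218⟩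
noncomputable def h205 : Hdr :=
  ⟨(nat_lit 6),(nat_lit 10),[[[]],[[nat_lit 0],[nat_lit 0]],[[nat_lit 0],[nat_lit 1,nat_lit 0],[nat_lit 0]],[[nat_lit 0],[nat_lit 1],[nat_lit 2],[nat_lit 0]],[[nat_lit 0],[nat_lit 1],[nat_lit 2],[nat_lit 3],[]],[[nat_lit 0],[nat_lit 1],[nat_lit 2],[nat_lit 3,nat_lit 0],[nat_lit 4,nat_lit 0],[]],[[nat_lit 0],[nat_lit 1],[nat_lit 2,nat_lit 1,nat_lit 0],[nat_lit 3,nat_lit 0],[nat_lit 4],[nat_lit 5],[nat_lit 1]],[[nat_lit 0],[nat_lit 1],[nat_lit 2],[nat_lit 5,nat_lit 4,nat_lit 3],[nat_lit 5,nat_lit 0],[nat_lit 4],[nat_lit 6],[nat_lit 5,nat_lit 4,nat_lit 0]],[[nat_lit 0],[nat_lit 1],[nat_lit 5,nat_lit 3,nat_lit 2,nat_lit 1],[nat_lit 4,nat_lit 1,nat_lit 0],[nat_lit 3,nat_lit 1],[nat_lit 5,nat_lit 4,nat_lit 3,nat_lit 1,nat_lit 0],[nat_lit 6,nat_lit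 5,nat_lit 3,nat_lit 1],[nat_lit 7,nat_lit 4,nat_lit 3,nat_lit 1,nat_lit 0],[nat_lit 0]],[[nat_lit 0],[nat_lit 5,nat_lit 3,nat_lit 1,nat_lit 0],[nat_lit 2,nat_lit 1,nat_lit 0],[nat_lit 5,nat_lit 2,nat_lit 1],[nat_lit 5,nat_lit 4,nat_lit 3,nat_lit 2,nat_lit 1],[nat_lit 3,nat_lit 2,nat_lit 1],[nat_lit 8,nat_lit 7,nat_lit 3,nat_lit 2],[nat_lit 7,nat_lit 4,nat_lit 3,nat_lit 2,nat_lit 1],[nat_lit 7,nat_lit 6,nat_lit 4,nat_lit 2,nat_lit 0],[nat_lit 8,nat_lit 7,nat_lit 6,nat_lit 3,nat_lit 1,nat_lit 0]]],[nat_lit 1],[nat_lit 10],[],[⟨[nat_lit 1,nat_lit 2,nat_lit 4,nat_lit 8,nat_lit 16,nat_lit 32],[nat_lit 1,nat_lit 6,nat_lit 2,nat_lit 8,nat_lit 16,nat_lit 32],[]⟩,⟨[nat_lit 1,nat_lit 2,nat_lit 4,nat_lit 8,nat_lit 16,nat_lit 32],[nat_lit 1,nat_lit 4,nat_lit 46,nat_lit 20,nat_lit 12,nat_lit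 60],[]⟩,⟨[nat_lit 1,nat_lit 69,nat_lit 11,nat_lit 16],[nat_lit 69,nat_lit 68,nat_lit 11,nat_lit 16],[nat_lit 0,nat_lit 1,nat_lit 69,nat_lit 68,nat_lit 11,nat_lit 10,nat_lit 78,nat_lit 79,nat_lit 16,nat_lit 17,nat_lit 85,nat_lit 84,nat_lit 27,nat_lit 26,nat_lit 94,nat_lit 95]⟩],nat_lit 0x4ce3218⟩
noncomputable def h206 : Hdr :=
  ⟨(nat_lit 6),(nat_lit 10),[[[]],[[nat_lit 0],[nat_lit 0]],[[nat_lit 0],[nat_lit 1,nat_lit 0],[nat_lit 0]],[[nat_lit 0],[nat_lit 1],[nat_lit 2],[nat_lit 0]],[[nat_lit 0],[nat_lit 1],[nat_lit 2],[nat_lit 3],[]],[[nat_lit 0],[nat_lit 1],[nat_lit 2],[nat_lit 3,nat_lit 0],[nat_lit 4,nat_lit 0],[]],[[nat_lit 0],[nat_lit 1],[nat_lit 2,nat_lit 1,nat_lit 0],[nat_lit 3,nat_lit 0],[nat_lit 4],[nat_lit 5],[nat_lit 1]],[[nat_lit 0],[nat_lit 1],[nat_lit 2],[nat_lit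 5,nat_lit 4,nat_lit 3],[nat_lit 5,nat_lit 0],[nat_lit 4],[nat_lit 6],[nat_lit 5,nat_lit 4,nat_lit 0]],[[nat_lit 0],[nat_lit 1],[nat_lit 5,nat_lit 3,nat_lit 2,nat_lit 1],[nat_lit 4,nat_lit 1,nat_lit 0],[nat_lit 3,nat_lit 1],[nat_lit 5,nat_lit 4,nat_lit 3,nat_lit 1,nat_lit 0],[nat_lit 6,nat_lit 5,nat_lit 3,nat_lit 1],[nat_lit 7,nat_lit 4,nat_lit 3,nat_lit 1,nat_lit 0],[nat_lit 0]],[[nat_lit 0],[nat_lit 5,nat_lit 3,nat_lit 1,nat_lit 0],[nat_lit 2,nat_lit 1,nat_lit 0],[nat_lit 5,nat_lit 2,nat_lit 1],[nat_lit 5,nat_lit 4,nat_lit 3,nat_lit 2,nat_lit 1],[nat_lit 3,nat_lit 2,nat_lit 1],[nat_lit 8,nat_lit 7,nat_lit 3,nat_lit 2],[nat_lit 7,nat_lit 4,nat_lit 3,nat_lit 2,nat_lit 1],[nat_lit 7,nat_lit 6,nat_lit 4,nat_lit 2,nat_lit 0],[nat_lit 8,nat_lit 7,nat_lit 6,nat_lit 3,nat_lit 1]]],[nat_lit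 1],[nat_lit 10],[],[⟨[nat_lit 1,nat_lit 2,nat_lit 4,nat_lit 8,nat_lit 16,nat_lit 32],[nat_lit 1,nat_lit 6,nat_lit 2,nat_lit 8,nat_lit 16,nat_lit 32],[]⟩,⟨[nat_lit 1,nat_lit 2,nat_lit 4,nat_lit 8,nat_lit 16,nat_lit 32],[nat_lit 1,nat_lit 4,nat_lit 46,nat_lit 20,nat_lit 12,nat_lit 60],[]⟩,⟨[nat_lit 1,nat_lit 69,nat_lit 11,nat_lit 16],[nat_lit 69,nat_lit 68,nat_lit 11,nat_lit 16],[nat_lit 0,nat_lit 1,nat_lit 69,nat_lit 68,nat_lit 11,nat_lit 10,nat_lit 78,nat_lit 79,nat_lit 16,nat_lit 17,nat_lit 85,nat_lit 84,nat_lit 27,nat_lit 26,nat_lit 94,nat_lit 95]⟩],nat_lit 0x4ce3218⟩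
noncomputable def h207 : Hdr :=
  ⟨(nat_lit 6),(nat_lit 10),[[[]],[[nat_lit 0],[nat_lit 0]],[[nat_lit 0],[nat_lit 1,nat_lit 0],[nat_lit 0]],[[nat_lit 0],[nat_lit 1],[nat_lit 2],[nat_lit 0]],[[nat_lit 0],[nat_lit 1],[nat_lit 2],[nat_lit 3],[]],[[nat_lit 0],[nat_lit 1],[nat_lit 2],[nat_lit 3,nat_lit 0],[nat_lit 4,nat_lit 0],[]],[[nat_lit 0],[nat_lit 1],[nat_lit 2,nat_lit 1,nat_lit 0],[nat_lit 3,nat_lit 0],[nat_lit 4],[nat_lit 5],[nat_lit 1]],[[nat_lit 0],[nat_lit 1],[nat_lit 2],[nat_lit 5,nat_lit 4,nat_lit 3],[nat_lit 5,nat_lit 0],[nat_lit 4],[nat_lit 6],[nat_lit 5,nat_lit 4,nat_lit 0]],[[nat_lit 0],[nat_lit 1],[nat_lit 5,nat_lit 3,nat_lit 2,nat_lit 1],[nat_lit 4,nat_lit 1,nat_lit 0],[nat_lit 3,nat_lit 1],[nat_lit 5,nat_lit 4,nat_lit 3,nat_lit 1,nat_lit 0],[nat_lit 6,nat_lit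 5,nat_lit 3,nat_lit 1],[nat_lit 7,nat_lit 4,nat_lit 3,nat_lit 1,nat_lit 0],[nat_lit 0]],[[nat_lit 0],[nat_lit 5,nat_lit 3,nat_lit 1,nat_lit 0],[nat_lit 5,nat_lit 3,nat_lit 2],[nat_lit 5,nat_lit 2,nat_lit 1],[nat_lit 5,nat_lit 4,nat_lit 3,nat_lit 2,nat_lit 1,nat_lit 0],[nat_lit 3,nat_lit 2,nat_lit 1],[nat_lit 8,nat_lit 7,nat_lit 4,nat_lit 2,nat_lit 0],[nat_lit 7,nat_lit 5,nat_lit 4,nat_lit 2,nat_lit 1,nat_lit 0],[nat_lit 7,nat_lit 6,nat_lit 5,nat_lit 2],[nat_lit 4,nat_lit 3]]],[nat_lit 1],[nat_lit 10],[],[⟨[nat_lit 1,nat_lit 2,nat_lit 4,nat_lit 8,nat_lit 16,nat_lit 32],[nat_lit 1,nat_lit 6,nat_lit 2,nat_lit 8,nat_lit 16,nat_lit 32],[]⟩,⟨[nat_lit 1,nat_lit 2,nat_lit 4,nat_lit 8,nat_lit 16,nat_lit 32],[nat_lit 1,nat_lit 4,nat_lit 46,nat_lit 20,nat_lit 12,nat_lit 60],[]⟩,⟨[nat_lit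 1,nat_lit 69,nat_lit 11,nat_lit 16],[nat_lit 69,nat_lit 68,nat_lit 11,nat_lit 16],[nat_lit 0,nat_lit 1,nat_lit 69,nat_lit 68,nat_lit 11,nat_lit 10,nat_lit 78,nat_lit 79,nat_lit 16,nat_lit 17,nat_lit 85,nat_lit 84,nat_lit 27,nat_lit 26,nat_lit 94,nat_lit 95]⟩],nat_lit 0x4ce3218⟩
noncomputable def h208 : Hdr :=
  ⟨(nat_lit 6),(nat_lit 10),[[[]],[[nat_lit 0],[nat_lit 0]],[[nat_lit 0],[nat_lit 1,nat_lit 0],[nat_lit 0]],[[nat_lit 0],[nat_lit 1],[nat_lit 2],[nat_lit 0]],[[nat_lit 0],[nat_lit 1],[nat_lit 2],[nat_lit 3],[]],[[nat_lit 0],[nat_lit 1],[nat_lit 2],[nat_lit 3,nat_lit 0],[nat_lit 4,nat_lit 0],[]],[[nat_lit 0],[nat_lit 1],[nat_lit 2,nat_lit 1,nat_lit 0],[nat_lit 3,nat_lit 0],[nat_lit 4],[nat_lit 5],[nat_lit 1]],[[nat_lit 0],[nat_lit 1],[nat_lit 2],[nat_lit 5,nat_lit 4,nat_lit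 3],[nat_lit 5,nat_lit 0],[nat_lit 4],[nat_lit 6],[nat_lit 5,nat_lit 4,nat_lit 0]],[[nat_lit 0],[nat_lit 1],[nat_lit 5,nat_lit 3,nat_lit 2,nat_lit 1],[nat_lit 4,nat_lit 1,nat_lit 0],[nat_lit 3,nat_lit 1],[nat_lit 5,nat_lit 4,nat_lit 3,nat_lit 1,nat_lit 0],[nat_lit 6,nat_lit 5,nat_lit 3,nat_lit 1],[nat_lit 7,nat_lit 4,nat_lit 3,nat_lit 1,nat_lit 0],[nat_lit 0]],[[nat_lit 0],[nat_lit 5,nat_lit 3,nat_lit 1,nat_lit 0],[nat_lit 5,nat_lit 3,nat_lit 2],[nat_lit 5,nat_lit 2,nat_lit 1],[nat_lit 5,nat_lit 4,nat_lit 3,nat_lit 2,nat_lit 1,nat_lit 0],[nat_lit 3,nat_lit 2,nat_lit 1],[nat_lit 8,nat_lit 7,nat_lit 4,nat_lit 2,nat_lit 0],[nat_lit 7,nat_lit 5,nat_lit 4,nat_lit 2,nat_lit 1,nat_lit 0],[nat_lit 7,nat_lit 6,nat_lit 5,nat_lit 2],[nat_lit 4,nat_lit 3,nat_lit 0]]],[nat_lit 1],[nat_lit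 10],[],[⟨[nat_lit 1,nat_lit 2,nat_lit 4,nat_lit 8,nat_lit 16,nat_lit 32],[nat_lit 1,nat_lit 6,nat_lit 2,nat_lit 8,nat_lit 16,nat_lit 32],[]⟩,⟨[nat_lit 1,nat_lit 2,nat_lit 4,nat_lit 8,nat_lit 16,nat_lit 32],[nat_lit 1,nat_lit 4,nat_lit 46,nat_lit 20,nat_lit 12,nat_lit 60],[]⟩,⟨[nat_lit 1,nat_lit 69,nat_lit 11,nat_lit 16],[nat_lit 69,nat_lit 68,nat_lit 11,nat_lit 16],[nat_lit 0,nat_lit 1,nat_lit 69,nat_lit 68,nat_lit 11,nat_lit 10,nat_lit 78,nat_lit 79,nat_lit 16,nat_lit 17,nat_lit 85,nat_lit 84,nat_lit 27,nat_lit 26,nat_lit 94,nat_lit 95]⟩],nat_lit 0x4ce3218⟩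
noncomputable def h209 : Hdr :=
  ⟨(nat_lit 6),(nat_lit 9),[[[]],[[nat_lit 0],[nat_lit 0]],[[nat_lit 0],[nat_lit 1,nat_lit 0],[nat_lit 0]],[[nat_lit 0],[nat_lit 1],[nat_lit 2],[nat_lit 0]],[[nat_lit 0],[nat_lit 1],[nat_lit 2],[nat_lit 3],[]],[[nat_lit 0],[nat_lit 1],[nat_lit 2],[nat_lit 3,nat_lit 0],[nat_lit 4,nat_lit 0],[]],[[nat_lit 0],[nat_lit 1],[nat_lit 2,nat_lit 1,nat_lit 0],[nat_lit 3,nat_lit 0],[nat_lit 4],[nat_lit 5],[nat_lit 1]],[[nat_lit 0],[nat_lit 1],[nat_lit 2],[nat_lit 5,nat_lit 4,nat_lit 3],[nat_lit 5,nat_lit 0],[nat_lit 4],[nat_lit 6],[nat_lit 5,nat_lit 4,nat_lit 0]],[[nat_lit 0],[nat_lit 1],[nat_lit 5,nat_lit 3,nat_lit 2,nat_lit 1],[nat_lit 4,nat_lit 1,nat_lit 0],[nat_lit 3,nat_lit 1],[nat_lit 5,nat_lit 4,nat_lit 3,nat_lit 1,nat_lit 0],[nat_lit 6,nat_lit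 5,nat_lit 3,nat_lit 1],[nat_lit 7,nat_lit 4,nat_lit 3,nat_lit 1,nat_lit 0],[nat_lit 0]]],[nat_lit 1],[nat_lit 10],[],[⟨[nat_lit 1,nat_lit 2,nat_lit 4,nat_lit 8,nat_lit 16,nat_lit 32],[nat_lit 1,nat_lit 6,nat_lit 2,nat_lit 8,nat_lit 16,nat_lit 32],[]⟩,⟨[nat_lit 1,nat_lit 2,nat_lit 4,nat_lit 8,nat_lit 16,nat_lit 32],[nat_lit 1,nat_lit 4,nat_lit 46,nat_lit 20,nat_lit 12,nat_lit 60],[]⟩,⟨[nat_lit 1,nat_lit 69,nat_lit 11,nat_lit 16],[nat_lit 69,nat_lit 68,nat_lit 11,nat_lit 16],[nat_lit 0,nat_lit 1,nat_lit 69,nat_lit 68,nat_lit 11,nat_lit 10,nat_lit 78,nat_lit 79,nat_lit 16,nat_lit 17,nat_lit 85,nat_lit 84,nat_lit 27,nat_lit 26,nat_lit 94,nat_lit 95]⟩],nat_lit 0x4ce3218⟩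
noncomputable def h210 : Hdr :=
  ⟨(nat_lit 6),(nat_lit 10),[[[]],[[nat_lit 0],[nat_lit 0]],[[nat_lit 0],[nat_lit 1,nat_lit 0],[nat_lit 0]],[[nat_lit 0],[nat_lit 1],[nat_lit 2],[nat_lit 0]],[[nat_lit 0],[nat_lit 1],[nat_lit 2],[nat_lit 3],[]],[[nat_lit 0],[nat_lit 1],[nat_lit 2],[nat_lit 3,nat_lit 0],[nat_lit 4,nat_lit 0],[]],[[nat_lit 0],[nat_lit 1],[nat_lit 2,nat_lit 1,nat_lit 0],[nat_lit 3,nat_lit 0],[nat_lit 4],[nat_lit 5],[nat_lit 1]],[[nat_lit 0],[nat_lit 1],[nat_lit 2],[nat_lit 5,nat_lit 4,nat_lit 3],[nat_lit 5,nat_lit 0],[nat_lit 4],[nat_lit 6],[nat_lit 5,nat_lit 4]],[[nat_lit 0],[nat_lit 1],[nat_lit 5,nat_lit 3,nat_lit 2,nat_lit 1],[nat_lit 4,nat_lit 1,nat_lit 0],[nat_lit 3,nat_lit 1],[nat_lit 5,nat_lit 4,nat_lit 3,nat_lit 1,nat_lit 0],[nat_lit 6,nat_lit 5,nat_lit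 3,nat_lit 1],[nat_lit 7,nat_lit 4,nat_lit 3,nat_lit 1],[nat_lit 0]],[[nat_lit 0],[nat_lit 5,nat_lit 3,nat_lit 1,nat_lit 0],[nat_lit 2,nat_lit 1,nat_lit 0],[nat_lit 5,nat_lit 2,nat_lit 1],[nat_lit 5,nat_lit 4,nat_lit 3,nat_lit 2,nat_lit 1],[nat_lit 3,nat_lit 2,nat_lit 1],[nat_lit 8,nat_lit 7,nat_lit 3,nat_lit 2],[nat_lit 7,nat_lit 2,nat_lit 1],[nat_lit 7,nat_lit 6,nat_lit 3,nat_lit 2],[nat_lit 8,nat_lit 7,nat_lit 6,nat_lit 4,nat_lit 1]]],[nat_lit 1],[nat_lit 10],[],[⟨[nat_lit 1,nat_lit 2,nat_lit 4,nat_lit 8,nat_lit 16,nat_lit 32],[nat_lit 1,nat_lit 6,nat_lit 2,nat_lit 8,nat_lit 16,nat_lit 32],[]⟩,⟨[nat_lit 1,nat_lit 2,nat_lit 4,nat_lit 8,nat_lit 16,nat_lit 32],[nat_lit 1,nat_lit 4,nat_lit 46,nat_lit 20,nat_lit 12,nat_lit 60],[]⟩,⟨[nat_lit 1,nat_lit 69,nat_lit 11,nat_lit 16],[nat_lit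 69,nat_lit 68,nat_lit 11,nat_lit 16],[nat_lit 0,nat_lit 1,nat_lit 69,nat_lit 68,nat_lit 11,nat_lit 10,nat_lit 78,nat_lit 79,nat_lit 16,nat_lit 17,nat_lit 85,nat_lit 84,nat_lit 27,nat_lit 26,nat_lit 94,nat_lit 95]⟩],nat_lit 0x4ce3218⟩
noncomputable def h211 : Hdr :=
  ⟨(nat_lit 6),(nat_lit 10),[[[]],[[nat_lit 0],[nat_lit 0]],[[nat_lit 0],[nat_lit 1,nat_lit 0],[nat_lit 0]],[[nat_lit 0],[nat_lit 1],[nat_lit 2],[nat_lit 0]],[[nat_lit 0],[nat_lit 1],[nat_lit 2],[nat_lit 3],[]],[[nat_lit 0],[nat_lit 1],[nat_lit 2],[nat_lit 3,nat_lit 0],[nat_lit 4,nat_lit 0],[]],[[nat_lit 0],[nat_lit 1],[nat_lit 2,nat_lit 1,nat_lit 0],[nat_lit 3,nat_lit 0],[nat_lit 4],[nat_lit 5],[nat_lit 1]],[[nat_lit 0],[nat_lit 1],[nat_lit 2],[nat_lit 5,nat_lit 4,nat_lit 3],[nat_lit 5,nat_lit 0],[nat_lit 4],[nat_lit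 6],[nat_lit 5,nat_lit 4]],[[nat_lit 0],[nat_lit 1],[nat_lit 5,nat_lit 3,nat_lit 2,nat_lit 1],[nat_lit 4,nat_lit 1,nat_lit 0],[nat_lit 3,nat_lit 1],[nat_lit 5,nat_lit 4,nat_lit 3,nat_lit 1,nat_lit 0],[nat_lit 6,nat_lit 5,nat_lit 3,nat_lit 1],[nat_lit 7,nat_lit 4,nat_lit 3,nat_lit 1],[nat_lit 0]],[[nat_lit 0],[nat_lit 5,nat_lit 3,nat_lit 1,nat_lit 0],[nat_lit 2,nat_lit 1,nat_lit 0],[nat_lit 5,nat_lit 2,nat_lit 1],[nat_lit 5,nat_lit 4,nat_lit 3,nat_lit 2,nat_lit 1],[nat_lit 3,nat_lit 2,nat_lit 1],[nat_lit 8,nat_lit 7,nat_lit 3,nat_lit 2],[nat_lit 7,nat_lit 2,nat_lit 1],[nat_lit 7,nat_lit 6,nat_lit 3,nat_lit 2],[nat_lit 8,nat_lit 7,nat_lit 6,nat_lit 4,nat_lit 1,nat_lit 0]]],[nat_lit 1],[nat_lit 10],[],[⟨[nat_lit 1,nat_lit 2,nat_lit 4,nat_lit 8,nat_lit 16,nat_lit 32],[nat_lit 1,nat_lit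 6,nat_lit 2,nat_lit 8,nat_lit 16,nat_lit 32],[]⟩,⟨[nat_lit 1,nat_lit 2,nat_lit 4,nat_lit 8,nat_lit 16,nat_lit 32],[nat_lit 1,nat_lit 4,nat_lit 46,nat_lit 20,nat_lit 12,nat_lit 60],[]⟩,⟨[nat_lit 1,nat_lit 69,nat_lit 11,nat_lit 16],[nat_lit 69,nat_lit 68,nat_lit 11,nat_lit 16],[nat_lit 0,nat_lit 1,nat_lit 69,nat_lit 68,nat_lit 11,nat_lit 10,nat_lit 78,nat_lit 79,nat_lit 16,nat_lit 17,nat_lit 85,nat_lit 84,nat_lit 27,nat_lit 26,nat_lit 94,nat_lit 95]⟩],nat_lit 0x4ce3218⟩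
noncomputable def h212 : Hdr :=
  ⟨(nat_lit 6),(nat_lit 10),[[[]],[[nat_lit 0],[nat_lit 0]],[[nat_lit 0],[nat_lit 1,nat_lit 0],[nat_lit 0]],[[nat_lit 0],[nat_lit 1],[nat_lit 2],[nat_lit 0]],[[nat_lit 0],[nat_lit 1],[nat_lit 2],[nat_lit 3],[]],[[nat_lit 0],[nat_lit 1],[nat_lit 2],[nat_lit 3,nat_lit 0],[nat_lit 4,nat_lit 0],[]],[[nat_lit 0],[nat_lit 1],[nat_lit 2,nat_lit 1,nat_lit 0],[nat_lit 3,nat_lit 0],[nat_lit 4],[nat_lit 5],[nat_lit 1]],[[nat_lit 0],[nat_lit 1],[nat_lit 2],[nat_lit 5,nat_lit 4,nat_lit 3],[nat_lit 5,nat_lit 0],[nat_lit 4],[nat_lit 6],[nat_lit 5,nat_lit 4]],[[nat_lit 0],[nat_lit 1],[nat_lit 5,nat_lit 3,nat_lit 2,nat_lit 1],[nat_lit 4,nat_lit 1,nat_lit 0],[nat_lit 3,nat_lit 1],[nat_lit 5,nat_lit 4,nat_lit 3,nat_lit 1,nat_lit 0],[nat_lit 6,nat_lit 5,nat_lit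 3,nat_lit 1],[nat_lit 7,nat_lit 4,nat_lit 3,nat_lit 1],[nat_lit 0]],[[nat_lit 0],[nat_lit 5,nat_lit 3,nat_lit 1,nat_lit 0],[nat_lit 5,nat_lit 3,nat_lit 2],[nat_lit 5,nat_lit 2,nat_lit 1],[nat_lit 5,nat_lit 4,nat_lit 3,nat_lit 2,nat_lit 1,nat_lit 0],[nat_lit 3,nat_lit 2,nat_lit 1],[nat_lit 8,nat_lit 7,nat_lit 4,nat_lit 2,nat_lit 0],[nat_lit 7,nat_lit 5,nat_lit 3,nat_lit 2,nat_lit 1,nat_lit 0],[nat_lit 7,nat_lit 6,nat_lit 5,nat_lit 4,nat_lit 3,nat_lit 2],[nat_lit 0]]],[nat_lit 1],[nat_lit 10],[],[⟨[nat_lit 1,nat_lit 2,nat_lit 4,nat_lit 8,nat_lit 16,nat_lit 32],[nat_lit 1,nat_lit 6,nat_lit 2,nat_lit 8,nat_lit 16,nat_lit 32],[]⟩,⟨[nat_lit 1,nat_lit 2,nat_lit 4,nat_lit 8,nat_lit 16,nat_lit 32],[nat_lit 1,nat_lit 4,nat_lit 46,nat_lit 20,nat_lit 12,nat_lit 60],[]⟩,⟨[nat_lit 1,nat_lit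 69,nat_lit 11,nat_lit 16],[nat_lit 69,nat_lit 68,nat_lit 11,nat_lit 16],[nat_lit 0,nat_lit 1,nat_lit 69,nat_lit 68,nat_lit 11,nat_lit 10,nat_lit 78,nat_lit 79,nat_lit 16,nat_lit 17,nat_lit 85,nat_lit 84,nat_lit 27,nat_lit 26,nat_lit 94,nat_lit 95]⟩],nat_lit 0x4ce3218⟩
noncomputable def h213 : Hdr :=
  ⟨(nat_lit 6),(nat_lit 10),[[[]],[[nat_lit 0],[nat_lit 0]],[[nat_lit 0],[nat_lit 1,nat_lit 0],[nat_lit 0]],[[nat_lit 0],[nat_lit 1],[nat_lit 2],[nat_lit 0]],[[nat_lit 0],[nat_lit 1],[nat_lit 2],[nat_lit 3],[]],[[nat_lit 0],[nat_lit 1],[nat_lit 2],[nat_lit 3,nat_lit 0],[nat_lit 4,nat_lit 0],[]],[[nat_lit 0],[nat_lit 1],[nat_lit 2,nat_lit 1,nat_lit 0],[nat_lit 3,nat_lit 0],[nat_lit 4],[nat_lit 5],[nat_lit 1]],[[nat_lit 0],[nat_lit 1],[nat_lit 2],[nat_lit 5,nat_lit 4,nat_lit 3],[nat_lit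 5,nat_lit 0],[nat_lit 4],[nat_lit 6],[nat_lit 5,nat_lit 4]],[[nat_lit 0],[nat_lit 1],[nat_lit 5,nat_lit 3,nat_lit 2,nat_lit 1],[nat_lit 4,nat_lit 1,nat_lit 0],[nat_lit 3,nat_lit 1],[nat_lit 5,nat_lit 4,nat_lit 3,nat_lit 1,nat_lit 0],[nat_lit 6,nat_lit 5,nat_lit 3,nat_lit 1],[nat_lit 7,nat_lit 4,nat_lit 3,nat_lit 1],[nat_lit 0]],[[nat_lit 0],[nat_lit 5,nat_lit 3,nat_lit 1,nat_lit 0],[nat_lit 5,nat_lit 3,nat_lit 2],[nat_lit 5,nat_lit 2,nat_lit 1],[nat_lit 5,nat_lit 4,nat_lit 3,nat_lit 2,nat_lit 1,nat_lit 0],[nat_lit 3,nat_lit 2,nat_lit 1],[nat_lit 8,nat_lit 7,nat_lit 4,nat_lit 2,nat_lit 0],[nat_lit 7,nat_lit 5,nat_lit 3,nat_lit 2,nat_lit 1,nat_lit 0],[nat_lit 7,nat_lit 6,nat_lit 5,nat_lit 4,nat_lit 3,nat_lit 2],[]]],[nat_lit 1],[nat_lit 10,nat_lit 76],[],[],nat_lit 0x4ce3218⟩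
noncomputable def h214 : Hdr :=
  ⟨(nat_lit 6),(nat_lit 10),[[[]],[[nat_lit 0],[nat_lit 0]],[[nat_lit 0],[nat_lit 1,nat_lit 0],[nat_lit 0]],[[nat_lit 0],[nat_lit 1],[nat_lit 2],[nat_lit 0]],[[nat_lit 0],[nat_lit 1],[nat_lit 2],[nat_lit 3],[]],[[nat_lit 0],[nat_lit 1],[nat_lit 2],[nat_lit 3,nat_lit 0],[nat_lit 4,nat_lit 0],[]],[[nat_lit 0],[nat_lit 1],[nat_lit 2,nat_lit 1,nat_lit 0],[nat_lit 3,nat_lit 0],[nat_lit 4],[nat_lit 5],[nat_lit 1]],[[nat_lit 0],[nat_lit 1],[nat_lit 2],[nat_lit 5,nat_lit 4,nat_lit 3],[nat_lit 5,nat_lit 0],[nat_lit 4],[nat_lit 6],[nat_lit 5,nat_lit 4]],[[nat_lit 0],[nat_lit 1],[nat_lit 5,nat_lit 3,nat_lit 2,nat_lit 1],[nat_lit 4,nat_lit 1,nat_lit 0],[nat_lit 3,nat_lit 1],[nat_lit 5,nat_lit 4,nat_lit 3,nat_lit 1,nat_lit 0],[nat_lit 6,nat_lit 5,nat_lit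 3,nat_lit 1],[nat_lit 7,nat_lit 4,nat_lit 3,nat_lit 1],[nat_lit 0]],[[nat_lit 0],[nat_lit 5,nat_lit 3,nat_lit 1,nat_lit 0],[nat_lit 5,nat_lit 3,nat_lit 2],[nat_lit 5,nat_lit 2,nat_lit 1],[nat_lit 5,nat_lit 4,nat_lit 3,nat_lit 2,nat_lit 1,nat_lit 0],[nat_lit 3,nat_lit 2,nat_lit 1],[nat_lit 8,nat_lit 7,nat_lit 4,nat_lit 2,nat_lit 0],[nat_lit 7,nat_lit 5,nat_lit 3,nat_lit 2,nat_lit 1,nat_lit 0],[nat_lit 7,nat_lit 6,nat_lit 5,nat_lit 4,nat_lit 3,nat_lit 2],[]]],[nat_lit 1],[nat_lit 10],[],[⟨[nat_lit 1,nat_lit 2,nat_lit 4,nat_lit 8,nat_lit 16,nat_lit 32],[nat_lit 1,nat_lit 6,nat_lit 2,nat_lit 8,nat_lit 16,nat_lit 32],[]⟩,⟨[nat_lit 1,nat_lit 2,nat_lit 4,nat_lit 8,nat_lit 16,nat_lit 32],[nat_lit 1,nat_lit 4,nat_lit 46,nat_lit 20,nat_lit 12,nat_lit 60],[]⟩,⟨[nat_lit 1,nat_lit 69,nat_lit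 11,nat_lit 16],[nat_lit 69,nat_lit 68,nat_lit 11,nat_lit 16],[nat_lit 0,nat_lit 1,nat_lit 69,nat_lit 68,nat_lit 11,nat_lit 10,nat_lit 78,nat_lit 79,nat_lit 16,nat_lit 17,nat_lit 85,nat_lit 84,nat_lit 27,nat_lit 26,nat_lit 94,nat_lit 95]⟩],nat_lit 0x4ce3218⟩
noncomputable def h215 : Hdr :=
  ⟨(nat_lit 6),(nat_lit 9),[[[]],[[nat_lit 0],[nat_lit 0]],[[nat_lit 0],[nat_lit 1,nat_lit 0],[nat_lit 0]],[[nat_lit 0],[nat_lit 1],[nat_lit 2],[nat_lit 0]],[[nat_lit 0],[nat_lit 1],[nat_lit 2],[nat_lit 3],[]],[[nat_lit 0],[nat_lit 1],[nat_lit 2],[nat_lit 3,nat_lit 0],[nat_lit 4,nat_lit 0],[]],[[nat_lit 0],[nat_lit 1],[nat_lit 2,nat_lit 1,nat_lit 0],[nat_lit 3,nat_lit 0],[nat_lit 4],[nat_lit 5],[nat_lit 1]],[[nat_lit 0],[nat_lit 1],[nat_lit 2],[nat_lit 5,nat_lit 4,nat_lit 3],[nat_lit 5,nat_lit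 0],[nat_lit 4],[nat_lit 6],[nat_lit 5,nat_lit 4]],[[nat_lit 0],[nat_lit 1],[nat_lit 5,nat_lit 3,nat_lit 2,nat_lit 1],[nat_lit 4,nat_lit 1,nat_lit 0],[nat_lit 3,nat_lit 1],[nat_lit 5,nat_lit 4,nat_lit 3,nat_lit 1,nat_lit 0],[nat_lit 6,nat_lit 5,nat_lit 3,nat_lit 1],[nat_lit 7,nat_lit 4,nat_lit 3,nat_lit 1],[nat_lit 0]]],[nat_lit 1],[nat_lit 10],[],[⟨[nat_lit 1,nat_lit 2,nat_lit 4,nat_lit 8,nat_lit 16,nat_lit 32],[nat_lit 1,nat_lit 6,nat_lit 2,nat_lit 8,nat_lit 16,nat_lit 32],[]⟩,⟨[nat_lit 1,nat_lit 2,nat_lit 4,nat_lit 8,nat_lit 16,nat_lit 32],[nat_lit 1,nat_lit 4,nat_lit 46,nat_lit 20,nat_lit 12,nat_lit 60],[]⟩,⟨[nat_lit 1,nat_lit 69,nat_lit 11,nat_lit 16],[nat_lit 69,nat_lit 68,nat_lit 11,nat_lit 16],[nat_lit 0,nat_lit 1,nat_lit 69,nat_lit 68,nat_lit 11,nat_lit 10,nat_lit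 78,nat_lit 79,nat_lit 16,nat_lit 17,nat_lit 85,nat_lit 84,nat_lit 27,nat_lit 26,nat_lit 94,nat_lit 95]⟩],nat_lit 0x4ce3218⟩
noncomputable def h216 : Hdr :=
  ⟨(nat_lit 6),(nat_lit 8),[[[]],[[nat_lit 0],[nat_lit 0]],[[nat_lit 0],[nat_lit 1,nat_lit 0],[nat_lit 0]],[[nat_lit 0],[nat_lit 1],[nat_lit 2],[nat_lit 0]],[[nat_lit 0],[nat_lit 1],[nat_lit 2],[nat_lit 3],[]],[[nat_lit 0],[nat_lit 1],[nat_lit 2],[nat_lit 3,nat_lit 0],[nat_lit 4,nat_lit 0],[]],[[nat_lit 0],[nat_lit 1],[nat_lit 2,nat_lit 1,nat_lit 0],[nat_lit 3,nat_lit 0],[nat_lit 4],[nat_lit 5],[nat_lit 1]],[[nat_lit 0],[nat_lit 1],[nat_lit 5,nat_lit 3,nat_lit 2,nat_lit 1],[nat_lit 4,nat_lit 1,nat_lit 0],[nat_lit 3,nat_lit 1],[nat_lit 5,nat_lit 4,nat_lit 3,nat_lit 1,nat_lit 0],[nat_lit 6,nat_lit 5,nat_lit 3,nat_lit 1],[nat_lit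 0]]],[nat_lit 1],[nat_lit 10],[],[⟨[nat_lit 1,nat_lit 2,nat_lit 4,nat_lit 8,nat_lit 16,nat_lit 32],[nat_lit 1,nat_lit 6,nat_lit 2,nat_lit 8,nat_lit 16,nat_lit 32],[]⟩,⟨[nat_lit 1,nat_lit 2,nat_lit 4,nat_lit 8,nat_lit 16,nat_lit 32],[nat_lit 1,nat_lit 4,nat_lit 46,nat_lit 20,nat_lit 12,nat_lit 60],[]⟩,⟨[nat_lit 1,nat_lit 69,nat_lit 11,nat_lit 16],[nat_lit 69,nat_lit 68,nat_lit 11,nat_lit 16],[nat_lit 0,nat_lit 1,nat_lit 69,nat_lit 68,nat_lit 11,nat_lit 10,nat_lit 78,nat_lit 79,nat_lit 16,nat_lit 17,nat_lit 85,nat_lit 84,nat_lit 27,nat_lit 26,nat_lit 94,nat_lit 95]⟩],nat_lit 0x4ce3218⟩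
noncomputable def h217 : Hdr :=
  ⟨(nat_lit 6),(nat_lit 9),[[[]],[[nat_lit 0],[nat_lit 0]],[[nat_lit 0],[nat_lit 1,nat_lit 0],[nat_lit 0]],[[nat_lit 0],[nat_lit 1],[nat_lit 2],[nat_lit 0]],[[nat_lit 0],[nat_lit 1],[nat_lit 2],[nat_lit 3],[]],[[nat_lit 0],[nat_lit 1],[nat_lit 2],[nat_lit 3,nat_lit 0],[nat_lit 4,nat_lit 0],[]],[[nat_lit 0],[nat_lit 1],[nat_lit 2,nat_lit 1,nat_lit 0],[nat_lit 3,nat_lit 0],[nat_lit 4],[nat_lit 5],[nat_lit 1]],[[nat_lit 0],[nat_lit 1],[nat_lit 5,nat_lit 3,nat_lit 2,nat_lit 0],[nat_lit 5,nat_lit 1,nat_lit 0],[nat_lit 5,nat_lit 4,nat_lit 3,nat_lit 1],[nat_lit 3,nat_lit 1],[nat_lit 6,nat_lit 5,nat_lit 3,nat_lit 1],[nat_lit 1]],[[nat_lit 0],[nat_lit 5,nat_lit 3,nat_lit 1],[nat_lit 5,nat_lit 3,nat_lit 2],[nat_lit 5,nat_lit 2,nat_lit 1,nat_lit 0],[nat_lit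 5,nat_lit 4,nat_lit 3,nat_lit 2,nat_lit 1],[nat_lit 3,nat_lit 2,nat_lit 1],[nat_lit 7,nat_lit 6,nat_lit 3,nat_lit 2,nat_lit 1],[nat_lit 7,nat_lit 2],[nat_lit 4,nat_lit 3,nat_lit 2,nat_lit 1,nat_lit 0]]],[nat_lit 1],[nat_lit 10],[],[⟨[nat_lit 1,nat_lit 2,nat_lit 4,nat_lit 8,nat_lit 16,nat_lit 32],[nat_lit 1,nat_lit 6,nat_lit 2,nat_lit 8,nat_lit 16,nat_lit 32],[]⟩,⟨[nat_lit 1,nat_lit 2,nat_lit 4,nat_lit 8,nat_lit 16,nat_lit 32],[nat_lit 1,nat_lit 4,nat_lit 46,nat_lit 20,nat_lit 12,nat_lit 60],[]⟩,⟨[nat_lit 1,nat_lit 69,nat_lit 11,nat_lit 16],[nat_lit 69,nat_lit 68,nat_lit 11,nat_lit 16],[nat_lit 0,nat_lit 1,nat_lit 69,nat_lit 68,nat_lit 11,nat_lit 10,nat_lit 78,nat_lit 79,nat_lit 16,nat_lit 17,nat_lit 85,nat_lit 84,nat_lit 27,nat_lit 26,nat_lit 94,nat_lit 95]⟩],nat_lit 0x4ce3218⟩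
noncomputable def h218 : Hdr :=
  ⟨(nat_lit 6),(nat_lit 9),[[[]],[[nat_lit 0],[nat_lit 0]],[[nat_lit 0],[nat_lit 1,nat_lit 0],[nat_lit 0]],[[nat_lit 0],[nat_lit 1],[nat_lit 2],[nat_lit 0]],[[nat_lit 0],[nat_lit 1],[nat_lit 2],[nat_lit 3],[]],[[nat_lit 0],[nat_lit 1],[nat_lit 2],[nat_lit 3,nat_lit 0],[nat_lit 4,nat_lit 0],[]],[[nat_lit 0],[nat_lit 1],[nat_lit 2,nat_lit 1,nat_lit 0],[nat_lit 3,nat_lit 0],[nat_lit 4],[nat_lit 5],[nat_lit 1]],[[nat_lit 0],[nat_lit 1],[nat_lit 5,nat_lit 3,nat_lit 2,nat_lit 0],[nat_lit 5,nat_lit 1,nat_lit 0],[nat_lit 5,nat_lit 4,nat_lit 3,nat_lit 1],[nat_lit 3,nat_lit 1],[nat_lit 6,nat_lit 5,nat_lit 3,nat_lit 1],[nat_lit 1]],[[nat_lit 0],[nat_lit 5,nat_lit 3,nat_lit 1],[nat_lit 5,nat_lit 3,nat_lit 2],[nat_lit 5,nat_lit 2,nat_lit 1,nat_lit 0],[nat_lit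 5,nat_lit 4,nat_lit 3,nat_lit 2,nat_lit 1],[nat_lit 3,nat_lit 2,nat_lit 1],[nat_lit 7,nat_lit 6,nat_lit 3,nat_lit 2,nat_lit 1],[nat_lit 7,nat_lit 2,nat_lit 0],[nat_lit 2,nat_lit 1]]],[nat_lit 1],[nat_lit 10],[],[⟨[nat_lit 1,nat_lit 2,nat_lit 4,nat_lit 8,nat_lit 16,nat_lit 32],[nat_lit 1,nat_lit 6,nat_lit 2,nat_lit 8,nat_lit 16,nat_lit 32],[]⟩,⟨[nat_lit 1,nat_lit 2,nat_lit 4,nat_lit 8,nat_lit 16,nat_lit 32],[nat_lit 1,nat_lit 4,nat_lit 46,nat_lit 20,nat_lit 12,nat_lit 60],[]⟩,⟨[nat_lit 1,nat_lit 69,nat_lit 11,nat_lit 16],[nat_lit 69,nat_lit 68,nat_lit 11,nat_lit 16],[nat_lit 0,nat_lit 1,nat_lit 69,nat_lit 68,nat_lit 11,nat_lit 10,nat_lit 78,nat_lit 79,nat_lit 16,nat_lit 17,nat_lit 85,nat_lit 84,nat_lit 27,nat_lit 26,nat_lit 94,nat_lit 95]⟩],nat_lit 0x4ce3218⟩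
noncomputable def h219 : Hdr :=
  ⟨(nat_lit 6),(nat_lit 9),[[[]],[[nat_lit 0],[nat_lit 0]],[[nat_lit 0],[nat_lit 1,nat_lit 0],[nat_lit 0]],[[nat_lit 0],[nat_lit 1],[nat_lit 2],[nat_lit 0]],[[nat_lit 0],[nat_lit 1],[nat_lit 2],[nat_lit 3],[]],[[nat_lit 0],[nat_lit 1],[nat_lit 2],[nat_lit 3,nat_lit 0],[nat_lit 4,nat_lit 0],[]],[[nat_lit 0],[nat_lit 1],[nat_lit 2,nat_lit 1,nat_lit 0],[nat_lit 3,nat_lit 0],[nat_lit 4],[nat_lit 5],[nat_lit 1]],[[nat_lit 0],[nat_lit 1],[nat_lit 5,nat_lit 3,nat_lit 2,nat_lit 0],[nat_lit 5,nat_lit 1,nat_lit 0],[nat_lit 5,nat_lit 4,nat_lit 3,nat_lit 1],[nat_lit 3,nat_lit 1],[nat_lit 6,nat_lit 5,nat_lit 3,nat_lit 1],[nat_lit 1]],[[nat_lit 0],[nat_lit 5,nat_lit 3,nat_lit 1],[nat_lit 2,nat_lit 1,nat_lit 0],[nat_lit 5,nat_lit 2,nat_lit 1,nat_lit 0],[nat_lit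 5,nat_lit 4,nat_lit 3,nat_lit 2,nat_lit 1,nat_lit 0],[nat_lit 3,nat_lit 2,nat_lit 1],[nat_lit 7,nat_lit 6,nat_lit 4,nat_lit 2,nat_lit 1,nat_lit 0],[nat_lit 7,nat_lit 2],[nat_lit 7,nat_lit 4,nat_lit 2,nat_lit 1]]],[nat_lit 1],[nat_lit 10],[],[⟨[nat_lit 1,nat_lit 2,nat_lit 4,nat_lit 8,nat_lit 16,nat_lit 32],[nat_lit 1,nat_lit 6,nat_lit 2,nat_lit 8,nat_lit 16,nat_lit 32],[]⟩,⟨[nat_lit 1,nat_lit 2,nat_lit 4,nat_lit 8,nat_lit 16,nat_lit 32],[nat_lit 1,nat_lit 4,nat_lit 46,nat_lit 20,nat_lit 12,nat_lit 60],[]⟩,⟨[nat_lit 1,nat_lit 69,nat_lit 11,nat_lit 16],[nat_lit 69,nat_lit 68,nat_lit 11,nat_lit 16],[nat_lit 0,nat_lit 1,nat_lit 69,nat_lit 68,nat_lit 11,nat_lit 10,nat_lit 78,nat_lit 79,nat_lit 16,nat_lit 17,nat_lit 85,nat_lit 84,nat_lit 27,nat_lit 26,nat_lit 94,nat_lit 95]⟩],nat_lit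 0x4ce3218⟩
noncomputable def h220 : Hdr :=
  ⟨(nat_lit 6),(nat_lit 9),[[[]],[[nat_lit 0],[nat_lit 0]],[[nat_lit 0],[nat_lit 1,nat_lit 0],[nat_lit 0]],[[nat_lit 0],[nat_lit 1],[nat_lit 2],[nat_lit 0]],[[nat_lit 0],[nat_lit 1],[nat_lit 2],[nat_lit 3],[]],[[nat_lit 0],[nat_lit 1],[nat_lit 2],[nat_lit 3,nat_lit 0],[nat_lit 4,nat_lit 0],[]],[[nat_lit 0],[nat_lit 1],[nat_lit 2,nat_lit 1,nat_lit 0],[nat_lit 3,nat_lit 0],[nat_lit 4],[nat_lit 5],[nat_lit 1]],[[nat_lit 0],[nat_lit 1],[nat_lit 5,nat_lit 3,nat_lit 2,nat_lit 0],[nat_lit 5,nat_lit 1,nat_lit 0],[nat_lit 5,nat_lit 4,nat_lit 3,nat_lit 1],[nat_lit 3,nat_lit 1],[nat_lit 6,nat_lit 5,nat_lit 3,nat_lit 1],[nat_lit 1]],[[nat_lit 0],[nat_lit 5,nat_lit 3,nat_lit 1],[nat_lit 2,nat_lit 1,nat_lit 0],[nat_lit 5,nat_lit 2,nat_lit 1,nat_lit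 0],[nat_lit 5,nat_lit 4,nat_lit 3,nat_lit 2,nat_lit 1,nat_lit 0],[nat_lit 3,nat_lit 2,nat_lit 1],[nat_lit 7,nat_lit 6,nat_lit 4,nat_lit 2,nat_lit 1,nat_lit 0],[nat_lit 7,nat_lit 2,nat_lit 0],[nat_lit 7,nat_lit 3,nat_lit 2,nat_lit 1]]],[nat_lit 1],[nat_lit 10],[],[⟨[nat_lit 1,nat_lit 2,nat_lit 4,nat_lit 8,nat_lit 16,nat_lit 32],[nat_lit 1,nat_lit 6,nat_lit 2,nat_lit 8,nat_lit 16,nat_lit 32],[]⟩,⟨[nat_lit 1,nat_lit 2,nat_lit 4,nat_lit 8,nat_lit 16,nat_lit 32],[nat_lit 1,nat_lit 4,nat_lit 46,nat_lit 20,nat_lit 12,nat_lit 60],[]⟩,⟨[nat_lit 1,nat_lit 69,nat_lit 11,nat_lit 16],[nat_lit 69,nat_lit 68,nat_lit 11,nat_lit 16],[nat_lit 0,nat_lit 1,nat_lit 69,nat_lit 68,nat_lit 11,nat_lit 10,nat_lit 78,nat_lit 79,nat_lit 16,nat_lit 17,nat_lit 85,nat_lit 84,nat_lit 27,nat_lit 26,nat_lit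 94,nat_lit 95]⟩],nat_lit 0x4ce3218⟩
noncomputable def h221 : Hdr :=
  ⟨(nat_lit 6),(nat_lit 9),[[[]],[[nat_lit 0],[nat_lit 0]],[[nat_lit 0],[nat_lit 1,nat_lit 0],[nat_lit 0]],[[nat_lit 0],[nat_lit 1],[nat_lit 2],[nat_lit 0]],[[nat_lit 0],[nat_lit 1],[nat_lit 2],[nat_lit 3],[]],[[nat_lit 0],[nat_lit 1],[nat_lit 2],[nat_lit 3,nat_lit 0],[nat_lit 4,nat_lit 0],[]],[[nat_lit 0],[nat_lit 1],[nat_lit 2,nat_lit 1,nat_lit 0],[nat_lit 3,nat_lit 0],[nat_lit 4],[nat_lit 5],[nat_lit 1]],[[nat_lit 0],[nat_lit 1],[nat_lit 5,nat_lit 3,nat_lit 2,nat_lit 0],[nat_lit 5,nat_lit 1,nat_lit 0],[nat_lit 5,nat_lit 4,nat_lit 3,nat_lit 1],[nat_lit 3,nat_lit 1],[nat_lit 6,nat_lit 5,nat_lit 3,nat_lit 1],[nat_lit 1]],[[nat_lit 0],[nat_lit 5,nat_lit 3,nat_lit 1,nat_lit 0],[nat_lit 2,nat_lit 1,nat_lit 0],[nat_lit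 4,nat_lit 2,nat_lit 1,nat_lit 0],[nat_lit 3,nat_lit 2,nat_lit 1],[nat_lit 5,nat_lit 4,nat_lit 3,nat_lit 2,nat_lit 1],[nat_lit 7,nat_lit 6,nat_lit 5,nat_lit 4,nat_lit 3,nat_lit 2],[nat_lit 7,nat_lit 4,nat_lit 3,nat_lit 2,nat_lit 1],[nat_lit 7,nat_lit 3,nat_lit 0]]],[nat_lit 1],[nat_lit 10],[],[⟨[nat_lit 1,nat_lit 2,nat_lit 4,nat_lit 8,nat_lit 16,nat_lit 32],[nat_lit 1,nat_lit 6,nat_lit 2,nat_lit 8,nat_lit 16,nat_lit 32],[]⟩,⟨[nat_lit 1,nat_lit 2,nat_lit 4,nat_lit 8,nat_lit 16,nat_lit 32],[nat_lit 1,nat_lit 4,nat_lit 46,nat_lit 20,nat_lit 12,nat_lit 60],[]⟩,⟨[nat_lit 1,nat_lit 69,nat_lit 11,nat_lit 16],[nat_lit 69,nat_lit 68,nat_lit 11,nat_lit 16],[nat_lit 0,nat_lit 1,nat_lit 69,nat_lit 68,nat_lit 11,nat_lit 10,nat_lit 78,nat_lit 79,nat_lit 16,nat_lit 17,nat_lit 85,nat_lit 84,nat_lit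 27,nat_lit 26,nat_lit 94,nat_lit 95]⟩],nat_lit 0x4ce3218⟩
noncomputable def h222 : Hdr :=
  ⟨(nat_lit 6),(nat_lit 9),[[[]],[[nat_lit 0],[nat_lit 0]],[[nat_lit 0],[nat_lit 1,nat_lit 0],[nat_lit 0]],[[nat_lit 0],[nat_lit 1],[nat_lit 2],[nat_lit 0]],[[nat_lit 0],[nat_lit 1],[nat_lit 2],[nat_lit 3],[]],[[nat_lit 0],[nat_lit 1],[nat_lit 2],[nat_lit 3,nat_lit 0],[nat_lit 4,nat_lit 0],[]],[[nat_lit 0],[nat_lit 1],[nat_lit 2,nat_lit 1,nat_lit 0],[nat_lit 3,nat_lit 0],[nat_lit 4],[nat_lit 5],[nat_lit 1]],[[nat_lit 0],[nat_lit 1],[nat_lit 5,nat_lit 3,nat_lit 2,nat_lit 0],[nat_lit 5,nat_lit 1,nat_lit 0],[nat_lit 5,nat_lit 4,nat_lit 3,nat_lit 1],[nat_lit 3,nat_lit 1],[nat_lit 6,nat_lit 5,nat_lit 3,nat_lit 1],[nat_lit 1]],[[nat_lit 0],[nat_lit 5,nat_lit 3,nat_lit 1,nat_lit 0],[nat_lit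 2,nat_lit 1,nat_lit 0],[nat_lit 4,nat_lit 2,nat_lit 1,nat_lit 0],[nat_lit 3,nat_lit 2,nat_lit 1],[nat_lit 5,nat_lit 4,nat_lit 3,nat_lit 2,nat_lit 1],[nat_lit 7,nat_lit 6,nat_lit 5,nat_lit 4,nat_lit 3,nat_lit 2],[nat_lit 7,nat_lit 4,nat_lit 3,nat_lit 2,nat_lit 1],[nat_lit 7,nat_lit 3]]],[nat_lit 1],[nat_lit 10],[],[⟨[nat_lit 1,nat_lit 2,nat_lit 4,nat_lit 8,nat_lit 16,nat_lit 32],[nat_lit 1,nat_lit 6,nat_lit 2,nat_lit 8,nat_lit 16,nat_lit 32],[]⟩,⟨[nat_lit 1,nat_lit 2,nat_lit 4,nat_lit 8,nat_lit 16,nat_lit 32],[nat_lit 1,nat_lit 4,nat_lit 46,nat_lit 20,nat_lit 12,nat_lit 60],[]⟩,⟨[nat_lit 1,nat_lit 69,nat_lit 11,nat_lit 16],[nat_lit 69,nat_lit 68,nat_lit 11,nat_lit 16],[nat_lit 0,nat_lit 1,nat_lit 69,nat_lit 68,nat_lit 11,nat_lit 10,nat_lit 78,nat_lit 79,nat_lit 16,nat_lit 17,nat_lit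 85,nat_lit 84,nat_lit 27,nat_lit 26,nat_lit 94,nat_lit 95]⟩],nat_lit 0x4ce3218⟩
noncomputable def h223 : Hdr :=
  ⟨(nat_lit 6),(nat_lit 9),[[[]],[[nat_lit 0],[nat_lit 0]],[[nat_lit 0],[nat_lit 1,nat_lit 0],[nat_lit 0]],[[nat_lit 0],[nat_lit 1],[nat_lit 2],[nat_lit 0]],[[nat_lit 0],[nat_lit 1],[nat_lit 2],[nat_lit 3],[]],[[nat_lit 0],[nat_lit 1],[nat_lit 2],[nat_lit 3,nat_lit 0],[nat_lit 4,nat_lit 0],[]],[[nat_lit 0],[nat_lit 1],[nat_lit 2,nat_lit 1,nat_lit 0],[nat_lit 3,nat_lit 0],[nat_lit 4],[nat_lit 5],[nat_lit 1]],[[nat_lit 0],[nat_lit 1],[nat_lit 5,nat_lit 3,nat_lit 2,nat_lit 0],[nat_lit 5,nat_lit 1,nat_lit 0],[nat_lit 5,nat_lit 4,nat_lit 3,nat_lit 1],[nat_lit 3,nat_lit 1],[nat_lit 6,nat_lit 5,nat_lit 3,nat_lit 1],[nat_lit 1]],[[nat_lit 0],[nat_lit 5,nat_lit 3,nat_lit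 1,nat_lit 0],[nat_lit 5,nat_lit 3,nat_lit 2],[nat_lit 4,nat_lit 2,nat_lit 1,nat_lit 0],[nat_lit 3,nat_lit 2,nat_lit 1,nat_lit 0],[nat_lit 5,nat_lit 4,nat_lit 3,nat_lit 2,nat_lit 1,nat_lit 0],[nat_lit 7,nat_lit 6,nat_lit 5,nat_lit 2],[nat_lit 7,nat_lit 4,nat_lit 3,nat_lit 2],[nat_lit 4,nat_lit 3,nat_lit 2,nat_lit 1,nat_lit 0]]],[nat_lit 1],[nat_lit 10],[],[⟨[nat_lit 1,nat_lit 2,nat_lit 4,nat_lit 8,nat_lit 16,nat_lit 32],[nat_lit 1,nat_lit 6,nat_lit 2,nat_lit 8,nat_lit 16,nat_lit 32],[]⟩,⟨[nat_lit 1,nat_lit 2,nat_lit 4,nat_lit 8,nat_lit 16,nat_lit 32],[nat_lit 1,nat_lit 4,nat_lit 46,nat_lit 20,nat_lit 12,nat_lit 60],[]⟩,⟨[nat_lit 1,nat_lit 69,nat_lit 11,nat_lit 16],[nat_lit 69,nat_lit 68,nat_lit 11,nat_lit 16],[nat_lit 0,nat_lit 1,nat_lit 69,nat_lit 68,nat_lit 11,nat_lit 10,nat_lit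 78,nat_lit 79,nat_lit 16,nat_lit 17,nat_lit 85,nat_lit 84,nat_lit 27,nat_lit 26,nat_lit 94,nat_lit 95]⟩],nat_lit 0x4ce3218⟩
noncomputable def h224 : Hdr :=
  ⟨(nat_lit 6),(nat_lit 9),[[[]],[[nat_lit 0],[nat_lit 0]],[[nat_lit 0],[nat_lit 1,nat_lit 0],[nat_lit 0]],[[nat_lit 0],[nat_lit 1],[nat_lit 2],[nat_lit 0]],[[nat_lit 0],[nat_lit 1],[nat_lit 2],[nat_lit 3],[]],[[nat_lit 0],[nat_lit 1],[nat_lit 2],[nat_lit 3,nat_lit 0],[nat_lit 4,nat_lit 0],[]],[[nat_lit 0],[nat_lit 1],[nat_lit 2,nat_lit 1,nat_lit 0],[nat_lit 3,nat_lit 0],[nat_lit 4],[nat_lit 5],[nat_lit 1]],[[nat_lit 0],[nat_lit 1],[nat_lit 5,nat_lit 3,nat_lit 2,nat_lit 0],[nat_lit 5,nat_lit 1,nat_lit 0],[nat_lit 5,nat_lit 4,nat_lit 3,nat_lit 1],[nat_lit 3,nat_lit 1],[nat_lit 6,nat_lit 5,nat_lit 3,nat_lit 1],[nat_lit 1]],[[nat_lit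 0],[nat_lit 5,nat_lit 3,nat_lit 1,nat_lit 0],[nat_lit 5,nat_lit 3,nat_lit 2],[nat_lit 4,nat_lit 2,nat_lit 1,nat_lit 0],[nat_lit 3,nat_lit 2,nat_lit 1,nat_lit 0],[nat_lit 5,nat_lit 4,nat_lit 3,nat_lit 2,nat_lit 1,nat_lit 0],[nat_lit 7,nat_lit 6,nat_lit 5,nat_lit 2],[nat_lit 7,nat_lit 4,nat_lit 3,nat_lit 2],[nat_lit 4,nat_lit 3,nat_lit 2,nat_lit 1]]],[nat_lit 1],[nat_lit 10],[],[⟨[nat_lit 1,nat_lit 2,nat_lit 4,nat_lit 8,nat_lit 16,nat_lit 32],[nat_lit 1,nat_lit 6,nat_lit 2,nat_lit 8,nat_lit 16,nat_lit 32],[]⟩,⟨[nat_lit 1,nat_lit 2,nat_lit 4,nat_lit 8,nat_lit 16,nat_lit 32],[nat_lit 1,nat_lit 4,nat_lit 46,nat_lit 20,nat_lit 12,nat_lit 60],[]⟩,⟨[nat_lit 1,nat_lit 69,nat_lit 11,nat_lit 16],[nat_lit 69,nat_lit 68,nat_lit 11,nat_lit 16],[nat_lit 0,nat_lit 1,nat_lit 69,nat_lit 68,nat_lit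 11,nat_lit 10,nat_lit 78,nat_lit 79,nat_lit 16,nat_lit 17,nat_lit 85,nat_lit 84,nat_lit 27,nat_lit 26,nat_lit 94,nat_lit 95]⟩],nat_lit 0x4ce3218⟩
noncomputable def h225 : Hdr :=
  ⟨(nat_lit 6),(nat_lit 8),[[[]],[[nat_lit 0],[nat_lit 0]],[[nat_lit 0],[nat_lit 1,nat_lit 0],[nat_lit 0]],[[nat_lit 0],[nat_lit 1],[nat_lit 2],[nat_lit 0]],[[nat_lit 0],[nat_lit 1],[nat_lit 2],[nat_lit 3],[]],[[nat_lit 0],[nat_lit 1],[nat_lit 2],[nat_lit 3,nat_lit 0],[nat_lit 4,nat_lit 0],[]],[[nat_lit 0],[nat_lit 1],[nat_lit 2,nat_lit 1,nat_lit 0],[nat_lit 3,nat_lit 0],[nat_lit 4],[nat_lit 5],[nat_lit 1]],[[nat_lit 0],[nat_lit 1],[nat_lit 5,nat_lit 3,nat_lit 2,nat_lit 0],[nat_lit 5,nat_lit 1,nat_lit 0],[nat_lit 5,nat_lit 4,nat_lit 3,nat_lit 1],[nat_lit 3,nat_lit 1],[nat_lit 6,nat_lit 5,nat_lit 3,nat_lit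 1],[nat_lit 1]]],[nat_lit 1],[nat_lit 10],[],[⟨[nat_lit 1,nat_lit 2,nat_lit 4,nat_lit 8,nat_lit 16,nat_lit 32],[nat_lit 1,nat_lit 6,nat_lit 2,nat_lit 8,nat_lit 16,nat_lit 32],[]⟩,⟨[nat_lit 1,nat_lit 2,nat_lit 4,nat_lit 8,nat_lit 16,nat_lit 32],[nat_lit 1,nat_lit 4,nat_lit 46,nat_lit 20,nat_lit 12,nat_lit 60],[]⟩,⟨[nat_lit 1,nat_lit 69,nat_lit 11,nat_lit 16],[nat_lit 69,nat_lit 68,nat_lit 11,nat_lit 16],[nat_lit 0,nat_lit 1,nat_lit 69,nat_lit 68,nat_lit 11,nat_lit 10,nat_lit 78,nat_lit 79,nat_lit 16,nat_lit 17,nat_lit 85,nat_lit 84,nat_lit 27,nat_lit 26,nat_lit 94,nat_lit 95]⟩],nat_lit 0x4ce3218⟩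
noncomputable def h226 : Hdr :=
  ⟨(nat_lit 6),(nat_lit 9),[[[]],[[nat_lit 0],[nat_lit 0]],[[nat_lit 0],[nat_lit 1,nat_lit 0],[nat_lit 0]],[[nat_lit 0],[nat_lit 1],[nat_lit 2],[nat_lit 0]],[[nat_lit 0],[nat_lit 1],[nat_lit 2],[nat_lit 3],[]],[[nat_lit 0],[nat_lit 1],[nat_lit 2],[nat_lit 3,nat_lit 0],[nat_lit 4,nat_lit 0],[]],[[nat_lit 0],[nat_lit 1],[nat_lit 2,nat_lit 1,nat_lit 0],[nat_lit 3,nat_lit 0],[nat_lit 4],[nat_lit 5],[nat_lit 1]],[[nat_lit 0],[nat_lit 1],[nat_lit 5,nat_lit 3,nat_lit 2,nat_lit 1,nat_lit 0],[nat_lit 5,nat_lit 1,nat_lit 0],[nat_lit 5,nat_lit 4,nat_lit 3,nat_lit 1,nat_lit 0],[nat_lit 3,nat_lit 1,nat_lit 0],[nat_lit 6,nat_lit 5,nat_lit 4,nat_lit 1],[nat_lit 5,nat_lit 3,nat_lit 1]],[[nat_lit 0],[nat_lit 5,nat_lit 3,nat_lit 1,nat_lit 0],[nat_lit 5,nat_lit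 3,nat_lit 2],[nat_lit 4,nat_lit 2,nat_lit 1,nat_lit 0],[nat_lit 3,nat_lit 2,nat_lit 1,nat_lit 0],[nat_lit 5,nat_lit 4,nat_lit 3,nat_lit 2,nat_lit 1,nat_lit 0],[nat_lit 7,nat_lit 5,nat_lit 2],[nat_lit 6,nat_lit 4,nat_lit 0],[nat_lit 4,nat_lit 3,nat_lit 2,nat_lit 1,nat_lit 0]]],[nat_lit 1],[nat_lit 10],[],[⟨[nat_lit 1,nat_lit 2,nat_lit 4,nat_lit 8,nat_lit 16,nat_lit 32],[nat_lit 1,nat_lit 6,nat_lit 2,nat_lit 8,nat_lit 16,nat_lit 32],[]⟩,⟨[nat_lit 1,nat_lit 2,nat_lit 4,nat_lit 8,nat_lit 16,nat_lit 32],[nat_lit 1,nat_lit 4,nat_lit 46,nat_lit 20,nat_lit 12,nat_lit 60],[]⟩,⟨[nat_lit 1,nat_lit 69,nat_lit 11,nat_lit 16],[nat_lit 69,nat_lit 68,nat_lit 11,nat_lit 16],[nat_lit 0,nat_lit 1,nat_lit 69,nat_lit 68,nat_lit 11,nat_lit 10,nat_lit 78,nat_lit 79,nat_lit 16,nat_lit 17,nat_lit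 85,nat_lit 84,nat_lit 27,nat_lit 26,nat_lit 94,nat_lit 95]⟩],nat_lit 0x4ce3218⟩
noncomputable def h227 : Hdr :=
  ⟨(nat_lit 6),(nat_lit 9),[[[]],[[nat_lit 0],[nat_lit 0]],[[nat_lit 0],[nat_lit 1,nat_lit 0],[nat_lit 0]],[[nat_lit 0],[nat_lit 1],[nat_lit 2],[nat_lit 0]],[[nat_lit 0],[nat_lit 1],[nat_lit 2],[nat_lit 3],[]],[[nat_lit 0],[nat_lit 1],[nat_lit 2],[nat_lit 3,nat_lit 0],[nat_lit 4,nat_lit 0],[]],[[nat_lit 0],[nat_lit 1],[nat_lit 2,nat_lit 1,nat_lit 0],[nat_lit 3,nat_lit 0],[nat_lit 4],[nat_lit 5],[nat_lit 1]],[[nat_lit 0],[nat_lit 1],[nat_lit 5,nat_lit 3,nat_lit 2,nat_lit 1,nat_lit 0],[nat_lit 5,nat_lit 1,nat_lit 0],[nat_lit 5,nat_lit 4,nat_lit 3,nat_lit 1,nat_lit 0],[nat_lit 3,nat_lit 1,nat_lit 0],[nat_lit 6,nat_lit 5,nat_lit 4,nat_lit 1],[nat_lit 5,nat_lit 3,nat_lit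 1]],[[nat_lit 0],[nat_lit 5,nat_lit 3,nat_lit 1,nat_lit 0],[nat_lit 5,nat_lit 3,nat_lit 2],[nat_lit 4,nat_lit 2,nat_lit 1,nat_lit 0],[nat_lit 3,nat_lit 2,nat_lit 1,nat_lit 0],[nat_lit 5,nat_lit 4,nat_lit 3,nat_lit 2,nat_lit 1,nat_lit 0],[nat_lit 7,nat_lit 5,nat_lit 2],[nat_lit 6,nat_lit 4,nat_lit 0],[nat_lit 4,nat_lit 3,nat_lit 2,nat_lit 1]]],[nat_lit 1],[nat_lit 10],[],[⟨[nat_lit 1,nat_lit 2,nat_lit 4,nat_lit 8,nat_lit 16,nat_lit 32],[nat_lit 1,nat_lit 6,nat_lit 2,nat_lit 8,nat_lit 16,nat_lit 32],[]⟩,⟨[nat_lit 1,nat_lit 2,nat_lit 4,nat_lit 8,nat_lit 16,nat_lit 32],[nat_lit 1,nat_lit 4,nat_lit 46,nat_lit 20,nat_lit 12,nat_lit 60],[]⟩,⟨[nat_lit 1,nat_lit 69,nat_lit 11,nat_lit 16],[nat_lit 69,nat_lit 68,nat_lit 11,nat_lit 16],[nat_lit 0,nat_lit 1,nat_lit 69,nat_lit 68,nat_lit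 11,nat_lit 10,nat_lit 78,nat_lit 79,nat_lit 16,nat_lit 17,nat_lit 85,nat_lit 84,nat_lit 27,nat_lit 26,nat_lit 94,nat_lit 95]⟩],nat_lit 0x4ce3218⟩
noncomputable def h228 : Hdr :=
  ⟨(nat_lit 6),(nat_lit 8),[[[]],[[nat_lit 0],[nat_lit 0]],[[nat_lit 0],[nat_lit 1,nat_lit 0],[nat_lit 0]],[[nat_lit 0],[nat_lit 1],[nat_lit 2],[nat_lit 0]],[[nat_lit 0],[nat_lit 1],[nat_lit 2],[nat_lit 3],[]],[[nat_lit 0],[nat_lit 1],[nat_lit 2],[nat_lit 3,nat_lit 0],[nat_lit 4,nat_lit 0],[]],[[nat_lit 0],[nat_lit 1],[nat_lit 2,nat_lit 1,nat_lit 0],[nat_lit 3,nat_lit 0],[nat_lit 4],[nat_lit 5],[nat_lit 1]],[[nat_lit 0],[nat_lit 1],[nat_lit 5,nat_lit 3,nat_lit 2,nat_lit 1,nat_lit 0],[nat_lit 5,nat_lit 1,nat_lit 0],[nat_lit 5,nat_lit 4,nat_lit 3,nat_lit 1,nat_lit 0],[nat_lit 3,nat_lit 1,nat_lit 0],[nat_lit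 6,nat_lit 5,nat_lit 4,nat_lit 1],[nat_lit 5,nat_lit 3,nat_lit 1]]],[nat_lit 1],[nat_lit 10],[],[⟨[nat_lit 1,nat_lit 2,nat_lit 4,nat_lit 8,nat_lit 16,nat_lit 32],[nat_lit 1,nat_lit 6,nat_lit 2,nat_lit 8,nat_lit 16,nat_lit 32],[]⟩,⟨[nat_lit 1,nat_lit 2,nat_lit 4,nat_lit 8,nat_lit 16,nat_lit 32],[nat_lit 1,nat_lit 4,nat_lit 46,nat_lit 20,nat_lit 12,nat_lit 60],[]⟩,⟨[nat_lit 1,nat_lit 69,nat_lit 11,nat_lit 16],[nat_lit 69,nat_lit 68,nat_lit 11,nat_lit 16],[nat_lit 0,nat_lit 1,nat_lit 69,nat_lit 68,nat_lit 11,nat_lit 10,nat_lit 78,nat_lit 79,nat_lit 16,nat_lit 17,nat_lit 85,nat_lit 84,nat_lit 27,nat_lit 26,nat_lit 94,nat_lit 95]⟩],nat_lit 0x4ce3218⟩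
noncomputable def h229 : Hdr :=
  ⟨(nat_lit 6),(nat_lit 8),[[[]],[[nat_lit 0],[nat_lit 0]],[[nat_lit 0],[nat_lit 1,nat_lit 0],[nat_lit 0]],[[nat_lit 0],[nat_lit 1],[nat_lit 2],[nat_lit 0]],[[nat_lit 0],[nat_lit 1],[nat_lit 2],[nat_lit 3],[]],[[nat_lit 0],[nat_lit 1],[nat_lit 2],[nat_lit 3,nat_lit 0],[nat_lit 4,nat_lit 0],[]],[[nat_lit 0],[nat_lit 1],[nat_lit 2,nat_lit 1,nat_lit 0],[nat_lit 3,nat_lit 0],[nat_lit 4],[nat_lit 5],[nat_lit 1]],[[nat_lit 0],[nat_lit 1],[nat_lit 2],[nat_lit 5,nat_lit 4,nat_lit 3],[nat_lit 5,nat_lit 0],[nat_lit 4],[nat_lit 6,nat_lit 4,nat_lit 3],[nat_lit 5,nat_lit 4]]],[nat_lit 1],[nat_lit 10],[],[⟨[nat_lit 1,nat_lit 2,nat_lit 4,nat_lit 8,nat_lit 16,nat_lit 32],[nat_lit 1,nat_lit 6,nat_lit 2,nat_lit 8,nat_lit 16,nat_lit 32],[]⟩,⟨[nat_lit 1,nat_lit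 2,nat_lit 4,nat_lit 8,nat_lit 16,nat_lit 32],[nat_lit 1,nat_lit 4,nat_lit 46,nat_lit 20,nat_lit 12,nat_lit 60],[]⟩,⟨[nat_lit 1,nat_lit 69,nat_lit 11,nat_lit 16],[nat_lit 69,nat_lit 68,nat_lit 11,nat_lit 16],[nat_lit 0,nat_lit 1,nat_lit 69,nat_lit 68,nat_lit 11,nat_lit 10,nat_lit 78,nat_lit 79,nat_lit 16,nat_lit 17,nat_lit 85,nat_lit 84,nat_lit 27,nat_lit 26,nat_lit 94,nat_lit 95]⟩],nat_lit 0x4ce3218⟩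
noncomputable def h230 : Hdr :=
  ⟨(nat_lit 6),(nat_lit 8),[[[]],[[nat_lit 0],[nat_lit 0]],[[nat_lit 0],[nat_lit 1,nat_lit 0],[nat_lit 0]],[[nat_lit 0],[nat_lit 1],[nat_lit 2],[nat_lit 0]],[[nat_lit 0],[nat_lit 1],[nat_lit 2],[nat_lit 3],[]],[[nat_lit 0],[nat_lit 1],[nat_lit 2],[nat_lit 3,nat_lit 0],[nat_lit 4,nat_lit 0],[]],[[nat_lit 0],[nat_lit 1],[nat_lit 2,nat_lit 1,nat_lit 0],[nat_lit 3,nat_lit 0],[nat_lit 4],[nat_lit 5],[nat_lit 1]],[[nat_lit 0],[nat_lit 1],[nat_lit 2],[nat_lit 5,nat_lit 4,nat_lit 3],[nat_lit 5,nat_lit 0],[nat_lit 4],[nat_lit 6,nat_lit 4,nat_lit 3],[nat_lit 5,nat_lit 4,nat_lit 0]]],[nat_lit 1],[nat_lit 10],[],[⟨[nat_lit 1,nat_lit 2,nat_lit 4,nat_lit 8,nat_lit 16,nat_lit 32],[nat_lit 1,nat_lit 6,nat_lit 2,nat_lit 8,nat_lit 16,nat_lit 32],[]⟩,⟨[nat_lit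 1,nat_lit 2,nat_lit 4,nat_lit 8,nat_lit 16,nat_lit 32],[nat_lit 1,nat_lit 4,nat_lit 46,nat_lit 20,nat_lit 12,nat_lit 60],[]⟩,⟨[nat_lit 1,nat_lit 69,nat_lit 11,nat_lit 16],[nat_lit 69,nat_lit 68,nat_lit 11,nat_lit 16],[nat_lit 0,nat_lit 1,nat_lit 69,nat_lit 68,nat_lit 11,nat_lit 10,nat_lit 78,nat_lit 79,nat_lit 16,nat_lit 17,nat_lit 85,nat_lit 84,nat_lit 27,nat_lit 26,nat_lit 94,nat_lit 95]⟩],nat_lit 0x4ce3218⟩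
noncomputable def h231 : Hdr :=
  ⟨(nat_lit 6),(nat_lit 8),[[[]],[[nat_lit 0],[nat_lit 0]],[[nat_lit 0],[nat_lit 1,nat_lit 0],[nat_lit 0]],[[nat_lit 0],[nat_lit 1],[nat_lit 2],[nat_lit 0]],[[nat_lit 0],[nat_lit 1],[nat_lit 2],[nat_lit 3],[]],[[nat_lit 0],[nat_lit 1],[nat_lit 2],[nat_lit 3,nat_lit 0],[nat_lit 4,nat_lit 0],[]],[[nat_lit 0],[nat_lit 1],[nat_lit 2,nat_lit 1,nat_lit 0],[nat_lit 3,nat_lit 0],[nat_lit 4],[nat_lit 5],[nat_lit 1]],[[nat_lit 0],[nat_lit 1],[nat_lit 2],[nat_lit 5,nat_lit 4,nat_lit 3],[nat_lit 5,nat_lit 0],[nat_lit 4],[nat_lit 6],[nat_lit 5,nat_lit 4]]],[nat_lit 1],[nat_lit 10],[],[⟨[nat_lit 1,nat_lit 2,nat_lit 4,nat_lit 8,nat_lit 16,nat_lit 32],[nat_lit 1,nat_lit 6,nat_lit 2,nat_lit 8,nat_lit 16,nat_lit 32],[]⟩,⟨[nat_lit 1,nat_lit 2,nat_lit 4,nat_lit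 8,nat_lit 16,nat_lit 32],[nat_lit 1,nat_lit 4,nat_lit 46,nat_lit 20,nat_lit 12,nat_lit 60],[]⟩,⟨[nat_lit 1,nat_lit 69,nat_lit 11,nat_lit 16],[nat_lit 69,nat_lit 68,nat_lit 11,nat_lit 16],[nat_lit 0,nat_lit 1,nat_lit 69,nat_lit 68,nat_lit 11,nat_lit 10,nat_lit 78,nat_lit 79,nat_lit 16,nat_lit 17,nat_lit 85,nat_lit 84,nat_lit 27,nat_lit 26,nat_lit 94,nat_lit 95]⟩],nat_lit 0x4ce3218⟩
noncomputable def h232 : Hdr :=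
  ⟨(nat_lit 6),(nat_lit 8),[[[]],[[nat_lit 0],[nat_lit 0]],[[nat_lit 0],[nat_lit 1,nat_lit 0],[nat_lit 0]],[[nat_lit 0],[nat_lit 1],[nat_lit 2],[nat_lit 0]],[[nat_lit 0],[nat_lit 1],[nat_lit 2],[nat_lit 3],[]],[[nat_lit 0],[nat_lit 1],[nat_lit 2],[nat_lit 3,nat_lit 0],[nat_lit 4,nat_lit 0],[]],[[nat_lit 0],[nat_lit 1],[nat_lit 2,nat_lit 1,nat_lit 0],[nat_lit 3,nat_lit 0],[nat_lit 4],[nat_lit 5],[nat_lit 1]],[[nat_lit 0],[nat_lit 1],[nat_lit 2],[nat_lit 5,nat_lit 4,nat_lit 3],[nat_lit 5,nat_lit 0],[nat_lit 4],[nat_lit 6],[nat_lit 5,nat_lit 4,nat_lit 0]]],[nat_lit 1],[nat_lit 10],[],[⟨[nat_lit 1,nat_lit 2,nat_lit 4,nat_lit 8,nat_lit 16,nat_lit 32],[nat_lit 1,nat_lit 6,nat_lit 2,nat_lit 8,nat_lit 16,nat_lit 32],[]⟩,⟨[nat_lit 1,nat_lit 2,nat_lit 4,nat_lit 8,nat_lit 16,nat_lit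 32],[nat_lit 1,nat_lit 4,nat_lit 46,nat_lit 20,nat_lit 12,nat_lit 60],[]⟩,⟨[nat_lit 1,nat_lit 69,nat_lit 11,nat_lit 16],[nat_lit 69,nat_lit 68,nat_lit 11,nat_lit 16],[nat_lit 0,nat_lit 1,nat_lit 69,nat_lit 68,nat_lit 11,nat_lit 10,nat_lit 78,nat_lit 79,nat_lit 16,nat_lit 17,nat_lit 85,nat_lit 84,nat_lit 27,nat_lit 26,nat_lit 94,nat_lit 95]⟩],nat_lit 0x4ce3218⟩
noncomputable def h233 : Hdr :=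
  ⟨(nat_lit 6),(nat_lit 7),[[[]],[[nat_lit 0],[nat_lit 0]],[[nat_lit 0],[nat_lit 1,nat_lit 0],[nat_lit 0]],[[nat_lit 0],[nat_lit 1],[nat_lit 2],[nat_lit 0]],[[nat_lit 0],[nat_lit 1],[nat_lit 2],[nat_lit 3],[]],[[nat_lit 0],[nat_lit 1],[nat_lit 2],[nat_lit 3,nat_lit 0],[nat_lit 4,nat_lit 0],[]],[[nat_lit 0],[nat_lit 1],[nat_lit 2,nat_lit 1,nat_lit 0],[nat_lit 3,nat_lit 0],[nat_lit 4],[nat_lit 5],[nat_lit 1]]],[nat_lit 1],[nat_lit 10],[],[⟨[nat_lit 1,nat_lit 2,nat_lit 4,nat_lit 8,nat_lit 16,nat_lit 32],[nat_lit 1,nat_lit 6,nat_lit 2,nat_lit 8,nat_lit 16,nat_lit 32],[]⟩,⟨[nat_lit 1,nat_lit 2,nat_lit 4,nat_lit 8,nat_lit 16,nat_lit 32],[nat_lit 1,nat_lit 4,nat_lit 46,nat_lit 20,nat_lit 12,nat_lit 60],[]⟩,⟨[nat_lit 1,nat_lit 69,nat_lit 11,nat_lit 16],[nat_lit 69,nat_lit 68,nat_lit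 11,nat_lit 16],[nat_lit 0,nat_lit 1,nat_lit 69,nat_lit 68,nat_lit 11,nat_lit 10,nat_lit 78,nat_lit 79,nat_lit 16,nat_lit 17,nat_lit 85,nat_lit 84,nat_lit 27,nat_lit 26,nat_lit 94,nat_lit 95]⟩],nat_lit 0x4ce3218⟩
noncomputable def h234 : Hdr :=
  ⟨(nat_lit 6),(nat_lit 9),[[[]],[[nat_lit 0],[nat_lit 0]],[[nat_lit 0],[nat_lit 1,nat_lit 0],[nat_lit 0]],[[nat_lit 0],[nat_lit 1],[nat_lit 2],[nat_lit 0]],[[nat_lit 0],[nat_lit 1],[nat_lit 2],[nat_lit 3],[]],[[nat_lit 0],[nat_lit 1],[nat_lit 2],[nat_lit 3,nat_lit 0],[nat_lit 4,nat_lit 0],[]],[[nat_lit 0],[nat_lit 1],[nat_lit 2,nat_lit 1,nat_lit 0],[nat_lit 3,nat_lit 0],[nat_lit 4],[nat_lit 5],[nat_lit 1]],[[nat_lit 0],[nat_lit 1],[nat_lit 5,nat_lit 3,nat_lit 2,nat_lit 0],[nat_lit 5,nat_lit 1,nat_lit 0],[nat_lit 5,nat_lit 4,nat_lit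 3,nat_lit 1],[nat_lit 3,nat_lit 1],[nat_lit 6,nat_lit 5,nat_lit 3,nat_lit 1],[nat_lit 1]],[[nat_lit 0],[nat_lit 5,nat_lit 3,nat_lit 1],[nat_lit 5,nat_lit 3,nat_lit 2],[nat_lit 5,nat_lit 2,nat_lit 1,nat_lit 0],[nat_lit 5,nat_lit 4,nat_lit 3,nat_lit 2,nat_lit 1],[nat_lit 3,nat_lit 2,nat_lit 1],[nat_lit 7,nat_lit 6,nat_lit 3,nat_lit 2,nat_lit 1],[nat_lit 7,nat_lit 2],[nat_lit 4,nat_lit 3,nat_lit 2,nat_lit 1,nat_lit 0]]],[nat_lit 1],[nat_lit 10],[],[⟨[nat_lit 1,nat_lit 2,nat_lit 4,nat_lit 8,nat_lit 16,nat_lit 32],[nat_lit 1,nat_lit 6,nat_lit 2,nat_lit 8,nat_lit 16,nat_lit 32],[]⟩,⟨[nat_lit 1,nat_lit 2,nat_lit 4,nat_lit 8,nat_lit 16,nat_lit 32],[nat_lit 1,nat_lit 4,nat_lit 42,nat_lit 20,nat_lit 12,nat_lit 61],[]⟩,⟨[nat_lit 1,nat_lit 69,nat_lit 11,nat_lit 16],[nat_lit 69,nat_lit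 68,nat_lit 11,nat_lit 16],[nat_lit 0,nat_lit 1,nat_lit 69,nat_lit 68,nat_lit 11,nat_lit 10,nat_lit 78,nat_lit 79,nat_lit 16,nat_lit 17,nat_lit 85,nat_lit 84,nat_lit 27,nat_lit 26,nat_lit 94,nat_lit 95]⟩],nat_lit 0x4ce3218⟩
noncomputable def h235 : Hdr :=
  ⟨(nat_lit 6),(nat_lit 9),[[[]],[[nat_lit 0],[nat_lit 0]],[[nat_lit 0],[nat_lit 1,nat_lit 0],[nat_lit 0]],[[nat_lit 0],[nat_lit 1],[nat_lit 2],[nat_lit 0]],[[nat_lit 0],[nat_lit 1],[nat_lit 2],[nat_lit 3],[]],[[nat_lit 0],[nat_lit 1],[nat_lit 2],[nat_lit 3,nat_lit 0],[nat_lit 4,nat_lit 0],[]],[[nat_lit 0],[nat_lit 1],[nat_lit 2,nat_lit 1,nat_lit 0],[nat_lit 3,nat_lit 0],[nat_lit 4],[nat_lit 5],[nat_lit 1]],[[nat_lit 0],[nat_lit 1],[nat_lit 5,nat_lit 3,nat_lit 2,nat_lit 0],[nat_lit 5,nat_lit 1,nat_lit 0],[nat_lit 5,nat_lit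 4,nat_lit 3,nat_lit 1],[nat_lit 3,nat_lit 1],[nat_lit 6,nat_lit 5,nat_lit 3,nat_lit 1],[nat_lit 1]],[[nat_lit 0],[nat_lit 5,nat_lit 3,nat_lit 1],[nat_lit 5,nat_lit 3,nat_lit 2],[nat_lit 5,nat_lit 2,nat_lit 1,nat_lit 0],[nat_lit 5,nat_lit 4,nat_lit 3,nat_lit 2,nat_lit 1],[nat_lit 3,nat_lit 2,nat_lit 1],[nat_lit 7,nat_lit 6,nat_lit 3,nat_lit 2,nat_lit 1],[nat_lit 7,nat_lit 2,nat_lit 0],[nat_lit 2,nat_lit 1]]],[nat_lit 1],[nat_lit 10],[],[⟨[nat_lit 1,nat_lit 2,nat_lit 4,nat_lit 8,nat_lit 16,nat_lit 32],[nat_lit 1,nat_lit 6,nat_lit 2,nat_lit 8,nat_lit 16,nat_lit 32],[]⟩,⟨[nat_lit 1,nat_lit 2,nat_lit 4,nat_lit 8,nat_lit 16,nat_lit 32],[nat_lit 1,nat_lit 4,nat_lit 42,nat_lit 20,nat_lit 12,nat_lit 61],[]⟩,⟨[nat_lit 1,nat_lit 69,nat_lit 11,nat_lit 16],[nat_lit 69,nat_lit 68,nat_lit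 11,nat_lit 16],[nat_lit 0,nat_lit 1,nat_lit 69,nat_lit 68,nat_lit 11,nat_lit 10,nat_lit 78,nat_lit 79,nat_lit 16,nat_lit 17,nat_lit 85,nat_lit 84,nat_lit 27,nat_lit 26,nat_lit 94,nat_lit 95]⟩],nat_lit 0x4ce3218⟩
noncomputable def h236 : Hdr :=
  ⟨(nat_lit 6),(nat_lit 9),[[[]],[[nat_lit 0],[nat_lit 0]],[[nat_lit 0],[nat_lit 1,nat_lit 0],[nat_lit 0]],[[nat_lit 0],[nat_lit 1],[nat_lit 2],[nat_lit 0]],[[nat_lit 0],[nat_lit 1],[nat_lit 2],[nat_lit 3],[]],[[nat_lit 0],[nat_lit 1],[nat_lit 2],[nat_lit 3,nat_lit 0],[nat_lit 4,nat_lit 0],[]],[[nat_lit 0],[nat_lit 1],[nat_lit 2,nat_lit 1,nat_lit 0],[nat_lit 3,nat_lit 0],[nat_lit 4],[nat_lit 5],[nat_lit 1]],[[nat_lit 0],[nat_lit 1],[nat_lit 5,nat_lit 3,nat_lit 2,nat_lit 0],[nat_lit 5,nat_lit 1,nat_lit 0],[nat_lit 5,nat_lit 4,nat_lit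 3,nat_lit 1],[nat_lit 3,nat_lit 1],[nat_lit 6,nat_lit 5,nat_lit 3,nat_lit 1],[nat_lit 1]],[[nat_lit 0],[nat_lit 5,nat_lit 3,nat_lit 1],[nat_lit 2,nat_lit 1,nat_lit 0],[nat_lit 5,nat_lit 2,nat_lit 1,nat_lit 0],[nat_lit 5,nat_lit 4,nat_lit 3,nat_lit 2,nat_lit 1,nat_lit 0],[nat_lit 3,nat_lit 2,nat_lit 1],[nat_lit 7,nat_lit 6,nat_lit 4,nat_lit 2,nat_lit 1,nat_lit 0],[nat_lit 7,nat_lit 2],[nat_lit 7,nat_lit 4,nat_lit 2,nat_lit 1]]],[nat_lit 1],[nat_lit 10],[],[⟨[nat_lit 1,nat_lit 2,nat_lit 4,nat_lit 8,nat_lit 16,nat_lit 32],[nat_lit 1,nat_lit 6,nat_lit 2,nat_lit 8,nat_lit 16,nat_lit 32],[]⟩,⟨[nat_lit 1,nat_lit 2,nat_lit 4,nat_lit 8,nat_lit 16,nat_lit 32],[nat_lit 1,nat_lit 4,nat_lit 42,nat_lit 20,nat_lit 12,nat_lit 61],[]⟩,⟨[nat_lit 1,nat_lit 69,nat_lit 11,nat_lit 16],[nat_lit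 69,nat_lit 68,nat_lit 11,nat_lit 16],[nat_lit 0,nat_lit 1,nat_lit 69,nat_lit 68,nat_lit 11,nat_lit 10,nat_lit 78,nat_lit 79,nat_lit 16,nat_lit 17,nat_lit 85,nat_lit 84,nat_lit 27,nat_lit 26,nat_lit 94,nat_lit 95]⟩],nat_lit 0x4ce3218⟩
noncomputable def h237 : Hdr :=
  ⟨(nat_lit 6),(nat_lit 9),[[[]],[[nat_lit 0],[nat_lit 0]],[[nat_lit 0],[nat_lit 1,nat_lit 0],[nat_lit 0]],[[nat_lit 0],[nat_lit 1],[nat_lit 2],[nat_lit 0]],[[nat_lit 0],[nat_lit 1],[nat_lit 2],[nat_lit 3],[]],[[nat_lit 0],[nat_lit 1],[nat_lit 2],[nat_lit 3,nat_lit 0],[nat_lit 4,nat_lit 0],[]],[[nat_lit 0],[nat_lit 1],[nat_lit 2,nat_lit 1,nat_lit 0],[nat_lit 3,nat_lit 0],[nat_lit 4],[nat_lit 5],[nat_lit 1]],[[nat_lit 0],[nat_lit 1],[nat_lit 5,nat_lit 3,nat_lit 2,nat_lit 0],[nat_lit 5,nat_lit 1,nat_lit 0],[nat_lit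 5,nat_lit 4,nat_lit 3,nat_lit 1],[nat_lit 3,nat_lit 1],[nat_lit 6,nat_lit 5,nat_lit 3,nat_lit 1],[nat_lit 1]],[[nat_lit 0],[nat_lit 5,nat_lit 3,nat_lit 1],[nat_lit 2,nat_lit 1,nat_lit 0],[nat_lit 5,nat_lit 2,nat_lit 1,nat_lit 0],[nat_lit 5,nat_lit 4,nat_lit 3,nat_lit 2,nat_lit 1,nat_lit 0],[nat_lit 3,nat_lit 2,nat_lit 1],[nat_lit 7,nat_lit 6,nat_lit 4,nat_lit 2,nat_lit 1,nat_lit 0],[nat_lit 7,nat_lit 2,nat_lit 0],[nat_lit 7,nat_lit 3,nat_lit 2,nat_lit 1]]],[nat_lit 1],[nat_lit 10],[],[⟨[nat_lit 1,nat_lit 2,nat_lit 4,nat_lit 8,nat_lit 16,nat_lit 32],[nat_lit 1,nat_lit 6,nat_lit 2,nat_lit 8,nat_lit 16,nat_lit 32],[]⟩,⟨[nat_lit 1,nat_lit 2,nat_lit 4,nat_lit 8,nat_lit 16,nat_lit 32],[nat_lit 1,nat_lit 4,nat_lit 42,nat_lit 20,nat_lit 12,nat_lit 61],[]⟩,⟨[nat_lit 1,nat_lit 69,nat_lit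 11,nat_lit 16],[nat_lit 69,nat_lit 68,nat_lit 11,nat_lit 16],[nat_lit 0,nat_lit 1,nat_lit 69,nat_lit 68,nat_lit 11,nat_lit 10,nat_lit 78,nat_lit 79,nat_lit 16,nat_lit 17,nat_lit 85,nat_lit 84,nat_lit 27,nat_lit 26,nat_lit 94,nat_lit 95]⟩],nat_lit 0x4ce3218⟩
noncomputable def h238 : Hdr :=
  ⟨(nat_lit 6),(nat_lit 9),[[[]],[[nat_lit 0],[nat_lit 0]],[[nat_lit 0],[nat_lit 1,nat_lit 0],[nat_lit 0]],[[nat_lit 0],[nat_lit 1],[nat_lit 2],[nat_lit 0]],[[nat_lit 0],[nat_lit 1],[nat_lit 2],[nat_lit 3],[]],[[nat_lit 0],[nat_lit 1],[nat_lit 2],[nat_lit 3,nat_lit 0],[nat_lit 4,nat_lit 0],[]],[[nat_lit 0],[nat_lit 1],[nat_lit 2,nat_lit 1,nat_lit 0],[nat_lit 3,nat_lit 0],[nat_lit 4],[nat_lit 5],[nat_lit 1]],[[nat_lit 0],[nat_lit 1],[nat_lit 5,nat_lit 3,nat_lit 2,nat_lit 0],[nat_lit 5,nat_lit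 1,nat_lit 0],[nat_lit 5,nat_lit 4,nat_lit 3,nat_lit 1],[nat_lit 3,nat_lit 1],[nat_lit 6,nat_lit 5,nat_lit 3,nat_lit 1],[nat_lit 1]],[[nat_lit 0],[nat_lit 5,nat_lit 3,nat_lit 1,nat_lit 0],[nat_lit 5,nat_lit 3,nat_lit 2],[nat_lit 4,nat_lit 2,nat_lit 1,nat_lit 0],[nat_lit 3,nat_lit 2,nat_lit 1],[nat_lit 5,nat_lit 4,nat_lit 3,nat_lit 2,nat_lit 1,nat_lit 0],[nat_lit 7,nat_lit 6,nat_lit 5,nat_lit 4,nat_lit 3,nat_lit 2,nat_lit 0],[nat_lit 7,nat_lit 4,nat_lit 3,nat_lit 2,nat_lit 0],[nat_lit 5,nat_lit 3,nat_lit 2,nat_lit 1,nat_lit 0]]],[nat_lit 1],[nat_lit 10],[],[⟨[nat_lit 1,nat_lit 2,nat_lit 4,nat_lit 8,nat_lit 16,nat_lit 32],[nat_lit 1,nat_lit 6,nat_lit 2,nat_lit 8,nat_lit 16,nat_lit 32],[]⟩,⟨[nat_lit 1,nat_lit 2,nat_lit 4,nat_lit 8,nat_lit 16,nat_lit 32],[nat_lit 1,nat_lit 4,nat_lit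 42,nat_lit 20,nat_lit 12,nat_lit 61],[]⟩,⟨[nat_lit 1,nat_lit 69,nat_lit 11,nat_lit 16],[nat_lit 69,nat_lit 68,nat_lit 11,nat_lit 16],[nat_lit 0,nat_lit 1,nat_lit 69,nat_lit 68,nat_lit 11,nat_lit 10,nat_lit 78,nat_lit 79,nat_lit 16,nat_lit 17,nat_lit 85,nat_lit 84,nat_lit 27,nat_lit 26,nat_lit 94,nat_lit 95]⟩],nat_lit 0x4ce3218⟩
noncomputable def h239 : Hdr :=
  ⟨(nat_lit 6),(nat_lit 9),[[[]],[[nat_lit 0],[nat_lit 0]],[[nat_lit 0],[nat_lit 1,nat_lit 0],[nat_lit 0]],[[nat_lit 0],[nat_lit 1],[nat_lit 2],[nat_lit 0]],[[nat_lit 0],[nat_lit 1],[nat_lit 2],[nat_lit 3],[]],[[nat_lit 0],[nat_lit 1],[nat_lit 2],[nat_lit 3,nat_lit 0],[nat_lit 4,nat_lit 0],[]],[[nat_lit 0],[nat_lit 1],[nat_lit 2,nat_lit 1,nat_lit 0],[nat_lit 3,nat_lit 0],[nat_lit 4],[nat_lit 5],[nat_lit 1]],[[nat_lit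 0],[nat_lit 1],[nat_lit 5,nat_lit 3,nat_lit 2,nat_lit 0],[nat_lit 5,nat_lit 1,nat_lit 0],[nat_lit 5,nat_lit 4,nat_lit 3,nat_lit 1],[nat_lit 3,nat_lit 1],[nat_lit 6,nat_lit 5,nat_lit 3,nat_lit 1],[nat_lit 1]],[[nat_lit 0],[nat_lit 5,nat_lit 3,nat_lit 1,nat_lit 0],[nat_lit 5,nat_lit 3,nat_lit 2],[nat_lit 4,nat_lit 2,nat_lit 1,nat_lit 0],[nat_lit 3,nat_lit 2,nat_lit 1],[nat_lit 5,nat_lit 4,nat_lit 3,nat_lit 2,nat_lit 1,nat_lit 0],[nat_lit 7,nat_lit 6,nat_lit 5,nat_lit 4,nat_lit 3,nat_lit 2,nat_lit 0],[nat_lit 7,nat_lit 4,nat_lit 3,nat_lit 2],[nat_lit 5,nat_lit 4,nat_lit 2,nat_lit 1]]],[nat_lit 1],[nat_lit 10],[],[⟨[nat_lit 1,nat_lit 2,nat_lit 4,nat_lit 8,nat_lit 16,nat_lit 32],[nat_lit 1,nat_lit 6,nat_lit 2,nat_lit 8,nat_lit 16,nat_lit 32],[]⟩,⟨[nat_lit 1,nat_lit 2,nat_lit 4,nat_lit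 8,nat_lit 16,nat_lit 32],[nat_lit 1,nat_lit 4,nat_lit 42,nat_lit 20,nat_lit 12,nat_lit 61],[]⟩,⟨[nat_lit 1,nat_lit 69,nat_lit 11,nat_lit 16],[nat_lit 69,nat_lit 68,nat_lit 11,nat_lit 16],[nat_lit 0,nat_lit 1,nat_lit 69,nat_lit 68,nat_lit 11,nat_lit 10,nat_lit 78,nat_lit 79,nat_lit 16,nat_lit 17,nat_lit 85,nat_lit 84,nat_lit 27,nat_lit 26,nat_lit 94,nat_lit 95]⟩],nat_lit 0x4ce3218⟩
noncomputable def h240 : Hdr :=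
  ⟨(nat_lit 6),(nat_lit 9),[[[]],[[nat_lit 0],[nat_lit 0]],[[nat_lit 0],[nat_lit 1,nat_lit 0],[nat_lit 0]],[[nat_lit 0],[nat_lit 1],[nat_lit 2],[nat_lit 0]],[[nat_lit 0],[nat_lit 1],[nat_lit 2],[nat_lit 3],[]],[[nat_lit 0],[nat_lit 1],[nat_lit 2],[nat_lit 3,nat_lit 0],[nat_lit 4,nat_lit 0],[]],[[nat_lit 0],[nat_lit 1],[nat_lit 2,nat_lit 1,nat_lit 0],[nat_lit 3,nat_lit 0],[nat_lit 4],[nat_lit 5],[nat_lit 1]],[[nat_lit 0],[nat_lit 1],[nat_lit 5,nat_lit 3,nat_lit 2,nat_lit 0],[nat_lit 5,nat_lit 1,nat_lit 0],[nat_lit 5,nat_lit 4,nat_lit 3,nat_lit 1],[nat_lit 3,nat_lit 1],[nat_lit 6,nat_lit 5,nat_lit 3,nat_lit 1],[nat_lit 1]],[[nat_lit 0],[nat_lit 5,nat_lit 3,nat_lit 1,nat_lit 0],[nat_lit 2,nat_lit 1,nat_lit 0],[nat_lit 4,nat_lit 2,nat_lit 1,nat_lit 0],[nat_lit 3,nat_lit 2,nat_lit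 1,nat_lit 0],[nat_lit 5,nat_lit 4,nat_lit 3,nat_lit 2,nat_lit 1],[nat_lit 7,nat_lit 6,nat_lit 5,nat_lit 2,nat_lit 0],[nat_lit 7,nat_lit 4,nat_lit 3,nat_lit 2,nat_lit 1],[nat_lit 7,nat_lit 5]]],[nat_lit 1],[nat_lit 10],[],[⟨[nat_lit 1,nat_lit 2,nat_lit 4,nat_lit 8,nat_lit 16,nat_lit 32],[nat_lit 1,nat_lit 6,nat_lit 2,nat_lit 8,nat_lit 16,nat_lit 32],[]⟩,⟨[nat_lit 1,nat_lit 2,nat_lit 4,nat_lit 8,nat_lit 16,nat_lit 32],[nat_lit 1,nat_lit 4,nat_lit 42,nat_lit 20,nat_lit 12,nat_lit 61],[]⟩,⟨[nat_lit 1,nat_lit 69,nat_lit 11,nat_lit 16],[nat_lit 69,nat_lit 68,nat_lit 11,nat_lit 16],[nat_lit 0,nat_lit 1,nat_lit 69,nat_lit 68,nat_lit 11,nat_lit 10,nat_lit 78,nat_lit 79,nat_lit 16,nat_lit 17,nat_lit 85,nat_lit 84,nat_lit 27,nat_lit 26,nat_lit 94,nat_lit 95]⟩],nat_lit 0x4ce3218⟩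
noncomputable def h241 : Hdr :=
  ⟨(nat_lit 6),(nat_lit 9),[[[]],[[nat_lit 0],[nat_lit 0]],[[nat_lit 0],[nat_lit 1,nat_lit 0],[nat_lit 0]],[[nat_lit 0],[nat_lit 1],[nat_lit 2],[nat_lit 0]],[[nat_lit 0],[nat_lit 1],[nat_lit 2],[nat_lit 3],[]],[[nat_lit 0],[nat_lit 1],[nat_lit 2],[nat_lit 3,nat_lit 0],[nat_lit 4,nat_lit 0],[]],[[nat_lit 0],[nat_lit 1],[nat_lit 2,nat_lit 1,nat_lit 0],[nat_lit 3,nat_lit 0],[nat_lit 4],[nat_lit 5],[nat_lit 1]],[[nat_lit 0],[nat_lit 1],[nat_lit 5,nat_lit 3,nat_lit 2,nat_lit 0],[nat_lit 5,nat_lit 1,nat_lit 0],[nat_lit 5,nat_lit 4,nat_lit 3,nat_lit 1],[nat_lit 3,nat_lit 1],[nat_lit 6,nat_lit 5,nat_lit 3,nat_lit 1],[nat_lit 1]],[[nat_lit 0],[nat_lit 5,nat_lit 3,nat_lit 1,nat_lit 0],[nat_lit 2,nat_lit 1,nat_lit 0],[nat_lit 4,nat_lit 2,nat_lit 1,nat_lit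 0],[nat_lit 3,nat_lit 2,nat_lit 1,nat_lit 0],[nat_lit 5,nat_lit 4,nat_lit 3,nat_lit 2,nat_lit 1],[nat_lit 7,nat_lit 6,nat_lit 5,nat_lit 2,nat_lit 0],[nat_lit 7,nat_lit 4,nat_lit 3,nat_lit 2,nat_lit 1,nat_lit 0],[nat_lit 7,nat_lit 5,nat_lit 4,nat_lit 3,nat_lit 0]]],[nat_lit 1],[nat_lit 10],[],[⟨[nat_lit 1,nat_lit 2,nat_lit 4,nat_lit 8,nat_lit 16,nat_lit 32],[nat_lit 1,nat_lit 6,nat_lit 2,nat_lit 8,nat_lit 16,nat_lit 32],[]⟩,⟨[nat_lit 1,nat_lit 2,nat_lit 4,nat_lit 8,nat_lit 16,nat_lit 32],[nat_lit 1,nat_lit 4,nat_lit 42,nat_lit 20,nat_lit 12,nat_lit 61],[]⟩,⟨[nat_lit 1,nat_lit 69,nat_lit 11,nat_lit 16],[nat_lit 69,nat_lit 68,nat_lit 11,nat_lit 16],[nat_lit 0,nat_lit 1,nat_lit 69,nat_lit 68,nat_lit 11,nat_lit 10,nat_lit 78,nat_lit 79,nat_lit 16,nat_lit 17,nat_lit 85,nat_lit 84,nat_lit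 27,nat_lit 26,nat_lit 94,nat_lit 95]⟩],nat_lit 0x4ce3218⟩
noncomputable def h242 : Hdr :=
  ⟨(nat_lit 6),(nat_lit 8),[[[]],[[nat_lit 0],[nat_lit 0]],[[nat_lit 0],[nat_lit 1,nat_lit 0],[nat_lit 0]],[[nat_lit 0],[nat_lit 1],[nat_lit 2],[nat_lit 0]],[[nat_lit 0],[nat_lit 1],[nat_lit 2],[nat_lit 3],[]],[[nat_lit 0],[nat_lit 1],[nat_lit 2],[nat_lit 3,nat_lit 0],[nat_lit 4,nat_lit 0],[]],[[nat_lit 0],[nat_lit 1],[nat_lit 2,nat_lit 1,nat_lit 0],[nat_lit 3,nat_lit 0],[nat_lit 4],[nat_lit 5],[nat_lit 1]],[[nat_lit 0],[nat_lit 1],[nat_lit 5,nat_lit 3,nat_lit 2,nat_lit 0],[nat_lit 5,nat_lit 1,nat_lit 0],[nat_lit 5,nat_lit 4,nat_lit 3,nat_lit 1],[nat_lit 3,nat_lit 1],[nat_lit 6,nat_lit 5,nat_lit 3,nat_lit 1],[nat_lit 1]]],[nat_lit 1],[nat_lit 10],[],[⟨[nat_lit 1,nat_lit 2,nat_lit 4,nat_lit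 8,nat_lit 16,nat_lit 32],[nat_lit 1,nat_lit 6,nat_lit 2,nat_lit 8,nat_lit 16,nat_lit 32],[]⟩,⟨[nat_lit 1,nat_lit 2,nat_lit 4,nat_lit 8,nat_lit 16,nat_lit 32],[nat_lit 1,nat_lit 4,nat_lit 42,nat_lit 20,nat_lit 12,nat_lit 61],[]⟩,⟨[nat_lit 1,nat_lit 69,nat_lit 11,nat_lit 16],[nat_lit 69,nat_lit 68,nat_lit 11,nat_lit 16],[nat_lit 0,nat_lit 1,nat_lit 69,nat_lit 68,nat_lit 11,nat_lit 10,nat_lit 78,nat_lit 79,nat_lit 16,nat_lit 17,nat_lit 85,nat_lit 84,nat_lit 27,nat_lit 26,nat_lit 94,nat_lit 95]⟩],nat_lit 0x4ce3218⟩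
noncomputable def h243 : Hdr :=
  ⟨(nat_lit 6),(nat_lit 8),[[[]],[[nat_lit 0],[nat_lit 0]],[[nat_lit 0],[nat_lit 1,nat_lit 0],[nat_lit 0]],[[nat_lit 0],[nat_lit 1],[nat_lit 2],[nat_lit 0]],[[nat_lit 0],[nat_lit 1],[nat_lit 2],[nat_lit 3],[]],[[nat_lit 0],[nat_lit 1],[nat_lit 2],[nat_lit 3,nat_lit 0],[nat_lit 4,nat_lit 0],[]],[[nat_lit 0],[nat_lit 1],[nat_lit 2,nat_lit 1,nat_lit 0],[nat_lit 3,nat_lit 0],[nat_lit 4],[nat_lit 5],[nat_lit 1]],[[nat_lit 0],[nat_lit 1],[nat_lit 5,nat_lit 3,nat_lit 2,nat_lit 1,nat_lit 0],[nat_lit 5,nat_lit 1,nat_lit 0],[nat_lit 5,nat_lit 4,nat_lit 3,nat_lit 1,nat_lit 0],[nat_lit 3,nat_lit 1,nat_lit 0],[nat_lit 6,nat_lit 5,nat_lit 4,nat_lit 1],[nat_lit 5,nat_lit 3,nat_lit 1]]],[nat_lit 1],[nat_lit 10],[],[⟨[nat_lit 1,nat_lit 2,nat_lit 4,nat_lit 8,nat_lit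 16,nat_lit 32],[nat_lit 1,nat_lit 6,nat_lit 2,nat_lit 8,nat_lit 16,nat_lit 32],[]⟩,⟨[nat_lit 1,nat_lit 2,nat_lit 4,nat_lit 8,nat_lit 16,nat_lit 32],[nat_lit 1,nat_lit 4,nat_lit 42,nat_lit 20,nat_lit 12,nat_lit 61],[]⟩,⟨[nat_lit 1,nat_lit 69,nat_lit 11,nat_lit 16],[nat_lit 69,nat_lit 68,nat_lit 11,nat_lit 16],[nat_lit 0,nat_lit 1,nat_lit 69,nat_lit 68,nat_lit 11,nat_lit 10,nat_lit 78,nat_lit 79,nat_lit 16,nat_lit 17,nat_lit 85,nat_lit 84,nat_lit 27,nat_lit 26,nat_lit 94,nat_lit 95]⟩],nat_lit 0x4ce3218⟩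
noncomputable def h244 : Hdr :=
  ⟨(nat_lit 6),(nat_lit 8),[[[]],[[nat_lit 0],[nat_lit 0]],[[nat_lit 0],[nat_lit 1,nat_lit 0],[nat_lit 0]],[[nat_lit 0],[nat_lit 1],[nat_lit 2],[nat_lit 0]],[[nat_lit 0],[nat_lit 1],[nat_lit 2],[nat_lit 3],[]],[[nat_lit 0],[nat_lit 1],[nat_lit 2],[nat_lit 3,nat_lit 0],[nat_lit 4,nat_lit 0],[]],[[nat_lit 0],[nat_lit 1],[nat_lit 2,nat_lit 1,nat_lit 0],[nat_lit 3,nat_lit 0],[nat_lit 4],[nat_lit 5],[nat_lit 1]],[[nat_lit 0],[nat_lit 1],[nat_lit 2,nat_lit 1],[nat_lit 5,nat_lit 4,nat_lit 3],[nat_lit 5,nat_lit 0],[nat_lit 4],[nat_lit 6,nat_lit 4,nat_lit 3],[nat_lit 5,nat_lit 4,nat_lit 1,nat_lit 0]]],[nat_lit 1],[nat_lit 10],[],[⟨[nat_lit 1,nat_lit 2,nat_lit 4,nat_lit 8,nat_lit 16,nat_lit 32],[nat_lit 1,nat_lit 6,nat_lit 2,nat_lit 8,nat_lit 16,nat_lit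 32],[]⟩,⟨[nat_lit 1,nat_lit 2,nat_lit 4,nat_lit 8,nat_lit 16,nat_lit 32],[nat_lit 1,nat_lit 4,nat_lit 42,nat_lit 20,nat_lit 12,nat_lit 61],[]⟩,⟨[nat_lit 1,nat_lit 69,nat_lit 11,nat_lit 16],[nat_lit 69,nat_lit 68,nat_lit 11,nat_lit 16],[nat_lit 0,nat_lit 1,nat_lit 69,nat_lit 68,nat_lit 11,nat_lit 10,nat_lit 78,nat_lit 79,nat_lit 16,nat_lit 17,nat_lit 85,nat_lit 84,nat_lit 27,nat_lit 26,nat_lit 94,nat_lit 95]⟩],nat_lit 0x4ce3218⟩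
noncomputable def h245 : Hdr :=
  ⟨(nat_lit 6),(nat_lit 8),[[[]],[[nat_lit 0],[nat_lit 0]],[[nat_lit 0],[nat_lit 1,nat_lit 0],[nat_lit 0]],[[nat_lit 0],[nat_lit 1],[nat_lit 2],[nat_lit 0]],[[nat_lit 0],[nat_lit 1],[nat_lit 2],[nat_lit 3],[]],[[nat_lit 0],[nat_lit 1],[nat_lit 2],[nat_lit 3,nat_lit 0],[nat_lit 4,nat_lit 0],[]],[[nat_lit 0],[nat_lit 1],[nat_lit 2,nat_lit 1,nat_lit 0],[nat_lit 3,nat_lit 0],[nat_lit 4],[nat_lit 5],[nat_lit 1]],[[nat_lit 0],[nat_lit 1],[nat_lit 2,nat_lit 1],[nat_lit 5,nat_lit 4,nat_lit 3],[nat_lit 5,nat_lit 0],[nat_lit 4],[nat_lit 6,nat_lit 4,nat_lit 3],[nat_lit 5,nat_lit 4,nat_lit 1]]],[nat_lit 1],[nat_lit 10],[],[⟨[nat_lit 1,nat_lit 2,nat_lit 4,nat_lit 8,nat_lit 16,nat_lit 32],[nat_lit 1,nat_lit 6,nat_lit 2,nat_lit 8,nat_lit 16,nat_lit 32],[]⟩,⟨[nat_lit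 1,nat_lit 2,nat_lit 4,nat_lit 8,nat_lit 16,nat_lit 32],[nat_lit 1,nat_lit 4,nat_lit 42,nat_lit 20,nat_lit 12,nat_lit 61],[]⟩,⟨[nat_lit 1,nat_lit 69,nat_lit 11,nat_lit 16],[nat_lit 69,nat_lit 68,nat_lit 11,nat_lit 16],[nat_lit 0,nat_lit 1,nat_lit 69,nat_lit 68,nat_lit 11,nat_lit 10,nat_lit 78,nat_lit 79,nat_lit 16,nat_lit 17,nat_lit 85,nat_lit 84,nat_lit 27,nat_lit 26,nat_lit 94,nat_lit 95]⟩],nat_lit 0x4ce3218⟩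
noncomputable def h246 : Hdr :=
  ⟨(nat_lit 6),(nat_lit 8),[[[]],[[nat_lit 0],[nat_lit 0]],[[nat_lit 0],[nat_lit 1,nat_lit 0],[nat_lit 0]],[[nat_lit 0],[nat_lit 1],[nat_lit 2],[nat_lit 0]],[[nat_lit 0],[nat_lit 1],[nat_lit 2],[nat_lit 3],[]],[[nat_lit 0],[nat_lit 1],[nat_lit 2],[nat_lit 3,nat_lit 0],[nat_lit 4,nat_lit 0],[]],[[nat_lit 0],[nat_lit 1],[nat_lit 2,nat_lit 1,nat_lit 0],[nat_lit 3,nat_lit 0],[nat_lit 4],[nat_lit 5],[nat_lit 1]],[[nat_lit 0],[nat_lit 1],[nat_lit 2,nat_lit 1],[nat_lit 5,nat_lit 4,nat_lit 3],[nat_lit 5,nat_lit 0],[nat_lit 4],[nat_lit 6],[nat_lit 5,nat_lit 4,nat_lit 1,nat_lit 0]]],[nat_lit 1],[nat_lit 10],[],[⟨[nat_lit 1,nat_lit 2,nat_lit 4,nat_lit 8,nat_lit 16,nat_lit 32],[nat_lit 1,nat_lit 6,nat_lit 2,nat_lit 8,nat_lit 16,nat_lit 32],[]⟩,⟨[nat_lit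 1,nat_lit 2,nat_lit 4,nat_lit 8,nat_lit 16,nat_lit 32],[nat_lit 1,nat_lit 4,nat_lit 42,nat_lit 20,nat_lit 12,nat_lit 61],[]⟩,⟨[nat_lit 1,nat_lit 69,nat_lit 11,nat_lit 16],[nat_lit 69,nat_lit 68,nat_lit 11,nat_lit 16],[nat_lit 0,nat_lit 1,nat_lit 69,nat_lit 68,nat_lit 11,nat_lit 10,nat_lit 78,nat_lit 79,nat_lit 16,nat_lit 17,nat_lit 85,nat_lit 84,nat_lit 27,nat_lit 26,nat_lit 94,nat_lit 95]⟩],nat_lit 0x4ce3218⟩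
noncomputable def h247 : Hdr :=
  ⟨(nat_lit 6),(nat_lit 8),[[[]],[[nat_lit 0],[nat_lit 0]],[[nat_lit 0],[nat_lit 1,nat_lit 0],[nat_lit 0]],[[nat_lit 0],[nat_lit 1],[nat_lit 2],[nat_lit 0]],[[nat_lit 0],[nat_lit 1],[nat_lit 2],[nat_lit 3],[]],[[nat_lit 0],[nat_lit 1],[nat_lit 2],[nat_lit 3,nat_lit 0],[nat_lit 4,nat_lit 0],[]],[[nat_lit 0],[nat_lit 1],[nat_lit 2,nat_lit 1,nat_lit 0],[nat_lit 3,nat_lit 0],[nat_lit 4],[nat_lit 5],[nat_lit 1]],[[nat_lit 0],[nat_lit 1],[nat_lit 2,nat_lit 1],[nat_lit 5,nat_lit 4,nat_lit 3],[nat_lit 5,nat_lit 0],[nat_lit 4],[nat_lit 6],[nat_lit 5,nat_lit 4,nat_lit 1]]],[nat_lit 1],[nat_lit 10],[],[⟨[nat_lit 1,nat_lit 2,nat_lit 4,nat_lit 8,nat_lit 16,nat_lit 32],[nat_lit 1,nat_lit 6,nat_lit 2,nat_lit 8,nat_lit 16,nat_lit 32],[]⟩,⟨[nat_lit 1,nat_lit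 2,nat_lit 4,nat_lit 8,nat_lit 16,nat_lit 32],[nat_lit 1,nat_lit 4,nat_lit 42,nat_lit 20,nat_lit 12,nat_lit 61],[]⟩,⟨[nat_lit 1,nat_lit 69,nat_lit 11,nat_lit 16],[nat_lit 69,nat_lit 68,nat_lit 11,nat_lit 16],[nat_lit 0,nat_lit 1,nat_lit 69,nat_lit 68,nat_lit 11,nat_lit 10,nat_lit 78,nat_lit 79,nat_lit 16,nat_lit 17,nat_lit 85,nat_lit 84,nat_lit 27,nat_lit 26,nat_lit 94,nat_lit 95]⟩],nat_lit 0x4ce3218⟩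
noncomputable def h248 : Hdr :=
  ⟨(nat_lit 6),(nat_lit 7),[[[]],[[nat_lit 0],[nat_lit 0]],[[nat_lit 0],[nat_lit 1,nat_lit 0],[nat_lit 0]],[[nat_lit 0],[nat_lit 1],[nat_lit 2],[nat_lit 0]],[[nat_lit 0],[nat_lit 1],[nat_lit 2],[nat_lit 3],[]],[[nat_lit 0],[nat_lit 1],[nat_lit 2],[nat_lit 3,nat_lit 0],[nat_lit 4,nat_lit 0],[]],[[nat_lit 0],[nat_lit 1],[nat_lit 2,nat_lit 1,nat_lit 0],[nat_lit 3,nat_lit 0],[nat_lit 4],[nat_lit 5],[nat_lit 1]]],[nat_lit 1],[nat_lit 10],[],[⟨[nat_lit 1,nat_lit 2,nat_lit 4,nat_lit 8,nat_lit 16,nat_lit 32],[nat_lit 1,nat_lit 6,nat_lit 2,nat_lit 8,nat_lit 16,nat_lit 32],[]⟩,⟨[nat_lit 1,nat_lit 2,nat_lit 4,nat_lit 8,nat_lit 16,nat_lit 32],[nat_lit 1,nat_lit 4,nat_lit 42,nat_lit 20,nat_lit 12,nat_lit 61],[]⟩,⟨[nat_lit 1,nat_lit 69,nat_lit 11,nat_lit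 16],[nat_lit 69,nat_lit 68,nat_lit 11,nat_lit 16],[nat_lit 0,nat_lit 1,nat_lit 69,nat_lit 68,nat_lit 11,nat_lit 10,nat_lit 78,nat_lit 79,nat_lit 16,nat_lit 17,nat_lit 85,nat_lit 84,nat_lit 27,nat_lit 26,nat_lit 94,nat_lit 95]⟩],nat_lit 0x4ce3218⟩
noncomputable def h249 : Hdr :=
  ⟨(nat_lit 6),(nat_lit 7),[[[]],[[nat_lit 0],[nat_lit 0]],[[nat_lit 0],[nat_lit 1,nat_lit 0],[nat_lit 0]],[[nat_lit 0],[nat_lit 1],[nat_lit 2],[nat_lit 0]],[[nat_lit 0],[nat_lit 1],[nat_lit 2],[nat_lit 3],[]],[[nat_lit 0],[nat_lit 1],[nat_lit 2],[nat_lit 3,nat_lit 0],[nat_lit 4,nat_lit 0],[]],[[nat_lit 0],[nat_lit 1],[nat_lit 2,nat_lit 1,nat_lit 0],[nat_lit 3,nat_lit 0],[nat_lit 4],[nat_lit 5],[nat_lit 1]]],[nat_lit 1],[nat_lit 10],[],[⟨[nat_lit 1,nat_lit 2,nat_lit 4,nat_lit 8,nat_lit 16,nat_lit 32],[nat_lit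 1,nat_lit 6,nat_lit 2,nat_lit 8,nat_lit 16,nat_lit 32],[]⟩,⟨[nat_lit 1,nat_lit 69,nat_lit 11,nat_lit 16],[nat_lit 69,nat_lit 68,nat_lit 11,nat_lit 16],[nat_lit 0,nat_lit 1,nat_lit 69,nat_lit 68,nat_lit 11,nat_lit 10,nat_lit 78,nat_lit 79,nat_lit 16,nat_lit 17,nat_lit 85,nat_lit 84,nat_lit 27,nat_lit 26,nat_lit 94,nat_lit 95]⟩,⟨[nat_lit 1,nat_lit 11],[nat_lit 1,nat_lit 16],[nat_lit 0,nat_lit 1,nat_lit 11,nat_lit 10]⟩],nat_lit 0x4ce3218⟩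
noncomputable def h250 : Hdr :=
  ⟨(nat_lit 6),(nat_lit 7),[[[]],[[nat_lit 0],[nat_lit 0]],[[nat_lit 0],[nat_lit 1,nat_lit 0],[nat_lit 0]],[[nat_lit 0],[nat_lit 1],[nat_lit 2],[nat_lit 0]],[[nat_lit 0],[nat_lit 1],[nat_lit 2],[nat_lit 3],[]],[[nat_lit 0],[nat_lit 1],[nat_lit 2],[nat_lit 3,nat_lit 0],[nat_lit 4,nat_lit 0],[]],[[nat_lit 0],[nat_lit 1],[nat_lit 2,nat_lit 1,nat_lit 0],[nat_lit 3,nat_lit 0],[nat_lit 4],[nat_lit 5],[nat_lit 1]]],[nat_lit 1],[nat_lit 10],[],[⟨[nat_lit 1,nat_lit 69,nat_lit 11,nat_lit 16],[nat_lit 69,nat_lit 68,nat_lit 11,nat_lit 16],[nat_lit 0,nat_lit 1,nat_lit 69,nat_lit 68,nat_lit 11,nat_lit 10,nat_lit 78,nat_lit 79,nat_lit 16,nat_lit 17,nat_lit 85,nat_lit 84,nat_lit 27,nat_lit 26,nat_lit 94,nat_lit 95]⟩,⟨[nat_lit 1,nat_lit 2,nat_lit 6,nat_lit 8,nat_lit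 16],[nat_lit 1,nat_lit 6,nat_lit 4,nat_lit 8,nat_lit 16],[nat_lit 0,nat_lit 1,nat_lit 2,nat_lit 3,nat_lit 6,nat_lit 7,nat_lit 5,nat_lit 4,nat_lit 8,nat_lit 9,nat_lit 10,nat_lit 11,nat_lit 14,nat_lit 15,nat_lit 13,nat_lit 12,nat_lit 16,nat_lit 17,nat_lit 18,nat_lit 19,nat_lit 22,nat_lit 23,nat_lit 21,nat_lit 20,nat_lit 24,nat_lit 25,nat_lit 26,nat_lit 27,nat_lit 30,nat_lit 31,nat_lit 29,nat_lit 28]⟩,⟨[nat_lit 1,nat_lit 11],[nat_lit 1,nat_lit 16],[nat_lit 0,nat_lit 1,nat_lit 11,nat_lit 10]⟩],nat_lit 0x4ce3218⟩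
noncomputable def h251 : Hdr :=
  ⟨(nat_lit 6),(nat_lit 7),[[[]],[[nat_lit 0],[nat_lit 0]],[[nat_lit 0],[nat_lit 1],[nat_lit 1]],[[nat_lit 0],[nat_lit 1,nat_lit 0],[nat_lit 2,nat_lit 1],[]],[[nat_lit 0],[nat_lit 1],[nat_lit 2,nat_lit 0],[nat_lit 3],[]],[[nat_lit 0],[nat_lit 1],[nat_lit 2],[nat_lit 3],[nat_lit 4],[]],[[nat_lit 0],[nat_lit 1],[nat_lit 2],[nat_lit 3,nat_lit 1],[nat_lit 4],[nat_lit 5,nat_lit 0],[nat_lit 1,nat_lit 0]]],[nat_lit 1],[nat_lit 16],[],[⟨[nat_lit 1,nat_lit 8,nat_lit 16,nat_lit 32],[nat_lit 8,nat_lit 9,nat_lit 16,nat_lit 32],[nat_lit 0,nat_lit 1,nat_lit 8,nat_lit 9,nat_lit 16,nat_lit 17,nat_lit 24,nat_lit 25,nat_lit 32,nat_lit 33,nat_lit 40,nat_lit 41,nat_lit 48,nat_lit 49,nat_lit 56,nat_lit 57]⟩,⟨[nat_lit 1,nat_lit 2,nat_lit 14,nat_lit 18,nat_lit 32],[nat_lit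 1,nat_lit 14,nat_lit 12,nat_lit 18,nat_lit 32],[nat_lit 0,nat_lit 1,nat_lit 2,nat_lit 3,nat_lit 14,nat_lit 15,nat_lit 13,nat_lit 12,nat_lit 18,nat_lit 19,nat_lit 17,nat_lit 16,nat_lit 28,nat_lit 29,nat_lit 30,nat_lit 31,nat_lit 32,nat_lit 33,nat_lit 34,nat_lit 35,nat_lit 46,nat_lit 47,nat_lit 45,nat_lit 44,nat_lit 50,nat_lit 51,nat_lit 49,nat_lit 48,nat_lit 60,nat_lit 61,nat_lit 62,nat_lit 63]⟩,⟨[nat_lit 1,nat_lit 16],[nat_lit 1,nat_lit 32],[nat_lit 0,nat_lit 1,nat_lit 16,nat_lit 17]⟩],nat_lit 0x4ce3218⟩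
noncomputable def h252 : Hdr :=
  ⟨(nat_lit 6),(nat_lit 8),[[[]],[[nat_lit 0],[nat_lit 0]],[[nat_lit 0],[nat_lit 1],[nat_lit 1]],[[nat_lit 0],[nat_lit 1,nat_lit 0],[nat_lit 2,nat_lit 1],[]],[[nat_lit 0],[nat_lit 1],[nat_lit 2,nat_lit 0],[nat_lit 3],[]],[[nat_lit 0],[nat_lit 1],[nat_lit 2],[nat_lit 3],[nat_lit 4],[]],[[nat_lit 0],[nat_lit 1,nat_lit 0],[nat_lit 5,nat_lit 4,nat_lit 2],[nat_lit 5,nat_lit 4,nat_lit 3,nat_lit 1],[nat_lit 4],[nat_lit 5,nat_lit 0],[nat_lit 5,nat_lit 4,nat_lit 1,nat_lit 0]],[[nat_lit 0],[nat_lit 5,nat_lit 4,nat_lit 1,nat_lit 0],[nat_lit 6],[nat_lit 5,nat_lit 4,nat_lit 3,nat_lit 1],[nat_lit 5],[nat_lit 4,nat_lit 0],[nat_lit 5,nat_lit 4,nat_lit 2],[nat_lit 6,nat_lit 5,nat_lit 4,nat_lit 2]]],[nat_lit 1],[nat_lit 16,nat_lit 24,nat_lit 28],[],[],nat_lit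 0x4ce3218⟩
noncomputable def h253 : Hdr :=
  ⟨(nat_lit 6),(nat_lit 7),[[[]],[[nat_lit 0],[nat_lit 0]],[[nat_lit 0],[nat_lit 1],[nat_lit 1]],[[nat_lit 0],[nat_lit 1,nat_lit 0],[nat_lit 2,nat_lit 1],[]],[[nat_lit 0],[nat_lit 1],[nat_lit 2,nat_lit 0],[nat_lit 3],[]],[[nat_lit 0],[nat_lit 1],[nat_lit 2],[nat_lit 3],[nat_lit 4],[]],[[nat_lit 0],[nat_lit 1,nat_lit 0],[nat_lit 5,nat_lit 4,nat_lit 2],[nat_lit 5,nat_lit 4,nat_lit 3,nat_lit 1],[nat_lit 4],[nat_lit 5,nat_lit 0],[nat_lit 5,nat_lit 4,nat_lit 1,nat_lit 0]]],[nat_lit 1],[nat_lit 16,nat_lit 24,nat_lit 28,nat_lit 32],[],[],nat_lit 0x4ce3218⟩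
noncomputable def h254 : Hdr :=
  ⟨(nat_lit 6),(nat_lit 7),[[[]],[[nat_lit 0],[nat_lit 0]],[[nat_lit 0],[nat_lit 1],[nat_lit 1]],[[nat_lit 0],[nat_lit 1,nat_lit 0],[nat_lit 2,nat_lit 1],[]],[[nat_lit 0],[nat_lit 1],[nat_lit 2,nat_lit 0],[nat_lit 3],[]],[[nat_lit 0],[nat_lit 1],[nat_lit 2],[nat_lit 3],[nat_lit 4],[]],[[nat_lit 0],[nat_lit 1,nat_lit 0],[nat_lit 5,nat_lit 4,nat_lit 2],[nat_lit 5,nat_lit 4,nat_lit 3,nat_lit 1],[nat_lit 4],[nat_lit 5,nat_lit 0],[nat_lit 5,nat_lit 4,nat_lit 1,nat_lit 0]]],[nat_lit 1],[nat_lit 16],[],[⟨[nat_lit 1,nat_lit 8,nat_lit 16,nat_lit 32],[nat_lit 8,nat_lit 9,nat_lit 16,nat_lit 32],[nat_lit 0,nat_lit 1,nat_lit 8,nat_lit 9,nat_lit 16,nat_lit 17,nat_lit 24,nat_lit 25,nat_lit 32,nat_lit 33,nat_lit 40,nat_lit 41,nat_lit 48,nat_lit 49,nat_lit 56,nat_lit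 57]⟩,⟨[nat_lit 1,nat_lit 2,nat_lit 14,nat_lit 18,nat_lit 32],[nat_lit 1,nat_lit 14,nat_lit 12,nat_lit 18,nat_lit 32],[nat_lit 0,nat_lit 1,nat_lit 2,nat_lit 3,nat_lit 14,nat_lit 15,nat_lit 13,nat_lit 12,nat_lit 18,nat_lit 19,nat_lit 17,nat_lit 16,nat_lit 28,nat_lit 29,nat_lit 30,nat_lit 31,nat_lit 32,nat_lit 33,nat_lit 34,nat_lit 35,nat_lit 46,nat_lit 47,nat_lit 45,nat_lit 44,nat_lit 50,nat_lit 51,nat_lit 49,nat_lit 48,nat_lit 60,nat_lit 61,nat_lit 62,nat_lit 63]⟩,⟨[nat_lit 1,nat_lit 16],[nat_lit 1,nat_lit 32],[nat_lit 0,nat_lit 1,nat_lit 16,nat_lit 17]⟩],nat_lit 0x4ce3218⟩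
noncomputable def h255 : Hdr :=
  ⟨(nat_lit 6),(nat_lit 6),[[[]],[[nat_lit 0],[nat_lit 0]],[[nat_lit 0],[nat_lit 1],[nat_lit 1]],[[nat_lit 0],[nat_lit 1,nat_lit 0],[nat_lit 2,nat_lit 1],[]],[[nat_lit 0],[nat_lit 1],[nat_lit 2,nat_lit 0],[nat_lit 3],[]],[[nat_lit 0],[nat_lit 1],[nat_lit 2],[nat_lit 3],[nat_lit 4],[]]],[nat_lit 1,nat_lit 32,nat_lit 33],[nat_lit 16],[nat_lit 1,nat_lit 48],[⟨[nat_lit 1,nat_lit 8,nat_lit 16,nat_lit 32],[nat_lit 8,nat_lit 9,nat_lit 16,nat_lit 32],[nat_lit 0,nat_lit 1,nat_lit 8,nat_lit 9,nat_lit 16,nat_lit 17,nat_lit 24,nat_lit 25,nat_lit 32,nat_lit 33,nat_lit 40,nat_lit 41,nat_lit 48,nat_lit 49,nat_lit 56,nat_lit 57]⟩,⟨[nat_lit 1,nat_lit 2,nat_lit 14,nat_lit 18,nat_lit 32],[nat_lit 1,nat_lit 14,nat_lit 12,nat_lit 18,nat_lit 32],[nat_lit 0,nat_lit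 1,nat_lit 2,nat_lit 3,nat_lit 14,nat_lit 15,nat_lit 13,nat_lit 12,nat_lit 18,nat_lit 19,nat_lit 17,nat_lit 16,nat_lit 28,nat_lit 29,nat_lit 30,nat_lit 31,nat_lit 32,nat_lit 33,nat_lit 34,nat_lit 35,nat_lit 46,nat_lit 47,nat_lit 45,nat_lit 44,nat_lit 50,nat_lit 51,nat_lit 49,nat_lit 48,nat_lit 60,nat_lit 61,nat_lit 62,nat_lit 63]⟩,⟨[nat_lit 1,nat_lit 16],[nat_lit 1,nat_lit 32],[nat_lit 0,nat_lit 1,nat_lit 16,nat_lit 17]⟩],nat_lit 0x4ce3218⟩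
noncomputable def h256 : Hdr :=
  ⟨(nat_lit 6),(nat_lit 6),[[[]],[[nat_lit 0],[nat_lit 0]],[[nat_lit 0],[nat_lit 1],[nat_lit 1]],[[nat_lit 0],[nat_lit 1,nat_lit 0],[nat_lit 2,nat_lit 1],[]],[[nat_lit 0],[nat_lit 1],[nat_lit 2,nat_lit 0],[nat_lit 3],[]],[[nat_lit 0],[nat_lit 1],[nat_lit 2],[nat_lit 3],[nat_lit 4],[]]],[nat_lit 1,nat_lit 32,nat_lit 33],[nat_lit 16],[nat_lit 1,nat_lit 48],[⟨[nat_lit 1,nat_lit 8,nat_lit 16,nat_lit 32],[nat_lit 8,nat_lit 9,nat_lit 16,nat_lit 32],[nat_lit 0,nat_lit 1,nat_lit 8,nat_lit 9,nat_lit 16,nat_lit 17,nat_lit 24,nat_lit 25,nat_lit 32,nat_lit 33,nat_lit 40,nat_lit 41,nat_lit 48,nat_lit 49,nat_lit 56,nat_lit 57]⟩,⟨[nat_lit 1,nat_lit 2,nat_lit 14,nat_lit 18,nat_lit 32],[nat_lit 1,nat_lit 14,nat_lit 12,nat_lit 18,nat_lit 32],[nat_lit 0,nat_lit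 1,nat_lit 2,nat_lit 3,nat_lit 14,nat_lit 15,nat_lit 13,nat_lit 12,nat_lit 18,nat_lit 19,nat_lit 17,nat_lit 16,nat_lit 28,nat_lit 29,nat_lit 30,nat_lit 31,nat_lit 32,nat_lit 33,nat_lit 34,nat_lit 35,nat_lit 46,nat_lit 47,nat_lit 45,nat_lit 44,nat_lit 50,nat_lit 51,nat_lit 49,nat_lit 48,nat_lit 60,nat_lit 61,nat_lit 62,nat_lit 63]⟩,⟨[nat_lit 1,nat_lit 16],[nat_lit 1,nat_lit 32],[nat_lit 0,nat_lit 1,nat_lit 16,nat_lit 17]⟩],nat_lit 0x0⟩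
noncomputable def h257 : Hdr :=
  ⟨(nat_lit 6),(nat_lit 6),[[[]],[[nat_lit 0],[nat_lit 0]],[[nat_lit 0],[nat_lit 1],[nat_lit 1]],[[nat_lit 0],[nat_lit 1,nat_lit 0],[nat_lit 2,nat_lit 1],[]],[[nat_lit 0],[nat_lit 1],[nat_lit 2,nat_lit 0],[nat_lit 3],[]],[[nat_lit 0],[nat_lit 1],[nat_lit 2],[nat_lit 3],[nat_lit 4],[]]],[nat_lit 1,nat_lit 32,nat_lit 33],[nat_lit 32,nat_lit 16],[],[⟨[nat_lit 1,nat_lit 8,nat_lit 16,nat_lit 32],[nat_lit 8,nat_lit 9,nat_lit 16,nat_lit 32],[nat_lit 0,nat_lit 1,nat_lit 8,nat_lit 9,nat_lit 16,nat_lit 17,nat_lit 24,nat_lit 25,nat_lit 32,nat_lit 33,nat_lit 40,nat_lit 41,nat_lit 48,nat_lit 49,nat_lit 56,nat_lit 57]⟩,⟨[nat_lit 1,nat_lit 2,nat_lit 14,nat_lit 18,nat_lit 32],[nat_lit 1,nat_lit 14,nat_lit 12,nat_lit 18,nat_lit 32],[nat_lit 0,nat_lit 1,nat_lit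 2,nat_lit 3,nat_lit 14,nat_lit 15,nat_lit 13,nat_lit 12,nat_lit 18,nat_lit 19,nat_lit 17,nat_lit 16,nat_lit 28,nat_lit 29,nat_lit 30,nat_lit 31,nat_lit 32,nat_lit 33,nat_lit 34,nat_lit 35,nat_lit 46,nat_lit 47,nat_lit 45,nat_lit 44,nat_lit 50,nat_lit 51,nat_lit 49,nat_lit 48,nat_lit 60,nat_lit 61,nat_lit 62,nat_lit 63]⟩,⟨[nat_lit 1,nat_lit 16],[nat_lit 1,nat_lit 32],[nat_lit 0,nat_lit 1,nat_lit 16,nat_lit 17]⟩],nat_lit 0x0⟩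
noncomputable def p0 : List Ins :=
  [Ins.fr [nat_lit 0],Ins.ts (nat_lit 1) [nat_lit 0,nat_lit 0] [],Ins.ts (nat_lit 3) [nat_lit 0,nat_lit 0,nat_lit 1] [],Ins.ts (nat_lit 0) [nat_lit 0,nat_lit 0,nat_lit 0,nat_lit 0] []]
noncomputable def p1 : List Ins :=
  [Ins.fr [nat_lit 0],Ins.ts (nat_lit 0) [nat_lit 0,nat_lit 0] [nat_lit 1]]
noncomputable def p2 : List Ins :=
  [Ins.fr [nat_lit 0],Ins.ts (nat_lit 3) [nat_lit 0] [],Ins.ts (nat_lit 0) [nat_lit 0,nat_lit 0] [],Ins.ts (nat_lit 1) [nat_lit 0] [],Ins.fr [nat_lit 1],Ins.ts (nat_lit 1) [nat_lit 0,nat_lit 0] [],Ins.ts (nat_lit 0) [nat_lit 1,nat_lit 0] [nat_lit 0,nat_lit 1],Ins.ts (nat_lit 1) [nat_lit 0,nat_lit 0,nat_lit 1] [],Ins.ts (nat_lit 0) [nat_lit 0,nat_lit 0,nat_lit 0,nat_lit 0] []]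
noncomputable def p3 : List Ins :=
  [Ins.fr [nat_lit 0],Ins.ts (nat_lit 1) [nat_lit 0,nat_lit 0] [],Ins.ts (nat_lit 1) [nat_lit 0,nat_lit 0,nat_lit 0,nat_lit 0] [],Ins.fr [nat_lit 1],Ins.ts (nat_lit 3) [nat_lit 0] [],Ins.ts (nat_lit 0) [nat_lit 0,nat_lit 0] [],Ins.ts (nat_lit 1) [nat_lit 0] [],Ins.ts (nat_lit 1) [nat_lit 1,nat_lit 0,nat_lit 1,nat_lit 0] [],Ins.ts (nat_lit 0) [nat_lit 1,nat_lit 1,nat_lit 0,nat_lit 1,nat_lit 1] [nat_lit 0],Ins.ts (nat_lit 0) [nat_lit 1,nat_lit 0,nat_lit 1,nat_lit 0,nat_lit 1] [nat_lit 0,nat_lit 1,nat_lit 1,nat_lit 1,nat_lit 0]]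
noncomputable def p4 : List Ins :=
  [Ins.fr [nat_lit 0],Ins.ts (nat_lit 3) [nat_lit 0] [],Ins.ts (nat_lit 0) [nat_lit 0,nat_lit 0] [],Ins.ts (nat_lit 1) [nat_lit 0] [],Ins.fr [nat_lit 1],Ins.ts (nat_lit 1) [nat_lit 0,nat_lit 0] [],Ins.ts (nat_lit 0) [nat_lit 0,nat_lit 1,nat_lit 0] [nat_lit 1],Ins.ts (nat_lit 3) [nat_lit 1,nat_lit 0] [],Ins.ts (nat_lit 0) [nat_lit 0,nat_lit 0,nat_lit 0,nat_lit 0] [],Ins.fr [nat_lit 2],Ins.ts (nat_lit 0) [nat_lit 0,nat_lit 0] [],Ins.ts (nat_lit 2) [nat_lit 0] [],Ins.ts (nat_lit 0) [nat_lit 1,nat_lit 0] [nat_lit 0,nat_lit 1],Ins.ts (nat_lit 1) [nat_lit 0] [],Ins.ts (nat_lit 0) [nat_lit 2,nat_lit 0] [nat_lit 0,nat_lit 2],Ins.ts (nat_lit 1) [nat_lit 0,nat_lit 3] [],Ins.ts (nat_lit 1) [nat_lit 0,nat_lit 1,nat_lit 1,nat_lit 3] [],Ins.fr [nat_lit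 3],Ins.ts (nat_lit 1) [nat_lit 0,nat_lit 0] [],Ins.ts (nat_lit 0) [nat_lit 3,nat_lit 0] [nat_lit 0,nat_lit 3]]
noncomputable def p5 : List Ins :=
  [Ins.fr [nat_lit 0],Ins.ts (nat_lit 2) [nat_lit 0] [],Ins.ts (nat_lit 0) [nat_lit 0,nat_lit 0] [],Ins.ts (nat_lit 2) [nat_lit 0,nat_lit 1] [],Ins.ts (nat_lit 1) [nat_lit 0] [],Ins.ts (nat_lit 1) [nat_lit 0,nat_lit 1] []]
noncomputable def p6 : List Ins :=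
  [Ins.fr [nat_lit 0],Ins.ts (nat_lit 2) [nat_lit 0] [],Ins.ts (nat_lit 0) [nat_lit 0,nat_lit 0] [],Ins.ts (nat_lit 2) [nat_lit 0,nat_lit 1] [],Ins.ts (nat_lit 1) [nat_lit 0] [],Ins.ts (nat_lit 1) [nat_lit 0,nat_lit 1] []]
noncomputable def p7 : List Ins :=
  [Ins.fr [nat_lit 0],Ins.ts (nat_lit 2) [nat_lit 0] [],Ins.ts (nat_lit 0) [nat_lit 0,nat_lit 0] [],Ins.ts (nat_lit 1) [nat_lit 0] [],Ins.ts (nat_lit 1) [nat_lit 0,nat_lit 1] [],Ins.fr [nat_lit 1],Ins.ts (nat_lit 1) [nat_lit 0,nat_lit 0] [],Ins.ts (nat_lit 0) [nat_lit 1,nat_lit 0] [nat_lit 0,nat_lit 1],Ins.ts (nat_lit 0) [nat_lit 0,nat_lit 0,nat_lit 0,nat_lit 0] [],Ins.ts (nat_lit 1) [nat_lit 0,nat_lit 0,nat_lit 1,nat_lit 2] []]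
noncomputable def p8 : List Ins :=
  [Ins.fr [nat_lit 0],Ins.ts (nat_lit 0) [nat_lit 0,nat_lit 0] [],Ins.ts (nat_lit 3) [nat_lit 0] [],Ins.ts (nat_lit 2) [nat_lit 0,nat_lit 1] [],Ins.ts (nat_lit 1) [nat_lit 0] [],Ins.fr [nat_lit 1],Ins.ts (nat_lit 0) [nat_lit 0,nat_lit 0] [],Ins.ts (nat_lit 3) [nat_lit 0] [],Ins.ts (nat_lit 2) [nat_lit 0,nat_lit 1,nat_lit 2] [],Ins.ts (nat_lit 3) [nat_lit 0,nat_lit 2] [],Ins.ts (nat_lit 0) [nat_lit 1,nat_lit 0] [nat_lit 0,nat_lit 1]]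
noncomputable def p9 : List Ins :=
  [Ins.fr [nat_lit 0],Ins.ts (nat_lit 2) [nat_lit 0] [],Ins.ts (nat_lit 0) [nat_lit 0,nat_lit 0] [],Ins.ts (nat_lit 2) [nat_lit 0,nat_lit 1] [],Ins.ts (nat_lit 1) [nat_lit 0] [],Ins.ts (nat_lit 1) [nat_lit 0,nat_lit 1] []]
noncomputable def p10 : List Ins :=
  [Ins.fr [nat_lit 0],Ins.ts (nat_lit 1) [nat_lit 0,nat_lit 0] [],Ins.ts (nat_lit 0) [nat_lit 0,nat_lit 0,nat_lit 0,nat_lit 0] [],Ins.fr [nat_lit 1],Ins.ts (nat_lit 0) [nat_lit 0,nat_lit 0] [],Ins.ts (nat_lit 0) [nat_lit 1,nat_lit 0] [nat_lit 0,nat_lit 1],Ins.ts (nat_lit 1) [nat_lit 0] [],Ins.ts (nat_lit 1) [nat_lit 0,nat_lit 2] [],Ins.ts (nat_lit 1) [nat_lit 0,nat_lit 1,nat_lit 1] [],Ins.ts (nat_lit 1) [nat_lit 0,nat_lit 1,nat_lit 1,nat_lit 2] []]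
noncomputable def p11 : List Ins :=
  [Ins.fr [nat_lit 0],Ins.ts (nat_lit 0) [nat_lit 0,nat_lit 0] [],Ins.ts (nat_lit 3) [nat_lit 0] [],Ins.ts (nat_lit 3) [nat_lit 0,nat_lit 1] [],Ins.fr [nat_lit 1],Ins.ts (nat_lit 1) [nat_lit 0,nat_lit 0] [],Ins.ts (nat_lit 0) [nat_lit 1,nat_lit 0] [nat_lit 0,nat_lit 1],Ins.fr [nat_lit 2],Ins.ts (nat_lit 0) [nat_lit 0,nat_lit 0] [],Ins.ts (nat_lit 0) [nat_lit 1,nat_lit 0] [nat_lit 0,nat_lit 1],Ins.ts (nat_lit 1) [nat_lit 0] [],Ins.ts (nat_lit 0) [nat_lit 2,nat_lit 0] [nat_lit 0,nat_lit 2],Ins.ts (nat_lit 1) [nat_lit 0,nat_lit 3] [],Ins.ts (nat_lit 1) [nat_lit 0,nat_lit 2] [],Ins.ts (nat_lit 1) [nat_lit 0,nat_lit 2,nat_lit 3] [],Ins.ts (nat_lit 1) [nat_lit 0,nat_lit 1,nat_lit 1] [],Ins.ts (nat_lit 1) [nat_lit 0,nat_lit 1,nat_lit 1,nat_lit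 3] [],Ins.ts (nat_lit 1) [nat_lit 0,nat_lit 1,nat_lit 1,nat_lit 2] [],Ins.ts (nat_lit 1) [nat_lit 0,nat_lit 1,nat_lit 1,nat_lit 2,nat_lit 3] []]
noncomputable def p12 : List Ins :=
  [Ins.fr [nat_lit 0],Ins.ts (nat_lit 3) [nat_lit 0] [],Ins.ts (nat_lit 0) [nat_lit 0,nat_lit 0] [],Ins.ts (nat_lit 1) [nat_lit 0] [],Ins.fr [nat_lit 1],Ins.ts (nat_lit 1) [nat_lit 0,nat_lit 0] [],Ins.ts (nat_lit 0) [nat_lit 0,nat_lit 0,nat_lit 0,nat_lit 0] [],Ins.ts (nat_lit 1) [nat_lit 0,nat_lit 1,nat_lit 0,nat_lit 1] [],Ins.ts (nat_lit 1) [nat_lit 0,nat_lit 1,nat_lit 0] [],Ins.ts (nat_lit 1) [nat_lit 0,nat_lit 0,nat_lit 0,nat_lit 1,nat_lit 0,nat_lit 1] [],Ins.ts (nat_lit 0) [nat_lit 1,nat_lit 0,nat_lit 1,nat_lit 0] [nat_lit 0,nat_lit 1,nat_lit 0,nat_lit 1]]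
noncomputable def p13 : List Ins :=
  [Ins.fr [nat_lit 0],Ins.ts (nat_lit 3) [nat_lit 0] [],Ins.ts (nat_lit 0) [nat_lit 0,nat_lit 0] [],Ins.ts (nat_lit 3) [nat_lit 0,nat_lit 1] []]
noncomputable def p14 : List Ins :=
  [Ins.fr [nat_lit 0],Ins.ts (nat_lit 3) [nat_lit 0] [],Ins.ts (nat_lit 0) [nat_lit 0,nat_lit 0] [],Ins.ts (nat_lit 1) [nat_lit 0] [],Ins.fr [nat_lit 1],Ins.ts (nat_lit 3) [nat_lit 0] [],Ins.ts (nat_lit 0) [nat_lit 0,nat_lit 0] [],Ins.ts (nat_lit 1) [nat_lit 0] [],Ins.ts (nat_lit 1) [nat_lit 0,nat_lit 1] [],Ins.ts (nat_lit 0) [nat_lit 1,nat_lit 0] [nat_lit 0,nat_lit 1],Ins.fr [nat_lit 2],Ins.ts (nat_lit 3) [nat_lit 0] [],Ins.ts (nat_lit 0) [nat_lit 0,nat_lit 0] [],Ins.ts (nat_lit 1) [nat_lit 0] [],Ins.ts (nat_lit 1) [nat_lit 0,nat_lit 2] [],Ins.ts (nat_lit 1)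 [nat_lit 0,nat_lit 1] [],Ins.ts (nat_lit 0) [nat_lit 2,nat_lit 0] [nat_lit 0,nat_lit 2],Ins.ts (nat_lit 1) [nat_lit 0,nat_lit 1,nat_lit 2] [],Ins.ts (nat_lit 0) [nat_lit 1,nat_lit 0] [nat_lit 0,nat_lit 1]]
noncomputable def p15 : List Ins :=
  [Ins.fr [nat_lit 0],Ins.ts (nat_lit 0) [nat_lit 0,nat_lit 0] [],Ins.ts (nat_lit 3) [nat_lit 0] [],Ins.ts (nat_lit 2) [nat_lit 0,nat_lit 1] [],Ins.ts (nat_lit 1) [nat_lit 0] [],Ins.fr [nat_lit 1],Ins.ts (nat_lit 0) [nat_lit 0,nat_lit 0] [],Ins.ts (nat_lit 3) [nat_lit 0] [],Ins.ts (nat_lit 2) [nat_lit 0,nat_lit 2] [],Ins.ts (nat_lit 1) [nat_lit 0] [],Ins.ts (nat_lit 1) [nat_lit 0,nat_lit 1] [],Ins.ts (nat_lit 0) [nat_lit 1,nat_lit 0] [nat_lit 0,nat_lit 1],Ins.fr [nat_lit 2],Ins.ts (nat_lit 0) [nat_lit 0,nat_lit 0] [],Ins.ts (nat_lit 3)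 [nat_lit 0] [],Ins.ts (nat_lit 2) [nat_lit 0,nat_lit 3] [],Ins.ts (nat_lit 1) [nat_lit 0] [],Ins.ts (nat_lit 1) [nat_lit 0,nat_lit 1] [],Ins.ts (nat_lit 1) [nat_lit 0,nat_lit 2] [],Ins.ts (nat_lit 0) [nat_lit 2,nat_lit 0] [nat_lit 0,nat_lit 2],Ins.ts (nat_lit 1) [nat_lit 0,nat_lit 1,nat_lit 2] [],Ins.ts (nat_lit 0) [nat_lit 1,nat_lit 0] [nat_lit 0,nat_lit 1]]
noncomputable def p16 : List Ins :=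
  [Ins.fr [nat_lit 0],Ins.ts (nat_lit 2) [nat_lit 0] [],Ins.ts (nat_lit 0) [nat_lit 0,nat_lit 0] [],Ins.ts (nat_lit 1) [nat_lit 0] [],Ins.ts (nat_lit 1) [nat_lit 0,nat_lit 1] [],Ins.fr [nat_lit 1],Ins.ts (nat_lit 1) [nat_lit 0,nat_lit 0] [],Ins.ts (nat_lit 0) [nat_lit 0,nat_lit 1,nat_lit 0] [nat_lit 1],Ins.ts (nat_lit 1) [nat_lit 0,nat_lit 0,nat_lit 0,nat_lit 0] []]
noncomputable def p17 : List Ins :=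
  [Ins.fr [nat_lit 0],Ins.ts (nat_lit 1) [nat_lit 0,nat_lit 0] [],Ins.ts (nat_lit 1) [nat_lit 0,nat_lit 0,nat_lit 0,nat_lit 0] [],Ins.fr [nat_lit 1],Ins.ts (nat_lit 1) [nat_lit 0,nat_lit 0] [],Ins.ts (nat_lit 0) [nat_lit 1,nat_lit 0,nat_lit 1] [nat_lit 0]]
noncomputable def p18 : List Ins :=
  [Ins.fr [nat_lit 0],Ins.ts (nat_lit 1) [nat_lit 0,nat_lit 0] [],Ins.ts (nat_lit 1) [nat_lit 0,nat_lit 0,nat_lit 0,nat_lit 0] [],Ins.fr [nat_lit 1],Ins.ts (nat_lit 3) [nat_lit 0] [],Ins.ts (nat_lit 0) [nat_lit 0,nat_lit 0] [],Ins.ts (nat_lit 0) [nat_lit 1,nat_lit 0] [nat_lit 0,nat_lit 1],Ins.ts (nat_lit 1) [nat_lit 0] [],Ins.ts (nat_lit 1) [nat_lit 0,nat_lit 1,nat_lit 1,nat_lit 1,nat_lit 1] []]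
noncomputable def p19 : List Ins :=
  [Ins.fr [nat_lit 0],Ins.ts (nat_lit 1) [nat_lit 0,nat_lit 0] [],Ins.ts (nat_lit 0) [nat_lit 0,nat_lit 0,nat_lit 0,nat_lit 0] [],Ins.fr [nat_lit 1],Ins.ts (nat_lit 1) [nat_lit 0,nat_lit 0] [],Ins.ts (nat_lit 0) [nat_lit 1,nat_lit 0] [nat_lit 0,nat_lit 1],Ins.ts (nat_lit 1) [nat_lit 0,nat_lit 0,nat_lit 1,nat_lit 1] [],Ins.ts (nat_lit 0) [nat_lit 0,nat_lit 0,nat_lit 0,nat_lit 0] []]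
noncomputable def p20 : List Ins :=
  [Ins.fr [nat_lit 0],Ins.ts (nat_lit 3) [nat_lit 0] [],Ins.ts (nat_lit 0) [nat_lit 0,nat_lit 0] [],Ins.ts (nat_lit 1) [nat_lit 0] [],Ins.fr [nat_lit 1],Ins.ts (nat_lit 0) [nat_lit 0,nat_lit 0] [],Ins.ts (nat_lit 1) [nat_lit 0] [],Ins.ts (nat_lit 1) [nat_lit 1,nat_lit 0,nat_lit 1,nat_lit 0] [],Ins.ts (nat_lit 1) [nat_lit 0,nat_lit 1,nat_lit 0,nat_lit 1,nat_lit 0,nat_lit 1,nat_lit 0,nat_lit 1] []]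
noncomputable def p21 : List Ins :=
  [Ins.fr [nat_lit 0],Ins.ts (nat_lit 0) [nat_lit 0,nat_lit 0] [],Ins.ts (nat_lit 3) [nat_lit 0] [],Ins.ts (nat_lit 2) [nat_lit 0,nat_lit 1] [],Ins.ts (nat_lit 1) [nat_lit 0] [],Ins.fr [nat_lit 1],Ins.ts (nat_lit 0) [nat_lit 0,nat_lit 0] [],Ins.ts (nat_lit 3) [nat_lit 0] [],Ins.ts (nat_lit 3) [nat_lit 0,nat_lit 2] [],Ins.ts (nat_lit 0) [nat_lit 1,nat_lit 0] [nat_lit 0,nat_lit 1],Ins.fr [nat_lit 2],Ins.ts (nat_lit 0) [nat_lit 0,nat_lit 0] [],Ins.ts (nat_lit 3) [nat_lit 0] [],Ins.ts (nat_lit 0) [nat_lit 1,nat_lit 0] [nat_lit 0,nat_lit 1],Ins.ts (nat_lit 3) [nat_lit 0,nat_lit 1] [],Ins.ts (nat_lit 1) [nat_lit 0] [],Ins.ts (nat_lit 3) [nat_lit 0,nat_lit 1,nat_lit 3] [],Ins.ts (nat_lit 1) [nat_lit 0,nat_lit 2] [],Ins.ts (nat_lit 0) [nat_lit 2,nat_lit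 0] [nat_lit 0,nat_lit 2],Ins.fr [nat_lit 3],Ins.ts (nat_lit 0) [nat_lit 0,nat_lit 0] [],Ins.ts (nat_lit 3) [nat_lit 0] [],Ins.ts (nat_lit 2) [nat_lit 0,nat_lit 1,nat_lit 4] [],Ins.ts (nat_lit 0) [nat_lit 1,nat_lit 0] [nat_lit 0,nat_lit 1],Ins.ts (nat_lit 1) [nat_lit 0] [],Ins.ts (nat_lit 1) [nat_lit 0,nat_lit 3] [],Ins.ts (nat_lit 1) [nat_lit 0,nat_lit 1] [],Ins.ts (nat_lit 1) [nat_lit 0,nat_lit 1,nat_lit 3] [],Ins.ts (nat_lit 0) [nat_lit 3,nat_lit 0] [nat_lit 0,nat_lit 3]]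
noncomputable def p22 : List Ins :=
  [Ins.fr [nat_lit 0],Ins.ts (nat_lit 3) [nat_lit 0] [],Ins.ts (nat_lit 0) [nat_lit 0,nat_lit 0] [],Ins.ts (nat_lit 1) [nat_lit 0] [],Ins.fr [nat_lit 1],Ins.ts (nat_lit 1) [nat_lit 0,nat_lit 0] [],Ins.ts (nat_lit 0) [nat_lit 1,nat_lit 0] [nat_lit 0,nat_lit 1],Ins.ts (nat_lit 1) [nat_lit 0,nat_lit 0,nat_lit 1] [],Ins.ts (nat_lit 0) [nat_lit 0,nat_lit 0,nat_lit 0,nat_lit 0] [],Ins.fr [nat_lit 2],Ins.ts (nat_lit 1) [nat_lit 0,nat_lit 0] [],Ins.ts (nat_lit 0) [nat_lit 0,nat_lit 1,nat_lit 0] [nat_lit 1],Ins.ts (nat_lit 0) [nat_lit 2,nat_lit 0] [nat_lit 0,nat_lit 2]]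
noncomputable def p23 : List Ins :=
  [Ins.fr [nat_lit 0],Ins.ts (nat_lit 3) [nat_lit 0] [],Ins.ts (nat_lit 0) [nat_lit 0,nat_lit 0] [],Ins.ts (nat_lit 1) [nat_lit 0] [],Ins.fr [nat_lit 1],Ins.ts (nat_lit 1) [nat_lit 0,nat_lit 0] [],Ins.ts (nat_lit 0) [nat_lit 1,nat_lit 0] [nat_lit 0,nat_lit 1],Ins.ts (nat_lit 1) [nat_lit 0,nat_lit 0,nat_lit 1] [],Ins.ts (nat_lit 0) [nat_lit 0,nat_lit 0,nat_lit 0,nat_lit 0] [],Ins.fr [nat_lit 2],Ins.ts (nat_lit 3) [nat_lit 0] [],Ins.ts (nat_lit 0) [nat_lit 0,nat_lit 0] [],Ins.ts (nat_lit 0) [nat_lit 1,nat_lit 0] [nat_lit 0,nat_lit 1],Ins.ts (nat_lit 1) [nat_lit 0] [],Ins.ts (nat_lit 0) [nat_lit 2,nat_lit 0] [nat_lit 0,nat_lit 2],Ins.ts (nat_lit 1) [nat_lit 0,nat_lit 2] [],Ins.ts (nat_lit 1) [nat_lit 0,nat_lit 1,nat_lit 1] [],Ins.ts (nat_lit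 1) [nat_lit 0,nat_lit 1,nat_lit 1,nat_lit 2] []]
noncomputable def p24 : List Ins :=
  [Ins.fr [nat_lit 0],Ins.ts (nat_lit 1) [nat_lit 0,nat_lit 0] [],Ins.ts (nat_lit 0) [nat_lit 0,nat_lit 0,nat_lit 0,nat_lit 0] [],Ins.fr [nat_lit 1],Ins.ts (nat_lit 1) [nat_lit 0,nat_lit 0] [],Ins.ts (nat_lit 0) [nat_lit 1,nat_lit 1] [nat_lit 0,nat_lit 0],Ins.ts (nat_lit 0) [nat_lit 1,nat_lit 0,nat_lit 1,nat_lit 0,nat_lit 1] [nat_lit 0,nat_lit 1,nat_lit 0]]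
noncomputable def p25 : List Ins :=
  [Ins.fr [nat_lit 0],Ins.ts (nat_lit 1) [nat_lit 0,nat_lit 0] [],Ins.ts (nat_lit 0) [nat_lit 0,nat_lit 0,nat_lit 0,nat_lit 0] [],Ins.fr [nat_lit 1],Ins.ts (nat_lit 1) [nat_lit 0,nat_lit 0] [],Ins.ts (nat_lit 0) [nat_lit 1,nat_lit 1] [nat_lit 0,nat_lit 0],Ins.ts (nat_lit 1) [nat_lit 1,nat_lit 0,nat_lit 1,nat_lit 0] [],Ins.ts (nat_lit 0) [nat_lit 1,nat_lit 0,nat_lit 1,nat_lit 0,nat_lit 1] [nat_lit 0,nat_lit 1,nat_lit 0]]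
noncomputable def p26 : List Ins :=
  [Ins.fr [nat_lit 0],Ins.ts (nat_lit 3) [nat_lit 0] [],Ins.ts (nat_lit 0) [nat_lit 0,nat_lit 0] [],Ins.ts (nat_lit 1) [nat_lit 0] [],Ins.fr [nat_lit 1],Ins.ts (nat_lit 3) [nat_lit 0] [],Ins.ts (nat_lit 0) [nat_lit 0,nat_lit 0] [],Ins.ts (nat_lit 1) [nat_lit 0] [],Ins.ts (nat_lit 0) [nat_lit 1,nat_lit 0] [nat_lit 0,nat_lit 1],Ins.ts (nat_lit 1) [nat_lit 0,nat_lit 1] [],Ins.fr [nat_lit 2],Ins.ts (nat_lit 3) [nat_lit 0] [],Ins.ts (nat_lit 0) [nat_lit 0,nat_lit 0] [],Ins.ts (nat_lit 1) [nat_lit 0] [],Ins.ts (nat_lit 0) [nat_lit 2,nat_lit 0] [nat_lit 0,nat_lit 2],Ins.ts (nat_lit 0) [nat_lit 1,nat_lit 0] [nat_lit 0,nat_lit 1],Ins.ts (nat_lit 1) [nat_lit 0,nat_lit 2] [],Ins.ts (nat_lit 1) [nat_lit 0,nat_lit 1] [],Ins.ts (nat_lit 1) [nat_lit 0,nat_lit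 1,nat_lit 2] [],Ins.fr [nat_lit 3],Ins.ts (nat_lit 0) [nat_lit 0,nat_lit 0] [],Ins.ts (nat_lit 0) [nat_lit 2,nat_lit 0] [nat_lit 0,nat_lit 2],Ins.ts (nat_lit 1) [nat_lit 0] [],Ins.ts (nat_lit 0) [nat_lit 1,nat_lit 0] [nat_lit 0,nat_lit 1],Ins.ts (nat_lit 1) [nat_lit 0,nat_lit 4] [],Ins.ts (nat_lit 1) [nat_lit 0,nat_lit 2] [],Ins.ts (nat_lit 1) [nat_lit 0,nat_lit 1] [],Ins.ts (nat_lit 1) [nat_lit 0,nat_lit 3] [],Ins.ts (nat_lit 1) [nat_lit 0,nat_lit 1,nat_lit 4] [],Ins.ts (nat_lit 0) [nat_lit 3,nat_lit 0] [nat_lit 0,nat_lit 3],Ins.ts (nat_lit 1) [nat_lit 0,nat_lit 1,nat_lit 3] [],Ins.ts (nat_lit 1) [nat_lit 0,nat_lit 2,nat_lit 4] [],Ins.ts (nat_lit 1) [nat_lit 0,nat_lit 2,nat_lit 3] [],Ins.ts (nat_lit 1) [nat_lit 0,nat_lit 3,nat_lit 4] [],Ins.ts (nat_lit 1) [nat_lit 0,nat_lit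 1,nat_lit 2] [],Ins.ts (nat_lit 1) [nat_lit 0,nat_lit 1,nat_lit 3,nat_lit 4] [],Ins.ts (nat_lit 1) [nat_lit 0,nat_lit 2,nat_lit 3,nat_lit 4] [],Ins.ts (nat_lit 1) [nat_lit 0,nat_lit 1,nat_lit 2,nat_lit 4] [],Ins.ts (nat_lit 1) [nat_lit 0,nat_lit 1,nat_lit 2,nat_lit 3] [],Ins.ts (nat_lit 1) [nat_lit 0,nat_lit 1,nat_lit 2,nat_lit 3,nat_lit 4] []]
noncomputable def DB (k : ℕ) : Hdr :=
  (Bool.rec (Bool.rec (Bool.rec (Bool.rec (Bool.rec (Bool.rec (Bool.rec (Bool.rec h0 h1 (Nat.ble (nat_lit 1) k)) (Bool.rec h2 h3 (Nat.ble (nat_lit 3) k)) (Nat.ble (nat_lit 2) k)) (Bool.rec (Bool.rec h4 h5 (Nat.ble (nat_lit 5) k)) (Bool.rec h6 h7 (Nat.ble (nat_lit 7) k)) (Nat.ble (nat_lit 6) k)) (Nat.ble (nat_lit 4) k)) (Bool.rec (Bool.rec (Bool.rec h8 h9 (Nat.ble (nat_lit 9) k)) (Bool.rec h10 h11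 (Nat.ble (nat_lit 11) k)) (Nat.ble (nat_lit 10) k)) (Bool.rec (Bool.rec h12 h13 (Nat.ble (nat_lit 13) k)) (Bool.rec h14 h15 (Nat.ble (nat_lit 15) k)) (Nat.ble (nat_lit 14) k)) (Nat.ble (nat_lit 12) k)) (Nat.ble (nat_lit 8) k)) (Bool.rec (Bool.rec (Bool.rec (Bool.rec h16 h17 (Nat.ble (nat_lit 17) k)) (Bool.rec h18 h19 (Nat.ble (nat_lit 19) k)) (Nat.ble (nat_lit 18) k)) (Bool.rec (Bool.rec h20 h21 (Nat.ble (nat_lit 21) k)) (Bool.rec h22 h23 (Nat.ble (nat_lit 23) k)) (Nat.ble (nat_lit 22) k)) (Nat.ble (nat_lit 20) k)) (Bool.rec (Bool.rec (Bool.rec h24 h25 (Nat.ble (nat_lit 25) k)) (Bool.rec h26 h27 (Nat.ble (nat_lit 27) k)) (Nat.ble (nat_lit 26) k)) (Bool.rec (Bool.rec h28 h29 (Nat.ble (nat_lit 29) k)) (Bool.rec h30 h31 (Nat.ble (nat_lit 31) k)) (Nat.ble (nat_lit 30) k)) (Nat.ble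 (nat_lit 28) k)) (Nat.ble (nat_lit 24) k)) (Nat.ble (nat_lit 16) k)) (Bool.rec (Bool.rec (Bool.rec (Bool.rec (Bool.rec h32 h33 (Nat.ble (nat_lit 33) k)) (Bool.rec h34 h35 (Nat.ble (nat_lit 35) k)) (Nat.ble (nat_lit 34) k)) (Bool.rec (Bool.rec h36 h37 (Nat.ble (nat_lit 37) k)) (Bool.rec h38 h39 (Nat.ble (nat_lit 39) k)) (Nat.ble (nat_lit 38) k)) (Nat.ble (nat_lit 36) k)) (Bool.rec (Bool.rec (Bool.rec h40 h41 (Nat.ble (nat_lit 41) k)) (Bool.rec h42 h43 (Nat.ble (nat_lit 43) k)) (Nat.ble (nat_lit 42) k)) (Bool.rec (Bool.rec h44 h45 (Nat.ble (nat_lit 45) k)) (Bool.rec h46 h47 (Nat.ble (nat_lit 47) k)) (Nat.ble (nat_lit 46) k)) (Nat.ble (nat_lit 44) k)) (Nat.ble (nat_lit 40) k)) (Bool.rec (Bool.rec (Bool.rec (Bool.rec h48 h49 (Nat.ble (nat_lit 49) k)) (Bool.rec h50 h51 (Nat.ble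 (nat_lit 51) k)) (Nat.ble (nat_lit 50) k)) (Bool.rec (Bool.rec h52 h53 (Nat.ble (nat_lit 53) k)) (Bool.rec h54 h55 (Nat.ble (nat_lit 55) k)) (Nat.ble (nat_lit 54) k)) (Nat.ble (nat_lit 52) k)) (Bool.rec (Bool.rec (Bool.rec h56 h57 (Nat.ble (nat_lit 57) k)) (Bool.rec h58 h59 (Nat.ble (nat_lit 59) k)) (Nat.ble (nat_lit 58) k)) (Bool.rec (Bool.rec h60 h61 (Nat.ble (nat_lit 61) k)) (Bool.rec h62 h63 (Nat.ble (nat_lit 63) k)) (Nat.ble (nat_lit 62) k)) (Nat.ble (nat_lit 60) k)) (Nat.ble (nat_lit 56) k)) (Nat.ble (nat_lit 48) k)) (Nat.ble (nat_lit 32) k)) (Bool.rec (Bool.rec (Bool.rec (Bool.rec (Bool.rec (Bool.rec h64 h65 (Nat.ble (nat_lit 65) k)) (Bool.rec h66 h67 (Nat.ble (nat_lit 67) k)) (Nat.ble (nat_lit 66) k)) (Bool.rec (Bool.rec h68 h69 (Nat.ble (nat_lit 69) k)) (Bool.rec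 h70 h71 (Nat.ble (nat_lit 71) k)) (Nat.ble (nat_lit 70) k)) (Nat.ble (nat_lit 68) k)) (Bool.rec (Bool.rec (Bool.rec h72 h73 (Nat.ble (nat_lit 73) k)) (Bool.rec h74 h75 (Nat.ble (nat_lit 75) k)) (Nat.ble (nat_lit 74) k)) (Bool.rec (Bool.rec h76 h77 (Nat.ble (nat_lit 77) k)) (Bool.rec h78 h79 (Nat.ble (nat_lit 79) k)) (Nat.ble (nat_lit 78) k)) (Nat.ble (nat_lit 76) k)) (Nat.ble (nat_lit 72) k)) (Bool.rec (Bool.rec (Bool.rec (Bool.rec h80 h81 (Nat.ble (nat_lit 81) k)) (Bool.rec h82 h83 (Nat.ble (nat_lit 83) k)) (Nat.ble (nat_lit 82) k)) (Bool.rec (Bool.rec h84 h85 (Nat.ble (nat_lit 85) k)) (Bool.rec h86 h87 (Nat.ble (nat_lit 87) k)) (Nat.ble (nat_lit 86) k)) (Nat.ble (nat_lit 84) k)) (Bool.rec (Bool.rec (Bool.rec h88 h89 (Nat.ble (nat_lit 89) k)) (Bool.rec h90 h91 (Nat.ble (nat_lit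 91) k)) (Nat.ble (nat_lit 90) k)) (Bool.rec (Bool.rec h92 h93 (Nat.ble (nat_lit 93) k)) (Bool.rec h94 h95 (Nat.ble (nat_lit 95) k)) (Nat.ble (nat_lit 94) k)) (Nat.ble (nat_lit 92) k)) (Nat.ble (nat_lit 88) k)) (Nat.ble (nat_lit 80) k)) (Bool.rec (Bool.rec (Bool.rec (Bool.rec (Bool.rec h96 h97 (Nat.ble (nat_lit 97) k)) (Bool.rec h98 h99 (Nat.ble (nat_lit 99) k)) (Nat.ble (nat_lit 98) k)) (Bool.rec (Bool.rec h100 h101 (Nat.ble (nat_lit 101) k)) (Bool.rec h102 h103 (Nat.ble (nat_lit 103) k)) (Nat.ble (nat_lit 102) k)) (Nat.ble (nat_lit 100) k)) (Bool.rec (Bool.rec (Bool.rec h104 h105 (Nat.ble (nat_lit 105) k)) (Bool.rec h106 h107 (Nat.ble (nat_lit 107) k)) (Nat.ble (nat_lit 106) k)) (Bool.rec (Bool.rec h108 h109 (Nat.ble (nat_lit 109) k)) (Bool.rec h110 h111 (Nat.ble (nat_lit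 111) k)) (Nat.ble (nat_lit 110) k)) (Nat.ble (nat_lit 108) k)) (Nat.ble (nat_lit 104) k)) (Bool.rec (Bool.rec (Bool.rec (Bool.rec h112 h113 (Nat.ble (nat_lit 113) k)) (Bool.rec h114 h115 (Nat.ble (nat_lit 115) k)) (Nat.ble (nat_lit 114) k)) (Bool.rec (Bool.rec h116 h117 (Nat.ble (nat_lit 117) k)) (Bool.rec h118 h119 (Nat.ble (nat_lit 119) k)) (Nat.ble (nat_lit 118) k)) (Nat.ble (nat_lit 116) k)) (Bool.rec (Bool.rec (Bool.rec h120 h121 (Nat.ble (nat_lit 121) k)) (Bool.rec h122 h123 (Nat.ble (nat_lit 123) k)) (Nat.ble (nat_lit 122) k)) (Bool.rec (Bool.rec h124 h125 (Nat.ble (nat_lit 125) k)) (Bool.rec h126 (Bool.rec h127 h128 (Nat.ble (nat_lit 128) k)) (Nat.ble (nat_lit 127) k)) (Nat.ble (nat_lit 126) k)) (Nat.ble (nat_lit 124) k)) (Nat.ble (nat_lit 120) k)) (Nat.ble (nat_lit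 112) k)) (Nat.ble (nat_lit 96) k)) (Nat.ble (nat_lit 64) k)) (Bool.rec (Bool.rec (Bool.rec (Bool.rec (Bool.rec (Bool.rec (Bool.rec h129 h130 (Nat.ble (nat_lit 130) k)) (Bool.rec h131 h132 (Nat.ble (nat_lit 132) k)) (Nat.ble (nat_lit 131) k)) (Bool.rec (Bool.rec h133 h134 (Nat.ble (nat_lit 134) k)) (Bool.rec h135 h136 (Nat.ble (nat_lit 136) k)) (Nat.ble (nat_lit 135) k)) (Nat.ble (nat_lit 133) k)) (Bool.rec (Bool.rec (Bool.rec h137 h138 (Nat.ble (nat_lit 138) k)) (Bool.rec h139 h140 (Nat.ble (nat_lit 140) k)) (Nat.ble (nat_lit 139) k)) (Bool.rec (Bool.rec h141 h142 (Nat.ble (nat_lit 142) k)) (Bool.rec h143 h144 (Nat.ble (nat_lit 144) k)) (Nat.ble (nat_lit 143) k)) (Nat.ble (nat_lit 141) k)) (Nat.ble (nat_lit 137) k)) (Bool.rec (Bool.rec (Bool.rec (Bool.rec h145 h146 (Nat.ble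 (nat_lit 146) k)) (Bool.rec h147 h148 (Nat.ble (nat_lit 148) k)) (Nat.ble (nat_lit 147) k)) (Bool.rec (Bool.rec h149 h150 (Nat.ble (nat_lit 150) k)) (Bool.rec h151 h152 (Nat.ble (nat_lit 152) k)) (Nat.ble (nat_lit 151) k)) (Nat.ble (nat_lit 149) k)) (Bool.rec (Bool.rec (Bool.rec h153 h154 (Nat.ble (nat_lit 154) k)) (Bool.rec h155 h156 (Nat.ble (nat_lit 156) k)) (Nat.ble (nat_lit 155) k)) (Bool.rec (Bool.rec h157 h158 (Nat.ble (nat_lit 158) k)) (Bool.rec h159 h160 (Nat.ble (nat_lit 160) k)) (Nat.ble (nat_lit 159) k)) (Nat.ble (nat_lit 157) k)) (Nat.ble (nat_lit 153) k)) (Nat.ble (nat_lit 145) k)) (Bool.rec (Bool.rec (Bool.rec (Bool.rec (Bool.rec h161 h162 (Nat.ble (nat_lit 162) k)) (Bool.rec h163 h164 (Nat.ble (nat_lit 164) k)) (Nat.ble (nat_lit 163) k)) (Bool.rec (Bool.rec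 h165 h166 (Nat.ble (nat_lit 166) k)) (Bool.rec h167 h168 (Nat.ble (nat_lit 168) k)) (Nat.ble (nat_lit 167) k)) (Nat.ble (nat_lit 165) k)) (Bool.rec (Bool.rec (Bool.rec h169 h170 (Nat.ble (nat_lit 170) k)) (Bool.rec h171 h172 (Nat.ble (nat_lit 172) k)) (Nat.ble (nat_lit 171) k)) (Bool.rec (Bool.rec h173 h174 (Nat.ble (nat_lit 174) k)) (Bool.rec h175 h176 (Nat.ble (nat_lit 176) k)) (Nat.ble (nat_lit 175) k)) (Nat.ble (nat_lit 173) k)) (Nat.ble (nat_lit 169) k)) (Bool.rec (Bool.rec (Bool.rec (Bool.rec h177 h178 (Nat.ble (nat_lit 178) k)) (Bool.rec h179 h180 (Nat.ble (nat_lit 180) k)) (Nat.ble (nat_lit 179) k)) (Bool.rec (Bool.rec h181 h182 (Nat.ble (nat_lit 182) k)) (Bool.rec h183 h184 (Nat.ble (nat_lit 184) k)) (Nat.ble (nat_lit 183) k)) (Nat.ble (nat_lit 181) k)) (Bool.rec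 (Bool.rec (Bool.rec h185 h186 (Nat.ble (nat_lit 186) k)) (Bool.rec h187 h188 (Nat.ble (nat_lit 188) k)) (Nat.ble (nat_lit 187) k)) (Bool.rec (Bool.rec h189 h190 (Nat.ble (nat_lit 190) k)) (Bool.rec h191 h192 (Nat.ble (nat_lit 192) k)) (Nat.ble (nat_lit 191) k)) (Nat.ble (nat_lit 189) k)) (Nat.ble (nat_lit 185) k)) (Nat.ble (nat_lit 177) k)) (Nat.ble (nat_lit 161) k)) (Bool.rec (Bool.rec (Bool.rec (Bool.rec (Bool.rec (Bool.rec h193 h194 (Nat.ble (nat_lit 194) k)) (Bool.rec h195 h196 (Nat.ble (nat_lit 196) k)) (Nat.ble (nat_lit 195) k)) (Bool.rec (Bool.rec h197 h198 (Nat.ble (nat_lit 198) k)) (Bool.rec h199 h200 (Nat.ble (nat_lit 200) k)) (Nat.ble (nat_lit 199) k)) (Nat.ble (nat_lit 197) k)) (Bool.rec (Bool.rec (Bool.rec h201 h202 (Nat.ble (nat_lit 202) k)) (Bool.rec h203 h204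 (Nat.ble (nat_lit 204) k)) (Nat.ble (nat_lit 203) k)) (Bool.rec (Bool.rec h205 h206 (Nat.ble (nat_lit 206) k)) (Bool.rec h207 h208 (Nat.ble (nat_lit 208) k)) (Nat.ble (nat_lit 207) k)) (Nat.ble (nat_lit 205) k)) (Nat.ble (nat_lit 201) k)) (Bool.rec (Bool.rec (Bool.rec (Bool.rec h209 h210 (Nat.ble (nat_lit 210) k)) (Bool.rec h211 h212 (Nat.ble (nat_lit 212) k)) (Nat.ble (nat_lit 211) k)) (Bool.rec (Bool.rec h213 h214 (Nat.ble (nat_lit 214) k)) (Bool.rec h215 h216 (Nat.ble (nat_lit 216) k)) (Nat.ble (nat_lit 215) k)) (Nat.ble (nat_lit 213) k)) (Bool.rec (Bool.rec (Bool.rec h217 h218 (Nat.ble (nat_lit 218) k)) (Bool.rec h219 h220 (Nat.ble (nat_lit 220) k)) (Nat.ble (nat_lit 219) k)) (Bool.rec (Bool.rec h221 h222 (Nat.ble (nat_lit 222) k)) (Bool.rec h223 h224 (Nat.ble (nat_lit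 224) k)) (Nat.ble (nat_lit 223) k)) (Nat.ble (nat_lit 221) k)) (Nat.ble (nat_lit 217) k)) (Nat.ble (nat_lit 209) k)) (Bool.rec (Bool.rec (Bool.rec (Bool.rec (Bool.rec h225 h226 (Nat.ble (nat_lit 226) k)) (Bool.rec h227 h228 (Nat.ble (nat_lit 228) k)) (Nat.ble (nat_lit 227) k)) (Bool.rec (Bool.rec h229 h230 (Nat.ble (nat_lit 230) k)) (Bool.rec h231 h232 (Nat.ble (nat_lit 232) k)) (Nat.ble (nat_lit 231) k)) (Nat.ble (nat_lit 229) k)) (Bool.rec (Bool.rec (Bool.rec h233 h234 (Nat.ble (nat_lit 234) k)) (Bool.rec h235 h236 (Nat.ble (nat_lit 236) k)) (Nat.ble (nat_lit 235) k)) (Bool.rec (Bool.rec h237 h238 (Nat.ble (nat_lit 238) k)) (Bool.rec h239 h240 (Nat.ble (nat_lit 240) k)) (Nat.ble (nat_lit 239) k)) (Nat.ble (nat_lit 237) k)) (Nat.ble (nat_lit 233) k)) (Bool.rec (Bool.rec (Bool.rec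 (Bool.rec h241 h242 (Nat.ble (nat_lit 242) k)) (Bool.rec h243 h244 (Nat.ble (nat_lit 244) k)) (Nat.ble (nat_lit 243) k)) (Bool.rec (Bool.rec h245 h246 (Nat.ble (nat_lit 246) k)) (Bool.rec h247 h248 (Nat.ble (nat_lit 248) k)) (Nat.ble (nat_lit 247) k)) (Nat.ble (nat_lit 245) k)) (Bool.rec (Bool.rec (Bool.rec h249 h250 (Nat.ble (nat_lit 250) k)) (Bool.rec h251 h252 (Nat.ble (nat_lit 252) k)) (Nat.ble (nat_lit 251) k)) (Bool.rec (Bool.rec h253 h254 (Nat.ble (nat_lit 254) k)) (Bool.rec h255 (Bool.rec h256 h257 (Nat.ble (nat_lit 257) k)) (Nat.ble (nat_lit 256) k)) (Nat.ble (nat_lit 255) k)) (Nat.ble (nat_lit 253) k)) (Nat.ble (nat_lit 249) k)) (Nat.ble (nat_lit 241) k)) (Nat.ble (nat_lit 225) k)) (Nat.ble (nat_lit 193) k)) (Nat.ble (nat_lit 129) k))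
noncomputable def PT (k : ℕ) : List Ins :=
  (Bool.rec (Bool.rec (Bool.rec (Bool.rec p0 (Bool.rec p1 p2 (Nat.ble (nat_lit 2) k)) (Nat.ble (nat_lit 1) k)) (Bool.rec p3 (Bool.rec p4 p5 (Nat.ble (nat_lit 5) k)) (Nat.ble (nat_lit 4) k)) (Nat.ble (nat_lit 3) k)) (Bool.rec (Bool.rec p6 (Bool.rec p7 p8 (Nat.ble (nat_lit 8) k)) (Nat.ble (nat_lit 7) k)) (Bool.rec (Bool.rec p9 p10 (Nat.ble (nat_lit 10) k)) (Bool.rec p11 p12 (Nat.ble (nat_lit 12) k)) (Nat.ble (nat_lit 11) k)) (Nat.ble (nat_lit 9) k)) (Nat.ble (nat_lit 6) k)) (Bool.rec (Bool.rec (Bool.rec p13 (Bool.rec p14 p15 (Nat.ble (nat_lit 15) k)) (Nat.ble (nat_lit 14) k)) (Bool.rec (Bool.rec p16 p17 (Nat.ble (nat_lit 17) k)) (Bool.rec p18 p19 (Nat.ble (nat_lit 19) k)) (Nat.ble (nat_lit 18) k)) (Nat.ble (nat_lit 16) k)) (Bool.rec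 (Bool.rec p20 (Bool.rec p21 p22 (Nat.ble (nat_lit 22) k)) (Nat.ble (nat_lit 21) k)) (Bool.rec (Bool.rec p23 p24 (Nat.ble (nat_lit 24) k)) (Bool.rec p25 p26 (Nat.ble (nat_lit 26) k)) (Nat.ble (nat_lit 25) k)) (Nat.ble (nat_lit 23) k)) (Nat.ble (nat_lit 20) k)) (Nat.ble (nat_lit 13) k))

end Cfsg.Agent.L33.Dat
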