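import Mathlib
import Cfsg.Agent.L33.DH

/-!
Certificates.
-/

set_option autoImplicit false
set_option maxRecDepth 100000

namespace Cfsg.Agent.L33.Dat

open Cfsg.Agent.L33

noncomputable def t0 : ℕ := nat_lit 0x8200820082008200a700a700a700a700f800f800f800f800c600c600c600c600f900f900f900f900c700c700c700c7008200820082008200a600a600a600a600a500a500a500a5008200820082008200c500c500c500c500f900f900f900f900c400c400c400c400f800f800f800f800a400a400a400a4008200820082008200a500a500a500a5008200820082008200de00de00de00de00e200e200e200e200de00de00de00de00e200e200e200e200a400a400a400a40082008200820082008200820082008200a700a700a700a700e200e200e200e200dc00dc00dc00dc00e200e200e200e200dc00dc00dc00dc008200820082008200a600a600a600a600a700a700a700a7008000800080008000dc00dc00dc00dc00e000e000e000e000dc00dc00dc00dc00e000e000e000e000a600a600a600a60080008000800080008000800080008000a500a500a500a500e000e000e000e000de00de00de00de00e000e000e000e000de00de00de00de008000800080008000a400a400a400a4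008000800080008000a500a500a500a500fa00fa00fa00fa00c400c400c400c400fb00fb00fb00fb00c500c500c500c5008000800080008000a400a400a400a400a700a700a700a7008000800080008000c700c700c700c700fb00fb00fb00fb00c600c600c600c600fa00fa00fa00fa00a600a600a600a600800080008000800042004200420042005a005a005a005a0043004300430043005a005a005a005a0042004200420042005a005a005a005a0043004300430043005a005a005a005a005900590059005900400040004000400058005800580058004000400040004000580058005800580041004100410041005900590059005900410041004100410043004300430043005b005b005b005b0042004200420042005b005b005b005b0043004300430043005b005b005b005b0042004200420042005b005b005b005b00580058005800580041004100410041005900590059005900410041004100410059005900590059004000400040004000580058005800580040004000400040002300230023002300210021002100210038003800380038003a003a003a003a0038003800380038003a003a003a003a00220022002200220020002000200020002300230023002300210021002100210038003800380038003a003a003a003a0038003800380038003a003a003a003a002200220022002200200020002000200010001000110011001100110010001000100010001100110011001100100010001000100011001100110011001000100010001000110011001100110010001000080008000900090008000800090009000900090008000800090009000800080004000400040004000400040004000400020002000200020001000100000000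
noncomputable def c0 : Node :=
  (Node.st (nat_lit 0) (nat_lit 4) (nat_lit 0) (Node.st (nat_lit 0) (nat_lit 14) (nat_lit 0) (Node.sp (nat_lit 1) (Node.lf (Leaf.pt (nat_lit 10) (nat_lit 1) [nat_lit 8,nat_lit 4])) (Node.sp (nat_lit 2) (Node.lf (Leaf.pt (nat_lit 10) (nat_lit 2) [nat_lit 36,nat_lit 1])) (Node.st (nat_lit 0) (nat_lit 2) (nat_lit 0) (Node.sp (nat_lit 10) (Node.lf (Leaf.pt (nat_lit 5) (nat_lit 10) [nat_lit 4])) (Node.st (nat_lit 0) (nat_lit 10) (nat_lit 0) (Node.ext [] (nat_lit 14) [Ins.fr [nat_lit 0],Ins.ts (nat_lit 1) [nat_lit 0,nat_lit 0] [],Ins.ts (nat_lit 1) [nat_lit 0,nat_lit 0,nat_lit 0,nat_lit 0] [],Ins.fr [nat_lit 1],Ins.fr [nat_lit 0,nat_lit 0,nat_lit 2],Ins.fr [nat_lit 0,nat_lit 2,nat_lit 2,nat_lit 3],Ins.fr [nat_lit 0,nat_lit 1,nat_lit 2,nat_lit 4],Ins.df [nat_lit 3,nat_lit 3],Ins.df [nat_lit 0,nat_lit 4,nat_lit 5],Ins.df [nat_lit 0,nat_lit 7,nat_lit 4],Ins.df [nat_lit 1,nat_lit 4,nat_lit 6],Ins.df [nat_lit 0,nat_lit 1,nat_lit 5,nat_lit 8]] [nat_lit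 98,nat_lit 102,nat_lit 2,nat_lit 32,nat_lit 128] [nat_lit 4,nat_lit 7,nat_lit 3,nat_lit 2,nat_lit 0,nat_lit 6,nat_lit 1,nat_lit 5] (Srch.ex0 [nat_lit 98,nat_lit 16,nat_lit 10,nat_lit 4,nat_lit 1] (Srch.rep (nat_lit 4) [] [nat_lit 8,nat_lit 4,nat_lit 2,nat_lit 1] [nat_lit 128,nat_lit 64,nat_lit 32,nat_lit 16] Srch.nil Srch.nil)) Node.done))))))))
theorem ok0 : nodeOK DB PT 0 t0 (nat_lit 0x30c00000303000f00000ff0c3ccff) (nat_lit 0x1100001100000000000000000000000011000000110000000000002222000000000000000000002222222200001100001111001100334433ff) c0 = true := by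
  decide +kernel
noncomputable def t1 : ℕ := nat_lit 0x8300830083008300a600a600a600a600f900f900f900f900c700c700c700c700f800f800f800f800c600c600c600c6008300830083008300a700a700a700a700a400a400a400a4008300830083008300c400c400c400c400f800f800f800f800c500c500c500c500f900f900f900f900a500a500a500a5008300830083008300a400a400a400a4008300830083008300df00df00df00df00e300e300e300e300df00df00df00df00e300e300e300e300a500a500a500a50083008300830083008300830083008300a600a600a600a600e300e300e300e300dd00dd00dd00dd00e300e300e300e300dd00dd00dd00dd008300830083008300a700a700a700a700a700a700a700a7008000800080008000dc00dc00dc00dc00e000e000e000e000dc00dc00dc00dc00e000e000e000e000a600a600a600a60080008000800080008000800080008000a500a500a500a500e000e000e000e000de00de00de00de00e000e000e000e000de00de00de00de008000800080008000a400a400a400a4008000800080008000a500a500a500a500fa00fa00fa00fa00c400c400c400c400fb00fb00fb00fb00c500c500c500c5008000800080008000a400a400a400a400a700a700a700a70080008000800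08000c700c700c700c700fb00fb00fb00fb00c600c600c600c600fa00fa00fa00fa00a600a600a600a600800080008000800042004200420042005a005a005a005a0043004300430043005a005a005a005a0042004200420042005a005a005a005a0043004300430043005a005a005a005a005900590059005900400040004000400058005800580058004000400040004000580058005800580041004100410041005900590059005900410041004100410043004300430043005b005b005b005b0042004200420042005b005b005b005b0043004300430043005b005b005b005b0042004200420042005b005b005b005b00580058005800580041004100410041005900590059005900410041004100410059005900590059004000400040004000580058005800580040004000400040002300230023002300210021002100210038003800380038003a003a003a003a0038003800380038003a003a003a003a00220022002200220020002000200020002300230023002300210021002100210038003800380038003a003a003a003a0038003800380038003a003a003a003a002200220022002200200020002000200010001000110011001100110010001000100010001100110011001100100010001000100011001100110011001000100010001000110011001100110010001000080008000900090008000800090009000900090008000800090009000800080004000400040004000400040004000400020002000200020001000100000000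
noncomputable def c1 : Node :=
  (Node.st (nat_lit 0) (nat_lit 4) (nat_lit 0) (Node.st (nat_lit 0) (nat_lit 14) (nat_lit 0) (Node.sp (nat_lit 1) (Node.lf (Leaf.pt (nat_lit 10) (nat_lit 1) [nat_lit 8,nat_lit 4])) (Node.sp (nat_lit 2) (Node.lf (Leaf.pt (nat_lit 10) (nat_lit 2) [nat_lit 36,nat_lit 1])) (Node.st (nat_lit 0) (nat_lit 2) (nat_lit 0) (Node.sp (nat_lit 10) (Node.lf (Leaf.pt (nat_lit 5) (nat_lit 10) [nat_lit 4])) (Node.st (nat_lit 0) (nat_lit 10) (nat_lit 0) (Node.ext [] (nat_lit 14) [Ins.fr [nat_lit 0],Ins.ts (nat_lit 1) [nat_lit 0,nat_lit 0] [],Ins.ts (nat_lit 1) [nat_lit 0,nat_lit 0,nat_lit 0,nat_lit 0] [],Ins.fr [nat_lit 1],Ins.fr [nat_lit 0,nat_lit 0,nat_lit 2],Ins.fr [nat_lit 0,nat_lit 2,nat_lit 2,nat_lit 3],Ins.fr [nat_lit 0,nat_lit 1,nat_lit 2,nat_lit 4],Ins.df [nat_lit 3,nat_lit 3],Ins.df [nat_lit 0,nat_lit 4,nat_lit 5],Ins.df [nat_lit 0,nat_lit 7,nat_lit 4],Ins.df [nat_lit 1,nat_lit 4,nat_lit 6],Ins.df [nat_lit 0,nat_lit 1,nat_lit 5,nat_lit 8]] [nat_lit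 98,nat_lit 102,nat_lit 2,nat_lit 32,nat_lit 128] [nat_lit 4,nat_lit 7,nat_lit 3,nat_lit 2,nat_lit 0,nat_lit 6,nat_lit 1,nat_lit 5] (Srch.ex0 [nat_lit 98,nat_lit 16,nat_lit 10,nat_lit 4,nat_lit 1] (Srch.rep (nat_lit 4) [] [nat_lit 8,nat_lit 4,nat_lit 2,nat_lit 1] [nat_lit 128,nat_lit 64,nat_lit 32,nat_lit 16] Srch.nil Srch.nil)) Node.done))))))))
theorem ok1 : nodeOK DB PT 1 t1 (nat_lit 0x30c00000303000f00000ff0c3ccff) (nat_lit 0x1100001100000000000000000000000011000000110000000000002222000000000000000000002222222200001100001111001100334433ff) c1 = true := by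
  decide +kernel
noncomputable def t2 : ℕ := nat_lit 0x8000800080008000a400a400a400a400fa00fa00fa00fa00c500c500c500c500fb00fb00fb00fb00c400c400c400c4008000800080008000a500a500a500a500a600a600a600a6008000800080008000c600c600c600c600fb00fb00fb00fb00c700c700c700c700fa00fa00fa00fa00a700a700a700a7008000800080008000a700a700a700a7008100810081008100dc00dc00dc00dc00e100e100e100e100dc00dc00dc00dc00e100e100e100e100a600a600a600a60081008100810081008100810081008100a500a500a500a500e100e100e100e100de00de00de00de00e100e100e100e100de00de00de00de008100810081008100a400a400a400a400a700a700a700a7008100810081008100dd00dd00dd00dd00e000e000e000e000dd00dd00dd00dd00e000e000e000e000a600a600a600a60081008100810081008100810081008100a500a500a500a500e000e000e000e000df00df00df00df00e000e000e000e000df00df00df00df008100810081008100a400a400a400a4008000800080008000a400a400a400a400fb00fb00fb00fb00c400c400c400c400fa00fa00fa00fa00c500c500c500c5008000800080008000a500a500a500a500a600a600a600a60080008000800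08000c700c700c700c700fa00fa00fa00fa00c600c600c600c600fb00fb00fb00fb00a700a700a700a700800080008000800042004200420042005a005a005a005a0043004300430043005a005a005a005a0042004200420042005a005a005a005a0043004300430043005a005a005a005a005900590059005900400040004000400058005800580058004000400040004000580058005800580041004100410041005900590059005900410041004100410043004300430043005b005b005b005b0042004200420042005b005b005b005b0043004300430043005b005b005b005b0042004200420042005b005b005b005b00580058005800580041004100410041005900590059005900410041004100410059005900590059004000400040004000580058005800580040004000400040002300230023002300210021002100210038003800380038003a003a003a003a0038003800380038003a003a003a003a00220022002200220020002000200020002300230023002300210021002100210038003800380038003a003a003a003a0038003800380038003a003a003a003a002200220022002200200020002000200010001000110011001100110010001000100010001100110011001100100010001000100011001100110011001000100010001000110011001100110010001000080008000900090008000800090009000900090008000800090009000800080004000400040004000400040004000400020002000200020001000100000000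
noncomputable def c2 : Node :=
  (Node.st (nat_lit 0) (nat_lit 4) (nat_lit 0) (Node.st (nat_lit 0) (nat_lit 14) (nat_lit 0) (Node.sp (nat_lit 1) (Node.lf (Leaf.pt (nat_lit 10) (nat_lit 1) [nat_lit 8,nat_lit 4])) (Node.sp (nat_lit 2) (Node.lf (Leaf.pt (nat_lit 10) (nat_lit 2) [nat_lit 36,nat_lit 1])) (Node.st (nat_lit 0) (nat_lit 2) (nat_lit 0) (Node.sp (nat_lit 10) (Node.lf (Leaf.pt (nat_lit 5) (nat_lit 10) [nat_lit 4])) (Node.st (nat_lit 0) (nat_lit 10) (nat_lit 0) (Node.ext [] (nat_lit 14) [Ins.fr [nat_lit 0],Ins.ts (nat_lit 1) [nat_lit 0,nat_lit 0] [],Ins.ts (nat_lit 1) [nat_lit 0,nat_lit 0,nat_lit 0,nat_lit 0] [],Ins.fr [nat_lit 1],Ins.fr [nat_lit 0,nat_lit 0,nat_lit 2],Ins.fr [nat_lit 0,nat_lit 2,nat_lit 2,nat_lit 3],Ins.fr [nat_lit 0,nat_lit 2,nat_lit 4,nat_lit 1],Ins.df [nat_lit 3,nat_lit 3],Ins.df [nat_lit 0,nat_lit 4,nat_lit 5],Ins.df [nat_lit 0,nat_lit 7,nat_lit 4],Ins.df [nat_lit 1,nat_lit 4,nat_lit 6],Ins.df [nat_lit 0,nat_lit 1,nat_lit 5,nat_lit 8]] [nat_lit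 98,nat_lit 102,nat_lit 2,nat_lit 32,nat_lit 128] [nat_lit 4,nat_lit 7,nat_lit 3,nat_lit 2,nat_lit 0,nat_lit 6,nat_lit 1,nat_lit 5] (Srch.ex0 [nat_lit 98,nat_lit 16,nat_lit 10,nat_lit 4,nat_lit 1] (Srch.rep (nat_lit 4) [] [nat_lit 8,nat_lit 4,nat_lit 2,nat_lit 1] [nat_lit 128,nat_lit 64,nat_lit 32,nat_lit 16] Srch.nil Srch.nil)) Node.done))))))))
theorem ok2 : nodeOK DB PT 2 t2 (nat_lit 0x30c00000303000f00000ff0c3ccff) (nat_lit 0x1100001100000000000000000000000011000000110000000000002222000000000000000000002222222200001100001111001100334433ff) c2 = true := by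
  decide +kernel
noncomputable def t3 : ℕ := nat_lit 0x8100810081008100a500a500a500a500fb00fb00fb00fb00c400c400c400c400fa00fa00fa00fa00c500c500c500c5008100810081008100a400a400a400a400a700a700a700a7008100810081008100c700c700c700c700fa00fa00fa00fa00c600c600c600c600fb00fb00fb00fb00a600a600a600a6008100810081008100a600a600a600a6008000800080008000dd00dd00dd00dd00e000e000e000e000dd00dd00dd00dd00e000e000e000e000a700a700a700a70080008000800080008000800080008000a400a400a400a400e000e000e000e000df00df00df00df00e000e000e000e000df00df00df00df008000800080008000a500a500a500a500a700a700a700a7008100810081008100dd00dd00dd00dd00e000e000e000e000dd00dd00dd00dd00e000e000e000e000a600a600a600a60081008100810081008100810081008100a500a500a500a500e000e000e000e000df00df00df00df00e000e000e000e000df00df00df00df008100810081008100a400a400a400a4008000800080008000a400a400a400a400fb00fb00fb00fb00c400c400c400c400fa00fa00fa00fa00c500c500c500c5008000800080008000a500a500a500a500a600a600a600a60080008000800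08000c700c700c700c700fa00fa00fa00fa00c600c600c600c600fb00fb00fb00fb00a700a700a700a700800080008000800042004200420042005a005a005a005a0043004300430043005a005a005a005a0042004200420042005a005a005a005a0043004300430043005a005a005a005a005900590059005900400040004000400058005800580058004000400040004000580058005800580041004100410041005900590059005900410041004100410043004300430043005b005b005b005b0042004200420042005b005b005b005b0043004300430043005b005b005b005b0042004200420042005b005b005b005b00580058005800580041004100410041005900590059005900410041004100410059005900590059004000400040004000580058005800580040004000400040002300230023002300210021002100210038003800380038003a003a003a003a0038003800380038003a003a003a003a00220022002200220020002000200020002300230023002300210021002100210038003800380038003a003a003a003a0038003800380038003a003a003a003a002200220022002200200020002000200010001000110011001100110010001000100010001100110011001100100010001000100011001100110011001000100010001000110011001100110010001000080008000900090008000800090009000900090008000800090009000800080004000400040004000400040004000400020002000200020001000100000000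
noncomputable def c3 : Node :=
  (Node.st (nat_lit 0) (nat_lit 4) (nat_lit 0) (Node.st (nat_lit 0) (nat_lit 14) (nat_lit 0) (Node.sp (nat_lit 1) (Node.lf (Leaf.pt (nat_lit 10) (nat_lit 1) [nat_lit 8,nat_lit 4])) (Node.sp (nat_lit 2) (Node.lf (Leaf.pt (nat_lit 10) (nat_lit 2) [nat_lit 36,nat_lit 1])) (Node.st (nat_lit 0) (nat_lit 2) (nat_lit 0) (Node.sp (nat_lit 10) (Node.lf (Leaf.pt (nat_lit 5) (nat_lit 10) [nat_lit 4])) (Node.st (nat_lit 0) (nat_lit 10) (nat_lit 0) (Node.ext [] (nat_lit 14) [Ins.fr [nat_lit 0],Ins.ts (nat_lit 1) [nat_lit 0,nat_lit 0] [],Ins.ts (nat_lit 1) [nat_lit 0,nat_lit 0,nat_lit 0,nat_lit 0] [],Ins.fr [nat_lit 1],Ins.fr [nat_lit 0,nat_lit 0,nat_lit 2],Ins.fr [nat_lit 0,nat_lit 2,nat_lit 2,nat_lit 3],Ins.fr [nat_lit 0,nat_lit 2,nat_lit 4,nat_lit 1],Ins.df [nat_lit 3,nat_lit 3],Ins.df [nat_lit 0,nat_lit 4,nat_lit 5],Ins.df [nat_lit 0,nat_lit 7,nat_lit 4],Ins.df [nat_lit 1,nat_lit 4,nat_lit 6],Ins.df [nat_lit 0,nat_lit 1,nat_lit 5,nat_lit 8]] [nat_lit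 98,nat_lit 102,nat_lit 2,nat_lit 32,nat_lit 128] [nat_lit 4,nat_lit 7,nat_lit 3,nat_lit 2,nat_lit 0,nat_lit 6,nat_lit 1,nat_lit 5] (Srch.ex0 [nat_lit 98,nat_lit 16,nat_lit 10,nat_lit 4,nat_lit 1] (Srch.rep (nat_lit 4) [] [nat_lit 8,nat_lit 4,nat_lit 2,nat_lit 1] [nat_lit 128,nat_lit 64,nat_lit 32,nat_lit 16] Srch.nil (Srch.rep (nat_lit 132) [] [nat_lit 132,nat_lit 2,nat_lit 1] [nat_lit 8,nat_lit 64,nat_lit 4,nat_lit 36,nat_lit 24] Srch.nil Srch.nil))) Node.done))))))))
theorem ok3 : nodeOK DB PT 3 t3 (nat_lit 0xf00000f00f00000f0f00000ff00000f000030c00000303000f00000ff0c3ccff) (nat_lit 0x22220000000000000000000022220000000022220000000000000000000022220000222200000000000000000000222222220000000000000000000022220000000000000000001100001100000000000000000000000011000000110000000000002222000000000000000000002222222200001100001111001100334433ff) c3 = true := by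
  decide +kernel
noncomputable def t4 : ℕ := nat_lit 0x8000800080008000a600a600a600a600d800d800d800d800e500e500e500e500db00db00db00db00e600e600e600e6008200820082008200a500a500a500a500a600a600a600a6008200820082008200e600e600e600e600d900d900d900d900e500e500e500e500da00da00da00da00a500a500a500a50080008000800080008200820082008200a400a400a400a400da00da00da00da00e700e700e700e700d900d900d900d900e400e400e400e4008000800080008000a700a700a700a700a400a400a400a4008000800080008000e400e400e400e400db00db00db00db00e700e700e700e700d800d800d800d800a700a700a700a70082008200820082008200820082008200a400a400a400a400db00db00db00db00e600e600e600e600d800d800d800d800e500e500e500e5008000800080008000a700a700a700a700a400a400a400a4008000800080008000e500e500e500e500da00da00da00da00e600e600e600e600d900d900d900d900a700a700a700a70082008200820082008000800080008000a600a600a600a600d900d900d900d900e400e400e400e400da00da00da00da00e700e700e700e7008200820082008200a500a500a500a500a600a600a600a60082008200820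08200e700e700e700e700d800d800d800d800e400e400e400e400db00db00db00db00a500a500a500a500800080008000800042004200420042005a005a005a005a0043004300430043005a005a005a005a0042004200420042005a005a005a005a0043004300430043005a005a005a005a005900590059005900400040004000400058005800580058004000400040004000580058005800580041004100410041005900590059005900410041004100410043004300430043005b005b005b005b0042004200420042005b005b005b005b0043004300430043005b005b005b005b0042004200420042005b005b005b005b00580058005800580041004100410041005900590059005900410041004100410059005900590059004000400040004000580058005800580040004000400040002300230023002300210021002100210038003800380038003a003a003a003a0038003800380038003a003a003a003a00220022002200220020002000200020002300230023002300210021002100210038003800380038003a003a003a003a0038003800380038003a003a003a003a002200220022002200200020002000200010001000110011001100110010001000100010001100110011001100100010001000100011001100110011001000100010001000110011001100110010001000080008000900090008000800090009000900090008000800090009000800080004000400040004000400040004000400020002000200020001000100000000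
noncomputable def c4 : Node :=
  (Node.st (nat_lit 0) (nat_lit 4) (nat_lit 0) (Node.st (nat_lit 0) (nat_lit 14) (nat_lit 0) (Node.sp (nat_lit 1) (Node.lf (Leaf.pt (nat_lit 10) (nat_lit 1) [nat_lit 8,nat_lit 4])) (Node.sp (nat_lit 2) (Node.lf (Leaf.pt (nat_lit 10) (nat_lit 2) [nat_lit 36,nat_lit 1])) (Node.st (nat_lit 0) (nat_lit 2) (nat_lit 0) (Node.sp (nat_lit 10) (Node.lf (Leaf.pt (nat_lit 5) (nat_lit 10) [nat_lit 4])) (Node.st (nat_lit 0) (nat_lit 10) (nat_lit 0) (Node.ext [] (nat_lit 14) [Ins.fr [nat_lit 0],Ins.ts (nat_lit 1) [nat_lit 0,nat_lit 0] [],Ins.ts (nat_lit 1) [nat_lit 0,nat_lit 0,nat_lit 0,nat_lit 0] [],Ins.fr [nat_lit 1],Ins.fr [nat_lit 0,nat_lit 0,nat_lit 2],Ins.fr [nat_lit 0,nat_lit 2,nat_lit 2,nat_lit 3],Ins.fr [nat_lit 2,nat_lit 4,nat_lit 1],Ins.df [nat_lit 3,nat_lit 3],Ins.df [nat_lit 0,nat_lit 4,nat_lit 5],Ins.df [nat_lit 0,nat_lit 7,nat_lit 4],Ins.df [nat_lit 1,nat_lit 4,nat_lit 6],Ins.df [nat_lit 0,nat_lit 1,nat_lit 5,nat_lit 8]] [nat_lit 98,nat_lit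 102,nat_lit 2,nat_lit 32,nat_lit 128] [nat_lit 4,nat_lit 7,nat_lit 3,nat_lit 2,nat_lit 0,nat_lit 6,nat_lit 1,nat_lit 5] (Srch.ex0 [nat_lit 98,nat_lit 16,nat_lit 10,nat_lit 4,nat_lit 1] (Srch.rep (nat_lit 4) [] [nat_lit 8,nat_lit 4,nat_lit 2,nat_lit 1] [nat_lit 128,nat_lit 64,nat_lit 32,nat_lit 16] Srch.nil Srch.nil)) Node.done))))))))
theorem ok4 : nodeOK DB PT 4 t4 (nat_lit 0x30c00000303000f00000ff0c3ccff) (nat_lit 0x1100001100000000000000000000000011000000110000000000002222000000000000000000002222222200001100001111001100334433ff) c4 = true := by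
  decide +kernel
noncomputable def t5 : ℕ := nat_lit 0x8100810081008100a700a700a700a700d900d900d900d900e400e400e400e400da00da00da00da00e700e700e700e7008300830083008300a400a400a400a400a700a700a700a7008300830083008300e700e700e700e700d800d800d800d800e400e400e400e400db00db00db00db00a400a400a400a40081008100810081008300830083008300a500a500a500a500db00db00db00db00e600e600e600e600d800d800d800d800e500e500e500e5008100810081008100a600a600a600a600a500a500a500a5008100810081008100e500e500e500e500da00da00da00da00e600e600e600e600d900d900d900d900a600a600a600a60083008300830083008200820082008200a400a400a400a400db00db00db00db00e600e600e600e600d800d800d800d800e500e500e500e5008000800080008000a700a700a700a700a400a400a400a4008000800080008000e500e500e500e500da00da00da00da00e600e600e600e600d900d900d900d900a700a700a700a70082008200820082008000800080008000a600a600a600a600d900d900d900d900e400e400e400e400da00da00da00da00e700e700e700e7008200820082008200a500a500a500a500a600a600a600a60082008200820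08200e700e700e700e700d800d800d800d800e400e400e400e400db00db00db00db00a500a500a500a500800080008000800042004200420042005a005a005a005a0043004300430043005a005a005a005a0042004200420042005a005a005a005a0043004300430043005a005a005a005a005900590059005900400040004000400058005800580058004000400040004000580058005800580041004100410041005900590059005900410041004100410043004300430043005b005b005b005b0042004200420042005b005b005b005b0043004300430043005b005b005b005b0042004200420042005b005b005b005b00580058005800580041004100410041005900590059005900410041004100410059005900590059004000400040004000580058005800580040004000400040002300230023002300210021002100210038003800380038003a003a003a003a0038003800380038003a003a003a003a00220022002200220020002000200020002300230023002300210021002100210038003800380038003a003a003a003a0038003800380038003a003a003a003a002200220022002200200020002000200010001000110011001100110010001000100010001100110011001100100010001000100011001100110011001000100010001000110011001100110010001000080008000900090008000800090009000900090008000800090009000800080004000400040004000400040004000400020002000200020001000100000000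
noncomputable def c5 : Node :=
  (Node.st (nat_lit 0) (nat_lit 4) (nat_lit 0) (Node.st (nat_lit 0) (nat_lit 14) (nat_lit 0) (Node.sp (nat_lit 1) (Node.lf (Leaf.pt (nat_lit 10) (nat_lit 1) [nat_lit 8,nat_lit 4])) (Node.sp (nat_lit 2) (Node.lf (Leaf.pt (nat_lit 10) (nat_lit 2) [nat_lit 36,nat_lit 1])) (Node.st (nat_lit 0) (nat_lit 2) (nat_lit 0) (Node.sp (nat_lit 10) (Node.lf (Leaf.pt (nat_lit 5) (nat_lit 10) [nat_lit 4])) (Node.st (nat_lit 0) (nat_lit 10) (nat_lit 0) (Node.sp (nat_lit 152) (Node.lf (Leaf.pt (nat_lit 10) (nat_lit 152) [nat_lit 60,nat_lit 1])) (Node.st (nat_lit 0) (nat_lit 152) (nat_lit 0) (Node.ext [] (nat_lit 14) [Ins.fr [nat_lit 0],Ins.ts (nat_lit 1) [nat_lit 0,nat_lit 0] [],Ins.ts (nat_lit 1) [nat_lit 0,nat_lit 0,nat_lit 0,nat_lit 0] [],Ins.fr [nat_lit 1],Ins.fr [nat_lit 0,nat_lit 0,nat_lit 2],Ins.fr [nat_lit 0,nat_lit 2,nat_lit 2,nat_lit 3],Ins.fr [nat_lit 2,nat_lit 4,nat_lit 1],Ins.df [nat_lit 3,nat_lit 3],Ins.df [nat_lit 0,nat_lit 4,nat_lit 5],Ins.df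 [nat_lit 0,nat_lit 7,nat_lit 4],Ins.df [nat_lit 1,nat_lit 4,nat_lit 6],Ins.df [nat_lit 0,nat_lit 1,nat_lit 5,nat_lit 8]] [nat_lit 98,nat_lit 102,nat_lit 2,nat_lit 32,nat_lit 128] [nat_lit 4,nat_lit 7,nat_lit 3,nat_lit 2,nat_lit 0,nat_lit 6,nat_lit 1,nat_lit 5] (Srch.ex0 [nat_lit 98,nat_lit 16,nat_lit 10,nat_lit 4,nat_lit 1] (Srch.rep (nat_lit 4) [] [nat_lit 8,nat_lit 4,nat_lit 2,nat_lit 1] [nat_lit 128,nat_lit 64,nat_lit 32,nat_lit 16] Srch.nil Srch.nil)) Node.done))))))))))
theorem ok5 : nodeOK DB PT 5 t5 (nat_lit 0xf00000000000000ff00000000f00000000030c00000303000f00000ff0c3ccff) (nat_lit 0x22220000000000000000000000000000000000000000000000000000000022222222000000000000000000000000000000002222000000000000000000000000000000000000001100001100000000000000000000000011000000110000000000002222000000000000000000002222222200001100001111001100334433ff) c5 = true := by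
  decide +kernel
noncomputable def t6 : ℕ := nat_lit 0x42004200420042005a005a005a005a0043004300430043005a005a005a005a0042004200420042005a005a005a005a0043004300430043005a005a005a005a005900590059005900400040004000400058005800580058004000400040004000580058005800580041004100410041005900590059005900410041004100410043004300430043005b005b005b005b0042004200420042005b005b005b005b0043004300430043005b005b005b005b0042004200420042005b005b005b005b00580058005800580041004100410041005900590059005900410041004100410059005900590059004000400040004000580058005800580040004000400040002300230023002300210021002100210038003800380038003a003a003a003a0038003800380038003a003a003a003a00220022002200220020002000200020002300230023002300210021002100210038003800380038003a003a003a003a0038003800380038003a003a003a003a002200220022002200200020002000200010001000110011001100110010001000100010001100110011001100100010001000100011001100110011001000100010001000110011001100110010001000080008000900090008000800090009000900090008000800090009000800080004000400040004000400040004000400020002000200020001000100000000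
noncomputable def c6 : Node :=
  (Node.st (nat_lit 0) (nat_lit 4) (nat_lit 0) (Node.st (nat_lit 0) (nat_lit 14) (nat_lit 0) (Node.sp (nat_lit 1) (Node.lf (Leaf.pt (nat_lit 10) (nat_lit 1) [nat_lit 8,nat_lit 4])) (Node.sp (nat_lit 2) (Node.lf (Leaf.pt (nat_lit 10) (nat_lit 2) [nat_lit 36,nat_lit 1])) (Node.st (nat_lit 0) (nat_lit 2) (nat_lit 0) (Node.sp (nat_lit 10) (Node.lf (Leaf.pt (nat_lit 5) (nat_lit 10) [nat_lit 4])) (Node.st (nat_lit 0) (nat_lit 10) (nat_lit 0) (Node.ext [] (nat_lit 14) [Ins.fr [nat_lit 0],Ins.ts (nat_lit 1) [nat_lit 0,nat_lit 0] [],Ins.ts (nat_lit 1) [nat_lit 0,nat_lit 0,nat_lit 0,nat_lit 0] [],Ins.fr [nat_lit 1],Ins.ts (nat_lit 1) [nat_lit 0,nat_lit 0] [],Ins.ts (nat_lit 0) [nat_lit 1,nat_lit 1,nat_lit 1,nat_lit 0] [nat_lit 0,nat_lit 1],Ins.fr [nat_lit 0,nat_lit 0,nat_lit 2],Ins.ts (nat_lit 0) [nat_lit 0,nat_lit 0] [],Ins.ts (nat_lit 3) [nat_lit 0] [],Ins.ts (nat_lit 0) [nat_lit 2,nat_lit 0] [nat_lit 0,nat_lit 2],Ins.ts (nat_lit 0) [nat_lit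 1,nat_lit 0] [nat_lit 0,nat_lit 1],Ins.ts (nat_lit 2) [nat_lit 2,nat_lit 2,nat_lit 3,nat_lit 0] [],Ins.fr [nat_lit 0,nat_lit 2,nat_lit 2,nat_lit 3],Ins.ts (nat_lit 0) [nat_lit 0,nat_lit 0] [],Ins.ts (nat_lit 0) [nat_lit 4,nat_lit 0,nat_lit 2] [nat_lit 2,nat_lit 0,nat_lit 4],Ins.df [nat_lit 2,nat_lit 2],Ins.df [nat_lit 0,nat_lit 3,nat_lit 4],Ins.df [nat_lit 0,nat_lit 6,nat_lit 3],Ins.df [nat_lit 1,nat_lit 3,nat_lit 5],Ins.df [nat_lit 0,nat_lit 1,nat_lit 4,nat_lit 7]] [nat_lit 98,nat_lit 102,nat_lit 2,nat_lit 32] [nat_lit 4,nat_lit 6,nat_lit 3,nat_lit 2,nat_lit 0,nat_lit 5,nat_lit 1] (Srch.ex0 [nat_lit 98,nat_lit 16,nat_lit 10,nat_lit 4,nat_lit 1] (Srch.rep (nat_lit 4) [] [nat_lit 8,nat_lit 4,nat_lit 2,nat_lit 1] [nat_lit 64,nat_lit 32,nat_lit 16] Srch.nil (Srch.rep (nat_lit 32) [] [nat_lit 80,nat_lit 32,nat_lit 2,nat_lit 1] [nat_lit 8,nat_lit 4,nat_lit 24] Srch.nil (Srch.rep (nat_lit 72) [nat_lit 8] [nat_lit 64,nat_lit 34,nat_lit 18,nat_lit 8,nat_lit 1] [nat_lit 4,nat_lit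 2] (Srch.rep (nat_lit 42) [nat_lit 26,nat_lit 42] [] [] (Srch.rep (nat_lit 8) [] [] [] Srch.nil (Srch.rep (nat_lit 64) [] [] [] Srch.nil Srch.nil)) (Srch.rep (nat_lit 43) [nat_lit 26,nat_lit 42] [] [] (Srch.rep (nat_lit 8) [] [] [] Srch.nil (Srch.rep (nat_lit 64) [] [] [] Srch.nil Srch.nil)) (Srch.rep (nat_lit 98) [nat_lit 26,nat_lit 42] [] [] (Srch.rep (nat_lit 8) [] [] [] Srch.nil (Srch.rep (nat_lit 64) [nat_lit 72] [] [] (Srch.rep (nat_lit 2) [] [] [] (Srch.rep (nat_lit 4) [] [] [] (Srch.fin [nat_lit 4] [nat_lit 0] (((nat_lit 36),(Leaf.mp (nat_lit 0) [nat_lit 1,nat_lit 2,nat_lit 4,nat_lit 8,nat_lit 16,nat_lit 32,nat_lit 64,nat_lit 128] []))::(((nat_lit 37),(Leaf.mp (nat_lit 1) [nat_lit 1,nat_lit 2,nat_lit 4,nat_lit 8,nat_lit 16,nat_lit 32,nat_lit 64,nat_lit 128] []))::[]))) (Srch.rep (nat_lit 5) [] [] [] (Srch.fin [nat_lit 4] [] []) Srch.nil)) Srch.nil) Srch.nil)) (Srch.rep (nat_lit 99) [nat_lit 26,nat_lit 42] [] [] (Srch.rep (nat_lit 8) [] [] [] Srch.nil (Srch.rep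 (nat_lit 64) [nat_lit 72] [] [] (Srch.rep (nat_lit 2) [] [] [] (Srch.rep (nat_lit 4) [] [] [] (Srch.fin [nat_lit 4] [] []) (Srch.rep (nat_lit 5) [] [] [] (Srch.fin [nat_lit 4] [nat_lit 0] (((nat_lit 38),(Leaf.mp (nat_lit 2) [nat_lit 1,nat_lit 2,nat_lit 4,nat_lit 8,nat_lit 16,nat_lit 32,nat_lit 64,nat_lit 128] []))::(((nat_lit 39),(Leaf.mp (nat_lit 3) [nat_lit 1,nat_lit 2,nat_lit 4,nat_lit 8,nat_lit 16,nat_lit 32,nat_lit 64,nat_lit 128] []))::[]))) Srch.nil)) Srch.nil) Srch.nil)) Srch.nil)))) (Srch.rep (nat_lit 106) [nat_lit 12] [nat_lit 68,nat_lit 32,nat_lit 20,nat_lit 12,nat_lit 1] [nat_lit 4,nat_lit 2] (Srch.rep (nat_lit 44) [nat_lit 24,nat_lit 44] [] [] (Srch.rep (nat_lit 12) [] [] [] Srch.nil (Srch.rep (nat_lit 102) [] [] [] Srch.nil Srch.nil)) (Srch.rep (nat_lit 45) [nat_lit 24,nat_lit 44] [] [] (Srch.rep (nat_lit 12) [] [] [] Srch.nil (Srch.rep (nat_lit 102) [] [] [] Srch.nil Srch.nil)) (Srch.rep (nat_lit 68) [nat_lit 24,nat_lit 44] [] [] (Srch.rep (nat_lit 12)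 [] [] [] Srch.nil (Srch.rep (nat_lit 102) [nat_lit 106] [] [] (Srch.rep (nat_lit 2) [] [] [] (Srch.rep (nat_lit 4) [] [] [] (Srch.fin [nat_lit 4] [nat_lit 0] (((nat_lit 2),(Leaf.mp (nat_lit 4) [nat_lit 1,nat_lit 2,nat_lit 4,nat_lit 8,nat_lit 16,nat_lit 33,nat_lit 65,nat_lit 128] []))::(((nat_lit 3),(Leaf.mp (nat_lit 5) [nat_lit 1,nat_lit 2,nat_lit 4,nat_lit 8,nat_lit 16,nat_lit 33,nat_lit 65,nat_lit 128] []))::[]))) (Srch.rep (nat_lit 5) [] [] [] (Srch.fin [nat_lit 8] [] []) Srch.nil)) Srch.nil) Srch.nil)) (Srch.rep (nat_lit 69) [nat_lit 24,nat_lit 44] [] [] (Srch.rep (nat_lit 12) [] [] [] Srch.nil (Srch.rep (nat_lit 102) [nat_lit 106] [] [] (Srch.rep (nat_lit 2) [] [] [] (Srch.rep (nat_lit 4) [] [] [] (Srch.fin [nat_lit 8] [] []) (Srch.rep (nat_lit 5) [] [] [] (Srch.fin [nat_lit 4] [nat_lit 0] (((nat_lit 2),(Leaf.mp (nat_lit 4) [nat_lit 1,nat_lit 2,nat_lit 4,nat_lit 8,nat_lit 16,nat_lit 32,nat_lit 64,nat_lit 128] []))::(((nat_lit 3),(Leaf.mp (nat_lit 5) [nat_lit 1,nat_lit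 2,nat_lit 4,nat_lit 8,nat_lit 16,nat_lit 32,nat_lit 64,nat_lit 128] []))::[]))) Srch.nil)) Srch.nil) Srch.nil)) Srch.nil)))) Srch.nil))))) Node.done))))))))
theorem ok6 : nodeOK DB PT 6 t6 (nat_lit 0x30c00000303000f00000ff0c3ccff) (nat_lit 0x1100001100000000000000000000000011000000110000000000002222000000000000000000002222222200001100001111001100334433ff) c6 = true := by
  decide +kernel
noncomputable def t7 : ℕ := nat_lit 0x8100810081008100a500a500a500a500db00db00db00db00e400e400e400e400d900d900d900d900e600e600e600e6008200820082008200a700a700a700a700a500a500a500a5008300830083008300e600e600e600e600db00db00db00db00e400e400e400e400d900d900d900d900a700a700a700a70080008000800080008300830083008300a700a700a700a700d800d800d800d800e700e700e700e700da00da00da00da00e500e500e500e5008000800080008000a500a500a500a500a700a700a700a7008100810081008100e500e500e500e500d800d800d800d800e700e700e700e700da00da00da00da00a500a500a500a50082008200820082008300830083008300a700a700a700a700d800d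800d800d800e700e700e700e700da00da00da00da00e500e500e500e5008000800080008000a500a500a500a500a700a700a700a7008100810081008100e500e500e500e500d800d800d800d800e700e700e700e700da00da00da00da00a500a500a500a50082008200820082008100810081008100a500a500a500a500db00db00db00db00e400e400e400e400d900d900d900d900e600e600e600e6008200820082008200a700a700a700a700a500a500a500a5008300830083008300e600e600e600e600db00db00db00db00e400e400e400e400d900d900d900d900a700a700a700a700800080008000800042004200420042005a005a005a005a0043004300430043005a005a005a005a0042004200420042005a005a005a005a0043004300430043005a005a005a005a005800580058005800410041004100410059005900590059004100410041004100590059005900590040004000400040005800580058005800400040004000400042004200420042005a005a005a005a0043004300430043005a005a005a005a0042004200420042005a005a005a005a0043004300430043005a005a005a005a00580058005800580041004100410041005900590059005900410041004100410059005900590059004000400040004000580058005800580040004000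400040002300230023002300210021002100210038003800380038003a003a003a003a0038003800380038003a003a003a003a00220022002200220020002000200020002300230023002300210021002100210038003800380038003a003a003a003a0038003800380038003a003a003a003a002200220022002200200020002000200010001000110011001100110010001000100010001100110011001100100010001000100011001100110011001000100010001000110011001100110010001000080008000900090008000800090009000900090008000800090009000800080004000400040004000400040004000400020002000200020001000100000000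
noncomputable def c7 : Node :=
  (Node.st (nat_lit 0) (nat_lit 4) (nat_lit 0) (Node.st (nat_lit 0) (nat_lit 14) (nat_lit 0) (Node.sp (nat_lit 1) (Node.lf (Leaf.pt (nat_lit 10) (nat_lit 1) [nat_lit 8,nat_lit 4])) (Node.sp (nat_lit 2) (Node.lf (Leaf.pt (nat_lit 10) (nat_lit 2) [nat_lit 36,nat_lit 1])) (Node.st (nat_lit 0) (nat_lit 2) (nat_lit 0) (Node.sp (nat_lit 10) (Node.lf (Leaf.pt (nat_lit 5) (nat_lit 10) [nat_lit 4])) (Node.st (nat_lit 0) (nat_lit 10) (nat_lit 0) (Node.sp (nat_lit 64) (Node.lf (Leaf.pt (nat_lit 10) (nat_lit 64) [nat_lit 182,nat_lit 1])) (Node.st (nat_lit 0) (nat_lit 64) (nat_lit 0) (Node.sp (nat_lit 152) (Node.lf (Leaf.pt (nat_lit 14) (nat_lit 152) [nat_lit 1,nat_lit 2,nat_lit 88])) (Node.st (nat_lit 0) (nat_lit 152) (nat_lit 0) (Node.ext [] (nat_lit 14) [Ins.fr [nat_lit 0],Ins.ts (nat_lit 1) [nat_lit 0,nat_lit 0] [],Ins.ts (nat_lit 1) [nat_lit 0,nat_lit 0,nat_lit 0,nat_lit 0] [],Ins.fr [nat_lit 1],Ins.fr [nat_lit 0,nat_lit 0,nat_lit 2],Ins.fr [nat_lit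 0,nat_lit 2,nat_lit 2,nat_lit 3],Ins.fr [nat_lit 2,nat_lit 4,nat_lit 1],Ins.df [nat_lit 3,nat_lit 3],Ins.df [nat_lit 0,nat_lit 4,nat_lit 5],Ins.df [nat_lit 0,nat_lit 7,nat_lit 4],Ins.df [nat_lit 5,nat_lit 7,nat_lit 4],Ins.df [nat_lit 0,nat_lit 1,nat_lit 5,nat_lit 8]] [nat_lit 98,nat_lit 102,nat_lit 2,nat_lit 32,nat_lit 128] [nat_lit 4,nat_lit 7,nat_lit 3,nat_lit 2,nat_lit 0,nat_lit 6,nat_lit 1,nat_lit 5] (Srch.ex0 [nat_lit 98,nat_lit 16,nat_lit 10,nat_lit 4,nat_lit 1] (Srch.rep (nat_lit 4) [] [nat_lit 8,nat_lit 4,nat_lit 2,nat_lit 1] [nat_lit 128,nat_lit 64,nat_lit 32,nat_lit 16] Srch.nil Srch.nil)) Node.done))))))))))))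
theorem ok7 : nodeOK DB PT 7 t7 (nat_lit 0xf00000000000000ff00000000f00000000030c000f0c0c0f0f00000ff0c3ccff) (nat_lit 0x22220000000000000000000000000000000000000000000000000000000022222222000000000000000000000000000000002222000000000000000000000000000000000000001100001100000000000000222200001100000011000000222200002222000000000000000000002222222200001100001111001100334433ff) c7 = true := by
  decide +kernel
noncomputable def t8 : ℕ := nat_lit 0x8000800080008000a400a400a400a400da00da00da00da00e500e500e500e500d800d800d800d800e700e700e700e7008300830083008300a600a600a600a600a400a400a400a4008200820082008200e700e700e700e700da00da00da00da00e500e500e500e500d800d800d800d800a600a600a600a60081008100810081008200820082008200a600a600a600a600d900d900d900d900e600e600e600e600db00db00db00db00e400e400e400e4008100810081008100a400a400a400a400a600a600a600a6008000800080008000e400e400e400e400d900d900d900d900e600e600e600e600db00db00db00db00a400a400a400a40083008300830083008300830083008300a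700a700a700a700d800d800d800d800e700e700e700e700da00da00da00da00e500e500e500e5008000800080008000a500a500a500a500a700a700a700a7008100810081008100e500e500e500e500d800d800d800d800e700e700e700e700da00da00da00da00a500a500a500a50082008200820082008100810081008100a500a500a500a500db00db00db00db00e400e400e400e400d900d900d900d900e600e600e600e6008200820082008200a700a700a700a700a500a500a500a5008300830083008300e600e600e600e600db00db00db00db00e400e400e400e400d900d900d900d900a700a700a700a700800080008000800042004200420042005a005a005a005a0043004300430043005a005a005a005a0042004200420042005a005a005a005a0043004300430043005a005a005a005a005800580058005800410041004100410059005900590059004100410041004100590059005900590040004000400040005800580058005800400040004000400042004200420042005a005a005a005a0043004300430043005a005a005a005a0042004200420042005a005a005a005a0043004300430043005a005a005a005a005800580058005800410041004100410059005900590059004100410041004100590059005900590040004000400040005800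58005800580040004000400040002300230023002300210021002100210038003800380038003a003a003a003a0038003800380038003a003a003a003a00220022002200220020002000200020002300230023002300210021002100210038003800380038003a003a003a003a0038003800380038003a003a003a003a002200220022002200200020002000200010001000110011001100110010001000100010001100110011001100100010001000100011001100110011001000100010001000110011001100110010001000080008000900090008000800090009000900090008000800090009000800080004000400040004000400040004000400020002000200020001000100000000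
noncomputable def c8 : Node :=
  (Node.st (nat_lit 0) (nat_lit 4) (nat_lit 0) (Node.st (nat_lit 0) (nat_lit 14) (nat_lit 0) (Node.sp (nat_lit 1) (Node.lf (Leaf.pt (nat_lit 10) (nat_lit 1) [nat_lit 8,nat_lit 4])) (Node.sp (nat_lit 2) (Node.lf (Leaf.pt (nat_lit 10) (nat_lit 2) [nat_lit 36,nat_lit 1])) (Node.st (nat_lit 0) (nat_lit 2) (nat_lit 0) (Node.sp (nat_lit 10) (Node.lf (Leaf.pt (nat_lit 5) (nat_lit 10) [nat_lit 4])) (Node.st (nat_lit 0) (nat_lit 10) (nat_lit 0) (Node.sp (nat_lit 64) (Node.lf (Leaf.pt (nat_lit 10) (nat_lit 64) [nat_lit 180,nat_lit 1])) (Node.st (nat_lit 0) (nat_lit 64) (nat_lit 0) (Node.ext [] (nat_lit 14) [Ins.fr [nat_lit 0],Ins.ts (nat_lit 1) [nat_lit 0,nat_lit 0] [],Ins.ts (nat_lit 1) [nat_lit 0,nat_lit 0,nat_lit 0,nat_lit 0] [],Ins.fr [nat_lit 1],Ins.fr [nat_lit 0,nat_lit 0,nat_lit 2],Ins.fr [nat_lit 0,nat_lit 2,nat_lit 2,nat_lit 3],Ins.fr [nat_lit 2,nat_lit 4,nat_lit 1],Ins.df [nat_lit 3,nat_lit 3],Ins.df [nat_lit 0,nat_lit 4,nat_lit 5],Ins.df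 [nat_lit 0,nat_lit 7,nat_lit 4],Ins.df [nat_lit 5,nat_lit 7,nat_lit 4],Ins.df [nat_lit 0,nat_lit 1,nat_lit 5,nat_lit 8]] [nat_lit 98,nat_lit 102,nat_lit 2,nat_lit 32,nat_lit 128] [nat_lit 4,nat_lit 7,nat_lit 3,nat_lit 2,nat_lit 0,nat_lit 6,nat_lit 1,nat_lit 5] (Srch.ex0 [nat_lit 98,nat_lit 16,nat_lit 10,nat_lit 4,nat_lit 1] (Srch.rep (nat_lit 4) [] [nat_lit 8,nat_lit 4,nat_lit 2,nat_lit 1] [nat_lit 128,nat_lit 64,nat_lit 32,nat_lit 16] Srch.nil Srch.nil)) Node.done))))))))))
theorem ok8 : nodeOK DB PT 8 t8 (nat_lit 0x30c000f0c0c0f0f00000ff0c3ccff) (nat_lit 0x1100001100000000000000222200001100000011000000222200002222000000000000000000002222222200001100001111001100334433ff) c8 = true := by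
  decide +kernel
noncomputable def t9 : ℕ := nat_lit 0x42004200420042005a005a005a005a0043004300430043005a005a005a005a0042004200420042005a005a005a005a0043004300430043005a005a005a005a005800580058005800410041004100410059005900590059004100410041004100590059005900590040004000400040005800580058005800400040004000400042004200420042005a005a005a005a0043004300430043005a005a005a005a0042004200420042005a005a005a005a0043004300430043005a005a005a005a00580058005800580041004100410041005900590059005900410041004100410059005900590059004000400040004000580058005800580040004000400040002300230023002300210021002100210038003800380038003a003a003a003a0038003800380038003a003a003a003a00220022002200220020002000200020002300230023002300210021002100210038003800380038003a003a003a003a0038003800380038003a003a003a003a002200220022002200200020002000200010001000110011001100110010001000100010001100110011001100100010001000100011001100110011001000100010001000110011001100110010001000080008000900090008000800090009000900090008000800090009000800080004000400040004000400040004000400020002000200020001000100000000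
noncomputable def c9 : Node :=
  (Node.st (nat_lit 0) (nat_lit 4) (nat_lit 0) (Node.st (nat_lit 0) (nat_lit 14) (nat_lit 0) (Node.sp (nat_lit 1) (Node.lf (Leaf.pt (nat_lit 10) (nat_lit 1) [nat_lit 8,nat_lit 4])) (Node.sp (nat_lit 2) (Node.lf (Leaf.pt (nat_lit 10) (nat_lit 2) [nat_lit 36,nat_lit 1])) (Node.st (nat_lit 0) (nat_lit 2) (nat_lit 0) (Node.sp (nat_lit 10) (Node.lf (Leaf.pt (nat_lit 5) (nat_lit 10) [nat_lit 4])) (Node.st (nat_lit 0) (nat_lit 10) (nat_lit 0) (Node.sp (nat_lit 74) (Node.lf (Leaf.pt (nat_lit 20) (nat_lit 74) [nat_lit 10,nat_lit 32])) (Node.st (nat_lit 0) (nat_lit 74) (nat_lit 0) (Node.sp (nat_lit 64) (Node.lf (Leaf.pt (nat_lit 14) (nat_lit 64) [nat_lit 1,nat_lit 10,nat_lit 74])) (Node.st (nat_lit 0) (nat_lit 64) (nat_lit 0) (Node.ext [] (nat_lit 14) [Ins.fr [nat_lit 0],Ins.ts (nat_lit 1) [nat_lit 0,nat_lit 0] [],Ins.ts (nat_lit 1) [nat_lit 0,nat_lit 0,nat_lit 0,nat_lit 0] [],Ins.fr [nat_lit 1],Ins.ts (nat_lit 1) [nat_lit 0,nat_lit 0] [],Ins.ts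 (nat_lit 2) [nat_lit 1,nat_lit 0] [],Ins.ts (nat_lit 0) [nat_lit 1,nat_lit 1,nat_lit 1,nat_lit 0] [nat_lit 0,nat_lit 1],Ins.fr [nat_lit 0,nat_lit 0,nat_lit 2],Ins.ts (nat_lit 0) [nat_lit 0,nat_lit 0] [],Ins.ts (nat_lit 3) [nat_lit 0] [],Ins.ts (nat_lit 0) [nat_lit 2,nat_lit 0] [nat_lit 0,nat_lit 2],Ins.ts (nat_lit 0) [nat_lit 1,nat_lit 0] [nat_lit 0,nat_lit 1],Ins.fr [nat_lit 0,nat_lit 2,nat_lit 2,nat_lit 3],Ins.ts (nat_lit 0) [nat_lit 0,nat_lit 0] [],Ins.ts (nat_lit 3) [nat_lit 3,nat_lit 0] [],Ins.ts (nat_lit 0) [nat_lit 3,nat_lit 0,nat_lit 3] [nat_lit 0],Ins.ts (nat_lit 0) [nat_lit 4,nat_lit 0,nat_lit 4] [nat_lit 2,nat_lit 0,nat_lit 2],Ins.df [nat_lit 2,nat_lit 2],Ins.df [nat_lit 0,nat_lit 3,nat_lit 4],Ins.df [nat_lit 0,nat_lit 6,nat_lit 3],Ins.df [nat_lit 4,nat_lit 6,nat_lit 3],Ins.df [nat_lit 0,nat_lit 1,nat_lit 4,nat_lit 7]] [nat_lit 98,nat_lit 102,nat_lit 2,nat_lit 32] [nat_lit 4,nat_lit 6,nat_lit 3,nat_lit 2,nat_lit 0,nat_lit 5,nat_lit 1] (Srch.ex0 [nat_lit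 98,nat_lit 16,nat_lit 10,nat_lit 4,nat_lit 1] (Srch.rep (nat_lit 4) [] [nat_lit 8,nat_lit 4,nat_lit 2,nat_lit 1] [nat_lit 64,nat_lit 32,nat_lit 16] Srch.nil (Srch.rep (nat_lit 32) [] [nat_lit 72,nat_lit 32,nat_lit 2,nat_lit 1] [nat_lit 8,nat_lit 4,nat_lit 24] Srch.nil (Srch.rep (nat_lit 106) [nat_lit 12] [nat_lit 70,nat_lit 34,nat_lit 20,nat_lit 12,nat_lit 1] [nat_lit 4,nat_lit 2] (Srch.rep (nat_lit 46) [nat_lit 24,nat_lit 46] [] [] (Srch.rep (nat_lit 12) [] [] [] Srch.nil Srch.nil) (Srch.rep (nat_lit 47) [nat_lit 24,nat_lit 46] [] [] (Srch.rep (nat_lit 12) [] [] [] Srch.nil Srch.nil) (Srch.rep (nat_lit 70) [nat_lit 24,nat_lit 46] [] [] (Srch.rep (nat_lit 102) [nat_lit 106] [] [] (Srch.rep (nat_lit 2) [] [] [] (Srch.rep (nat_lit 6) [] [] [] (Srch.fin [nat_lit 4] [nat_lit 0] (((nat_lit 2),(Leaf.mp (nat_lit 7) [nat_lit 1,nat_lit 2,nat_lit 4,nat_lit 8,nat_lit 16,nat_lit 33,nat_lit 65,nat_lit 128] []))::(((nat_lit 3),(Leaf.mp (nat_lit 8) [nat_lit 1,nat_lit 2,nat_lit 4,nat_lit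 8,nat_lit 16,nat_lit 33,nat_lit 65,nat_lit 128] []))::[]))) (Srch.rep (nat_lit 7) [] [] [] (Srch.fin [nat_lit 4] [] []) Srch.nil)) Srch.nil) Srch.nil) (Srch.rep (nat_lit 71) [nat_lit 24,nat_lit 46] [] [] (Srch.rep (nat_lit 102) [nat_lit 106] [] [] (Srch.rep (nat_lit 2) [] [] [] (Srch.rep (nat_lit 6) [] [] [] (Srch.fin [nat_lit 4] [] []) (Srch.rep (nat_lit 7) [] [] [] (Srch.fin [nat_lit 4] [nat_lit 0] (((nat_lit 2),(Leaf.mp (nat_lit 7) [nat_lit 1,nat_lit 2,nat_lit 4,nat_lit 8,nat_lit 16,nat_lit 32,nat_lit 64,nat_lit 128] []))::(((nat_lit 3),(Leaf.mp (nat_lit 8) [nat_lit 1,nat_lit 2,nat_lit 4,nat_lit 8,nat_lit 16,nat_lit 32,nat_lit 64,nat_lit 128] []))::[]))) Srch.nil)) Srch.nil) Srch.nil) Srch.nil)))) Srch.nil)))) Node.done))))))))))))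
theorem ok9 : nodeOK DB PT 9 t9 (nat_lit 0x30c000f0c0c0f0f00000ff0c3ccff) (nat_lit 0x1100001100000000000000222200001100000011000000222200002222000000000000000000002222222200001100001111001100334433ff) c9 = true := by
  decide +kernel
noncomputable def t10 : ℕ := nat_lit 0x2300230023002300210021002100210038003800380038003a003a003a003a0038003800380038003a003a003a003a00220022002200220020002000200020002300230023002300210021002100210038003800380038003a003a003a003a0038003800380038003a003a003a003a002200220022002200200020002000200010001000110011001100110010001000100010001100110011001100100010001000100011001100110011001000100010001000110011001100110010001000080008000900090008000800090009000900090008000800090009000800080004000400040004000400040004000400020002000200020001000100000000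
noncomputable def c10 : Node :=
  (Node.st (nat_lit 0) (nat_lit 4) (nat_lit 0) (Node.st (nat_lit 0) (nat_lit 14) (nat_lit 0) (Node.sp (nat_lit 1) (Node.lf (Leaf.pt (nat_lit 10) (nat_lit 1) [nat_lit 8,nat_lit 4])) (Node.sp (nat_lit 2) (Node.lf (Leaf.pt (nat_lit 10) (nat_lit 2) [nat_lit 36,nat_lit 1])) (Node.st (nat_lit 0) (nat_lit 2) (nat_lit 0) (Node.sp (nat_lit 10) (Node.lf (Leaf.pt (nat_lit 5) (nat_lit 10) [nat_lit 4])) (Node.st (nat_lit 0) (nat_lit 10) (nat_lit 0) (Node.ext [] (nat_lit 4) [Ins.fr [nat_lit 0],Ins.ts (nat_lit 1) [nat_lit 0,nat_lit 0] [],Ins.fr [nat_lit 1],Ins.ts (nat_lit 3) [nat_lit 0] [],Ins.ts (nat_lit 1) [nat_lit 0] [],Ins.ts (nat_lit 0) [nat_lit 0,nat_lit 0] [],Ins.ts (nat_lit 3) [nat_lit 1,nat_lit 0] [],Ins.ts (nat_lit 2) [nat_lit 0,nat_lit 2] [],Ins.ts (nat_lit 0) [nat_lit 1,nat_lit 0,nat_lit 1] [nat_lit 0],Ins.ts (nat_lit 2) [nat_lit 1,nat_lit 0,nat_lit 2] [],Ins.fr [nat_lit 1,nat_lit 1,nat_lit 2],Ins.ts (nat_lit 3) [nat_lit 0] [],Ins.ts (nat_lit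 0) [nat_lit 0,nat_lit 0] [],Ins.ts (nat_lit 0) [nat_lit 2,nat_lit 0] [nat_lit 0,nat_lit 2],Ins.ts (nat_lit 0) [nat_lit 3,nat_lit 0,nat_lit 1] [nat_lit 1,nat_lit 0,nat_lit 3],Ins.fr [nat_lit 1,nat_lit 3],Ins.ts (nat_lit 0) [nat_lit 0,nat_lit 0] [],Ins.ts (nat_lit 0) [nat_lit 3,nat_lit 2,nat_lit 0] [nat_lit 0,nat_lit 1],Ins.df [nat_lit 3,nat_lit 3]] [nat_lit 8,nat_lit 2,nat_lit 16,nat_lit 32] [nat_lit 0,nat_lit 3,nat_lit 5,nat_lit 4,nat_lit 2,nat_lit 1] (Srch.rep (nat_lit 4) [nat_lit 2] [nat_lit 8,nat_lit 4,nat_lit 2,nat_lit 1] [nat_lit 32,nat_lit 16] (Srch.rep (nat_lit 8) [nat_lit 8] [] [] (Srch.rep (nat_lit 2) [nat_lit 4] [] [] (Srch.rep (nat_lit 16) [] [] [] (Srch.rep (nat_lit 32) [] [] [] (Srch.fin [nat_lit 32,nat_lit 8] [nat_lit 0] (((nat_lit 0),(Leaf.pt (nat_lit 10) (nat_lit 4) [nat_lit 8,nat_lit 64]))::(((nat_lit 1),(Leaf.pt (nat_lit 10) (nat_lit 4) [nat_lit 8,nat_lit 72]))::[]))) (Srch.rep (nat_lit 33) [] [] [] (Srch.fin [nat_lit 32,nat_lit 8] [nat_lit 0] (((nat_lit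 0),(Leaf.pt (nat_lit 10) (nat_lit 4) [nat_lit 8,nat_lit 64]))::(((nat_lit 1),(Leaf.pt (nat_lit 10) (nat_lit 4) [nat_lit 8,nat_lit 72]))::[]))) Srch.nil)) Srch.nil) (Srch.rep (nat_lit 10) [nat_lit 4] [] [] (Srch.rep (nat_lit 16) [] [] [] Srch.nil Srch.nil) Srch.nil)) (Srch.rep (nat_lit 12) [] [] [] Srch.nil Srch.nil)) (Srch.rep (nat_lit 14) [nat_lit 4] [nat_lit 16,nat_lit 10,nat_lit 4,nat_lit 1] [nat_lit 32,nat_lit 2] (Srch.rep (nat_lit 20) [] [] [] Srch.nil (Srch.rep (nat_lit 26) [nat_lit 20] [] [] (Srch.rep (nat_lit 10) [nat_lit 14] [] [] (Srch.rep (nat_lit 2) [] [] [] Srch.nil Srch.nil) (Srch.rep (nat_lit 16) [nat_lit 14] [] [] (Srch.rep (nat_lit 2) [] [] [] Srch.nil Srch.nil) Srch.nil)) Srch.nil)) (Srch.rep (nat_lit 28) [nat_lit 2] [nat_lit 20,nat_lit 8,nat_lit 2,nat_lit 1] [nat_lit 32,nat_lit 4] (Srch.rep (nat_lit 8) [nat_lit 8] [] [] (Srch.rep (nat_lit 2) [nat_lit 28] [] [] (Srch.rep (nat_lit 17) [] [] [] (Srch.rep (nat_lit 59) [] [] [] (Srch.fin [nat_lit 32,nat_lit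 8] [nat_lit 0] (((nat_lit 0),(Leaf.pt (nat_lit 16) (nat_lit 14) [nat_lit 4,nat_lit 98]))::(((nat_lit 1),(Leaf.mp (nat_lit 6) [nat_lit 1,nat_lit 2,nat_lit 4,nat_lit 8,nat_lit 16,nat_lit 32,nat_lit 64] []))::[]))) (Srch.rep (nat_lit 58) [] [] [] (Srch.fin [nat_lit 32,nat_lit 8] [nat_lit 0] (((nat_lit 0),(Leaf.mp (nat_lit 9) [nat_lit 1,nat_lit 2,nat_lit 4,nat_lit 8,nat_lit 16,nat_lit 32,nat_lit 64] []))::(((nat_lit 1),(Leaf.pt (nat_lit 16) (nat_lit 14) [nat_lit 4,nat_lit 98]))::[]))) Srch.nil)) Srch.nil) (Srch.rep (nat_lit 10) [nat_lit 28] [] [] (Srch.rep (nat_lit 17) [] [] [] Srch.nil Srch.nil) Srch.nil)) (Srch.rep (nat_lit 20) [] [] [] Srch.nil Srch.nil)) (Srch.rep (nat_lit 32) [] [nat_lit 32,nat_lit 2,nat_lit 1] [nat_lit 8,nat_lit 24,nat_lit 4] Srch.nil Srch.nil)))) Node.done))))))))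
theorem ok10 : nodeOK DB PT 10 t10 (nat_lit 0xf00000ff0c3ccff) (nat_lit 0x2222000000000000000000002222222200001100001111001100334433ff) c10 = true := by
  decide +kernel
noncomputable def t11 : ℕ := nat_lit 0x2300230023002300210021002100210038003800380038003a003a003a003a0038003800380038003a003a003a003a00220022002200220020002000200020002300230023002300210021002100210038003800380038003a003a003a003a0038003800380038003a003a003a003a002200220022002200200020002000200010001000110011001100110010001000100010001100110011001100100010001000100011001100110011001000100010001000110011001100110010001000080008000900090008000800090009000900090008000800090009000800080004000400040004000400040004000400020002000200020001000100000000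
noncomputable def c11 : Node :=
  (Node.st (nat_lit 0) (nat_lit 4) (nat_lit 0) (Node.st (nat_lit 0) (nat_lit 14) (nat_lit 0) (Node.sp (nat_lit 1) (Node.lf (Leaf.pt (nat_lit 5) (nat_lit 1) [nat_lit 4])) (Node.sp (nat_lit 2) (Node.lf (Leaf.pt (nat_lit 5) (nat_lit 2) [nat_lit 4])) (Node.st (nat_lit 0) (nat_lit 2) (nat_lit 0) (Node.sp (nat_lit 10) (Node.lf (Leaf.pt (nat_lit 5) (nat_lit 10) [nat_lit 4])) (Node.st (nat_lit 0) (nat_lit 10) (nat_lit 0) (Node.ext [[nat_lit 4,nat_lit 2,nat_lit 1]] (nat_lit 4) [Ins.ts (nat_lit 4) [nat_lit 0] [nat_lit 4,nat_lit 0,nat_lit 0],Ins.fr [nat_lit 0],Ins.ts (nat_lit 1) [nat_lit 0,nat_lit 0] [],Ins.fr [nat_lit 1],Ins.ts (nat_lit 3) [nat_lit 0] [],Ins.ts (nat_lit 4) [nat_lit 0] [nat_lit 2,nat_lit 0,nat_lit 0],Ins.ts (nat_lit 1) [nat_lit 0] [],Ins.ts (nat_lit 3) [nat_lit 1,nat_lit 0] [],Ins.ts (nat_lit 0) [nat_lit 1,nat_lit 0,nat_lit 1] [nat_lit 0],Ins.fr [nat_lit 1,nat_lit 1,nat_lit 2],Ins.ts (nat_lit 3) [nat_lit 0] [],Ins.ts (nat_lit 0)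 [nat_lit 0,nat_lit 0] [],Ins.ts (nat_lit 0) [nat_lit 3,nat_lit 0,nat_lit 1] [nat_lit 1,nat_lit 0,nat_lit 3],Ins.fr [nat_lit 1,nat_lit 3],Ins.ts (nat_lit 0) [nat_lit 0,nat_lit 0] [],Ins.ts (nat_lit 0) [nat_lit 3,nat_lit 2,nat_lit 0] [nat_lit 0,nat_lit 1],Ins.df [nat_lit 3,nat_lit 3]] [nat_lit 8,nat_lit 2,nat_lit 16,nat_lit 32] [nat_lit 0,nat_lit 3,nat_lit 5,nat_lit 4,nat_lit 2,nat_lit 1] (Srch.rep (nat_lit 4) [nat_lit 2] [nat_lit 8,nat_lit 4,nat_lit 2,nat_lit 1] [nat_lit 32,nat_lit 16] (Srch.rep (nat_lit 8) [nat_lit 8] [] [] (Srch.rep (nat_lit 2) [nat_lit 4] [] [] (Srch.rep (nat_lit 16) [] [] [] (Srch.rep (nat_lit 32) [] [] [] (Srch.fin [nat_lit 32,nat_lit 8] [nat_lit 0] (((nat_lit 0),(Leaf.pt (nat_lit 10) (nat_lit 4) [nat_lit 8,nat_lit 64]))::(((nat_lit 1),(Leaf.pt (nat_lit 10) (nat_lit 4) [nat_lit 8,nat_lit 72]))::[]))) (Srch.rep (nat_lit 33) [] [] [] (Srch.fin [nat_lit 32,nat_lit 8] [nat_lit 0] (((nat_lit 0),(Leaf.pt (nat_lit 10) (nat_lit 4) [nat_lit 8,nat_lit 64]))::(((nat_lit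 1),(Leaf.pt (nat_lit 10) (nat_lit 4) [nat_lit 8,nat_lit 72]))::[]))) Srch.nil)) Srch.nil) Srch.nil) (Srch.rep (nat_lit 12) [] [] [] Srch.nil Srch.nil)) Srch.nil) (Node.frat (nat_lit 1) (nat_lit 0) (nat_lit 0) [[],[nat_lit 2,nat_lit 1]] [] [((nat_lit 1),(nat_lit 0)),((nat_lit 2),(nat_lit 1))] [nat_lit 1] [nat_lit 32,nat_lit 24,nat_lit 4,nat_lit 2,nat_lit 1] (nat_lit 8) (nat_lit 2) (nat_lit 4) [Ins.ts (nat_lit 4) [nat_lit 0] [nat_lit 4,nat_lit 2,nat_lit 1],Ins.fr [nat_lit 0],Ins.ts (nat_lit 3) [nat_lit 0] [],Ins.ts (nat_lit 1) [nat_lit 0] [],Ins.ts (nat_lit 4) [nat_lit 0] [nat_lit 2,nat_lit 1,nat_lit 0],Ins.fr [nat_lit 1],Ins.ts (nat_lit 3) [nat_lit 0] [],Ins.ts (nat_lit 1) [nat_lit 0] [],Ins.ts (nat_lit 4) [nat_lit 0] [nat_lit 3,nat_lit 1,nat_lit 0],Ins.fr [nat_lit 1,nat_lit 2],Ins.ts (nat_lit 0) [nat_lit 0,nat_lit 0] [nat_lit 2],Ins.fr [nat_lit 1,nat_lit 3],Ins.ts (nat_lit 0) [nat_lit 0,nat_lit 0] []] [nat_lit 1,nat_lit 2,nat_lit 24,nat_lit 32] [nat_lit 3,nat_lit 2,nat_lit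 4,nat_lit 1,nat_lit 0] [] (Srch.rep (nat_lit 4) [] [nat_lit 4,nat_lit 2,nat_lit 1] [nat_lit 32,nat_lit 24] (Srch.rep (nat_lit 2) [] [] [] (Srch.rep (nat_lit 3) [nat_lit 4] [] [] (Srch.rep (nat_lit 36) [] [] [] (Srch.rep (nat_lit 56) [] [] [] (Srch.lf (Leaf.mp (nat_lit 10) [nat_lit 1,nat_lit 2,nat_lit 4,nat_lit 8,nat_lit 16,nat_lit 32] [])) (Srch.rep (nat_lit 57) [] [] [] (Srch.lf (Leaf.mp (nat_lit 10) [nat_lit 1,nat_lit 2,nat_lit 4,nat_lit 8,nat_lit 16,nat_lit 32] [])) (Srch.rep (nat_lit 58) [] [] [] (Srch.lf (Leaf.mp (nat_lit 10) [nat_lit 1,nat_lit 2,nat_lit 4,nat_lit 8,nat_lit 16,nat_lit 32] [])) (Srch.rep (nat_lit 59) [] [] [] (Srch.lf (Leaf.mp (nat_lit 10) [nat_lit 1,nat_lit 2,nat_lit 4,nat_lit 8,nat_lit 16,nat_lit 32] [])) Srch.nil)))) (Srch.rep (nat_lit 37) [] [] [] (Srch.rep (nat_lit 56) [] [] [] (Srch.lf (Leaf.mp (nat_lit 10) [nat_lit 1,nat_lit 2,nat_lit 4,nat_lit 8,nat_lit 16,nat_lit 32] [])) (Srch.rep (nat_lit 57) [] [] [] (Srch.lf (Leaf.mp (nat_lit 10) [nat_lit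 1,nat_lit 2,nat_lit 4,nat_lit 8,nat_lit 16,nat_lit 32] [])) (Srch.rep (nat_lit 58) [] [] [] (Srch.lf (Leaf.mp (nat_lit 10) [nat_lit 1,nat_lit 2,nat_lit 4,nat_lit 8,nat_lit 16,nat_lit 32] [])) (Srch.rep (nat_lit 59) [] [] [] (Srch.lf (Leaf.mp (nat_lit 10) [nat_lit 1,nat_lit 2,nat_lit 4,nat_lit 8,nat_lit 16,nat_lit 32] [])) Srch.nil)))) Srch.nil)) Srch.nil) Srch.nil) Srch.nil))))))))))
theorem ok11 : nodeOK DB PT 11 t11 (nat_lit 0xf00000ff0c3ccff) (nat_lit 0x2222000000000000000000002222222200001100001111001100334433ff) c11 = true := by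
  decide +kernel
noncomputable def t12 : ℕ := nat_lit 0x2200220022002200200020002000200039003900390039003b003b003b003b0039003900390039003b003b003b003b00230023002300230021002100210021002300230023002300210021002100210038003800380038003a003a003a003a0038003800380038003a003a003a003a002200220022002200200020002000200010001000110011001100110010001000100010001100110011001100100010001000100011001100110011001000100010001000110011001100110010001000080008000900090008000800090009000900090008000800090009000800080004000400040004000400040004000400020002000200020001000100000000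
noncomputable def c12 : Node :=
  (Node.st (nat_lit 0) (nat_lit 4) (nat_lit 0) (Node.st (nat_lit 0) (nat_lit 14) (nat_lit 0) (Node.sp (nat_lit 1) (Node.lf (Leaf.pt (nat_lit 10) (nat_lit 1) [nat_lit 8,nat_lit 4])) (Node.sp (nat_lit 2) (Node.lf (Leaf.pt (nat_lit 10) (nat_lit 2) [nat_lit 60,nat_lit 1])) (Node.st (nat_lit 0) (nat_lit 2) (nat_lit 0) (Node.sp (nat_lit 10) (Node.lf (Leaf.pt (nat_lit 5) (nat_lit 10) [nat_lit 4])) (Node.st (nat_lit 0) (nat_lit 10) (nat_lit 0) (Node.ext [[nat_lit 4,nat_lit 2,nat_lit 1]] (nat_lit 4) [Ins.ts (nat_lit 4) [nat_lit 0] [nat_lit 4,nat_lit 0,nat_lit 0],Ins.fr [nat_lit 0],Ins.ts (nat_lit 1) [nat_lit 0,nat_lit 0] [],Ins.fr [nat_lit 1],Ins.ts (nat_lit 3) [nat_lit 0] [],Ins.ts (nat_lit 4) [nat_lit 0] [nat_lit 2,nat_lit 0,nat_lit 0],Ins.ts (nat_lit 1) [nat_lit 0] [],Ins.ts (nat_lit 3) [nat_lit 1,nat_lit 0] [],Ins.ts (nat_lit 0) [nat_lit 1,nat_lit 0,nat_lit 1] [nat_lit 0],Ins.fr [nat_lit 1,nat_lit 1,nat_lit 2],Ins.ts (nat_lit 3) [nat_lit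 0] [],Ins.ts (nat_lit 0) [nat_lit 0,nat_lit 0] [],Ins.ts (nat_lit 0) [nat_lit 3,nat_lit 0,nat_lit 1] [nat_lit 1,nat_lit 0,nat_lit 3],Ins.fr [nat_lit 1,nat_lit 3],Ins.ts (nat_lit 0) [nat_lit 3,nat_lit 3] [nat_lit 0,nat_lit 0],Ins.ts (nat_lit 0) [nat_lit 3,nat_lit 2,nat_lit 0] [nat_lit 0,nat_lit 1],Ins.df [nat_lit 0,nat_lit 0]] [nat_lit 8,nat_lit 2,nat_lit 16,nat_lit 32] [nat_lit 0,nat_lit 3,nat_lit 5,nat_lit 4,nat_lit 2,nat_lit 1] (Srch.rep (nat_lit 4) [nat_lit 2] [nat_lit 8,nat_lit 4,nat_lit 2,nat_lit 1] [nat_lit 32,nat_lit 16] (Srch.rep (nat_lit 8) [nat_lit 8] [] [] (Srch.rep (nat_lit 2) [nat_lit 4] [] [] (Srch.rep (nat_lit 16) [] [] [] (Srch.rep (nat_lit 32) [] [] [] (Srch.fin [nat_lit 32,nat_lit 8] [nat_lit 0] (((nat_lit 0),(Leaf.pt (nat_lit 10) (nat_lit 4) [nat_lit 8,nat_lit 64]))::(((nat_lit 1),(Leaf.pt (nat_lit 10) (nat_lit 4) [nat_lit 8,nat_lit 72]))::[]))) (Srch.rep (nat_lit 33) [] [] [] (Srch.fin [nat_lit 32,nat_lit 8] [nat_lit 0] (((nat_lit 0),(Leaf.pt (nat_lit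 10) (nat_lit 4) [nat_lit 8,nat_lit 64]))::(((nat_lit 1),(Leaf.pt (nat_lit 10) (nat_lit 4) [nat_lit 8,nat_lit 72]))::[]))) Srch.nil)) Srch.nil) Srch.nil) (Srch.rep (nat_lit 12) [] [] [] Srch.nil Srch.nil)) Srch.nil) (Node.frat (nat_lit 1) (nat_lit 0) (nat_lit 0) [[],[nat_lit 2,nat_lit 1]] [] [((nat_lit 1),(nat_lit 0)),((nat_lit 2),(nat_lit 1))] [nat_lit 1] [nat_lit 32,nat_lit 24,nat_lit 4,nat_lit 2,nat_lit 1] (nat_lit 8) (nat_lit 2) (nat_lit 4) [Ins.ts (nat_lit 4) [nat_lit 0] [nat_lit 4,nat_lit 2,nat_lit 1],Ins.fr [nat_lit 0],Ins.ts (nat_lit 3) [nat_lit 0] [],Ins.ts (nat_lit 1) [nat_lit 0] [],Ins.ts (nat_lit 4) [nat_lit 0] [nat_lit 2,nat_lit 1,nat_lit 0],Ins.fr [nat_lit 1],Ins.ts (nat_lit 3) [nat_lit 0] [],Ins.ts (nat_lit 1) [nat_lit 0] [],Ins.ts (nat_lit 4) [nat_lit 0] [nat_lit 3,nat_lit 1,nat_lit 0],Ins.fr [nat_lit 1,nat_lit 2],Ins.ts (nat_lit 0) [nat_lit 0,nat_lit 0] [nat_lit 2],Ins.fr [nat_lit 1,nat_lit 3]] [nat_lit 1,nat_lit 2,nat_lit 24,nat_lit 32] [nat_lit 3,nat_lit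 2,nat_lit 4,nat_lit 1,nat_lit 0] [] (Srch.rep (nat_lit 4) [] [nat_lit 4,nat_lit 2,nat_lit 1] [nat_lit 32,nat_lit 24] (Srch.rep (nat_lit 2) [] [] [] (Srch.rep (nat_lit 3) [] [] [] Srch.nil Srch.nil) Srch.nil) Srch.nil))))))))))
theorem ok12 : nodeOK DB PT 12 t12 (nat_lit 0xf0c3ccff) (nat_lit 0x222200001100001111001100334433ff) c12 = true := by
  decide +kernel
noncomputable def t13 : ℕ := nat_lit 0x4900490054005400420042005f005f0055005500490049005e005e00420042005f005f00430043005500550049004900430043005e005e0049004900540054004a004a0057005700400040005d005d00570057004b004b005d005d00410041005c005c0040004000570057004b004b00410041005c005c004a004a0057005700430043005f005f0048004800540054005e005e0043004300550055004800480055005500480048005f005f00420042004800480054005400420042005e005e005d005d0041004100560056004a004a00400040005d005d004b004b00560056004b004b0056005600410041005c005c00560056004a004a005c005c0040004000200020002000200022002200220022003c003c003c003c003e003e003e003e003e003e003e003e003c003c003c003c0022002200220022002000200020002000200020002000200022002200220022003c003c003c003c003e003e003e003e003e003e003e003e003c003c003c003c002200220022002200200020002000200010001000110011001100110010001000100010001100110011001100100010001000100011001100110011001000100010001000110011001100110010001000080008000900090008000800090009000900090008000800090009000800080004000400040004000400040004000400020002000200020001000100000000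
noncomputable def c13 : Node :=
  (Node.st (nat_lit 0) (nat_lit 4) (nat_lit 0) (Node.sp (nat_lit 1) (Node.lf (Leaf.pt (nat_lit 10) (nat_lit 1) [nat_lit 8,nat_lit 4])) (Node.sp (nat_lit 2) (Node.lf (Leaf.pt (nat_lit 10) (nat_lit 2) [nat_lit 36,nat_lit 1])) (Node.st (nat_lit 0) (nat_lit 2) (nat_lit 0) (Node.sp (nat_lit 10) (Node.lf (Leaf.pt (nat_lit 10) (nat_lit 10) [nat_lit 66,nat_lit 1])) (Node.st (nat_lit 0) (nat_lit 10) (nat_lit 0) (Node.sp (nat_lit 28) (Node.lf (Leaf.pt (nat_lit 10) (nat_lit 28) [nat_lit 40,nat_lit 1])) (Node.st (nat_lit 0) (nat_lit 28) (nat_lit 0) (Node.sp (nat_lit 32) (Node.lf (Leaf.pt (nat_lit 10) (nat_lit 32) [nat_lit 76,nat_lit 28])) (Node.st (nat_lit 0) (nat_lit 32) (nat_lit 0) (Node.sp (nat_lit 33) (Node.lf (Leaf.pt (nat_lit 10) (nat_lit 33) [nat_lit 76,nat_lit 28])) (Node.st (nat_lit 0) (nat_lit 33) (nat_lit 0) (Node.ext [] (nat_lit 4) [Ins.fr [nat_lit 0],Ins.ts (nat_lit 1) [nat_lit 0,nat_lit 0] [],Ins.fr [nat_lit 1],Ins.ts (nat_lit 3) [nat_lit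 0] [],Ins.ts (nat_lit 1) [nat_lit 0] [],Ins.ts (nat_lit 0) [nat_lit 0,nat_lit 0] [],Ins.ts (nat_lit 3) [nat_lit 1,nat_lit 0] [],Ins.ts (nat_lit 0) [nat_lit 1,nat_lit 0,nat_lit 1] [nat_lit 0],Ins.fr [nat_lit 1,nat_lit 1,nat_lit 2],Ins.ts (nat_lit 2) [nat_lit 0] [],Ins.ts (nat_lit 0) [nat_lit 0,nat_lit 0] [],Ins.fr [nat_lit 1,nat_lit 3],Ins.ts (nat_lit 0) [nat_lit 0,nat_lit 0] [],Ins.ts (nat_lit 0) [nat_lit 3,nat_lit 0,nat_lit 4] [nat_lit 0,nat_lit 1],Ins.fr [nat_lit 2,nat_lit 3,nat_lit 4],Ins.ts (nat_lit 0) [nat_lit 0,nat_lit 3,nat_lit 0] [nat_lit 4],Ins.ts (nat_lit 0) [nat_lit 5,nat_lit 0,nat_lit 4] [nat_lit 2,nat_lit 0],Ins.df [nat_lit 4,nat_lit 4]] [nat_lit 8,nat_lit 2,nat_lit 16,nat_lit 32,nat_lit 64] [nat_lit 0,nat_lit 4,nat_lit 6,nat_lit 5,nat_lit 3,nat_lit 2,nat_lit 1] (Srch.rep (nat_lit 4) [nat_lit 2] [nat_lit 8,nat_lit 4,nat_lit 2,nat_lit 1] [nat_lit 64,nat_lit 32,nat_lit 16] (Srch.rep (nat_lit 8) [nat_lit 8] [] [] (Srch.rep (nat_lit 2) [nat_lit 4] [] [] (Srch.rep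 (nat_lit 16) [] [] [] (Srch.rep (nat_lit 32) [] [] [] (Srch.rep (nat_lit 64) [] [] [] (Srch.fin [nat_lit 64] [nat_lit 0] (((nat_lit 0),(Leaf.pt (nat_lit 10) (nat_lit 4) [nat_lit 8,nat_lit 128]))::(((nat_lit 1),(Leaf.pt (nat_lit 10) (nat_lit 4) [nat_lit 8,nat_lit 136]))::[]))) (Srch.rep (nat_lit 65) [] [] [] (Srch.fin [nat_lit 64] [nat_lit 0] (((nat_lit 0),(Leaf.pt (nat_lit 10) (nat_lit 4) [nat_lit 8,nat_lit 128]))::(((nat_lit 1),(Leaf.pt (nat_lit 10) (nat_lit 4) [nat_lit 8,nat_lit 136]))::[]))) Srch.nil)) (Srch.rep (nat_lit 33) [] [] [] (Srch.rep (nat_lit 64) [] [] [] (Srch.fin [nat_lit 64] [nat_lit 0] (((nat_lit 0),(Leaf.pt (nat_lit 10) (nat_lit 4) [nat_lit 8,nat_lit 128]))::(((nat_lit 1),(Leaf.pt (nat_lit 10) (nat_lit 4) [nat_lit 8,nat_lit 136]))::[]))) (Srch.rep (nat_lit 65) [] [] [] (Srch.fin [nat_lit 64] [nat_lit 0] (((nat_lit 0),(Leaf.pt (nat_lit 10) (nat_lit 4) [nat_lit 8,nat_lit 128]))::(((nat_lit 1),(Leaf.pt (nat_lit 10) (nat_lit 4) [nat_lit 8,nat_lit 136]))::[])))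 Srch.nil)) Srch.nil)) Srch.nil) (Srch.rep (nat_lit 10) [nat_lit 4] [] [] (Srch.rep (nat_lit 16) [] [] [] Srch.nil Srch.nil) Srch.nil)) (Srch.rep (nat_lit 12) [] [] [] Srch.nil Srch.nil)) Srch.nil) Node.done)))))))))))))
theorem ok13 : nodeOK DB PT 13 t13 (nat_lit 0xf000000ff0c3ccff) (nat_lit 0x22220000000000000000000000002222222200001100001111001100334433ff) c13 = true := by
  decide +kernel
noncomputable def t14 : ℕ := nat_lit 0x1fb01fb01970197016c016c0109010901e701e7018a018a0171017101150115017101710114011401e601e6018b018b016c016c0108010801fa01fa019601960197019701e501e5016e016e01080108018a018a01f901f901720172011401140172017201150115018b018b01f801f8016e016e010901090196019601e401e4010901090172017201f901f90197019701140114016e016e01e501e5018b018b01e401e4018a018a01150115016e016e01f801f8019601960108010801720172017101710109010901e601e601960196016c016c0114011401fa01fa018a018a01fb01fb018b018b016c016c0115011501e701e70197019701710171010801080182018201f201f2011c011c016501650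19e019e01ee01ee01010101017801780101010101790179019e019e01ee01ee011c011c016401640182018201f201f201f101f1019f019f01000100017a017a01ec01ec01820182011c011c01670167011c011c0166016601ec01ec0182018201000100017b017b01f101f1019f019f0167016701000100019e019e01ec01ec017a017a011d011d0182018201f101f10182018201f101f1017b017b011d011d019e019e01ec01ec0166016601000100011d011d017901790182018201ee01ee0101010101640164019f019f01f201f2019f019f01f201f201010101016501650182018201ee01ee011d011d01780178019f019f01ef01ef01090109017001700182018201f201f201150115016c016c01140114016c016c0182018201f201f20108010801700170019f019f01ef01ef01ec01ec01820182010801080172017201f001f0019e019e01140114016f016f01150115016f016f01f001f0019e019e010901090172017201ec01ec01820182016f016f010901090182018201f001f00172017201140114019f019f01ec01ec019f019f01ec01ec01720172011501150182018201f001f0016f016f0108010801090109016c016c019e019e01f201f201140114017001700182018201ef01ef0182018201ef01ef0115011501700170019e019e01f201f20108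0108016c016c01fa01fa01960196016501650100010001e601e6018b018b01780178011c011c01790179011c011c01e701e7018a018a016401640100010001fb01fb019701970196019601e401e4017a017a011c011c018b018b01f801f801670167010101010166016601010101018a018a01f901f9017b017b011c011c0197019701e501e5011d011d0167016701f801f80196019601010101017a017a01e401e4018a018a01e501e5018b018b01010101017b017b01f901f901970197011d011d01660166017901790100010001e701e70197019701640164011d011d01fb01fb018b018b01fa01fa018a018a01650165011d011d01e601e60196019601780178010001000081008100890089008100810089008900810081008800880081008100880088008100810089008900810081008900890081008100880088008100810088008800f300f300fa00fa00f300f300fa00fa00f200f200fa00fa00f200f200fa00fa00f200f200fb00fb00f200f200fb00fb00f300f300fb00fb00f300f300fb00fb00e700e700ee00ee00e700e700ee00ee00e600e600ee00ee00e600e600ee00ee00e700e700ee00ee00e700e700ee00ee00e600e600ee00ee00e600e600ee00ee00810081008900890081008100890089008100810088008800810081008800880081008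1008900890081008100890089008100810088008800810081008800880089008900800080008900890080008000880088008000800088008800800080008900890080008000890089008000800088008800800080008800880080008000e600e600ef00ef00e600e600ef00ef00e700e700ef00ef00e700e700ef00ef00e600e600ef00ef00e600e600ef00ef00e700e700ef00ef00e700e700ef00ef00f300f300fa00fa00f300f300fa00fa00f200f200fa00fa00f200f200fa00fa00f200f200fb00fb00f200f200fb00fb00f300f300fb00fb00f300f300fb00fb00890089008000800089008900800080008800880080008000880088008000800089008900800080008900890080008000880088008000800088008800800080004800480055005500430043005e005e0054005400480048005f005f00430043005e005e00420042005400540048004800420042005f005f0048004800550055004b004b0056005600410041005c005c00560056004a004a005c005c00400040005d005d0041004100560056004a004a00400040005d005d004b004b0056005600430043005f005f0048004800540054005e005e0043004300550055004800480055005500480048005f005f00420042004800480054005400420042005e005e005d005d004100410056005600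4a004a00400040005d005d004b004b00560056004b004b0056005600410041005c005c00560056004a004a005c005c0040004000200020002000200022002200220022003c003c003c003c003e003e003e003e003e003e003e003e003c003c003c003c0022002200220022002000200020002000200020002000200022002200220022003c003c003c003c003e003e003e003e003e003e003e003e003c003c003c003c002200220022002200200020002000200010001000110011001100110010001000100010001100110011001100100010001000100011001100110011001000100010001000110011001100110010001000080008000900090008000800090009000900090008000800090009000800080004000400040004000400040004000400020002000200020001000100000000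
noncomputable def c14 : Node :=
  (Node.st (nat_lit 0) (nat_lit 4) (nat_lit 0) (Node.sp (nat_lit 1) (Node.lf (Leaf.pt (nat_lit 10) (nat_lit 1) [nat_lit 8,nat_lit 4])) (Node.sp (nat_lit 2) (Node.lf (Leaf.pt (nat_lit 10) (nat_lit 2) [nat_lit 36,nat_lit 1])) (Node.st (nat_lit 0) (nat_lit 2) (nat_lit 0) (Node.sp (nat_lit 28) (Node.lf (Leaf.pt (nat_lit 10) (nat_lit 28) [nat_lit 40,nat_lit 1])) (Node.st (nat_lit 0) (nat_lit 28) (nat_lit 0) (Node.sp (nat_lit 32) (Node.lf (Leaf.pt (nat_lit 10) (nat_lit 32) [nat_lit 78,nat_lit 1])) (Node.st (nat_lit 0) (nat_lit 32) (nat_lit 0) (Node.sp (nat_lit 288) (Node.lf (Leaf.pt (nat_lit 10) (nat_lit 288) [nat_lit 68,nat_lit 1])) (Node.st (nat_lit 0) (nat_lit 288) (nat_lit 0) (Node.ext [] (nat_lit 4) [Ins.fr [nat_lit 0],Ins.fr [nat_lit 1],Ins.fr [nat_lit 0,nat_lit 0,nat_lit 2],Ins.fr [nat_lit 0],Ins.fr [nat_lit 0,nat_lit 0,nat_lit 3,nat_lit 2,nat_lit 4],Ins.fr [nat_lit 0,nat_lit 1,nat_lit 4,nat_lit 0],Ins.df [nat_lit 4,nat_lit 4],Ins.df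 [nat_lit 6,nat_lit 6],Ins.df [nat_lit 4,nat_lit 3],Ins.df [nat_lit 0,nat_lit 1,nat_lit 0]] [nat_lit 128,nat_lit 130,nat_lit 16,nat_lit 96,nat_lit 32,nat_lit 256] [nat_lit 3,nat_lit 0,nat_lit 10,nat_lit 2,nat_lit 7,nat_lit 5,nat_lit 1,nat_lit 9,nat_lit 4] (Srch.ex0 [nat_lit 128,nat_lit 8,nat_lit 4,nat_lit 2,nat_lit 1] Srch.nil) Node.done)))))))))))
theorem ok14 : nodeOK DB PT 14 t14 (nat_lit 0xc0cc0c03030030300000000000000000c0cc0c030300303000000000030000300000000000000000c0c00000c0cc0c00c0330c0f000000ff0c3ccff) (nat_lit 0x110000001100110000001100000000110000001100000000001100000011000000000000000000000000000000000000000000000000000000000000000000001100000011001100000011000000001100000011000000000011000000110000000000000000000000000000000000000000001100000000000000000011000000000000000000000000000000000000000000000000000000000000000000001100000011000000000000000000000011000000110011000000110000000000110000000011001100001100000022220000000000000000000000002222222200001100001111001100334433ff)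 c14 = true := by
  decide +kernel
noncomputable def t15 : ℕ := nat_lit 0x1fa01fa01960196016d016d0108010801e601e6018b018b0170017001140114017001700115011501e701e7018a018a016d016d0109010901fb01fb019701970196019601e401e4016f016f01090109018b018b01f801f801730173011501150173017301140114018a018a01f901f9016f016f010801080197019701e501e5010801080173017301f801f80196019601150115016f016f01e401e4018a018a01e501e5018b018b01140114016f016f01f901f9019701970109010901730173017001700108010801e701e701970197016d016d0115011501fb01fb018b018b01fa01fa018a018a016d016d0114011401e601e60196019601700170010901090183018301f301f3011d011d01640164019f019f01ef01ef01000100017901790100010001780178019f019f01ef01ef011d011d016501650183018301f301f301f001f0019e019e01010101017b017b01ed01ed01830183011d011d01660166011d011d0167016701ed01ed0183018301010101017a017a01f001f0019e019e0166016601010101019f019f01ed01ed017b017b011c011c0183018301f001f00183018301f001f0017a017a011c011c019f019f01ed01ed0167016701010101011c011c01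7801780183018301ef01ef0100010001650165019e019e01f301f3019e019e01f301f301000100016401640183018301ef01ef011c011c01790179019f019f01ef01ef01090109017001700182018201f201f201150115016c016c01140114016c016c0182018201f201f20108010801700170019f019f01ef01ef01ec01ec01820182010801080172017201f001f0019e019e01140114016f016f01150115016f016f01f001f0019e019e010901090172017201ec01ec01820182016f016f010901090182018201f001f00172017201140114019f019f01ec01ec019f019f01ec01ec01720172011501150182018201f001f0016f016f0108010801090109016c016c019e019e01f201f201140114017001700182018201ef01ef0182018201ef01ef0115011501700170019e019e01f201f201080108016c016c01fa01fa01960196016501650100010001e601e6018b018b01780178011c011c01790179011c011c01e701e7018a018a016401640100010001fb01fb019701970196019601e401e4017a017a011c011c018b018b01f801f801670167010101010166016601010101018a018a01f901f9017b017b011c011c0197019701e501e5011d011d0167016701f801f80196019601010101017a017a01e401e4018a018a01e501e5018b018b01010101017b0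17b01f901f901970197011d011d01660166017901790100010001e701e70197019701640164011d011d01fb01fb018b018b01fa01fa018a018a01650165011d011d01e601e60196019601780178010001000081008100890089008100810089008900810081008800880081008100880088008100810089008900810081008900890081008100880088008100810088008800f300f300fa00fa00f300f300fa00fa00f200f200fa00fa00f200f200fa00fa00f200f200fb00fb00f200f200fb00fb00f300f300fb00fb00f300f300fb00fb00e700e700ee00ee00e700e700ee00ee00e600e600ee00ee00e600e600ee00ee00e700e700ee00ee00e700e700ee00ee00e600e600ee00ee00e600e600ee00ee008100810089008900810081008900890081008100880088008100810088008800810081008900890081008100890089008100810088008800810081008800880089008900800080008900890080008000880088008000800088008800800080008900890080008000890089008000800088008800800080008800880080008000e600e600ef00ef00e600e600ef00ef00e700e700ef00ef00e700e700ef00ef00e600e600ef00ef00e600e600ef00ef00e700e700ef00ef00e700e700ef00ef00f300f300fa00fa00f300f300fa00fa00f200f200fa00fa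00f200f200fa00fa00f200f200fb00fb00f200f200fb00fb00f300f300fb00fb00f300f300fb00fb00890089008000800089008900800080008800880080008000880088008000800089008900800080008900890080008000880088008000800088008800800080004800480055005500430043005e005e0054005400480048005f005f00430043005e005e00420042005400540048004800420042005f005f0048004800550055004b004b0056005600410041005c005c00560056004a004a005c005c00400040005d005d0041004100560056004a004a00400040005d005d004b004b0056005600430043005f005f0048004800540054005e005e0043004300550055004800480055005500480048005f005f00420042004800480054005400420042005e005e005d005d0041004100560056004a004a00400040005d005d004b004b00560056004b004b0056005600410041005c005c00560056004a004a005c005c0040004000200020002000200022002200220022003c003c003c003c003e003e003e003e003e003e003e003e003c003c003c003c0022002200220022002000200020002000200020002000200022002200220022003c003c003c003c003e003e003e003e003e003e003e003e003c003c003c003c002200220022002200200020002000200010001000110011001100110010001000100010001100110011001100100010001000100011001100110011001000100010001000110011001100110010001000080008000900090008000800090009000900090008000800090009000800080004000400040004000400040004000400020002000200020001000100000000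
noncomputable def c15 : Node :=
  (Node.st (nat_lit 0) (nat_lit 4) (nat_lit 0) (Node.sp (nat_lit 1) (Node.lf (Leaf.pt (nat_lit 10) (nat_lit 1) [nat_lit 8,nat_lit 4])) (Node.sp (nat_lit 2) (Node.lf (Leaf.pt (nat_lit 10) (nat_lit 2) [nat_lit 36,nat_lit 1])) (Node.st (nat_lit 0) (nat_lit 2) (nat_lit 0) (Node.sp (nat_lit 28) (Node.lf (Leaf.pt (nat_lit 10) (nat_lit 28) [nat_lit 40,nat_lit 1])) (Node.st (nat_lit 0) (nat_lit 28) (nat_lit 0) (Node.sp (nat_lit 32) (Node.lf (Leaf.pt (nat_lit 10) (nat_lit 32) [nat_lit 78,nat_lit 1])) (Node.st (nat_lit 0) (nat_lit 32) (nat_lit 0) (Node.sp (nat_lit 266) (Node.lf (Leaf.pt (nat_lit 10) (nat_lit 266) [nat_lit 108,nat_lit 1])) (Node.st (nat_lit 0) (nat_lit 266) (nat_lit 0) (Node.ext [] (nat_lit 4) [Ins.fr [nat_lit 0],Ins.fr [nat_lit 1],Ins.fr [nat_lit 0,nat_lit 0,nat_lit 2],Ins.fr [nat_lit 0],Ins.fr [nat_lit 0,nat_lit 0,nat_lit 3,nat_lit 2,nat_lit 4],Ins.fr [nat_lit 0,nat_lit 1,nat_lit 4,nat_lit 0],Ins.df [nat_lit 4,nat_lit 4],Ins.df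 [nat_lit 6,nat_lit 6],Ins.df [nat_lit 4,nat_lit 3],Ins.df [nat_lit 0,nat_lit 1,nat_lit 0]] [nat_lit 128,nat_lit 130,nat_lit 16,nat_lit 96,nat_lit 32,nat_lit 256] [nat_lit 3,nat_lit 0,nat_lit 10,nat_lit 2,nat_lit 7,nat_lit 5,nat_lit 1,nat_lit 9,nat_lit 4] (Srch.ex0 [nat_lit 128,nat_lit 8,nat_lit 4,nat_lit 2,nat_lit 1] Srch.nil) Node.done)))))))))))
theorem ok15 : nodeOK DB PT 15 t15 (nat_lit 0x33000000000000000000030000003000cc000000000000000000000c00c000030000300000000000000000c0c00000c0cc0c00c0330c0f000000ff0c3ccff) (nat_lit 0x1100110000000000000000000000000000000000000000000000000000000000000000000000000000001100000000000000000000000000110000000000001100110000000000000000000000000000000000000000000000000000000000000000000000000000000000000011000000000011000000000000000000001100000000000000000011000000000000000000000000000000000000000000000000000000000000000000001100000011000000000000000000000011000000110011000000110000000000110000000011001100001100000022220000000000000000000000002222222200001100001111001100334433ff)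 c15 = true := by
  decide +kernel
noncomputable def t16 : ℕ := nat_lit 0x1fb01fb01970197016c016c0109010901e701e7018a018a0171017101150115017101710114011401e601e6018b018b016c016c0108010801fa01fa019601960196019601e401e4016f016f01090109018b018b01f801f801730173011501150173017301140114018a018a01f901f9016f016f010801080197019701e501e5010801080173017301f801f80196019601150115016f016f01e401e4018a018a01e501e5018b018b01140114016f016f01f901f9019701970109010901730173017101710109010901e601e601960196016c016c0114011401fa01fa018a018a01fb01fb018b018b016c016c0115011501e701e70197019701710171010801080182018201f201f2011c011c01650165019e019e01ee01ee01010101017801780101010101790179019e019e01ee01ee011c011c016401640182018201f201f201f001f0019e019e01010101017b017b01ed01ed01830183011d011d01660166011d011d0167016701ed01ed0183018301010101017a017a01f001f0019e019e0166016601010101019f019f01ed01ed017b017b011c011c0183018301f001f00183018301f001f0017a017a011c011c019f019f01ed01ed0167016701010101011d011d01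7901790182018201ee01ee0101010101640164019f019f01f201f2019f019f01f201f201010101016501650182018201ee01ee011d011d01780178019f019f01ef01ef01090109017001700182018201f201f201150115016c016c01140114016c016c0182018201f201f20108010801700170019f019f01ef01ef01ed01ed01830183010901090173017301f101f1019f019f01150115016e016e01140114016e016e01f101f1019f019f010801080173017301ed01ed01830183016e016e010801080183018301f101f10173017301150115019e019e01ed01ed019e019e01ed01ed01730173011401140183018301f101f1016e016e0109010901090109016c016c019e019e01f201f201140114017001700182018201ef01ef0182018201ef01ef0115011501700170019e019e01f201f201080108016c016c01fa01fa01960196016501650100010001e601e6018b018b01780178011c011c01790179011c011c01e701e7018a018a016401640100010001fb01fb019701970197019701e501e5017b017b011d011d018a018a01f901f901660166010001000167016701000100018b018b01f801f8017a017a011d011d0196019601e401e4011c011c0166016601f901f90197019701000100017b017b01e501e5018b018b01e401e4018a018a01000100017a0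17a01f801f801960196011c011c01670167017901790100010001e701e70197019701640164011d011d01fb01fb018b018b01fa01fa018a018a01650165011d011d01e601e60196019601780178010001000081008100890089008100810089008900810081008800880081008100880088008100810089008900810081008900890081008100880088008100810088008800f300f300fa00fa00f300f300fa00fa00f200f200fa00fa00f200f200fa00fa00f200f200fb00fb00f200f200fb00fb00f300f300fb00fb00f300f300fb00fb00e700e700ee00ee00e700e700ee00ee00e600e600ee00ee00e600e600ee00ee00e700e700ee00ee00e700e700ee00ee00e600e600ee00ee00e600e600ee00ee008100810089008900810081008900890081008100880088008100810088008800810081008900890081008100890089008100810088008800810081008800880089008900800080008900890080008000880088008000800088008800800080008900890080008000890089008000800088008800800080008800880080008000e600e600ef00ef00e600e600ef00ef00e700e700ef00ef00e700e700ef00ef00e600e600ef00ef00e600e600ef00ef00e700e700ef00ef00e700e700ef00ef00f300f300fa00fa00f300f300fa00fa00f200f200fa00fa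00f200f200fa00fa00f200f200fb00fb00f200f200fb00fb00f300f300fb00fb00f300f300fb00fb00890089008000800089008900800080008800880080008000880088008000800089008900800080008900890080008000880088008000800088008800800080004800480055005500430043005e005e0054005400480048005f005f00430043005e005e00420042005400540048004800420042005f005f0048004800550055004b004b0056005600410041005c005c00560056004a004a005c005c00400040005d005d0041004100560056004a004a00400040005d005d004b004b0056005600430043005f005f0048004800540054005e005e0043004300550055004800480055005500480048005f005f00420042004800480054005400420042005e005e005d005d0041004100560056004a004a00400040005d005d004b004b00560056004b004b0056005600410041005c005c00560056004a004a005c005c0040004000200020002000200022002200220022003c003c003c003c003e003e003e003e003e003e003e003e003c003c003c003c0022002200220022002000200020002000200020002000200022002200220022003c003c003c003c003e003e003e003e003e003e003e003e003c003c003c003c002200220022002200200020002000200010001000110011001100110010001000100010001100110011001100100010001000100011001100110011001000100010001000110011001100110010001000080008000900090008000800090009000900090008000800090009000800080004000400040004000400040004000400020002000200020001000100000000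
noncomputable def c16 : Node :=
  (Node.st (nat_lit 0) (nat_lit 4) (nat_lit 0) (Node.sp (nat_lit 1) (Node.lf (Leaf.pt (nat_lit 10) (nat_lit 1) [nat_lit 8,nat_lit 4])) (Node.sp (nat_lit 2) (Node.lf (Leaf.pt (nat_lit 10) (nat_lit 2) [nat_lit 36,nat_lit 1])) (Node.st (nat_lit 0) (nat_lit 2) (nat_lit 0) (Node.sp (nat_lit 28) (Node.lf (Leaf.pt (nat_lit 10) (nat_lit 28) [nat_lit 40,nat_lit 1])) (Node.st (nat_lit 0) (nat_lit 28) (nat_lit 0) (Node.sp (nat_lit 32) (Node.lf (Leaf.pt (nat_lit 10) (nat_lit 32) [nat_lit 78,nat_lit 1])) (Node.st (nat_lit 0) (nat_lit 32) (nat_lit 0) (Node.sp (nat_lit 33) (Node.lf (Leaf.pt (nat_lit 10) (nat_lit 33) [nat_lit 78,nat_lit 1])) (Node.st (nat_lit 0) (nat_lit 33) (nat_lit 0) (Node.ext [] (nat_lit 4) [Ins.fr [nat_lit 0],Ins.fr [nat_lit 1],Ins.fr [nat_lit 0,nat_lit 0,nat_lit 2],Ins.fr [nat_lit 0],Ins.fr [nat_lit 0,nat_lit 0,nat_lit 3,nat_lit 2,nat_lit 4],Ins.fr [nat_lit 0,nat_lit 1,nat_lit 4,nat_lit 0],Ins.df [nat_lit 4,nat_lit 4],Ins.df [nat_lit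 6,nat_lit 6],Ins.df [nat_lit 4,nat_lit 3],Ins.df [nat_lit 0,nat_lit 1,nat_lit 0]] [nat_lit 128,nat_lit 130,nat_lit 16,nat_lit 96,nat_lit 32,nat_lit 256] [nat_lit 3,nat_lit 0,nat_lit 10,nat_lit 2,nat_lit 7,nat_lit 5,nat_lit 1,nat_lit 9,nat_lit 4] (Srch.ex0 [nat_lit 128,nat_lit 8,nat_lit 4,nat_lit 2,nat_lit 1] Srch.nil) Node.done)))))))))))
theorem ok16 : nodeOK DB PT 16 t16 (nat_lit 0x30000300000000000000000c0c00000c0cc0c00c0330c0f000000ff0c3ccff) (nat_lit 0x1100000000000000000011000000000000000000000000000000000000000000000000000000000000000000001100000011000000000000000000000011000000110011000000110000000000110000000011001100001100000022220000000000000000000000002222222200001100001111001100334433ff) c16 = true := by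
  decide +kernel
noncomputable def t17 : ℕ := nat_lit 0x1fa01fa01960196016d016d0108010801e601e6018b018b0170017001140114017001700115011501e701e7018a018a016d016d0109010901fb01fb019701970197019701e501e5016e016e01080108018a018a01f901f901720172011401140172017201150115018b018b01f801f8016e016e010901090196019601e401e4010901090172017201f901f90197019701140114016e016e01e501e5018b018b01e401e4018a018a01150115016e016e01f801f8019601960108010801720172017001700108010801e701e701970197016d016d0115011501fb01fb018b018b01fa01fa018a018a016d016d0114011401e601e60196019601700170010901090183018301f301f3011d011d01640164019f019f01ef01ef01000100017901790100010001780178019f019f01ef01ef011d011d016501650183018301f301f301f101f1019f019f01000100017a017a01ec01ec01820182011c011c01670167011c011c0166016601ec01ec0182018201000100017b017b01f101f1019f019f0167016701000100019e019e01ec01ec017a017a011d011d0182018201f101f10182018201f101f1017b017b011d011d019e019e01ec01ec0166016601000100011c011c017801780183018301e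f01ef0100010001650165019e019e01f301f3019e019e01f301f301000100016401640183018301ef01ef011c011c01790179019f019f01ef01ef01090109017001700182018201f201f201150115016c016c01140114016c016c0182018201f201f20108010801700170019f019f01ef01ef01ed01ed01830183010901090173017301f101f1019f019f01150115016e016e01140114016e016e01f101f1019f019f010801080173017301ed01ed01830183016e016e010801080183018301f101f10173017301150115019e019e01ed01ed019e019e01ed01ed01730173011401140183018301f101f1016e016e0109010901090109016c016c019e019e01f201f201140114017001700182018201ef01ef0182018201ef01ef0115011501700170019e019e01f201f201080108016c016c01fa01fa01960196016501650100010001e601e6018b018b01780178011c011c01790179011c011c01e701e7018a018a016401640100010001fb01fb019701970197019701e501e5017b017b011d011d018a018a01f901f901660166010001000167016701000100018b018b01f801f8017a017a011d011d0196019601e401e4011c011c0166016601f901f90197019701000100017b017b01e501e5018b018b01e401e4018a018a01000100017a017a01f801f8019601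96011c011c01670167017901790100010001e701e70197019701640164011d011d01fb01fb018b018b01fa01fa018a018a01650165011d011d01e601e60196019601780178010001000081008100890089008100810089008900810081008800880081008100880088008100810089008900810081008900890081008100880088008100810088008800f300f300fa00fa00f300f300fa00fa00f200f200fa00fa00f200f200fa00fa00f200f200fb00fb00f200f200fb00fb00f300f300fb00fb00f300f300fb00fb00e700e700ee00ee00e700e700ee00ee00e600e600ee00ee00e600e600ee00ee00e700e700ee00ee00e700e700ee00ee00e600e600ee00ee00e600e600ee00ee008100810089008900810081008900890081008100880088008100810088008800810081008900890081008100890089008100810088008800810081008800880089008900800080008900890080008000880088008000800088008800800080008900890080008000890089008000800088008800800080008800880080008000e600e600ef00ef00e600e600ef00ef00e700e700ef00ef00e700e700ef00ef00e600e600ef00ef00e600e600ef00ef00e700e700ef00ef00e700e700ef00ef00f300f300fa00fa00f300f300fa00fa00f200f200fa00fa00f200f200fa00fa0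0f200f200fb00fb00f200f200fb00fb00f300f300fb00fb00f300f300fb00fb00890089008000800089008900800080008800880080008000880088008000800089008900800080008900890080008000880088008000800088008800800080004800480055005500430043005e005e0054005400480048005f005f00430043005e005e00420042005400540048004800420042005f005f0048004800550055004b004b0056005600410041005c005c00560056004a004a005c005c00400040005d005d0041004100560056004a004a00400040005d005d004b004b0056005600430043005f005f0048004800540054005e005e0043004300550055004800480055005500480048005f005f00420042004800480054005400420042005e005e005d005d0041004100560056004a004a00400040005d005d004b004b00560056004b004b0056005600410041005c005c00560056004a004a005c005c0040004000200020002000200022002200220022003c003c003c003c003e003e003e003e003e003e003e003e003c003c003c003c0022002200220022002000200020002000200020002000200022002200220022003c003c003c003c003e003e003e003e003e003e003e003e003c003c003c003c002200220022002200200020002000200010001000110011001100110010001000100010001100110011001100100010001000100011001100110011001000100010001000110011001100110010001000080008000900090008000800090009000900090008000800090009000800080004000400040004000400040004000400020002000200020001000100000000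
noncomputable def c17 : Node :=
  (Node.st (nat_lit 0) (nat_lit 4) (nat_lit 0) (Node.sp (nat_lit 1) (Node.lf (Leaf.pt (nat_lit 10) (nat_lit 1) [nat_lit 8,nat_lit 4])) (Node.sp (nat_lit 2) (Node.lf (Leaf.pt (nat_lit 10) (nat_lit 2) [nat_lit 36,nat_lit 1])) (Node.st (nat_lit 0) (nat_lit 2) (nat_lit 0) (Node.sp (nat_lit 28) (Node.lf (Leaf.pt (nat_lit 10) (nat_lit 28) [nat_lit 40,nat_lit 1])) (Node.st (nat_lit 0) (nat_lit 28) (nat_lit 0) (Node.sp (nat_lit 32) (Node.lf (Leaf.pt (nat_lit 10) (nat_lit 32) [nat_lit 78,nat_lit 1])) (Node.st (nat_lit 0) (nat_lit 32) (nat_lit 0) (Node.sp (nat_lit 33) (Node.lf (Leaf.pt (nat_lit 10) (nat_lit 33) [nat_lit 78,nat_lit 1])) (Node.st (nat_lit 0) (nat_lit 33) (nat_lit 0) (Node.sp (nat_lit 266) (Node.lf (Leaf.pt (nat_lit 10) (nat_lit 266) [nat_lit 108,nat_lit 1])) (Node.st (nat_lit 0) (nat_lit 266) (nat_lit 0) (Node.sp (nat_lit 288) (Node.lf (Leaf.pt (nat_lit 14) (nat_lit 288) [nat_lit 1,nat_lit 28,nat_lit 76])) (Node.st (nat_lit 0) (nat_lit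 288) (nat_lit 0) (Node.ext [] (nat_lit 4) [Ins.fr [nat_lit 0],Ins.fr [nat_lit 1],Ins.fr [nat_lit 0,nat_lit 0,nat_lit 2],Ins.fr [nat_lit 0],Ins.fr [nat_lit 0,nat_lit 0,nat_lit 3,nat_lit 2,nat_lit 4],Ins.fr [nat_lit 0,nat_lit 1,nat_lit 4,nat_lit 0],Ins.df [nat_lit 4,nat_lit 4],Ins.df [nat_lit 6,nat_lit 6],Ins.df [nat_lit 4,nat_lit 3],Ins.df [nat_lit 0,nat_lit 1,nat_lit 0]] [nat_lit 128,nat_lit 130,nat_lit 16,nat_lit 96,nat_lit 32,nat_lit 256] [nat_lit 3,nat_lit 0,nat_lit 10,nat_lit 2,nat_lit 7,nat_lit 5,nat_lit 1,nat_lit 9,nat_lit 4] (Srch.ex0 [nat_lit 128,nat_lit 8,nat_lit 4,nat_lit 2,nat_lit 1] Srch.nil) Node.done)))))))))))))))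
theorem ok17 : nodeOK DB PT 17 t17 (nat_lit 0x330000c0cc0c03030030330000003000cc0000c0cc0c03030030300c00c000030000300000000000000000c0c00000c0cc0c00c0330c0f000000ff0c3ccff) (nat_lit 0x1100110000000000000000110000001100110000001100000000110000001100000000001100000011001100000000000000000000000000110000000000001100110000000000000000001100000011001100000011000000001100000011000000000011000000110000000011000000000011000000000000000000001100000000000000000011000000000000000000000000000000000000000000000000000000000000000000001100000011000000000000000000000011000000110011000000110000000000110000000011001100001100000022220000000000000000000000002222222200001100001111001100334433ff) c17 = true := by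
  decide +kernel
noncomputable def t18 : ℕ := nat_lit 0x1fb01fb01960196016c016c0108010801e701e7018b018b0171017101140114017101710115011501e601e6018a018a016c016c0109010901fa01fa01970197018b018b01f801f801730173011501150197019701e501e5016e016e01080108016e016e010901090196019601e401e40173017301140114018a018a01f901f901150115016e016e01e501e5018a018a010901090173017301f801f80197019701f901f901960196010801080173017301e401e4018b018b01140114016e016e017101710108010801e601e601970197016c016c0115011501fa01fa018b018b01fb01fb018a018a016c016c0114011401e701e70196019601710171010901090183018301f201f2011d011d01650165019f019f01ee01ee01000100017801780100010001790179019f019f01ee01ee011d011d016401640183018301f201f201ed01ed01820182011c011c0166016601f101f1019e019e01010101017a017a01010101017b017b01f101f1019e019e011c011c0167016701ed01ed01820182017a017a011d011d0182018201f101f10166016601010101019f019f01ed01ed019f019f01ed01ed01670167010101010182018201f101f1017b017b011d011d011c011c017901790183018301e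e01ee0100010001640164019e019e01f201f2019e019e01f201f201000100016501650183018301ee01ee011c011c01780178019f019f01ee01ee01090109017101710182018201f301f301150115016d016d01140114016d016d0182018201f301f30108010801710171019f019f01ee01ee01f101f1019e019e01140114016e016e01ec01ec018301830109010901720172010801080172017201ec01ec0183018301150115016e016e01f101f1019e019e0172017201140114019f019f01ec01ec016e016e010801080183018301f101f10183018301f101f1016e016e01090109019f019f01ec01ec017201720115011501090109016d016d019e019e01f301f301140114017101710182018201ee01ee0182018201ee01ee0115011501710171019e019e01f301f301080108016d016d01fb01fb01960196016401640100010001e701e7018b018b01790179011c011c01780178011c011c01e601e6018a018a016501650100010001fa01fa01970197018b018b01f801f801670167010101010197019701e501e5017b017b011d011d017a017a011d011d0196019601e401e40166016601010101018a018a01f901f901010101017b017b01e501e5018a018a011c011c0167016701f801f80197019701f901f901960196011c011c0166016601e401e4018b01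8b01010101017a017a017801780100010001e601e60197019701650165011d011d01fa01fa018b018b01fb01fb018a018a01640164011d011d01e701e70196019601790179010001000081008100890089008100810089008900810081008800880081008100880088008100810089008900810081008900890081008100880088008100810088008800f300f300fa00fa00f300f300fa00fa00f200f200fa00fa00f200f200fa00fa00f200f200fb00fb00f200f200fb00fb00f300f300fb00fb00f300f300fb00fb00e700e700ee00ee00e700e700ee00ee00e600e600ee00ee00e600e600ee00ee00e700e700ee00ee00e700e700ee00ee00e600e600ee00ee00e600e600ee00ee008100810089008900810081008900890081008100880088008100810088008800810081008900890081008100890089008100810088008800810081008800880089008900800080008900890080008000880088008000800088008800800080008900890080008000890089008000800088008800800080008800880080008000e600e600ef00ef00e600e600ef00ef00e700e700ef00ef00e700e700ef00ef00e600e600ef00ef00e600e600ef00ef00e700e700ef00ef00e700e700ef00ef00f300f300fa00fa00f300f300fa00fa00f200f200fa00fa00f200f200fa00fa0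0f200f200fb00fb00f200f200fb00fb00f300f300fb00fb00f300f300fb00fb00890089008000800089008900800080008800880080008000880088008000800089008900800080008900890080008000880088008000800088008800800080004800480055005500430043005e005e0054005400480048005f005f00430043005e005e00420042005400540048004800420042005f005f0048004800550055004b004b0056005600410041005c005c00560056004a004a005c005c00400040005d005d0041004100560056004a004a00400040005d005d004b004b0056005600430043005f005f0048004800540054005e005e0043004300550055004800480055005500480048005f005f00420042004800480054005400420042005e005e005d005d0041004100560056004a004a00400040005d005d004b004b00560056004b004b0056005600410041005c005c00560056004a004a005c005c0040004000200020002000200022002200220022003c003c003c003c003e003e003e003e003e003e003e003e003c003c003c003c0022002200220022002000200020002000200020002000200022002200220022003c003c003c003c003e003e003e003e003e003e003e003e003c003c003c003c002200220022002200200020002000200010001000110011001100110010001000100010001100110011001100100010001000100011001100110011001000100010001000110011001100110010001000080008000900090008000800090009000900090008000800090009000800080004000400040004000400040004000400020002000200020001000100000000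
noncomputable def c18 : Node :=
  (Node.st (nat_lit 0) (nat_lit 4) (nat_lit 0) (Node.sp (nat_lit 1) (Node.lf (Leaf.pt (nat_lit 10) (nat_lit 1) [nat_lit 8,nat_lit 4])) (Node.sp (nat_lit 2) (Node.lf (Leaf.pt (nat_lit 10) (nat_lit 2) [nat_lit 36,nat_lit 1])) (Node.st (nat_lit 0) (nat_lit 2) (nat_lit 0) (Node.sp (nat_lit 28) (Node.lf (Leaf.pt (nat_lit 10) (nat_lit 28) [nat_lit 40,nat_lit 1])) (Node.st (nat_lit 0) (nat_lit 28) (nat_lit 0) (Node.sp (nat_lit 32) (Node.lf (Leaf.pt (nat_lit 10) (nat_lit 32) [nat_lit 78,nat_lit 1])) (Node.st (nat_lit 0) (nat_lit 32) (nat_lit 0) (Node.sp (nat_lit 266) (Node.lf (Leaf.pt (nat_lit 10) (nat_lit 266) [nat_lit 42,nat_lit 1])) (Node.st (nat_lit 0) (nat_lit 266) (nat_lit 0) (Node.ext [] (nat_lit 4) [Ins.fr [nat_lit 0],Ins.fr [nat_lit 1],Ins.fr [nat_lit 0,nat_lit 0,nat_lit 2],Ins.fr [nat_lit 0],Ins.fr [nat_lit 0,nat_lit 0,nat_lit 3,nat_lit 2,nat_lit 4],Ins.fr [nat_lit 0,nat_lit 1,nat_lit 4,nat_lit 0],Ins.df [nat_lit 4,nat_lit 4],Ins.df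 [nat_lit 6,nat_lit 6],Ins.df [nat_lit 4,nat_lit 3],Ins.df [nat_lit 0,nat_lit 1,nat_lit 0]] [nat_lit 128,nat_lit 130,nat_lit 16,nat_lit 96,nat_lit 32,nat_lit 256] [nat_lit 3,nat_lit 0,nat_lit 10,nat_lit 2,nat_lit 7,nat_lit 5,nat_lit 1,nat_lit 9,nat_lit 4] (Srch.ex0 [nat_lit 128,nat_lit 8,nat_lit 4,nat_lit 2,nat_lit 1] Srch.nil) Node.done)))))))))))
theorem ok18 : nodeOK DB PT 18 t18 (nat_lit 0x33000000000000000000030000003000cc000000000000000000000c00c000030000300000000000000000c0c00000c0cc0c00c0330c0f000000ff0c3ccff) (nat_lit 0x1100110000000000000000000000000000000000000000000000000000000000000000000000000000001100000000000000000000000000110000000000001100110000000000000000000000000000000000000000000000000000000000000000000000000000000000000011000000000011000000000000000000001100000000000000000011000000000000000000000000000000000000000000000000000000000000000000001100000011000000000000000000000011000000110011000000110000000000110000000011001100001100000022220000000000000000000000002222222200001100001111001100334433ff)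 c18 = true := by
  decide +kernel
noncomputable def t19 : ℕ := nat_lit 0x1fa01fa01970197016d016d0109010901e601e6018a018a0170017001150115017001700114011401e701e7018b018b016d016d0108010801fb01fb01960196018a018a01f901f901720172011401140196019601e401e4016f016f01090109016f016f010801080197019701e501e50172017201150115018b018b01f801f801140114016f016f01e401e4018b018b010801080172017201f901f90196019601f801f801970197010901090172017201e501e5018a018a01150115016f016f017001700109010901e701e701960196016d016d0114011401fb01fb018a018a01fa01fa018b018b016d016d0115011501e601e60197019701700170010801080182018201f301f3011c011c01640164019e019e01ef01ef01010101017901790101010101780178019e019e01ef01ef011c011c016501650182018201f301f301ec01ec01830183011d011d0167016701f001f0019f019f01000100017b017b01000100017a017a01f001f0019f019f011d011d0166016601ec01ec01830183017b017b011c011c0183018301f001f00167016701000100019e019e01ec01ec019e019e01ec01ec01660166010001000183018301f001f0017a017a011c011c011d011d01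7801780182018201ef01ef0101010101650165019f019f01f301f3019f019f01f301f301010101016401640182018201ef01ef011d011d01790179019f019f01ee01ee01090109017101710182018201f301f301150115016d016d01140114016d016d0182018201f301f30108010801710171019f019f01ee01ee01f101f1019e019e01140114016e016e01ec01ec018301830109010901720172010801080172017201ec01ec0183018301150115016e016e01f101f1019e019e0172017201140114019f019f01ec01ec016e016e010801080183018301f101f10183018301f101f1016e016e01090109019f019f01ec01ec017201720115011501090109016d016d019e019e01f301f301140114017101710182018201ee01ee0182018201ee01ee0115011501710171019e019e01f301f301080108016d016d01fb01fb01960196016401640100010001e701e7018b018b01790179011c011c01780178011c011c01e601e6018a018a016501650100010001fa01fa01970197018b018b01f801f801670167010101010197019701e501e5017b017b011d011d017a017a011d011d0196019601e401e40166016601010101018a018a01f901f901010101017b017b01e501e5018a018a011c011c0167016701f801f80197019701f901f901960196011c011c01660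16601e401e4018b018b01010101017a017a017801780100010001e601e60197019701650165011d011d01fa01fa018b018b01fb01fb018a018a01640164011d011d01e701e70196019601790179010001000081008100890089008100810089008900810081008800880081008100880088008100810089008900810081008900890081008100880088008100810088008800f300f300fa00fa00f300f300fa00fa00f200f200fa00fa00f200f200fa00fa00f200f200fb00fb00f200f200fb00fb00f300f300fb00fb00f300f300fb00fb00e700e700ee00ee00e700e700ee00ee00e600e600ee00ee00e600e600ee00ee00e700e700ee00ee00e700e700ee00ee00e600e600ee00ee00e600e600ee00ee008100810089008900810081008900890081008100880088008100810088008800810081008900890081008100890089008100810088008800810081008800880089008900800080008900890080008000880088008000800088008800800080008900890080008000890089008000800088008800800080008800880080008000e600e600ef00ef00e600e600ef00ef00e700e700ef00ef00e700e700ef00ef00e600e600ef00ef00e600e600ef00ef00e700e700ef00ef00e700e700ef00ef00f300f300fa00fa00f300f300fa00fa00f200f200fa00fa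00f200f200fa00fa00f200f200fb00fb00f200f200fb00fb00f300f300fb00fb00f300f300fb00fb00890089008000800089008900800080008800880080008000880088008000800089008900800080008900890080008000880088008000800088008800800080004800480055005500430043005e005e0054005400480048005f005f00430043005e005e00420042005400540048004800420042005f005f0048004800550055004b004b0056005600410041005c005c00560056004a004a005c005c00400040005d005d0041004100560056004a004a00400040005d005d004b004b0056005600430043005f005f0048004800540054005e005e0043004300550055004800480055005500480048005f005f00420042004800480054005400420042005e005e005d005d0041004100560056004a004a00400040005d005d004b004b00560056004b004b0056005600410041005c005c00560056004a004a005c005c0040004000200020002000200022002200220022003c003c003c003c003e003e003e003e003e003e003e003e003c003c003c003c0022002200220022002000200020002000200020002000200022002200220022003c003c003c003c003e003e003e003e003e003e003e003e003c003c003c003c002200220022002200200020002000200010001000110011001100110010001000100010001100110011001100100010001000100011001100110011001000100010001000110011001100110010001000080008000900090008000800090009000900090008000800090009000800080004000400040004000400040004000400020002000200020001000100000000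
noncomputable def c19 : Node :=
  (Node.st (nat_lit 0) (nat_lit 4) (nat_lit 0) (Node.sp (nat_lit 1) (Node.lf (Leaf.pt (nat_lit 10) (nat_lit 1) [nat_lit 8,nat_lit 4])) (Node.sp (nat_lit 2) (Node.lf (Leaf.pt (nat_lit 10) (nat_lit 2) [nat_lit 36,nat_lit 1])) (Node.st (nat_lit 0) (nat_lit 2) (nat_lit 0) (Node.sp (nat_lit 28) (Node.lf (Leaf.pt (nat_lit 10) (nat_lit 28) [nat_lit 40,nat_lit 1])) (Node.st (nat_lit 0) (nat_lit 28) (nat_lit 0) (Node.sp (nat_lit 32) (Node.lf (Leaf.pt (nat_lit 10) (nat_lit 32) [nat_lit 78,nat_lit 1])) (Node.st (nat_lit 0) (nat_lit 32) (nat_lit 0) (Node.ext [] (nat_lit 4) [Ins.fr [nat_lit 0],Ins.fr [nat_lit 1],Ins.fr [nat_lit 0,nat_lit 0,nat_lit 2],Ins.fr [nat_lit 0],Ins.fr [nat_lit 0,nat_lit 0,nat_lit 3,nat_lit 2,nat_lit 4],Ins.fr [nat_lit 0,nat_lit 1,nat_lit 4,nat_lit 0],Ins.df [nat_lit 4,nat_lit 4],Ins.df [nat_lit 6,nat_lit 6],Ins.df [nat_lit 4,nat_lit 3],Ins.df [nat_lit 0,nat_lit 1,nat_lit 0]] [nat_lit 128,nat_lit 130,nat_lit 16,nat_lit 96,nat_lit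 32,nat_lit 256] [nat_lit 3,nat_lit 0,nat_lit 10,nat_lit 2,nat_lit 7,nat_lit 5,nat_lit 1,nat_lit 9,nat_lit 4] (Srch.ex0 [nat_lit 128,nat_lit 8,nat_lit 4,nat_lit 2,nat_lit 1] Srch.nil) Node.done)))))))))
theorem ok19 : nodeOK DB PT 19 t19 (nat_lit 0x30000300000000000000000c0c00000c0cc0c00c0330c0f000000ff0c3ccff) (nat_lit 0x1100000000000000000011000000000000000000000000000000000000000000000000000000000000000000001100000011000000000000000000000011000000110011000000110000000000110000000011001100001100000022220000000000000000000000002222222200001100001111001100334433ff) c19 = true := by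
  decide +kernel
noncomputable def t20 : ℕ := nat_lit 0x1fb01fb01960196016c016c0108010801e701e7018b018b0171017101140114017101710115011501e601e6018a018a016c016c0109010901fa01fa01970197018a018a01f901f901720172011401140196019601e401e4016f016f01090109016f016f010801080197019701e501e50172017201150115018b018b01f801f801140114016f016f01e401e4018b018b010801080172017201f901f90196019601f801f801970197010901090172017201e501e5018a018a01150115016f016f017101710108010801e601e601970197016c016c0115011501fa01fa018b018b01fb01fb018a018a016c016c0114011401e701e70196019601710171010901090183018301f201f2011d011d01650165019f019f01ee01ee01000100017801780100010001790179019f019f01ee01ee011d011d016401640183018301f201f201ec01ec01830183011d011d0167016701f001f0019f019f01000100017b017b01000100017a017a01f001f0019f019f011d011d0166016601ec01ec01830183017b017b011c011c0183018301f001f00167016701000100019e019e01ec01ec019e019e01ec01ec01660166010001000183018301f001f0017a017a011c011c011c011c017901790183018301e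e01ee0100010001640164019e019e01f201f2019e019e01f201f201000100016501650183018301ee01ee011c011c01780178019f019f01ee01ee01090109017101710182018201f301f301150115016d016d01140114016d016d0182018201f301f30108010801710171019f019f01ee01ee01f001f0019f019f01150115016f016f01ed01ed018201820108010801730173010901090173017301ed01ed0182018201140114016f016f01f001f0019f019f0173017301150115019e019e01ed01ed016f016f010901090182018201f001f00182018201f001f0016f016f01080108019e019e01ed01ed017301730114011401090109016d016d019e019e01f301f301140114017101710182018201ee01ee0182018201ee01ee0115011501710171019e019e01f301f301080108016d016d01fb01fb01960196016401640100010001e701e7018b018b01790179011c011c01780178011c011c01e601e6018a018a016501650100010001fa01fa01970197018a018a01f901f901660166010001000196019601e401e4017a017a011c011c017b017b011c011c0197019701e501e50167016701000100018b018b01f801f801000100017a017a01e401e4018b018b011d011d0166016601f901f90196019601f801f801970197011d011d0167016701e501e5018a01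8a01000100017b017b017801780100010001e601e60197019701650165011d011d01fa01fa018b018b01fb01fb018a018a01640164011d011d01e701e70196019601790179010001000081008100890089008100810089008900810081008800880081008100880088008100810089008900810081008900890081008100880088008100810088008800f300f300fa00fa00f300f300fa00fa00f200f200fa00fa00f200f200fa00fa00f200f200fb00fb00f200f200fb00fb00f300f300fb00fb00f300f300fb00fb00e700e700ee00ee00e700e700ee00ee00e600e600ee00ee00e600e600ee00ee00e700e700ee00ee00e700e700ee00ee00e600e600ee00ee00e600e600ee00ee008100810089008900810081008900890081008100880088008100810088008800810081008900890081008100890089008100810088008800810081008800880089008900800080008900890080008000880088008000800088008800800080008900890080008000890089008000800088008800800080008800880080008000e600e600ef00ef00e600e600ef00ef00e700e700ef00ef00e700e700ef00ef00e600e600ef00ef00e600e600ef00ef00e700e700ef00ef00e700e700ef00ef00f300f300fa00fa00f300f300fa00fa00f200f200fa00fa00f200f200fa00fa0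0f200f200fb00fb00f200f200fb00fb00f300f300fb00fb00f300f300fb00fb00890089008000800089008900800080008800880080008000880088008000800089008900800080008900890080008000880088008000800088008800800080004800480055005500430043005e005e0054005400480048005f005f00430043005e005e00420042005400540048004800420042005f005f0048004800550055004b004b0056005600410041005c005c00560056004a004a005c005c00400040005d005d0041004100560056004a004a00400040005d005d004b004b0056005600430043005f005f0048004800540054005e005e0043004300550055004800480055005500480048005f005f00420042004800480054005400420042005e005e005d005d0041004100560056004a004a00400040005d005d004b004b00560056004b004b0056005600410041005c005c00560056004a004a005c005c0040004000200020002000200022002200220022003c003c003c003c003e003e003e003e003e003e003e003e003c003c003c003c0022002200220022002000200020002000200020002000200022002200220022003c003c003c003c003e003e003e003e003e003e003e003e003c003c003c003c002200220022002200200020002000200010001000110011001100110010001000100010001100110011001100100010001000100011001100110011001000100010001000110011001100110010001000080008000900090008000800090009000900090008000800090009000800080004000400040004000400040004000400020002000200020001000100000000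
noncomputable def c20 : Node :=
  (Node.st (nat_lit 0) (nat_lit 4) (nat_lit 0) (Node.sp (nat_lit 1) (Node.lf (Leaf.pt (nat_lit 10) (nat_lit 1) [nat_lit 8,nat_lit 4])) (Node.sp (nat_lit 2) (Node.lf (Leaf.pt (nat_lit 10) (nat_lit 2) [nat_lit 36,nat_lit 1])) (Node.st (nat_lit 0) (nat_lit 2) (nat_lit 0) (Node.sp (nat_lit 28) (Node.lf (Leaf.pt (nat_lit 10) (nat_lit 28) [nat_lit 40,nat_lit 1])) (Node.st (nat_lit 0) (nat_lit 28) (nat_lit 0) (Node.sp (nat_lit 32) (Node.lf (Leaf.pt (nat_lit 10) (nat_lit 32) [nat_lit 78,nat_lit 1])) (Node.st (nat_lit 0) (nat_lit 32) (nat_lit 0) (Node.sp (nat_lit 33) (Node.lf (Leaf.pt (nat_lit 10) (nat_lit 33) [nat_lit 78,nat_lit 1])) (Node.st (nat_lit 0) (nat_lit 33) (nat_lit 0) (Node.sp (nat_lit 266) (Node.lf (Leaf.pt (nat_lit 10) (nat_lit 266) [nat_lit 108,nat_lit 1])) (Node.st (nat_lit 0) (nat_lit 266) (nat_lit 0) (Node.ext [] (nat_lit 4) [Ins.fr [nat_lit 0],Ins.fr [nat_lit 1],Ins.fr [nat_lit 0,nat_lit 0,nat_lit 2],Ins.fr [nat_lit 0],Ins.fr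 [nat_lit 0,nat_lit 0,nat_lit 3,nat_lit 2,nat_lit 4],Ins.fr [nat_lit 0,nat_lit 1,nat_lit 4,nat_lit 0],Ins.df [nat_lit 4,nat_lit 4],Ins.df [nat_lit 6,nat_lit 6],Ins.df [nat_lit 4,nat_lit 3],Ins.df [nat_lit 0,nat_lit 1,nat_lit 0]] [nat_lit 128,nat_lit 130,nat_lit 16,nat_lit 96,nat_lit 32,nat_lit 256] [nat_lit 3,nat_lit 0,nat_lit 10,nat_lit 2,nat_lit 7,nat_lit 5,nat_lit 1,nat_lit 9,nat_lit 4] (Srch.ex0 [nat_lit 128,nat_lit 8,nat_lit 4,nat_lit 2,nat_lit 1] Srch.nil) Node.done)))))))))))))
theorem ok20 : nodeOK DB PT 20 t20 (nat_lit 0x33000000000000000000030000003000cc000000000000000000000c00c000030000300000000000000000c0c00000c0cc0c00c0330c0f000000ff0c3ccff) (nat_lit 0x1100110000000000000000000000000000000000000000000000000000000000000000000000000000001100000000000000000000000000110000000000001100110000000000000000000000000000000000000000000000000000000000000000000000000000000000000011000000000011000000000000000000001100000000000000000011000000000000000000000000000000000000000000000000000000000000000000001100000011000000000000000000000011000000110011000000110000000000110000000011001100001100000022220000000000000000000000002222222200001100001111001100334433ff)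 c20 = true := by
  decide +kernel
noncomputable def t21 : ℕ := nat_lit 0x1fa01fa01970197016d016d0109010901e601e6018a018a0170017001150115017001700114011401e701e7018b018b016d016d0108010801fb01fb01960196018b018b01f801f801730173011501150197019701e501e5016e016e01080108016e016e010901090196019601e401e40173017301140114018a018a01f901f901150115016e016e01e501e5018a018a010901090173017301f801f80197019701f901f901960196010801080173017301e401e4018b018b01140114016e016e017001700109010901e701e701960196016d016d0114011401fb01fb018a018a01fa01fa018b018b016d016d0115011501e601e60197019701700170010801080182018201f301f3011c011c01640164019e019e01ef01ef01010101017901790101010101780178019e019e01ef01ef011c011c016501650182018201f301f301ed01ed01820182011c011c0166016601f101f1019e019e01010101017a017a01010101017b017b01f101f1019e019e011c011c0167016701ed01ed01820182017a017a011d011d0182018201f101f10166016601010101019f019f01ed01ed019f019f01ed01ed01670167010101010182018201f101f1017b017b011d011d011d011d01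7801780182018201ef01ef0101010101650165019f019f01f301f3019f019f01f301f301010101016401640182018201ef01ef011d011d01790179019f019f01ee01ee01090109017101710182018201f301f301150115016d016d01140114016d016d0182018201f301f30108010801710171019f019f01ee01ee01f001f0019f019f01150115016f016f01ed01ed018201820108010801730173010901090173017301ed01ed0182018201140114016f016f01f001f0019f019f0173017301150115019e019e01ed01ed016f016f010901090182018201f001f00182018201f001f0016f016f01080108019e019e01ed01ed017301730114011401090109016d016d019e019e01f301f301140114017101710182018201ee01ee0182018201ee01ee0115011501710171019e019e01f301f301080108016d016d01fb01fb01960196016401640100010001e701e7018b018b01790179011c011c01780178011c011c01e601e6018a018a016501650100010001fa01fa01970197018a018a01f901f901660166010001000196019601e401e4017a017a011c011c017b017b011c011c0197019701e501e50167016701000100018b018b01f801f801000100017a017a01e401e4018b018b011d011d0166016601f901f90196019601f801f801970197011d011d01670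16701e501e5018a018a01000100017b017b017801780100010001e601e60197019701650165011d011d01fa01fa018b018b01fb01fb018a018a01640164011d011d01e701e70196019601790179010001000081008100890089008100810089008900810081008800880081008100880088008100810089008900810081008900890081008100880088008100810088008800f300f300fa00fa00f300f300fa00fa00f200f200fa00fa00f200f200fa00fa00f200f200fb00fb00f200f200fb00fb00f300f300fb00fb00f300f300fb00fb00e700e700ee00ee00e700e700ee00ee00e600e600ee00ee00e600e600ee00ee00e700e700ee00ee00e700e700ee00ee00e600e600ee00ee00e600e600ee00ee008100810089008900810081008900890081008100880088008100810088008800810081008900890081008100890089008100810088008800810081008800880089008900800080008900890080008000880088008000800088008800800080008900890080008000890089008000800088008800800080008800880080008000e600e600ef00ef00e600e600ef00ef00e700e700ef00ef00e700e700ef00ef00e600e600ef00ef00e600e600ef00ef00e700e700ef00ef00e700e700ef00ef00f300f300fa00fa00f300f300fa00fa00f200f200fa00fa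00f200f200fa00fa00f200f200fb00fb00f200f200fb00fb00f300f300fb00fb00f300f300fb00fb00890089008000800089008900800080008800880080008000880088008000800089008900800080008900890080008000880088008000800088008800800080004800480055005500430043005e005e0054005400480048005f005f00430043005e005e00420042005400540048004800420042005f005f0048004800550055004b004b0056005600410041005c005c00560056004a004a005c005c00400040005d005d0041004100560056004a004a00400040005d005d004b004b0056005600430043005f005f0048004800540054005e005e0043004300550055004800480055005500480048005f005f00420042004800480054005400420042005e005e005d005d0041004100560056004a004a00400040005d005d004b004b00560056004b004b0056005600410041005c005c00560056004a004a005c005c0040004000200020002000200022002200220022003c003c003c003c003e003e003e003e003e003e003e003e003c003c003c003c0022002200220022002000200020002000200020002000200022002200220022003c003c003c003c003e003e003e003e003e003e003e003e003c003c003c003c002200220022002200200020002000200010001000110011001100110010001000100010001100110011001100100010001000100011001100110011001000100010001000110011001100110010001000080008000900090008000800090009000900090008000800090009000800080004000400040004000400040004000400020002000200020001000100000000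
noncomputable def c21 : Node :=
  (Node.st (nat_lit 0) (nat_lit 4) (nat_lit 0) (Node.sp (nat_lit 1) (Node.lf (Leaf.pt (nat_lit 10) (nat_lit 1) [nat_lit 8,nat_lit 4])) (Node.sp (nat_lit 2) (Node.lf (Leaf.pt (nat_lit 10) (nat_lit 2) [nat_lit 36,nat_lit 1])) (Node.st (nat_lit 0) (nat_lit 2) (nat_lit 0) (Node.sp (nat_lit 28) (Node.lf (Leaf.pt (nat_lit 10) (nat_lit 28) [nat_lit 40,nat_lit 1])) (Node.st (nat_lit 0) (nat_lit 28) (nat_lit 0) (Node.sp (nat_lit 32) (Node.lf (Leaf.pt (nat_lit 10) (nat_lit 32) [nat_lit 78,nat_lit 1])) (Node.st (nat_lit 0) (nat_lit 32) (nat_lit 0) (Node.sp (nat_lit 33) (Node.lf (Leaf.pt (nat_lit 10) (nat_lit 33) [nat_lit 78,nat_lit 1])) (Node.st (nat_lit 0) (nat_lit 33) (nat_lit 0) (Node.ext [] (nat_lit 4) [Ins.fr [nat_lit 0],Ins.fr [nat_lit 1],Ins.fr [nat_lit 0,nat_lit 0,nat_lit 2],Ins.fr [nat_lit 0],Ins.fr [nat_lit 0,nat_lit 0,nat_lit 3,nat_lit 2,nat_lit 4],Ins.fr [nat_lit 0,nat_lit 1,nat_lit 4,nat_lit 0],Ins.df [nat_lit 4,nat_lit 4],Ins.df [nat_lit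 6,nat_lit 6],Ins.df [nat_lit 4,nat_lit 3],Ins.df [nat_lit 0,nat_lit 1,nat_lit 0]] [nat_lit 128,nat_lit 130,nat_lit 16,nat_lit 96,nat_lit 32,nat_lit 256] [nat_lit 3,nat_lit 0,nat_lit 10,nat_lit 2,nat_lit 7,nat_lit 5,nat_lit 1,nat_lit 9,nat_lit 4] (Srch.ex0 [nat_lit 128,nat_lit 8,nat_lit 4,nat_lit 2,nat_lit 1] Srch.nil) Node.done)))))))))))
theorem ok21 : nodeOK DB PT 21 t21 (nat_lit 0x30000300000000000000000c0c00000c0cc0c00c0330c0f000000ff0c3ccff) (nat_lit 0x1100000000000000000011000000000000000000000000000000000000000000000000000000000000000000001100000011000000000000000000000011000000110011000000110000000000110000000011001100001100000022220000000000000000000000002222222200001100001111001100334433ff) c21 = true := by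
  decide +kernel
noncomputable def t22 : ℕ := nat_lit 0x81008100890089008100810089008900810081008800880081008100880088008100810089008900810081008900890081008100880088008100810088008800f300f300fa00fa00f300f300fa00fa00f200f200fa00fa00f200f200fa00fa00f200f200fb00fb00f200f200fb00fb00f300f300fb00fb00f300f300fb00fb00e700e700ee00ee00e700e700ee00ee00e600e600ee00ee00e600e600ee00ee00e700e700ee00ee00e700e700ee00ee00e600e600ee00ee00e600e600ee00ee008100810089008900810081008900890081008100880088008100810088008800810081008900890081008100890089008100810088008800810081008800880089008900800080008900890080008000880088008000800088008800800080008900890080008000890089008000800088008800800080008800880080008000e600e600ef00ef00e600e600ef00ef00e700e700ef00ef00e700e700ef00ef00e600e600ef00ef00e600e600ef00ef00e700e700ef00ef00e700e700ef00ef00f300f300fa00fa00f300f300fa00fa00f200f200fa00fa00f200f200fa00fa00f200f200fb00fb00f200f200fb00fb00f300f300fb00fb00f300f300fb00fb0089008900800080008900890080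0080008800880080008000880088008000800089008900800080008900890080008000880088008000800088008800800080004800480055005500430043005e005e0054005400480048005f005f00430043005e005e00420042005400540048004800420042005f005f0048004800550055004b004b0056005600410041005c005c00560056004a004a005c005c00400040005d005d0041004100560056004a004a00400040005d005d004b004b0056005600430043005f005f0048004800540054005e005e0043004300550055004800480055005500480048005f005f00420042004800480054005400420042005e005e005d005d0041004100560056004a004a00400040005d005d004b004b00560056004b004b0056005600410041005c005c00560056004a004a005c005c0040004000200020002000200022002200220022003c003c003c003c003e003e003e003e003e003e003e003e003c003c003c003c0022002200220022002000200020002000200020002000200022002200220022003c003c003c003c003e003e003e003e003e003e003e003e003c003c003c003c002200220022002200200020002000200010001000110011001100110010001000100010001100110011001100100010001000100011001100110011001000100010001000110011001100110010001000080008000900090008000800090009000900090008000800090009000800080004000400040004000400040004000400020002000200020001000100000000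
noncomputable def c22 : Node :=
  (Node.st (nat_lit 0) (nat_lit 4) (nat_lit 0) (Node.sp (nat_lit 1) (Node.lf (Leaf.pt (nat_lit 10) (nat_lit 1) [nat_lit 8,nat_lit 4])) (Node.sp (nat_lit 2) (Node.lf (Leaf.pt (nat_lit 10) (nat_lit 2) [nat_lit 36,nat_lit 1])) (Node.st (nat_lit 0) (nat_lit 2) (nat_lit 0) (Node.sp (nat_lit 28) (Node.lf (Leaf.pt (nat_lit 10) (nat_lit 28) [nat_lit 40,nat_lit 1])) (Node.st (nat_lit 0) (nat_lit 28) (nat_lit 0) (Node.sp (nat_lit 32) (Node.lf (Leaf.pt (nat_lit 10) (nat_lit 32) [nat_lit 78,nat_lit 1])) (Node.st (nat_lit 0) (nat_lit 32) (nat_lit 0) (Node.sp (nat_lit 33) (Node.lf (Leaf.pt (nat_lit 10) (nat_lit 33) [nat_lit 78,nat_lit 1])) (Node.st (nat_lit 0) (nat_lit 33) (nat_lit 0) (Node.sp (nat_lit 102) (Node.lf (Leaf.pt (nat_lit 10) (nat_lit 102) [nat_lit 166,nat_lit 1])) (Node.st (nat_lit 0) (nat_lit 102) (nat_lit 0) (Node.ext [] (nat_lit 4) [Ins.fr [nat_lit 0],Ins.ts (nat_lit 1) [nat_lit 0,nat_lit 0] [],Ins.ts (nat_lit 1) [nat_lit 0,nat_lit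 0,nat_lit 0,nat_lit 0] [],Ins.fr [nat_lit 1],Ins.ts (nat_lit 1) [nat_lit 0,nat_lit 0] [],Ins.ts (nat_lit 0) [nat_lit 1,nat_lit 1,nat_lit 1,nat_lit 0] [nat_lit 0,nat_lit 1],Ins.ts (nat_lit 2) [nat_lit 1,nat_lit 0,nat_lit 2] [],Ins.fr [nat_lit 0,nat_lit 0,nat_lit 2],Ins.ts (nat_lit 2) [nat_lit 0] [],Ins.ts (nat_lit 0) [nat_lit 0,nat_lit 0] [],Ins.ts (nat_lit 0) [nat_lit 2,nat_lit 0] [nat_lit 0,nat_lit 2],Ins.fr [nat_lit 0],Ins.ts (nat_lit 0) [nat_lit 0,nat_lit 3,nat_lit 3,nat_lit 0] [],Ins.fr [nat_lit 0,nat_lit 0,nat_lit 3,nat_lit 2,nat_lit 4],Ins.ts (nat_lit 0) [nat_lit 0,nat_lit 0] [],Ins.ts (nat_lit 0) [nat_lit 4,nat_lit 0,nat_lit 4] [nat_lit 0,nat_lit 1,nat_lit 2],Ins.df [nat_lit 3,nat_lit 3],Ins.df [nat_lit 5,nat_lit 5],Ins.df [nat_lit 3,nat_lit 2],Ins.df [nat_lit 0,nat_lit 1,nat_lit 0]] [nat_lit 128,nat_lit 130,nat_lit 16,nat_lit 96,nat_lit 32] [nat_lit 3,nat_lit 0,nat_lit 9,nat_lit 2,nat_lit 6,nat_lit 4,nat_lit 1,nat_lit 8] (Srch.ex0 [nat_lit 128,nat_lit 8,nat_lit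 4,nat_lit 2,nat_lit 1] (Srch.rep (nat_lit 146) [nat_lit 12] [nat_lit 134,nat_lit 98,nat_lit 20,nat_lit 12,nat_lit 1] [nat_lit 32,nat_lit 2,nat_lit 4] (Srch.rep (nat_lit 98) [nat_lit 20,nat_lit 98] [] [] (Srch.rep (nat_lit 12) [] [] [] Srch.nil Srch.nil) (Srch.rep (nat_lit 99) [nat_lit 20,nat_lit 98] [] [] (Srch.rep (nat_lit 12) [] [] [] Srch.nil Srch.nil) (Srch.rep (nat_lit 236) [nat_lit 20,nat_lit 98] [] [] (Srch.rep (nat_lit 138) [nat_lit 146] [] [] (Srch.rep (nat_lit 155) [] [] [] (Srch.rep (nat_lit 247) [] [] [] (Srch.rep (nat_lit 70) [] [] [] (Srch.fin [nat_lit 64] [nat_lit 0] (((nat_lit 100),(Leaf.mp (nat_lit 14) [nat_lit 1,nat_lit 2,nat_lit 4,nat_lit 8,nat_lit 16,nat_lit 32,nat_lit 64,nat_lit 128,nat_lit 256] []))::(((nat_lit 101),(Leaf.mp (nat_lit 15) [nat_lit 1,nat_lit 2,nat_lit 4,nat_lit 8,nat_lit 16,nat_lit 32,nat_lit 64,nat_lit 128,nat_lit 256] []))::[]))) (Srch.rep (nat_lit 71) [] [] [] (Srch.fin [nat_lit 64] [nat_lit 0] (((nat_lit 100),(Leaf.mp (nat_lit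 16) [nat_lit 1,nat_lit 2,nat_lit 4,nat_lit 8,nat_lit 16,nat_lit 32,nat_lit 64,nat_lit 128,nat_lit 256] []))::(((nat_lit 101),(Leaf.mp (nat_lit 17) [nat_lit 1,nat_lit 2,nat_lit 4,nat_lit 8,nat_lit 16,nat_lit 32,nat_lit 64,nat_lit 128,nat_lit 256] []))::[]))) Srch.nil)) (Srch.rep (nat_lit 246) [] [] [] Srch.nil Srch.nil)) Srch.nil) Srch.nil) (Srch.rep (nat_lit 237) [nat_lit 20,nat_lit 98] [] [] (Srch.rep (nat_lit 138) [nat_lit 146] [] [] (Srch.rep (nat_lit 155) [] [] [] (Srch.rep (nat_lit 247) [] [] [] (Srch.rep (nat_lit 90) [] [] [] (Srch.fin [nat_lit 64] [nat_lit 0] (((nat_lit 100),(Leaf.mp (nat_lit 18) [nat_lit 1,nat_lit 2,nat_lit 4,nat_lit 8,nat_lit 16,nat_lit 32,nat_lit 64,nat_lit 128,nat_lit 256] []))::(((nat_lit 101),(Leaf.mp (nat_lit 19) [nat_lit 1,nat_lit 2,nat_lit 4,nat_lit 8,nat_lit 16,nat_lit 32,nat_lit 64,nat_lit 128,nat_lit 256] []))::[]))) (Srch.rep (nat_lit 91) [] [] [] (Srch.fin [nat_lit 64] [nat_lit 0] (((nat_lit 100),(Leaf.mp (nat_lit 20) [nat_lit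 1,nat_lit 2,nat_lit 4,nat_lit 8,nat_lit 16,nat_lit 32,nat_lit 64,nat_lit 128,nat_lit 256] []))::(((nat_lit 101),(Leaf.mp (nat_lit 21) [nat_lit 1,nat_lit 2,nat_lit 4,nat_lit 8,nat_lit 16,nat_lit 32,nat_lit 64,nat_lit 128,nat_lit 256] []))::[]))) Srch.nil)) (Srch.rep (nat_lit 246) [] [] [] Srch.nil Srch.nil)) Srch.nil) Srch.nil) Srch.nil)))) Srch.nil)) Node.done)))))))))))))
theorem ok22 : nodeOK DB PT 22 t22 (nat_lit 0x30000300000000000000000c0c00000c0cc0c00c0330c0f000000ff0c3ccff) (nat_lit 0x1100000000000000000011000000000000000000000000000000000000000000000000000000000000000000001100000011000000000000000000000011000000110011000000110000000000110000000011001100001100000022220000000000000000000000002222222200001100001111001100334433ff) c22 = true := by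
  decide +kernel
noncomputable def t23 : ℕ := nat_lit 0x4800480055005500430043005e005e0054005400480048005f005f00430043005e005e00420042005400540048004800420042005f005f0048004800550055004b004b0056005600410041005c005c00560056004a004a005c005c00400040005d005d0041004100560056004a004a00400040005d005d004b004b0056005600430043005f005f0048004800540054005e005e0043004300550055004800480055005500480048005f005f00420042004800480054005400420042005e005e005d005d0041004100560056004a004a00400040005d005d004b004b00560056004b004b0056005600410041005c005c00560056004a004a005c005c0040004000200020002000200022002200220022003c003c003c003c003e003e003e003e003e003e003e003e003c003c003c003c0022002200220022002000200020002000200020002000200022002200220022003c003c003c003c003e003e003e003e003e003e003e003e003c003c003c003c002200220022002200200020002000200010001000110011001100110010001000100010001100110011001100100010001000100011001100110011001000100010001000110011001100110010001000080008000900090008000800090009000900090008000800090009000800080004000400040004000400040004000400020002000200020001000100000000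
noncomputable def c23 : Node :=
  (Node.st (nat_lit 0) (nat_lit 4) (nat_lit 0) (Node.sp (nat_lit 1) (Node.lf (Leaf.pt (nat_lit 10) (nat_lit 1) [nat_lit 8,nat_lit 4])) (Node.sp (nat_lit 2) (Node.lf (Leaf.pt (nat_lit 10) (nat_lit 2) [nat_lit 36,nat_lit 1])) (Node.st (nat_lit 0) (nat_lit 2) (nat_lit 0) (Node.sp (nat_lit 10) (Node.lf (Leaf.pt (nat_lit 10) (nat_lit 10) [nat_lit 84,nat_lit 1])) (Node.st (nat_lit 0) (nat_lit 10) (nat_lit 0) (Node.sp (nat_lit 28) (Node.lf (Leaf.pt (nat_lit 10) (nat_lit 28) [nat_lit 40,nat_lit 1])) (Node.st (nat_lit 0) (nat_lit 28) (nat_lit 0) (Node.sp (nat_lit 32) (Node.lf (Leaf.pt (nat_lit 10) (nat_lit 32) [nat_lit 78,nat_lit 1])) (Node.st (nat_lit 0) (nat_lit 32) (nat_lit 0) (Node.sp (nat_lit 33) (Node.lf (Leaf.pt (nat_lit 10) (nat_lit 33) [nat_lit 78,nat_lit 1])) (Node.st (nat_lit 0) (nat_lit 33) (nat_lit 0) (Node.sp (nat_lit 70) (Node.lf (Leaf.pt (nat_lit 10) (nat_lit 70) [nat_lit 40,nat_lit 1])) (Node.st (nat_lit 0) (nat_lit 70) (nat_lit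 0) (Node.sp (nat_lit 71) (Node.lf (Leaf.pt (nat_lit 10) (nat_lit 71) [nat_lit 40,nat_lit 1])) (Node.st (nat_lit 0) (nat_lit 71) (nat_lit 0) (Node.sp (nat_lit 102) (Node.lf (Leaf.pt (nat_lit 14) (nat_lit 102) [nat_lit 1,nat_lit 28,nat_lit 34])) (Node.st (nat_lit 0) (nat_lit 102) (nat_lit 0) (Node.ext [] (nat_lit 4) [Ins.fr [nat_lit 0],Ins.ts (nat_lit 1) [nat_lit 0,nat_lit 0] [],Ins.fr [nat_lit 1],Ins.ts (nat_lit 3) [nat_lit 0] [],Ins.ts (nat_lit 1) [nat_lit 0] [],Ins.ts (nat_lit 0) [nat_lit 0,nat_lit 0] [],Ins.ts (nat_lit 3) [nat_lit 1,nat_lit 0] [],Ins.ts (nat_lit 0) [nat_lit 1,nat_lit 0,nat_lit 1] [nat_lit 0],Ins.fr [nat_lit 1,nat_lit 1,nat_lit 2],Ins.ts (nat_lit 2) [nat_lit 0] [],Ins.ts (nat_lit 0) [nat_lit 0,nat_lit 0] [],Ins.fr [nat_lit 1,nat_lit 3],Ins.ts (nat_lit 0) [nat_lit 0,nat_lit 0] [],Ins.ts (nat_lit 0) [nat_lit 3,nat_lit 0,nat_lit 4] [nat_lit 0,nat_lit 1],Ins.fr [nat_lit 2,nat_lit 3,nat_lit 4],Ins.ts (nat_lit 0) [nat_lit 0,nat_lit 4,nat_lit 0] [nat_lit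 3],Ins.ts (nat_lit 0) [nat_lit 3,nat_lit 5,nat_lit 2] [nat_lit 0,nat_lit 0],Ins.df [nat_lit 4,nat_lit 4]] [nat_lit 8,nat_lit 2,nat_lit 16,nat_lit 32,nat_lit 64] [nat_lit 0,nat_lit 4,nat_lit 6,nat_lit 5,nat_lit 3,nat_lit 2,nat_lit 1] (Srch.rep (nat_lit 4) [nat_lit 2] [nat_lit 8,nat_lit 4,nat_lit 2,nat_lit 1] [nat_lit 64,nat_lit 32,nat_lit 16] (Srch.rep (nat_lit 8) [nat_lit 8] [] [] (Srch.rep (nat_lit 2) [nat_lit 4] [] [] (Srch.rep (nat_lit 16) [] [] [] (Srch.rep (nat_lit 32) [] [] [] (Srch.rep (nat_lit 64) [] [] [] (Srch.fin [nat_lit 64] [nat_lit 0] (((nat_lit 0),(Leaf.pt (nat_lit 10) (nat_lit 4) [nat_lit 8,nat_lit 128]))::(((nat_lit 1),(Leaf.pt (nat_lit 10) (nat_lit 4) [nat_lit 8,nat_lit 136]))::[]))) (Srch.rep (nat_lit 65) [] [] [] (Srch.fin [nat_lit 64] [nat_lit 0] (((nat_lit 0),(Leaf.pt (nat_lit 10) (nat_lit 4) [nat_lit 8,nat_lit 128]))::(((nat_lit 1),(Leaf.pt (nat_lit 10) (nat_lit 4) [nat_lit 8,nat_lit 136]))::[]))) Srch.nil)) (Srch.rep (nat_lit 33) [] [] [] (Srch.rep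 (nat_lit 64) [] [] [] (Srch.fin [nat_lit 64] [nat_lit 0] (((nat_lit 0),(Leaf.pt (nat_lit 10) (nat_lit 4) [nat_lit 8,nat_lit 128]))::(((nat_lit 1),(Leaf.pt (nat_lit 10) (nat_lit 4) [nat_lit 8,nat_lit 136]))::[]))) (Srch.rep (nat_lit 65) [] [] [] (Srch.fin [nat_lit 64] [nat_lit 0] (((nat_lit 0),(Leaf.pt (nat_lit 10) (nat_lit 4) [nat_lit 8,nat_lit 128]))::(((nat_lit 1),(Leaf.pt (nat_lit 10) (nat_lit 4) [nat_lit 8,nat_lit 136]))::[]))) Srch.nil)) Srch.nil)) Srch.nil) (Srch.rep (nat_lit 10) [nat_lit 4] [] [] (Srch.rep (nat_lit 16) [] [] [] (Srch.rep (nat_lit 90) [] [] [] (Srch.rep (nat_lit 46) [] [] [] (Srch.fin [nat_lit 64] [nat_lit 0] (((nat_lit 8),(Leaf.pt (nat_lit 16) (nat_lit 4) [nat_lit 6,nat_lit 128]))::(((nat_lit 9),(Leaf.mp (nat_lit 22) [nat_lit 1,nat_lit 2,nat_lit 4,nat_lit 8,nat_lit 16,nat_lit 32,nat_lit 65,nat_lit 128] []))::[]))) (Srch.rep (nat_lit 47) [] [] [] (Srch.fin [nat_lit 32] [] []) Srch.nil)) (Srch.rep (nat_lit 91) [] [] [] (Srch.rep (nat_lit 46) []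 [] [] (Srch.fin [nat_lit 32] [] []) (Srch.rep (nat_lit 47) [] [] [] (Srch.fin [nat_lit 64] [nat_lit 0] (((nat_lit 8),(Leaf.pt (nat_lit 16) (nat_lit 4) [nat_lit 6,nat_lit 128]))::(((nat_lit 9),(Leaf.mp (nat_lit 22) [nat_lit 1,nat_lit 2,nat_lit 4,nat_lit 8,nat_lit 16,nat_lit 32,nat_lit 64,nat_lit 128] []))::[]))) Srch.nil)) Srch.nil)) Srch.nil) Srch.nil)) (Srch.rep (nat_lit 12) [] [] [] Srch.nil Srch.nil)) Srch.nil) Node.done)))))))))))))))))))
theorem ok23 : nodeOK DB PT 23 t23 (nat_lit 0xc0cc0c00c0330c0f000000ff0c3ccff) (nat_lit 0x11000000110011000000110000000000110000000011001100001100000022220000000000000000000000002222222200001100001111001100334433ff) c23 = true := by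
  decide +kernel
noncomputable def t24 : ℕ := nat_lit 0x4800480055005500430043005e005e0054005400480048005f005f00430043005e005e00420042005400540048004800420042005f005f0048004800550055004a004a0057005700400040005d005d00570057004b004b005d005d00410041005c005c0040004000570057004b004b00410041005c005c004a004a0057005700420042005e005e0049004900550055005f005f0042004200540054004900490054005400490049005e005e00430043004900490055005500430043005f005f005d005d0041004100560056004a004a00400040005d005d004b004b00560056004b004b0056005600410041005c005c00560056004a004a005c005c0040004000200020002000200022002200220022003c003c003c003c003e003e003e003e003e003e003e003e003c003c003c003c0022002200220022002000200020002000200020002000200022002200220022003c003c003c003c003e003e003e003e003e003e003e003e003c003c003c003c002200220022002200200020002000200010001000110011001100110010001000100010001100110011001100100010001000100011001100110011001000100010001000110011001100110010001000080008000900090008000800090009000900090008000800090009000800080004000400040004000400040004000400020002000200020001000100000000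
noncomputable def c24 : Node :=
  (Node.st (nat_lit 0) (nat_lit 4) (nat_lit 0) (Node.sp (nat_lit 1) (Node.lf (Leaf.pt (nat_lit 10) (nat_lit 1) [nat_lit 8,nat_lit 4])) (Node.sp (nat_lit 2) (Node.lf (Leaf.pt (nat_lit 10) (nat_lit 2) [nat_lit 36,nat_lit 1])) (Node.st (nat_lit 0) (nat_lit 2) (nat_lit 0) (Node.sp (nat_lit 10) (Node.lf (Leaf.pt (nat_lit 10) (nat_lit 10) [nat_lit 66,nat_lit 1])) (Node.st (nat_lit 0) (nat_lit 10) (nat_lit 0) (Node.sp (nat_lit 28) (Node.lf (Leaf.pt (nat_lit 10) (nat_lit 28) [nat_lit 40,nat_lit 1])) (Node.st (nat_lit 0) (nat_lit 28) (nat_lit 0) (Node.sp (nat_lit 32) (Node.lf (Leaf.pt (nat_lit 14) (nat_lit 32) [nat_lit 1,nat_lit 2,nat_lit 28])) (Node.st (nat_lit 0) (nat_lit 32) (nat_lit 0) (Node.sp (nat_lit 102) (Node.lf (Leaf.pt (nat_lit 10) (nat_lit 102) [nat_lit 42,nat_lit 1])) (Node.st (nat_lit 0) (nat_lit 102) (nat_lit 0) (Node.ext [] (nat_lit 4) [Ins.fr [nat_lit 0],Ins.ts (nat_lit 1) [nat_lit 0,nat_lit 0] [],Ins.fr [nat_lit 1],Ins.ts (nat_lit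 3) [nat_lit 0] [],Ins.ts (nat_lit 1) [nat_lit 0] [],Ins.ts (nat_lit 0) [nat_lit 0,nat_lit 0] [],Ins.ts (nat_lit 3) [nat_lit 1,nat_lit 0] [],Ins.ts (nat_lit 0) [nat_lit 1,nat_lit 0,nat_lit 1] [nat_lit 0],Ins.fr [nat_lit 1,nat_lit 1,nat_lit 2],Ins.ts (nat_lit 2) [nat_lit 0] [],Ins.ts (nat_lit 0) [nat_lit 0,nat_lit 0] [],Ins.fr [nat_lit 1,nat_lit 3],Ins.ts (nat_lit 0) [nat_lit 0,nat_lit 0] [],Ins.ts (nat_lit 0) [nat_lit 3,nat_lit 0,nat_lit 4] [nat_lit 0,nat_lit 1],Ins.fr [nat_lit 2,nat_lit 3,nat_lit 4],Ins.ts (nat_lit 0) [nat_lit 0,nat_lit 3,nat_lit 0] [nat_lit 4],Ins.ts (nat_lit 0) [nat_lit 5,nat_lit 2,nat_lit 3] [nat_lit 0,nat_lit 0],Ins.df [nat_lit 4,nat_lit 4]] [nat_lit 8,nat_lit 2,nat_lit 16,nat_lit 32,nat_lit 64] [nat_lit 0,nat_lit 4,nat_lit 6,nat_lit 5,nat_lit 3,nat_lit 2,nat_lit 1] (Srch.rep (nat_lit 4) [nat_lit 2] [nat_lit 8,nat_lit 4,nat_lit 2,nat_lit 1] [nat_lit 64,nat_lit 32,nat_lit 16] (Srch.rep (nat_lit 8) [nat_lit 8] [] [] (Srch.rep (nat_lit 2) [nat_lit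 4] [] [] (Srch.rep (nat_lit 16) [] [] [] (Srch.rep (nat_lit 32) [] [] [] (Srch.rep (nat_lit 64) [] [] [] (Srch.fin [nat_lit 64] [nat_lit 0] (((nat_lit 0),(Leaf.pt (nat_lit 10) (nat_lit 4) [nat_lit 8,nat_lit 128]))::(((nat_lit 1),(Leaf.pt (nat_lit 10) (nat_lit 4) [nat_lit 8,nat_lit 136]))::[]))) (Srch.rep (nat_lit 65) [] [] [] (Srch.fin [nat_lit 64] [nat_lit 0] (((nat_lit 0),(Leaf.pt (nat_lit 10) (nat_lit 4) [nat_lit 8,nat_lit 128]))::(((nat_lit 1),(Leaf.pt (nat_lit 10) (nat_lit 4) [nat_lit 8,nat_lit 136]))::[]))) Srch.nil)) (Srch.rep (nat_lit 33) [] [] [] (Srch.rep (nat_lit 64) [] [] [] (Srch.fin [nat_lit 64] [nat_lit 0] (((nat_lit 0),(Leaf.pt (nat_lit 10) (nat_lit 4) [nat_lit 8,nat_lit 128]))::(((nat_lit 1),(Leaf.pt (nat_lit 10) (nat_lit 4) [nat_lit 8,nat_lit 136]))::[]))) (Srch.rep (nat_lit 65) [] [] [] (Srch.fin [nat_lit 64] [nat_lit 0] (((nat_lit 0),(Leaf.pt (nat_lit 10) (nat_lit 4) [nat_lit 8,nat_lit 128]))::(((nat_lit 1),(Leaf.pt (nat_lit 10) (nat_lit 4) [nat_lit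 8,nat_lit 136]))::[]))) Srch.nil)) Srch.nil)) Srch.nil) (Srch.rep (nat_lit 10) [nat_lit 4] [] [] (Srch.rep (nat_lit 16) [] [] [] Srch.nil Srch.nil) Srch.nil)) (Srch.rep (nat_lit 12) [] [] [] Srch.nil Srch.nil)) Srch.nil) Node.done)))))))))))))
theorem ok24 : nodeOK DB PT 24 t24 (nat_lit 0xc0cc0c000000000f000000ff0c3ccff) (nat_lit 0x11000000110011000000110000000000000000000000000000000000000022220000000000000000000000002222222200001100001111001100334433ff) c24 = true := by
  decide +kernel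
noncomputable def t25 : ℕ := nat_lit 0x80008000880088008000800088008800800080008900890080008000890089008000800088008800800080008800880080008000890089008000800089008900f300f300fa00fa00f300f300fa00fa00f200f200fa00fa00f200f200fa00fa00f200f200fb00fb00f200f200fb00fb00f300f300fb00fb00f300f300fb00fb00e700e700ee00ee00e700e700ee00ee00e600e600ee00ee00e600e600ee00ee00e700e700ee00ee00e700e700ee00ee00e600e600ee00ee00e600e600ee00ee008100810089008900810081008900890081008100880088008100810088008800810081008900890081008100890089008100810088008800810081008800880088008800810081008800880081008100890089008100810089008900810081008800880081008100880088008100810089008900810081008900890081008100e600e600ef00ef00e600e600ef00ef00e700e700ef00ef00e700e700ef00ef00e600e600ef00ef00e600e600ef00ef00e700e700ef00ef00e700e700ef00ef00f300f300fa00fa00f300f300fa00fa00f200f200fa00fa00f200f200fa00fa00f200f200fb00fb00f200f200fb00fb00f300f300fb00fb00f300f300fb00fb008900890080008000890089008000800088008800800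08000880088008000800089008900800080008900890080008000880088008000800088008800800080004900490054005400420042005f005f0055005500490049005e005e00420042005f005f00430043005500550049004900430043005e005e0049004900540054004b004b0056005600410041005c005c00560056004a004a005c005c00400040005d005d0041004100560056004a004a00400040005d005d004b004b0056005600420042005e005e0049004900550055005f005f0042004200540054004900490054005400490049005e005e00430043004900490055005500430043005f005f005d005d0041004100560056004a004a00400040005d005d004b004b00560056004b004b0056005600410041005c005c00560056004a004a005c005c0040004000200020002000200022002200220022003c003c003c003c003e003e003e003e003e003e003e003e003c003c003c003c0022002200220022002000200020002000200020002000200022002200220022003c003c003c003c003e003e003e003e003e003e003e003e003c003c003c003c002200220022002200200020002000200010001000110011001100110010001000100010001100110011001100100010001000100011001100110011001000100010001000110011001100110010001000080008000900090008000800090009000900090008000800090009000800080004000400040004000400040004000400020002000200020001000100000000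
noncomputable def c25 : Node :=
  (Node.st (nat_lit 0) (nat_lit 4) (nat_lit 0) (Node.sp (nat_lit 1) (Node.lf (Leaf.pt (nat_lit 10) (nat_lit 1) [nat_lit 8,nat_lit 4])) (Node.sp (nat_lit 2) (Node.lf (Leaf.pt (nat_lit 10) (nat_lit 2) [nat_lit 36,nat_lit 1])) (Node.st (nat_lit 0) (nat_lit 2) (nat_lit 0) (Node.sp (nat_lit 28) (Node.lf (Leaf.pt (nat_lit 10) (nat_lit 28) [nat_lit 40,nat_lit 1])) (Node.st (nat_lit 0) (nat_lit 28) (nat_lit 0) (Node.sp (nat_lit 32) (Node.lf (Leaf.pt (nat_lit 14) (nat_lit 32) [nat_lit 1,nat_lit 2,nat_lit 28])) (Node.st (nat_lit 0) (nat_lit 32) (nat_lit 0) (Node.sp (nat_lit 146) (Node.lf (Leaf.pt (nat_lit 24) (nat_lit 146) [nat_lit 12,nat_lit 102])) (Node.st (nat_lit 0) (nat_lit 146) (nat_lit 0) (Node.ext [] (nat_lit 4) [Ins.fr [nat_lit 0],Ins.fr [nat_lit 1],Ins.fr [nat_lit 0,nat_lit 0,nat_lit 2],Ins.fr [nat_lit 0],Ins.fr [nat_lit 0,nat_lit 1,nat_lit 3,nat_lit 0,nat_lit 2],Ins.df [nat_lit 3,nat_lit 3],Ins.df [nat_lit 2,nat_lit 2],Ins.df [nat_lit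 3,nat_lit 2],Ins.df [nat_lit 0,nat_lit 1,nat_lit 0]] [nat_lit 128,nat_lit 130,nat_lit 16,nat_lit 96,nat_lit 32] [nat_lit 3,nat_lit 0,nat_lit 9,nat_lit 2,nat_lit 6,nat_lit 4,nat_lit 1,nat_lit 8] (Srch.ex0 [nat_lit 128,nat_lit 8,nat_lit 4,nat_lit 2,nat_lit 1] Srch.nil) Node.done)))))))))))
theorem ok25 : nodeOK DB PT 25 t25 (nat_lit 0x30000300000000000000000c0c0000000000000c0330c0f000000ff0c3ccff) (nat_lit 0x1100000000000000000011000000000000000000000000000000000000000000000000000000000000000000001100000011000000000000000000000000000000000000000000000000000000110000000011001100001100000022220000000000000000000000002222222200001100001111001100334433ff) c25 = true := by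
  decide +kernel
noncomputable def t26 : ℕ := nat_lit 0x4900490054005400420042005f005f0055005500490049005e005e00420042005f005f00430043005500550049004900430043005e005e0049004900540054004b004b0056005600410041005c005c00560056004a004a005c005c00400040005d005d0041004100560056004a004a00400040005d005d004b004b0056005600420042005e005e0049004900550055005f005f0042004200540054004900490054005400490049005e005e00430043004900490055005500430043005f005f005d005d0041004100560056004a004a00400040005d005d004b004b00560056004b004b0056005600410041005c005c00560056004a004a005c005c0040004000200020002000200022002200220022003c003c003c003c003e003e003e003e003e003e003e003e003c003c003c003c0022002200220022002000200020002000200020002000200022002200220022003c003c003c003c003e003e003e003e003e003e003e003e003c003c003c003c002200220022002200200020002000200010001000110011001100110010001000100010001100110011001100100010001000100011001100110011001000100010001000110011001100110010001000080008000900090008000800090009000900090008000800090009000800080004000400040004000400040004000400020002000200020001000100000000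
noncomputable def c26 : Node :=
  (Node.st (nat_lit 0) (nat_lit 4) (nat_lit 0) (Node.sp (nat_lit 1) (Node.lf (Leaf.pt (nat_lit 10) (nat_lit 1) [nat_lit 8,nat_lit 4])) (Node.sp (nat_lit 2) (Node.lf (Leaf.pt (nat_lit 10) (nat_lit 2) [nat_lit 36,nat_lit 1])) (Node.st (nat_lit 0) (nat_lit 2) (nat_lit 0) (Node.sp (nat_lit 10) (Node.lf (Leaf.pt (nat_lit 10) (nat_lit 10) [nat_lit 84,nat_lit 1])) (Node.st (nat_lit 0) (nat_lit 10) (nat_lit 0) (Node.sp (nat_lit 28) (Node.lf (Leaf.pt (nat_lit 10) (nat_lit 28) [nat_lit 40,nat_lit 1])) (Node.st (nat_lit 0) (nat_lit 28) (nat_lit 0) (Node.sp (nat_lit 32) (Node.lf (Leaf.pt (nat_lit 14) (nat_lit 32) [nat_lit 1,nat_lit 2,nat_lit 28])) (Node.st (nat_lit 0) (nat_lit 32) (nat_lit 0) (Node.sp (nat_lit 70) (Node.lf (Leaf.pt (nat_lit 14) (nat_lit 70) [nat_lit 1,nat_lit 10,nat_lit 22])) (Node.st (nat_lit 0) (nat_lit 70) (nat_lit 0) (Node.ext [] (nat_lit 4) [Ins.fr [nat_lit 0],Ins.ts (nat_lit 1) [nat_lit 0,nat_lit 0] [],Ins.fr [nat_lit 1],Ins.ts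 (nat_lit 3) [nat_lit 0] [],Ins.ts (nat_lit 1) [nat_lit 0] [],Ins.ts (nat_lit 0) [nat_lit 0,nat_lit 0] [],Ins.ts (nat_lit 3) [nat_lit 1,nat_lit 0] [],Ins.ts (nat_lit 0) [nat_lit 1,nat_lit 0,nat_lit 1] [nat_lit 0],Ins.fr [nat_lit 1,nat_lit 1,nat_lit 2],Ins.ts (nat_lit 2) [nat_lit 0] [],Ins.ts (nat_lit 0) [nat_lit 0,nat_lit 0] [],Ins.fr [nat_lit 1,nat_lit 3],Ins.ts (nat_lit 0) [nat_lit 0,nat_lit 0] [],Ins.ts (nat_lit 0) [nat_lit 3,nat_lit 0,nat_lit 4] [nat_lit 0,nat_lit 1],Ins.fr [nat_lit 2,nat_lit 3,nat_lit 4],Ins.ts (nat_lit 0) [nat_lit 0,nat_lit 4,nat_lit 0] [nat_lit 3],Ins.ts (nat_lit 0) [nat_lit 5,nat_lit 0,nat_lit 4] [nat_lit 2,nat_lit 0],Ins.df [nat_lit 4,nat_lit 4]] [nat_lit 8,nat_lit 2,nat_lit 16,nat_lit 32,nat_lit 64] [nat_lit 0,nat_lit 4,nat_lit 6,nat_lit 5,nat_lit 3,nat_lit 2,nat_lit 1] (Srch.rep (nat_lit 4) [nat_lit 2] [nat_lit 8,nat_lit 4,nat_lit 2,nat_lit 1] [nat_lit 64,nat_lit 32,nat_lit 16] (Srch.rep (nat_lit 8) [nat_lit 8] [] [] (Srch.rep (nat_lit 2)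 [nat_lit 4] [] [] (Srch.rep (nat_lit 16) [] [] [] (Srch.rep (nat_lit 32) [] [] [] (Srch.rep (nat_lit 64) [] [] [] (Srch.fin [nat_lit 64] [nat_lit 0] (((nat_lit 0),(Leaf.pt (nat_lit 10) (nat_lit 4) [nat_lit 8,nat_lit 128]))::(((nat_lit 1),(Leaf.pt (nat_lit 10) (nat_lit 4) [nat_lit 8,nat_lit 136]))::[]))) (Srch.rep (nat_lit 65) [] [] [] (Srch.fin [nat_lit 64] [nat_lit 0] (((nat_lit 0),(Leaf.pt (nat_lit 10) (nat_lit 4) [nat_lit 8,nat_lit 128]))::(((nat_lit 1),(Leaf.pt (nat_lit 10) (nat_lit 4) [nat_lit 8,nat_lit 136]))::[]))) Srch.nil)) (Srch.rep (nat_lit 33) [] [] [] (Srch.rep (nat_lit 64) [] [] [] (Srch.fin [nat_lit 64] [nat_lit 0] (((nat_lit 0),(Leaf.pt (nat_lit 10) (nat_lit 4) [nat_lit 8,nat_lit 128]))::(((nat_lit 1),(Leaf.pt (nat_lit 10) (nat_lit 4) [nat_lit 8,nat_lit 136]))::[]))) (Srch.rep (nat_lit 65) [] [] [] (Srch.fin [nat_lit 64] [nat_lit 0] (((nat_lit 0),(Leaf.pt (nat_lit 10) (nat_lit 4) [nat_lit 8,nat_lit 128]))::(((nat_lit 1),(Leaf.pt (nat_lit 10) (nat_lit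 4) [nat_lit 8,nat_lit 136]))::[]))) Srch.nil)) Srch.nil)) Srch.nil) (Srch.rep (nat_lit 10) [nat_lit 4] [] [] (Srch.rep (nat_lit 16) [] [] [] (Srch.rep (nat_lit 90) [] [] [] (Srch.rep (nat_lit 46) [] [] [] (Srch.fin [nat_lit 64] [nat_lit 0] (((nat_lit 8),(Leaf.pt (nat_lit 16) (nat_lit 4) [nat_lit 6,nat_lit 128]))::(((nat_lit 9),(Leaf.mp (nat_lit 25) [nat_lit 1,nat_lit 2,nat_lit 4,nat_lit 8,nat_lit 16,nat_lit 32,nat_lit 65,nat_lit 128] []))::[]))) (Srch.rep (nat_lit 47) [] [] [] (Srch.fin [nat_lit 32] [] []) Srch.nil)) (Srch.rep (nat_lit 91) [] [] [] (Srch.rep (nat_lit 46) [] [] [] (Srch.fin [nat_lit 32] [] []) (Srch.rep (nat_lit 47) [] [] [] (Srch.fin [nat_lit 64] [nat_lit 0] (((nat_lit 8),(Leaf.pt (nat_lit 16) (nat_lit 4) [nat_lit 6,nat_lit 128]))::(((nat_lit 9),(Leaf.mp (nat_lit 25) [nat_lit 1,nat_lit 2,nat_lit 4,nat_lit 8,nat_lit 16,nat_lit 32,nat_lit 64,nat_lit 128] []))::[]))) Srch.nil)) Srch.nil)) Srch.nil) Srch.nil)) (Srch.rep (nat_lit 12) [] [] [] Srch.nil Srch.nil))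 Srch.nil) Node.done)))))))))))))
theorem ok26 : nodeOK DB PT 26 t26 (nat_lit 0xc0330c0f000000ff0c3ccff) (nat_lit 0x110000000011001100001100000022220000000000000000000000002222222200001100001111001100334433ff) c26 = true := by
  decide +kernel
noncomputable def t27 : ℕ := nat_lit 0x200020002000200022002200220022003c003c003c003c003e003e003e003e003e003e003e003e003c003c003c003c0022002200220022002000200020002000200020002000200022002200220022003c003c003c003c003e003e003e003e003e003e003e003e003c003c003c003c002200220022002200200020002000200010001000110011001100110010001000100010001100110011001100100010001000100011001100110011001000100010001000110011001100110010001000080008000900090008000800090009000900090008000800090009000800080004000400040004000400040004000400020002000200020001000100000000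
noncomputable def c27 : Node :=
  (Node.st (nat_lit 0) (nat_lit 4) (nat_lit 0) (Node.st (nat_lit 0) (nat_lit 14) (nat_lit 0) (Node.sp (nat_lit 1) (Node.lf (Leaf.pt (nat_lit 10) (nat_lit 1) [nat_lit 8,nat_lit 4])) (Node.sp (nat_lit 2) (Node.lf (Leaf.pt (nat_lit 10) (nat_lit 2) [nat_lit 36,nat_lit 1])) (Node.st (nat_lit 0) (nat_lit 2) (nat_lit 0) (Node.sp (nat_lit 10) (Node.lf (Leaf.pt (nat_lit 5) (nat_lit 10) [nat_lit 4])) (Node.st (nat_lit 0) (nat_lit 10) (nat_lit 0) (Node.sp (nat_lit 28) (Node.lf (Leaf.pt (nat_lit 10) (nat_lit 28) [nat_lit 40,nat_lit 1])) (Node.st (nat_lit 0) (nat_lit 28) (nat_lit 0) (Node.sp (nat_lit 30) (Node.lf (Leaf.pt (nat_lit 10) (nat_lit 30) [nat_lit 46,nat_lit 1])) (Node.st (nat_lit 0) (nat_lit 30) (nat_lit 0) (Node.sp (nat_lit 32) (Node.lf (Leaf.pt (nat_lit 14) (nat_lit 32) [nat_lit 1,nat_lit 2,nat_lit 28])) (Node.st (nat_lit 0) (nat_lit 32) (nat_lit 0) (Node.sp (nat_lit 33) (Node.lf (Leaf.pt (nat_lit 14) (nat_lit 33) [nat_lit 1,nat_lit 2,nat_lit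 28])) (Node.st (nat_lit 0) (nat_lit 33) (nat_lit 0) (Node.ext [] (nat_lit 4) [Ins.fr [nat_lit 0],Ins.ts (nat_lit 1) [nat_lit 0,nat_lit 0] [],Ins.fr [nat_lit 1],Ins.ts (nat_lit 3) [nat_lit 0] [],Ins.ts (nat_lit 1) [nat_lit 0] [],Ins.ts (nat_lit 0) [nat_lit 0,nat_lit 0] [],Ins.ts (nat_lit 3) [nat_lit 1,nat_lit 0] [],Ins.ts (nat_lit 0) [nat_lit 1,nat_lit 0,nat_lit 1] [nat_lit 0],Ins.fr [nat_lit 1,nat_lit 1,nat_lit 2],Ins.ts (nat_lit 2) [nat_lit 0] [],Ins.ts (nat_lit 0) [nat_lit 0,nat_lit 0] [],Ins.fr [nat_lit 1,nat_lit 3],Ins.ts (nat_lit 0) [nat_lit 0,nat_lit 0] [],Ins.ts (nat_lit 0) [nat_lit 3,nat_lit 0,nat_lit 4] [nat_lit 0,nat_lit 1],Ins.df [nat_lit 3,nat_lit 3]] [nat_lit 8,nat_lit 2,nat_lit 16,nat_lit 32] [nat_lit 0,nat_lit 3,nat_lit 5,nat_lit 4,nat_lit 2,nat_lit 1] (Srch.rep (nat_lit 4) [nat_lit 2] [nat_lit 8,nat_lit 4,nat_lit 2,nat_lit 1] [nat_lit 32,nat_lit 16] (Srch.rep (nat_lit 8) [nat_lit 8] [] [] (Srch.rep (nat_lit 2) [nat_lit 4] [] [] (Srch.rep (nat_lit 16)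 [] [] [] (Srch.rep (nat_lit 32) [] [] [] (Srch.fin [nat_lit 32,nat_lit 8] [nat_lit 0] (((nat_lit 0),(Leaf.pt (nat_lit 10) (nat_lit 4) [nat_lit 8,nat_lit 64]))::(((nat_lit 1),(Leaf.pt (nat_lit 10) (nat_lit 4) [nat_lit 8,nat_lit 72]))::[]))) (Srch.rep (nat_lit 33) [] [] [] (Srch.fin [nat_lit 32,nat_lit 8] [nat_lit 0] (((nat_lit 0),(Leaf.pt (nat_lit 10) (nat_lit 4) [nat_lit 8,nat_lit 64]))::(((nat_lit 1),(Leaf.pt (nat_lit 10) (nat_lit 4) [nat_lit 8,nat_lit 72]))::[]))) Srch.nil)) Srch.nil) (Srch.rep (nat_lit 10) [nat_lit 4] [] [] (Srch.rep (nat_lit 16) [] [] [] Srch.nil Srch.nil) Srch.nil)) (Srch.rep (nat_lit 12) [] [] [] Srch.nil Srch.nil)) (Srch.rep (nat_lit 14) [nat_lit 4] [nat_lit 16,nat_lit 10,nat_lit 4,nat_lit 1] [nat_lit 32,nat_lit 2] (Srch.rep (nat_lit 20) [nat_lit 20] [] [] (Srch.rep (nat_lit 10) [nat_lit 14] [] [] (Srch.rep (nat_lit 6) [] [] [] Srch.nil Srch.nil) (Srch.rep (nat_lit 30) [nat_lit 14] [] [] (Srch.rep (nat_lit 6) [] [] [] (Srch.rep (nat_lit 62)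 [] [] [] (Srch.fin [nat_lit 32] [nat_lit 0] (((nat_lit 23),(Leaf.mp (nat_lit 13) [nat_lit 1,nat_lit 2,nat_lit 4,nat_lit 8,nat_lit 16,nat_lit 32,nat_lit 64] []))::(((nat_lit 22),(Leaf.mp (nat_lit 23) [nat_lit 1,nat_lit 2,nat_lit 4,nat_lit 8,nat_lit 16,nat_lit 32,nat_lit 64] []))::[]))) (Srch.rep (nat_lit 63) [] [] [] (Srch.fin [nat_lit 32] [nat_lit 0] (((nat_lit 23),(Leaf.mp (nat_lit 24) [nat_lit 1,nat_lit 2,nat_lit 4,nat_lit 8,nat_lit 16,nat_lit 32,nat_lit 64] []))::(((nat_lit 22),(Leaf.mp (nat_lit 26) [nat_lit 1,nat_lit 2,nat_lit 4,nat_lit 8,nat_lit 16,nat_lit 32,nat_lit 64] []))::[]))) Srch.nil)) Srch.nil) Srch.nil)) (Srch.rep (nat_lit 26) [] [] [] Srch.nil Srch.nil)) Srch.nil)) Node.done))))))))))))))))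
theorem ok27 : nodeOK DB PT 27 t27 (nat_lit 0xf000000ff0c3ccff) (nat_lit 0x22220000000000000000000000002222222200001100001111001100334433ff) c27 = true := by
  decide +kernel
noncomputable def t28 : ℕ := nat_lit 0x200020002000200022002200220022003c003c003c003c003e003e003e003e003e003e003e003e003c003c003c003c0022002200220022002000200020002000200020002000200022002200220022003c003c003c003c003e003e003e003e003e003e003e003e003c003c003c003c002200220022002200200020002000200010001000110011001100110010001000100010001100110011001100100010001000100011001100110011001000100010001000110011001100110010001000080008000900090008000800090009000900090008000800090009000800080004000400040004000400040004000400020002000200020001000100000000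
noncomputable def c28 : Node :=
  (Node.st (nat_lit 0) (nat_lit 4) (nat_lit 0) (Node.st (nat_lit 0) (nat_lit 14) (nat_lit 0) (Node.sp (nat_lit 1) (Node.lf (Leaf.pt (nat_lit 5) (nat_lit 1) [nat_lit 4])) (Node.sp (nat_lit 2) (Node.lf (Leaf.pt (nat_lit 5) (nat_lit 2) [nat_lit 4])) (Node.st (nat_lit 0) (nat_lit 2) (nat_lit 0) (Node.sp (nat_lit 10) (Node.lf (Leaf.pt (nat_lit 5) (nat_lit 10) [nat_lit 4])) (Node.st (nat_lit 0) (nat_lit 10) (nat_lit 0) (Node.sp (nat_lit 28) (Node.lf (Leaf.pt (nat_lit 10) (nat_lit 28) [nat_lit 40,nat_lit 1])) (Node.st (nat_lit 0) (nat_lit 28) (nat_lit 0) (Node.sp (nat_lit 30) (Node.lf (Leaf.pt (nat_lit 5) (nat_lit 30) [nat_lit 14])) (Node.st (nat_lit 0) (nat_lit 30) (nat_lit 0) (Node.sp (nat_lit 32) (Node.lf (Leaf.pt (nat_lit 14) (nat_lit 32) [nat_lit 1,nat_lit 2,nat_lit 28])) (Node.st (nat_lit 0) (nat_lit 32) (nat_lit 0) (Node.sp (nat_lit 33) (Node.lf (Leaf.pt (nat_lit 14) (nat_lit 33) [nat_lit 1,nat_lit 2,nat_lit 28])) (Node.st (nat_lit 0)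 (nat_lit 33) (nat_lit 0) (Node.ext [[nat_lit 4,nat_lit 2,nat_lit 1]] (nat_lit 4) [Ins.ts (nat_lit 4) [nat_lit 0] [nat_lit 4,nat_lit 0,nat_lit 0],Ins.fr [nat_lit 0],Ins.ts (nat_lit 1) [nat_lit 0,nat_lit 0] [],Ins.fr [nat_lit 1],Ins.ts (nat_lit 3) [nat_lit 0] [],Ins.ts (nat_lit 4) [nat_lit 0] [nat_lit 2,nat_lit 0,nat_lit 0],Ins.ts (nat_lit 1) [nat_lit 0] [],Ins.ts (nat_lit 3) [nat_lit 1,nat_lit 0] [],Ins.ts (nat_lit 0) [nat_lit 1,nat_lit 0,nat_lit 1] [nat_lit 0],Ins.fr [nat_lit 1,nat_lit 1,nat_lit 2],Ins.ts (nat_lit 2) [nat_lit 0] [],Ins.ts (nat_lit 0) [nat_lit 0,nat_lit 0] [],Ins.fr [nat_lit 1,nat_lit 3],Ins.ts (nat_lit 0) [nat_lit 0,nat_lit 0] [],Ins.ts (nat_lit 0) [nat_lit 3,nat_lit 0,nat_lit 4] [nat_lit 0,nat_lit 1],Ins.df [nat_lit 3,nat_lit 3]] [nat_lit 8,nat_lit 2,nat_lit 16,nat_lit 32] [nat_lit 0,nat_lit 3,nat_lit 5,nat_lit 4,nat_lit 2,nat_lit 1] (Srch.rep (nat_lit 4) [nat_lit 2] [nat_lit 8,nat_lit 4,nat_lit 2,nat_lit 1] [nat_lit 32,nat_lit 16] (Srch.rep (nat_lit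 8) [nat_lit 8] [] [] (Srch.rep (nat_lit 2) [nat_lit 4] [] [] (Srch.rep (nat_lit 16) [] [] [] (Srch.rep (nat_lit 32) [] [] [] (Srch.fin [nat_lit 32,nat_lit 8] [nat_lit 0] (((nat_lit 0),(Leaf.pt (nat_lit 10) (nat_lit 4) [nat_lit 8,nat_lit 64]))::(((nat_lit 1),(Leaf.pt (nat_lit 10) (nat_lit 4) [nat_lit 8,nat_lit 72]))::[]))) (Srch.rep (nat_lit 33) [] [] [] (Srch.fin [nat_lit 32,nat_lit 8] [nat_lit 0] (((nat_lit 0),(Leaf.pt (nat_lit 10) (nat_lit 4) [nat_lit 8,nat_lit 64]))::(((nat_lit 1),(Leaf.pt (nat_lit 10) (nat_lit 4) [nat_lit 8,nat_lit 72]))::[]))) Srch.nil)) Srch.nil) Srch.nil) (Srch.rep (nat_lit 12) [] [] [] Srch.nil Srch.nil)) Srch.nil) (Node.frat (nat_lit 1) (nat_lit 0) (nat_lit 0) [[],[nat_lit 2,nat_lit 1]] [] [((nat_lit 1),(nat_lit 0)),((nat_lit 2),(nat_lit 1))] [nat_lit 1] [nat_lit 32,nat_lit 24,nat_lit 4,nat_lit 2,nat_lit 1] (nat_lit 8) (nat_lit 2) (nat_lit 4) [Ins.fr [nat_lit 0],Ins.ts (nat_lit 3) [nat_lit 0] [],Ins.ts (nat_lit 1) [nat_lit 0] [],Ins.ts (nat_lit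 4) [nat_lit 0] [nat_lit 2,nat_lit 1,nat_lit 0],Ins.fr [nat_lit 1],Ins.ts (nat_lit 3) [nat_lit 0] [],Ins.ts (nat_lit 1) [nat_lit 0] [],Ins.ts (nat_lit 4) [nat_lit 0] [nat_lit 3,nat_lit 1,nat_lit 0],Ins.fr [nat_lit 1,nat_lit 2],Ins.ts (nat_lit 0) [nat_lit 0,nat_lit 0] [nat_lit 2],Ins.fr [nat_lit 1,nat_lit 3],Ins.ts (nat_lit 0) [nat_lit 0,nat_lit 0] []] [nat_lit 1,nat_lit 2,nat_lit 24,nat_lit 32] [nat_lit 3,nat_lit 2,nat_lit 4,nat_lit 1,nat_lit 0] [] (Srch.rep (nat_lit 4) [] [nat_lit 4,nat_lit 2,nat_lit 1] [nat_lit 32,nat_lit 24] (Srch.rep (nat_lit 2) [] [] [] (Srch.rep (nat_lit 3) [nat_lit 4] [] [] (Srch.rep (nat_lit 36) [] [] [] (Srch.rep (nat_lit 60) [] [] [] (Srch.lf (Leaf.mp (nat_lit 27) [nat_lit 1,nat_lit 2,nat_lit 4,nat_lit 8,nat_lit 16,nat_lit 32] [])) (Srch.rep (nat_lit 61) [] [] [] (Srch.lf (Leaf.mp (nat_lit 27) [nat_lit 1,nat_lit 2,nat_lit 4,nat_lit 8,nat_lit 16,nat_lit 32] [])) (Srch.rep (nat_lit 62) [] [] [] (Srch.lf (Leaf.mp (nat_lit 27) [nat_lit 1,nat_lit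 2,nat_lit 4,nat_lit 8,nat_lit 16,nat_lit 32] [])) (Srch.rep (nat_lit 63) [] [] [] (Srch.lf (Leaf.mp (nat_lit 27) [nat_lit 1,nat_lit 2,nat_lit 4,nat_lit 8,nat_lit 16,nat_lit 32] [])) Srch.nil)))) (Srch.rep (nat_lit 37) [] [] [] (Srch.rep (nat_lit 60) [] [] [] (Srch.lf (Leaf.mp (nat_lit 27) [nat_lit 1,nat_lit 2,nat_lit 4,nat_lit 8,nat_lit 16,nat_lit 32] [])) (Srch.rep (nat_lit 61) [] [] [] (Srch.lf (Leaf.mp (nat_lit 27) [nat_lit 1,nat_lit 2,nat_lit 4,nat_lit 8,nat_lit 16,nat_lit 32] [])) (Srch.rep (nat_lit 62) [] [] [] (Srch.lf (Leaf.mp (nat_lit 27) [nat_lit 1,nat_lit 2,nat_lit 4,nat_lit 8,nat_lit 16,nat_lit 32] [])) (Srch.rep (nat_lit 63) [] [] [] (Srch.lf (Leaf.mp (nat_lit 27) [nat_lit 1,nat_lit 2,nat_lit 4,nat_lit 8,nat_lit 16,nat_lit 32] [])) Srch.nil)))) Srch.nil)) Srch.nil) Srch.nil) Srch.nil))))))))))))))))))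
theorem ok28 : nodeOK DB PT 28 t28 (nat_lit 0xf000000ff0c3ccff) (nat_lit 0x22220000000000000000000000002222222200001100001111001100334433ff) c28 = true := by
  decide +kernel
noncomputable def t29 : ℕ := nat_lit 0x210021002100210023002300230023003d003d003d003d003f003f003f003f003f003f003f003f003d003d003d003d0023002300230023002100210021002100200020002000200022002200220022003c003c003c003c003e003e003e003e003e003e003e003e003c003c003c003c002200220022002200200020002000200010001000110011001100110010001000100010001100110011001100100010001000100011001100110011001000100010001000110011001100110010001000080008000900090008000800090009000900090008000800090009000800080004000400040004000400040004000400020002000200020001000100000000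
noncomputable def c29 : Node :=
  (Node.st (nat_lit 0) (nat_lit 4) (nat_lit 0) (Node.st (nat_lit 0) (nat_lit 14) (nat_lit 0) (Node.sp (nat_lit 1) (Node.lf (Leaf.pt (nat_lit 5) (nat_lit 1) [nat_lit 4])) (Node.sp (nat_lit 2) (Node.lf (Leaf.pt (nat_lit 5) (nat_lit 2) [nat_lit 4])) (Node.st (nat_lit 0) (nat_lit 2) (nat_lit 0) (Node.sp (nat_lit 10) (Node.lf (Leaf.pt (nat_lit 5) (nat_lit 10) [nat_lit 4])) (Node.st (nat_lit 0) (nat_lit 10) (nat_lit 0) (Node.sp (nat_lit 28) (Node.lf (Leaf.pt (nat_lit 10) (nat_lit 28) [nat_lit 32,nat_lit 2])) (Node.st (nat_lit 0) (nat_lit 28) (nat_lit 0) (Node.sp (nat_lit 30) (Node.lf (Leaf.pt (nat_lit 5) (nat_lit 30) [nat_lit 14])) (Node.st (nat_lit 0) (nat_lit 30) (nat_lit 0) (Node.ext [[nat_lit 4,nat_lit 2,nat_lit 1]] (nat_lit 4) [Ins.ts (nat_lit 4) [nat_lit 0] [nat_lit 4,nat_lit 0,nat_lit 0],Ins.fr [nat_lit 0],Ins.ts (nat_lit 1) [nat_lit 0,nat_lit 0] [],Ins.fr [nat_lit 1],Ins.ts (nat_lit 3) [nat_lit 0] [],Ins.ts (nat_lit 4) [nat_lit 0]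 [nat_lit 2,nat_lit 0,nat_lit 0],Ins.ts (nat_lit 1) [nat_lit 0] [],Ins.ts (nat_lit 3) [nat_lit 1,nat_lit 0] [],Ins.ts (nat_lit 0) [nat_lit 1,nat_lit 0,nat_lit 1] [nat_lit 0],Ins.fr [nat_lit 1,nat_lit 1,nat_lit 2],Ins.ts (nat_lit 2) [nat_lit 0] [],Ins.ts (nat_lit 0) [nat_lit 0,nat_lit 0] [],Ins.fr [nat_lit 1,nat_lit 3],Ins.ts (nat_lit 0) [nat_lit 3,nat_lit 3] [nat_lit 0,nat_lit 0],Ins.ts (nat_lit 0) [nat_lit 3,nat_lit 0,nat_lit 4] [nat_lit 0,nat_lit 1],Ins.df [nat_lit 0,nat_lit 0]] [nat_lit 8,nat_lit 2,nat_lit 16,nat_lit 32] [nat_lit 0,nat_lit 3,nat_lit 5,nat_lit 4,nat_lit 2,nat_lit 1] (Srch.rep (nat_lit 4) [nat_lit 2] [nat_lit 8,nat_lit 4,nat_lit 2,nat_lit 1] [nat_lit 32,nat_lit 16] (Srch.rep (nat_lit 8) [nat_lit 8] [] [] (Srch.rep (nat_lit 2) [nat_lit 4] [] [] (Srch.rep (nat_lit 16) [] [] [] (Srch.rep (nat_lit 32) [] [] [] (Srch.fin [nat_lit 32,nat_lit 8] [nat_lit 0] (((nat_lit 0),(Leaf.pt (nat_lit 10) (nat_lit 4) [nat_lit 8,nat_lit 64]))::(((nat_lit 1),(Leaf.pt (nat_lit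 10) (nat_lit 4) [nat_lit 8,nat_lit 72]))::[]))) (Srch.rep (nat_lit 33) [] [] [] (Srch.fin [nat_lit 32,nat_lit 8] [nat_lit 0] (((nat_lit 0),(Leaf.pt (nat_lit 10) (nat_lit 4) [nat_lit 8,nat_lit 64]))::(((nat_lit 1),(Leaf.pt (nat_lit 10) (nat_lit 4) [nat_lit 8,nat_lit 72]))::[]))) Srch.nil)) Srch.nil) Srch.nil) (Srch.rep (nat_lit 12) [] [] [] Srch.nil Srch.nil)) Srch.nil) (Node.frat (nat_lit 1) (nat_lit 0) (nat_lit 0) [[],[nat_lit 2,nat_lit 1]] [] [((nat_lit 1),(nat_lit 0)),((nat_lit 2),(nat_lit 1))] [nat_lit 1] [nat_lit 32,nat_lit 24,nat_lit 4,nat_lit 2,nat_lit 1] (nat_lit 8) (nat_lit 2) (nat_lit 4) [Ins.fr [nat_lit 0],Ins.ts (nat_lit 3) [nat_lit 0] [],Ins.ts (nat_lit 1) [nat_lit 0] [],Ins.ts (nat_lit 4) [nat_lit 0] [nat_lit 2,nat_lit 1,nat_lit 0],Ins.fr [nat_lit 1],Ins.ts (nat_lit 3) [nat_lit 0] [],Ins.ts (nat_lit 1) [nat_lit 0] [],Ins.ts (nat_lit 4) [nat_lit 0] [nat_lit 3,nat_lit 1,nat_lit 0],Ins.fr [nat_lit 1,nat_lit 2],Ins.ts (nat_lit 0) [nat_lit 0,nat_lit 0] [nat_lit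 2],Ins.fr [nat_lit 1,nat_lit 3]] [nat_lit 1,nat_lit 2,nat_lit 24,nat_lit 32] [nat_lit 3,nat_lit 2,nat_lit 4,nat_lit 1,nat_lit 0] [] (Srch.rep (nat_lit 4) [] [nat_lit 4,nat_lit 2,nat_lit 1] [nat_lit 32,nat_lit 24] (Srch.rep (nat_lit 2) [] [] [] (Srch.rep (nat_lit 3) [] [] [] Srch.nil Srch.nil) Srch.nil) Srch.nil))))))))))))))
theorem ok29 : nodeOK DB PT 29 t29 (nat_lit 0xf0c3ccff) (nat_lit 0x222200001100001111001100334433ff) c29 = true := by
  decide +kernel
noncomputable def t30 : ℕ := nat_lit 0x10001000110011001100110010001000100010001100110011001100100010001000100011001100110011001000100010001000110011001100110010001000080008000900090008000800090009000900090008000800090009000800080004000400040004000400040004000400020002000200020001000100000000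
noncomputable def c30 : Node :=
  (Node.st (nat_lit 0) (nat_lit 4) (nat_lit 0) (Node.st (nat_lit 0) (nat_lit 14) (nat_lit 0) (Node.st (nat_lit 2) (nat_lit 0) (nat_lit 5) (Node.st (nat_lit 0) (nat_lit 6) (nat_lit 0) (Node.sp (nat_lit 1) (Node.lf (Leaf.pt (nat_lit 5) (nat_lit 1) [nat_lit 4])) (Node.sp (nat_lit 2) (Node.lf (Leaf.pt (nat_lit 5) (nat_lit 2) [nat_lit 4])) (Node.st (nat_lit 0) (nat_lit 2) (nat_lit 0) (Node.sp (nat_lit 10) (Node.lf (Leaf.pt (nat_lit 5) (nat_lit 10) [nat_lit 4])) (Node.st (nat_lit 0) (nat_lit 10) (nat_lit 0) (Node.ext [[nat_lit 4,nat_lit 2,nat_lit 1]] (nat_lit 4) [Ins.ts (nat_lit 4) [nat_lit 0] [nat_lit 4,nat_lit 0,nat_lit 0],Ins.fr [nat_lit 0],Ins.ts (nat_lit 1) [nat_lit 0,nat_lit 0] [],Ins.fr [nat_lit 1],Ins.ts (nat_lit 3) [nat_lit 0] [],Ins.ts (nat_lit 4) [nat_lit 0] [nat_lit 2,nat_lit 0,nat_lit 0],Ins.ts (nat_lit 1) [nat_lit 0] [],Ins.ts (nat_lit 0) [nat_lit 1,nat_lit 0,nat_lit 1] [nat_lit 0],Ins.ts (nat_lit 3) [nat_lit 1,nat_lit 0] [],Ins.fr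 [nat_lit 1,nat_lit 1,nat_lit 2],Ins.ts (nat_lit 0) [nat_lit 0,nat_lit 0] [],Ins.ts (nat_lit 0) [nat_lit 2,nat_lit 0] [nat_lit 0,nat_lit 2],Ins.ts (nat_lit 0) [nat_lit 3,nat_lit 0,nat_lit 1] [nat_lit 1,nat_lit 0,nat_lit 3],Ins.df [nat_lit 2,nat_lit 2]] [nat_lit 8,nat_lit 2,nat_lit 16] [nat_lit 0,nat_lit 2,nat_lit 4,nat_lit 3,nat_lit 1] (Srch.rep (nat_lit 4) [nat_lit 2] [nat_lit 8,nat_lit 4,nat_lit 2,nat_lit 1] [nat_lit 16] (Srch.rep (nat_lit 8) [nat_lit 8] [] [] (Srch.rep (nat_lit 2) [nat_lit 4] [] [] (Srch.rep (nat_lit 16) [] [] [] (Srch.fin [nat_lit 2,nat_lit 8,nat_lit 16] [nat_lit 0] (((nat_lit 0),(Leaf.pt (nat_lit 10) (nat_lit 4) [nat_lit 8,nat_lit 32]))::(((nat_lit 1),(Leaf.pt (nat_lit 10) (nat_lit 4) [nat_lit 8,nat_lit 40]))::[]))) Srch.nil) Srch.nil) (Srch.rep (nat_lit 12) [] [] [] Srch.nil Srch.nil)) (Srch.rep (nat_lit 6) [nat_lit 2] [nat_lit 16,nat_lit 4,nat_lit 2,nat_lit 1] [nat_lit 8] (Srch.rep (nat_lit 18) [nat_lit 18] [] [] (Srch.rep (nat_lit 2) [nat_lit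 6] [] [] (Srch.rep (nat_lit 10) [] [] [] (Srch.fin [nat_lit 8] [nat_lit 0] (((nat_lit 0),(Leaf.mp (nat_lit 11) [nat_lit 1,nat_lit 2,nat_lit 4,nat_lit 8,nat_lit 16,nat_lit 32] [[nat_lit 1]]))::(((nat_lit 1),(Leaf.mp (nat_lit 12) [nat_lit 1,nat_lit 2,nat_lit 4,nat_lit 8,nat_lit 16,nat_lit 32] [[nat_lit 1]]))::[]))) Srch.nil) Srch.nil) (Srch.rep (nat_lit 20) [nat_lit 18] [] [] (Srch.rep (nat_lit 2) [nat_lit 6] [] [] (Srch.rep (nat_lit 14) [] [] [] (Srch.fin [nat_lit 8] [nat_lit 0] (((nat_lit 0),(Leaf.mp (nat_lit 28) [nat_lit 1,nat_lit 2,nat_lit 4,nat_lit 8,nat_lit 16,nat_lit 32] [[nat_lit 1]]))::(((nat_lit 1),(Leaf.mp (nat_lit 29) [nat_lit 1,nat_lit 2,nat_lit 4,nat_lit 8,nat_lit 16,nat_lit 32] [[nat_lit 1]]))::[]))) Srch.nil) Srch.nil) Srch.nil)) Srch.nil)) (Node.lf (Leaf.au (nat_lit 1) (nat_lit 0) (nat_lit 0) [] [] [nat_lit 1,nat_lit 32,nat_lit 1] (nat_lit 0) [] (nat_lit 24) [nat_lit 0,nat_lit 0,nat_lit 0,nat_lit 16,nat_lit 8]))))))))))))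
theorem ok30 : nodeOK DB PT 30 t30 (nat_lit 0xf0c3ccff) (nat_lit 0x222200001100001111001100334433ff) c30 = true := by
  decide +kernel
noncomputable def t31 : ℕ := nat_lit 0x2100210021002100200020002000200020002000200020002100210021002100200020002000200021002100210021002100210021002100200020002000200021002100210021002000200020002000200020002000200021002100210021002000200020002000210021002100210021002100210021002000200020002000100010001000100010001000100010001000100010001000100010001000100010001000100010001000100010001000100010001000100010001000100010000a000a000a000a0009000900080008000a000a000a000a00090009000800080007000700060006000400040004000400030003000200020001000100000000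
noncomputable def c31 : Node :=
  (Node.st (nat_lit 0) (nat_lit 16) (nat_lit 0) (Node.st (nat_lit 2) (nat_lit 0) (nat_lit 5) (Node.st (nat_lit 0) (nat_lit 24) (nat_lit 0) (Node.sp (nat_lit 1) (Node.lf (Leaf.od (nat_lit 1) [nat_lit 32,nat_lit 16,nat_lit 8,nat_lit 4,nat_lit 2,nat_lit 1])) (Node.sp (nat_lit 8) (Node.lf (Leaf.pt (nat_lit 5) (nat_lit 8) [nat_lit 16])) (Node.st (nat_lit 0) (nat_lit 8) (nat_lit 0) (Node.lf (Leaf.mp (nat_lit 30) [nat_lit 1,nat_lit 8,nat_lit 16,nat_lit 2,nat_lit 32] [[nat_lit 1]]))))))))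
theorem ok31 : nodeOK DB PT 31 t31 (nat_lit 0xff0c00030f030f03) (nat_lit 0x11111111000022000000000000000022000011110000005500001111000000ff) c31 = true := by
  decide +kernel
noncomputable def t32 : ℕ := nat_lit 0x100010001000100010001000100010001000100010001000100010001000100010001000100010001000100010001000100010001000100010001000100010000a000a000a000a0009000900080008000a000a000a000a00090009000800080007000700060006000400040004000400030003000200020001000100000000
noncomputable def c32 : Node :=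
  (Node.st (nat_lit 2) (nat_lit 0) (nat_lit 1) (Node.st (nat_lit 0) (nat_lit 8) (nat_lit 0) (Node.st (nat_lit 2) (nat_lit 0) (nat_lit 5) (Node.st (nat_lit 0) (nat_lit 24) (nat_lit 0) (Node.ext [] (nat_lit 16) [Ins.fr [nat_lit 0],Ins.ts (nat_lit 1) [nat_lit 0,nat_lit 0] [],Ins.ts (nat_lit 1) [nat_lit 0,nat_lit 0,nat_lit 0,nat_lit 0] [],Ins.fr [nat_lit 1],Ins.ts (nat_lit 1) [nat_lit 0,nat_lit 0] [],Ins.ts (nat_lit 3) [nat_lit 1,nat_lit 0] [],Ins.ts (nat_lit 0) [nat_lit 0,nat_lit 1,nat_lit 0,nat_lit 1] [],Ins.ts (nat_lit 1) [nat_lit 1,nat_lit 0] [],Ins.ts (nat_lit 0) [nat_lit 0,nat_lit 0,nat_lit 0,nat_lit 0] [],Ins.df [nat_lit 0,nat_lit 0],Ins.df [nat_lit 2,nat_lit 2],Ins.df [nat_lit 0,nat_lit 2,nat_lit 3]] [nat_lit 4,nat_lit 12] [nat_lit 2,nat_lit 1,nat_lit 4,nat_lit 0,nat_lit 5] (Srch.ex0 [nat_lit 16,nat_lit 8,nat_lit 4,nat_lit 2,nat_lit 1] (Srch.rep (nat_lit 17) [nat_lit 8] [nat_lit 16,nat_lit 8,nat_lit 4,nat_lit 2,nat_lit 1] [] (Srch.rep (nat_lit 4) [nat_lit 2,nat_lit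 4] [] [] (Srch.rep (nat_lit 12) [] [] [] (Srch.fin [nat_lit 8,nat_lit 2] [nat_lit 0,nat_lit 16] (((nat_lit 0),(Leaf.mp (nat_lit 31) [nat_lit 1,nat_lit 2,nat_lit 20,nat_lit 8,nat_lit 16,nat_lit 50] [[nat_lit 1]]))::[])) Srch.nil) (Srch.rep (nat_lit 5) [nat_lit 2,nat_lit 4] [] [] (Srch.rep (nat_lit 12) [] [] [] (Srch.fin [nat_lit 8,nat_lit 2] [nat_lit 0,nat_lit 16] (((nat_lit 0),(Leaf.mp (nat_lit 31) [nat_lit 1,nat_lit 2,nat_lit 4,nat_lit 8,nat_lit 16,nat_lit 32] [[nat_lit 1]]))::[])) Srch.nil) (Srch.rep (nat_lit 20) [nat_lit 2,nat_lit 4] [] [] (Srch.rep (nat_lit 28) [] [] [] (Srch.fin [nat_lit 4] [] []) Srch.nil) (Srch.rep (nat_lit 21) [nat_lit 2,nat_lit 4] [] [] (Srch.rep (nat_lit 28) [] [] [] (Srch.fin [nat_lit 4] [] []) Srch.nil) Srch.nil)))) (Srch.rep (nat_lit 24) [] [nat_lit 16,nat_lit 8,nat_lit 1] [nat_lit 4,nat_lit 2] Srch.nil Srch.nil))) Node.done)))))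
theorem ok32 : nodeOK DB PT 32 t32 (nat_lit 0xf030f03) (nat_lit 0x1111000000ff00001111000000ff) c32 = true := by
  decide +kernel
noncomputable def t33 : ℕ := nat_lit 0x100010001000100010001000100010001000100010001000100010001000100010001000100010001000100010001000100010001000100010001000100010000a000a000a000a0009000900080008000a000a000a000a00090009000800080007000700060006000400040004000400030003000200020001000100000000
noncomputable def c33 : Node :=
  (Node.st (nat_lit 2) (nat_lit 0) (nat_lit 1) (Node.st (nat_lit 0) (nat_lit 8) (nat_lit 0) (Node.st (nat_lit 2) (nat_lit 0) (nat_lit 5) (Node.st (nat_lit 0) (nat_lit 24) (nat_lit 0) (Node.est (nat_lit 5) (nat_lit 16) [nat_lit 16,nat_lit 8,nat_lit 4,nat_lit 2,nat_lit 1] (Srch.rep (nat_lit 16) [] [nat_lit 16,nat_lit 8,nat_lit 4,nat_lit 2,nat_lit 1] [] Srch.nil Srch.nil) (Node.est (nat_lit 10) (nat_lit 16) [nat_lit 16,nat_lit 8,nat_lit 4,nat_lit 2,nat_lit 1] (Srch.rep (nat_lit 16) [nat_lit 2,nat_lit 4,nat_lit 8] [nat_lit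 16,nat_lit 8,nat_lit 4,nat_lit 2,nat_lit 1] [] (Srch.rep (nat_lit 2) [] [] [] Srch.nil (Srch.rep (nat_lit 12) [] [] [] Srch.nil (Srch.rep (nat_lit 18) [] [] [] Srch.nil (Srch.rep (nat_lit 28) [] [] [] Srch.nil Srch.nil)))) Srch.nil) (Node.est (nat_lit 14) (nat_lit 16) [nat_lit 16,nat_lit 8,nat_lit 4,nat_lit 2,nat_lit 1] (Srch.rep (nat_lit 16) [nat_lit 2,nat_lit 4,nat_lit 8] [nat_lit 16,nat_lit 8,nat_lit 4,nat_lit 2,nat_lit 1] [] (Srch.rep (nat_lit 1) [nat_lit 2,nat_lit 4,nat_lit 8] [] [] (Srch.rep (nat_lit 8) [] [] [] Srch.nil Srch.nil) (Srch.rep (nat_lit 8) [] [] [] (Srch.rep (nat_lit 1) [] [] [] Srch.nil (Srch.rep (nat_lit 9) [] [] [] Srch.nil Srch.nil)) Srch.nil)) Srch.nil) (Node.est (nat_lit 16) (nat_lit 16) [nat_lit 16,nat_lit 8,nat_lit 4,nat_lit 2,nat_lit 1] (Srch.rep (nat_lit 16) [nat_lit 2,nat_lit 4,nat_lit 8] [nat_lit 16,nat_lit 8,nat_lit 4,nat_lit 2,nat_lit 1] [] (Srch.rep (nat_lit 17) [] [] [] Srch.nil (Srch.rep (nat_lit 24) [] [] [] Srch.nil Srch.nil))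 Srch.nil) (Node.est (nat_lit 20) (nat_lit 16) [nat_lit 16,nat_lit 8,nat_lit 4,nat_lit 2,nat_lit 1] (Srch.rep (nat_lit 16) [nat_lit 2,nat_lit 4,nat_lit 8] [nat_lit 16,nat_lit 8,nat_lit 4,nat_lit 2,nat_lit 1] [] (Srch.rep (nat_lit 1) [] [] [] Srch.nil (Srch.rep (nat_lit 8) [] [] [] Srch.nil Srch.nil)) Srch.nil) (Node.est (nat_lit 24) (nat_lit 16) [nat_lit 16,nat_lit 8,nat_lit 4,nat_lit 2,nat_lit 1] (Srch.rep (nat_lit 16) [nat_lit 2,nat_lit 4,nat_lit 8] [nat_lit 16,nat_lit 8,nat_lit 4,nat_lit 2,nat_lit 1] [] (Srch.rep (nat_lit 2) [] [] [] Srch.nil (Srch.rep (nat_lit 12) [] [] [] Srch.nil (Srch.rep (nat_lit 18) [] [] [] Srch.nil (Srch.rep (nat_lit 28) [] [] [] Srch.nil Srch.nil)))) Srch.nil) (Node.lf (Leaf.mp (nat_lit 32) [nat_lit 1,nat_lit 2,nat_lit 4,nat_lit 8,nat_lit 16] [[nat_lit 1],[nat_lit 3]]))))))))))))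
theorem ok33 : nodeOK DB PT 33 t33 (nat_lit 0xf030f03) (nat_lit 0x1111000000ff00001111000000ff) c33 = true := by
  decide +kernel
noncomputable def t34 : ℕ := nat_lit 0x100010001000100010001000100010001000100010001000100010001000100010001000100010001000100010001000100010001000100010001000100010000a000a000a000a0009000900080008000a000a000a000a00090009000800080007000700060006000400040004000400030003000200020001000100000000
noncomputable def c34 : Node :=
  (Node.sp (nat_lit 17) (Node.sp (nat_lit 1) (Node.ext [] (nat_lit 1) [Ins.fr [nat_lit 0],Ins.ts (nat_lit 1) [nat_lit 0,nat_lit 0] [],Ins.ts (nat_lit 0) [nat_lit 0,nat_lit 0,nat_lit 0,nat_lit 0] [nat_lit 1],Ins.fr [nat_lit 1],Ins.fr [nat_lit 2],Ins.df [nat_lit 1,nat_lit 1],Ins.df [nat_lit 0,nat_lit 1,nat_lit 3],Ins.df [nat_lit 0,nat_lit 1,nat_lit 2,nat_lit 3]] [nat_lit 4,nat_lit 20,nat_lit 12] [nat_lit 6,nat_lit 2,nat_lit 5,nat_lit 1,nat_lit 0] (Srch.ex0 [nat_lit 16,nat_lit 8,nat_lit 4,nat_lit 2,nat_lit 1] (Srch.rep (nat_lit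 8) [] [nat_lit 16,nat_lit 8,nat_lit 1] [nat_lit 4,nat_lit 2] Srch.nil (Srch.rep (nat_lit 16) [] [nat_lit 16,nat_lit 8,nat_lit 4,nat_lit 2,nat_lit 1] [] Srch.nil (Srch.rep (nat_lit 17) [] [nat_lit 16,nat_lit 8,nat_lit 4,nat_lit 2,nat_lit 1] [] Srch.nil (Srch.rep (nat_lit 24) [] [nat_lit 16,nat_lit 8,nat_lit 1] [nat_lit 4,nat_lit 2] Srch.nil Srch.nil))))) Node.done) (Node.st (nat_lit 2) (nat_lit 0) (nat_lit 1) (Node.st (nat_lit 0) (nat_lit 8) (nat_lit 0) (Node.st (nat_lit 2) (nat_lit 0) (nat_lit 5) (Node.st (nat_lit 0) (nat_lit 24) (nat_lit 0) (Node.lf (Leaf.mp (nat_lit 33) [nat_lit 1,nat_lit 2,nat_lit 4,nat_lit 8,nat_lit 16] [[nat_lit 1],[nat_lit 3]]))))))) (Node.ext [] (nat_lit 16) [Ins.fr [nat_lit 0],Ins.ts (nat_lit 1) [nat_lit 0,nat_lit 0] [],Ins.ts (nat_lit 1) [nat_lit 0,nat_lit 0,nat_lit 1] [],Ins.ts (nat_lit 1) [nat_lit 0,nat_lit 0,nat_lit 0,nat_lit 0,nat_lit 1] [],Ins.fr [nat_lit 1],Ins.df [nat_lit 0,nat_lit 0],Ins.df [nat_lit 2,nat_lit 2],Ins.df [nat_lit 0,nat_lit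 2,nat_lit 3]] [nat_lit 4,nat_lit 12] [nat_lit 2,nat_lit 1,nat_lit 4,nat_lit 0,nat_lit 5] (Srch.ex0 [nat_lit 16,nat_lit 8,nat_lit 4,nat_lit 2,nat_lit 1] (Srch.rep (nat_lit 1) [] [nat_lit 16,nat_lit 8,nat_lit 4,nat_lit 2,nat_lit 1] [] Srch.nil (Srch.rep (nat_lit 8) [] [nat_lit 16,nat_lit 8,nat_lit 1] [nat_lit 4,nat_lit 2] Srch.nil (Srch.rep (nat_lit 24) [] [nat_lit 16,nat_lit 8,nat_lit 1] [nat_lit 4,nat_lit 2] Srch.nil Srch.nil)))) Node.done))
theorem ok34 : nodeOK DB PT 34 t34 (nat_lit 0xf030f03) (nat_lit 0x1111000000ff00001111000000ff) c34 = true := by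
  decide +kernel
noncomputable def c35_0 : Node :=
  Node.sp (nat_lit 14) (Node.lf (Leaf.pt (nat_lit 11) (nat_lit 14) [nat_lit 2,nat_lit 64,nat_lit 1])) (Node.st (nat_lit 0) (nat_lit 14) (nat_lit 0) (Node.sp (nat_lit 18) (Node.lf (Leaf.pt (nat_lit 0) (nat_lit 18) [nat_lit 140])) (Node.st (nat_lit 0) (nat_lit 18) (nat_lit 0) (Node.sp (nat_lit 30) (Node.lf (Leaf.pt (nat_lit 8) (nat_lit 30) [nat_lit 4,nat_lit 18])) (Node.st (nat_lit 0) (nat_lit 30) (nat_lit 0) (Node.sp (nat_lit 32) (Node.lf (Leaf.pt (nat_lit 11) (nat_lit 32) [nat_lit 18,nat_lit 128,nat_lit 1])) (Node.st (nat_lit 0) (nat_lit 32) (nat_lit 0) (Node.sp (nat_lit 44) (Node.lf (Leaf.pt (nat_lit 11) (nat_lit 44) [nat_lit 12,nat_lit 84,nat_lit 1])) (Node.st (nat_lit 0) (nat_lit 44) (nat_lit 0) (Node.sp (nat_lit 68) (Node.lf (Leaf.st (nat_lit 1) (nat_lit 16) (nat_lit 68) (Leaf.pt (nat_lit 7) (nat_lit 68) [nat_lit 104,nat_lit 150]))) (Node.st (nat_lit 0) (nat_lit 68) (nat_lit 0) (Node.sp (nat_lit 69) (Node.lf (Leaf.pt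 (nat_lit 11) (nat_lit 69) [nat_lit 1,nat_lit 150,nat_lit 44])) (Node.st (nat_lit 0) (nat_lit 69) (nat_lit 0) (Node.sp (nat_lit 72) (Node.lf (Leaf.st (nat_lit 1) (nat_lit 148) (nat_lit 72) (Leaf.st (nat_lit 1) (nat_lit 4) (nat_lit 72) (Leaf.st (nat_lit 1) (nat_lit 132) (nat_lit 72) (Leaf.pt (nat_lit 15) (nat_lit 72) [nat_lit 1,nat_lit 2,nat_lit 44]))))) (Node.st (nat_lit 0) (nat_lit 72) (nat_lit 0) (Node.sp (nat_lit 136) (Node.lf (Leaf.st (nat_lit 1) (nat_lit 32) (nat_lit 136) (Leaf.pt (nat_lit 7) (nat_lit 136) [nat_lit 137,nat_lit 84]))) (Node.st (nat_lit 0) (nat_lit 136) (nat_lit 0) (Node.sp (nat_lit 204) (Node.lf (Leaf.st (nat_lit 1) (nat_lit 16) (nat_lit 204) (Leaf.pt (nat_lit 7) (nat_lit 204) [nat_lit 205,nat_lit 90]))) (Node.st (nat_lit 0) (nat_lit 204) (nat_lit 0) (Node.ext [] (nat_lit 8) [Ins.fr [nat_lit 0],Ins.ts (nat_lit 1) [nat_lit 0,nat_lit 0] [],Ins.fr [nat_lit 1],Ins.ts (nat_lit 1) [nat_lit 0,nat_lit 0] [],Ins.ts (nat_lit 3) [nat_lit 0,nat_lit 1] [],Ins.ts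 (nat_lit 3) [nat_lit 0,nat_lit 1,nat_lit 2] [],Ins.fr [nat_lit 2],Ins.ts (nat_lit 3) [nat_lit 0] [],Ins.ts (nat_lit 2) [nat_lit 0,nat_lit 3] [],Ins.ts (nat_lit 0) [nat_lit 0,nat_lit 0] [],Ins.ts (nat_lit 1) [nat_lit 0] [],Ins.ts (nat_lit 2) [nat_lit 2,nat_lit 0,nat_lit 3] [],Ins.ts (nat_lit 0) [nat_lit 2,nat_lit 0,nat_lit 2] [nat_lit 0],Ins.fr [nat_lit 1,nat_lit 1,nat_lit 3],Ins.ts (nat_lit 0) [nat_lit 0,nat_lit 0] [],Ins.ts (nat_lit 3) [nat_lit 0] [],Ins.ts (nat_lit 2) [nat_lit 2,nat_lit 0] [],Ins.ts (nat_lit 0) [nat_lit 2,nat_lit 0,nat_lit 2] [nat_lit 0],Ins.fr [nat_lit 1,nat_lit 4],Ins.ts (nat_lit 0) [nat_lit 0,nat_lit 0] [nat_lit 2],Ins.ts (nat_lit 0) [nat_lit 5,nat_lit 1,nat_lit 4] [nat_lit 0,nat_lit 3,nat_lit 0],Ins.ts (nat_lit 0) [nat_lit 5,nat_lit 1,nat_lit 0] [nat_lit 3,nat_lit 0,nat_lit 4],Ins.fr [nat_lit 4,nat_lit 2,nat_lit 5],Ins.ts (nat_lit 0) [nat_lit 5,nat_lit 3] [nat_lit 0,nat_lit 0],Ins.ts (nat_lit 0) [nat_lit 1,nat_lit 5,nat_lit 0] [nat_lit 0,nat_lit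 1],Ins.df [nat_lit 4,nat_lit 4],Ins.df [nat_lit 0,nat_lit 5,nat_lit 6]] [nat_lit 16,nat_lit 20,nat_lit 2,nat_lit 32,nat_lit 64,nat_lit 128] [nat_lit 1,nat_lit 5,nat_lit 0,nat_lit 8,nat_lit 7,nat_lit 4,nat_lit 3,nat_lit 2] (Srch.rep (nat_lit 8) [nat_lit 2] [nat_lit 16,nat_lit 8,nat_lit 4,nat_lit 2,nat_lit 1] [nat_lit 128,nat_lit 64,nat_lit 32] (Srch.rep (nat_lit 16) [] [] [] (Srch.rep (nat_lit 20) [nat_lit 16] [] [] (Srch.rep (nat_lit 2) [nat_lit 4] [] [] (Srch.rep (nat_lit 32) [] [] [] (Srch.rep (nat_lit 64) [nat_lit 12] [] [] (Srch.rep (nat_lit 128) [] [] [] (Srch.fin [nat_lit 128,nat_lit 2] [nat_lit 0] (((nat_lit 0),(Leaf.pt (nat_lit 11) (nat_lit 8) [nat_lit 4,nat_lit 16,nat_lit 256]))::(((nat_lit 1),(Leaf.pt (nat_lit 7) (nat_lit 8) [nat_lit 10,nat_lit 256]))::[]))) Srch.nil) (Srch.rep (nat_lit 65) [nat_lit 12] [] [] (Srch.rep (nat_lit 128) [] [] [] (Srch.fin [nat_lit 128,nat_lit 2] [nat_lit 0] (((nat_lit 0),(Leaf.pt (nat_lit 11) (nat_lit 8) [nat_lit 4,nat_lit 16,nat_lit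 256]))::(((nat_lit 1),(Leaf.pt (nat_lit 7) (nat_lit 8) [nat_lit 10,nat_lit 256]))::[]))) Srch.nil) (Srch.rep (nat_lit 76) [] [] [] Srch.nil (Srch.rep (nat_lit 77) [] [] [] Srch.nil Srch.nil)))) Srch.nil) (Srch.rep (nat_lit 18) [nat_lit 4] [] [] (Srch.rep (nat_lit 32) [] [] [] Srch.nil Srch.nil) Srch.nil)) (Srch.rep (nat_lit 21) [nat_lit 16] [] [] (Srch.rep (nat_lit 2) [nat_lit 4] [] [] (Srch.rep (nat_lit 32) [] [] [] (Srch.rep (nat_lit 66) [nat_lit 12] [] [] (Srch.rep (nat_lit 146) [] [] [] (Srch.fin [nat_lit 128,nat_lit 2] [nat_lit 0] (((nat_lit 0),(Leaf.pt (nat_lit 7) (nat_lit 8) [nat_lit 10,nat_lit 260]))::(((nat_lit 1),(Leaf.pt (nat_lit 7) (nat_lit 8) [nat_lit 10,nat_lit 256]))::[]))) Srch.nil) (Srch.rep (nat_lit 67) [nat_lit 12] [] [] (Srch.rep (nat_lit 146) [] [] [] (Srch.fin [nat_lit 128,nat_lit 2] [nat_lit 0] (((nat_lit 0),(Leaf.pt (nat_lit 7) (nat_lit 8) [nat_lit 10,nat_lit 260]))::(((nat_lit 1),(Leaf.pt (nat_lit 7) (nat_lit 8) [nat_lit 10,nat_lit 256]))::[])))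 Srch.nil) (Srch.rep (nat_lit 78) [] [] [] Srch.nil (Srch.rep (nat_lit 79) [] [] [] Srch.nil Srch.nil)))) Srch.nil) (Srch.rep (nat_lit 18) [nat_lit 4] [] [] (Srch.rep (nat_lit 32) [] [] [] Srch.nil Srch.nil) Srch.nil)) (Srch.rep (nat_lit 28) [nat_lit 16] [] [] (Srch.rep (nat_lit 2) [] [] [] Srch.nil (Srch.rep (nat_lit 18) [] [] [] Srch.nil Srch.nil)) (Srch.rep (nat_lit 29) [nat_lit 16] [] [] (Srch.rep (nat_lit 2) [] [] [] Srch.nil (Srch.rep (nat_lit 18) [] [] [] Srch.nil Srch.nil)) Srch.nil)))) (Srch.rep (nat_lit 20) [] [] [] (Srch.rep (nat_lit 16) [] [] [] Srch.nil (Srch.rep (nat_lit 17) [] [] [] Srch.nil (Srch.rep (nat_lit 24) [] [] [] Srch.nil (Srch.rep (nat_lit 25) [] [] [] Srch.nil Srch.nil)))) (Srch.rep (nat_lit 24) [] [] [] (Srch.rep (nat_lit 20) [] [] [] Srch.nil (Srch.rep (nat_lit 21) [] [] [] Srch.nil (Srch.rep (nat_lit 28) [] [] [] Srch.nil (Srch.rep (nat_lit 29) [] [] [] Srch.nil Srch.nil)))) (Srch.rep (nat_lit 28) [] [] [] (Srch.rep (nat_lit 16) [] [] []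 Srch.nil (Srch.rep (nat_lit 17) [] [] [] Srch.nil (Srch.rep (nat_lit 24) [] [] [] Srch.nil (Srch.rep (nat_lit 25) [] [] [] Srch.nil Srch.nil)))) Srch.nil)))) Srch.nil) Node.done))))))))))))))))))))
noncomputable def t35 : ℕ := nat_lit 0x83008300af00af0091009100bc00bc0090009000bd00bd0082008200ae00ae00ae00ae0082008200bd00bd0090009000bc00bc0091009100af00af008300830083008300af00af0091009100bc00bc0090009000bd00bd0082008200ae00ae00ae00ae0082008200bd00bd0090009000bc00bc0091009100af00af008300830093009300bf00bf0080008000ad00ad0081008100ac00ac0092009200be00be00bf00bf0093009300ad00ad0080008000ac00ac0081008100be00be009200920093009300bf00bf0080008000ad00ad0081008100ac00ac0092009200be00be00bf00bf0093009300ad00ad0080008000ac00ac0081008100be00be0092009200bd00bd0091009100af00af0082008200ae00ae0083008300bc00bc009000900090009000bc00bc0083008300ae00ae0082008200af00af0091009100bd00bd00bd00bd0091009100af00af0082008200ae00ae0083008300bc00bc009000900090009000bc00bc0083008300ae00ae0082008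200af00af0091009100bd00bd0081008100ad00ad0092009200bf00bf0093009300be00be0080008000ac00ac00ad00ad0081008100bf00bf0092009200be00be0093009300ac00ac008000800081008100ad00ad0092009200bf00bf0093009300be00be0080008000ac00ac00ad00ad0081008100bf00bf0092009200be00be0093009300ac00ac00800080006e006e006e006e006c006c006c006c006c006c006c006c006e006e006e006e0043004300430043004100410041004100410041004100410043004300430043006f006f006f006f006d006d006d006d006d006d006d006d006f006f006f006f0042004200420042004000400040004000400040004000400042004200420042006d006d006d006d006f006f006f006f006f006f006f006f006d006d006d006d0041004100410041004300430043004300430043004300430041004100410041006c006c006c006c006e006e006e006e006e006e006e006e006c006c006c006c004000400040004000420042004200420042004200420042004000400040004000200020002000200021002100210021002100210021002100200020002000200020002000200020002100210021002100210021002100210020002000200020002000200020002000210021002100210021002100210021002000200020002000200020002000200021002100210021002100210021002100200020002000200010001000110011001000100011001100100010001100110010001000110011001100110010001000110011001000100011001100100010001100110010001000080008000800080008000800080008000800080008000800080008000800080004000400040004000400040004000400020002000200020001000100000000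
noncomputable def c35 : Node :=
  (Node.st (nat_lit 0) (nat_lit 8) (nat_lit 0) (Node.sp (nat_lit 1) (Node.lf (Leaf.pt (nat_lit 7) (nat_lit 1) [nat_lit 8,nat_lit 16])) (Node.sp (nat_lit 2) (Node.lf (Leaf.pt (nat_lit 0) (nat_lit 2) [nat_lit 96])) (Node.st (nat_lit 0) (nat_lit 2) (nat_lit 0) (Node.sp (nat_lit 4) (Node.lf (Leaf.pt (nat_lit 7) (nat_lit 4) [nat_lit 8,nat_lit 16])) (Node.st (nat_lit 0) (nat_lit 4) (nat_lit 0) (Node.sp (nat_lit 12) (Node.lf (Leaf.pt (nat_lit 7) (nat_lit 12) [nat_lit 8,nat_lit 16])) (Node.st (nat_lit 0) (nat_lit 12) (nat_lit 0) c35_0))))))))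
theorem ok35 : nodeOK DB PT 35 t35 (nat_lit 0x300033000300000c000300c00030000000ff000000ff0c33cf00fccccffff) (nat_lit 0x110000000000000011001100000000000000110000000000000000000011000000000000000011000000001100000000000000001100000000000000000000000000002222222200000000000000000000000022222222000011000011001111002222000000002222110011001100110044774455445544ff) c35 = true := by
  decide +kernel
noncomputable def t36 : ℕ := nat_lit 0x3cc03cc0306030602da02da023c023c02f702f70210021003e103e1032a032a03e003e0032a032a02f602f60210021002db02db023c023c03cd03cd0306030603e003e0032a032a02f702f70211021102da02da023d023d03cd03cd0306030603cc03cc0306030602db02db023d023d02f602f60211021103e103e1032a032a0213021302f502f503cc03cc0306030603e003e0032b032b023e023e02d902d9023f023f02d902d903e103e1032b032b03cd03cd030603060212021202f502f5023f023f02d902d903e103e1032b032b03cd03cd030603060212021202f502f50213021302f502f503cc03cc0306030603e003e0032b032b023e023e02d902d9032a032a03cd03cd02e502e5022e02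2e02c802c8020202020306030603e003e00306030603e103e102c902c90202020202e402e4022e022e032a032a03cc03cc0306030603e103e102c802c80203020302e502e5022f022f032a032a03cc03cc032a032a03cd03cd02e402e4022f022f02c902c9020302030306030603e003e0022c022c02e702e7032b032b03cd03cd0306030603e103e10201020102cb02cb0200020002cb02cb0306030603e003e0032b032b03cc03cc022d022d02e702e70200020002cb02cb0306030603e003e0032b032b03cc03cc022d022d02e702e7022c022c02e702e7032b032b03cd03cd0306030603e103e10201020102cb02cb0210021002e602e6032a032a03f003f00307030703dc03dc023d023d02ca02ca023d023d02ca02ca0307030703dc03dc032a032a03f003f00210021002e602e6023c023c02ca02ca0307030703dd03dd032a032a03f103f10211021102e602e60211021102e602e6032a032a03f103f10307030703dd03dd023c023c02ca02ca03dd03dd032b032b023e023e02e402e40212021202c902c903f003f00307030703f003f0030703070213021302c802c8023f023f02e502e503dd03dd032b032b03f103f1030703070213021302c902c9023f023f02e402e403dc03dc032b032b03dc03dc032b032b023e023e02e502e50212021202c802c80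3f103f10307030702d802d8022f022f032a032a03f003f00307030703dc03dc02f402f40202020202f402f4020202020307030703dc03dc032a032a03f003f002d802d8022f022f02f402f4020302030307030703dd03dd032a032a03f103f102d802d8022e022e02d802d8022e022e032a032a03f103f10307030703dd03dd02f402f40203020303dd03dd032b032b02f702f7022d022d02da02da0201020103f003f00307030703f003f00307030702db02db0200020002f602f6022c022c03dd03dd032b032b03f103f10307030702da02da0200020002f702f7022c022c03dc03dc032b032b03dc03dc032b032b02f602f6022d022d02db02db0201020103f103f10307030702ca02ca0211021103dc03dc032b032b03f003f00306030602e602e6023c023c02e602e6023c023c03f003f00306030603dc03dc032b032b02ca02ca0211021102e602e6023d023d03f103f10306030603dd03dd032b032b02ca02ca0210021002ca02ca0210021003dd03dd032b032b03f103f10306030602e602e6023d023d032a032a03f003f002c902c9023f023f02e402e4021302130306030603dd03dd0306030603dd03dd02e502e50212021202c802c8023e023e032a032a03f003f00306030603dc03dc02e402e40212021202c902c9023e023e032a032a03f103f1032a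032a03f103f102c802c8023f023f02e502e5021302130306030603dc03dc022e022e02f402f403dc03dc032b032b03f003f0030603060203020302d802d80203020302d802d803f003f00306030603dc03dc032b032b022e022e02f402f40202020202d802d803f103f10306030603dd03dd032b032b022f022f02f402f4022f022f02f402f403dd03dd032b032b03f103f1030603060202020202d802d8032a032a03f003f0022c022c02da02da0200020002f702f70306030603dd03dd0306030603dd03dd0201020102f602f6022d022d02db02db032a032a03f003f00306030603dc03dc0201020102f702f7022d022d02da02da032a032a03f103f1032a032a03f103f1022c022c02db02db0200020002f602f60306030603dc03dc0307030703e103e1023d023d02f702f70211021102da02da032b032b03cc03cc032b032b03cd03cd0211021102db02db023d023d02f602f60307030703e003e0032b032b03cd03cd0210021002da02da023c023c02f702f70307030703e003e00307030703e103e1023c023c02f602f60210021002db02db032b032b03cc03cc02d902d9021202120307030703e003e0032a032a03cc03cc02f502f5023f023f02f502f5023e023e032a032a03cd03cd0307030703e103e102d902d90213021302f502f5023e023e032a032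a03cd03cd0307030703e103e102d902d90213021302d902d9021202120307030703e003e0032a032a03cc03cc02f502f5023f023f03e003e0032b032b022f022f02c802c80203020302e502e503cd03cd0307030703cc03cc030703070203020302e402e4022f022f02c902c903e103e1032b032b03cc03cc030703070202020202e502e5022e022e02c802c803e103e1032b032b03e003e0032b032b022e022e02c902c90202020202e402e403cd03cd0307030702cb02cb022d022d03e103e1032a032a03cd03cd0307030702e702e70200020002e702e70201020103cc03cc0307030703e003e0032a032a02cb02cb022c022c02e702e70201020103cc03cc0307030703e003e0032a032a02cb02cb022c022c02cb02cb022d022d03e103e1032a032a03cd03cd0307030702e702e702000200012c012c013c013c012d012d013d013d012c012c013c013c012d012d013d013d012c012c013d013d012d012d013c013c012c012c013d013d012d012d013c013c012c012c013c013c012d012d013d013d012c012c013c013c012d012d013d013d012c012c013d013d012d012d013c013c012c012c013d013d012d012d013c013c01c901c901d901d901c801c801d801d801c901c901d901d901c801c801d801d801c901c901d801d801c801c801d901d901c901c901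d801d801c801c801d901d901c801c801d801d801c901c901d901d901c801c801d801d801c901c901d901d901c801c801d901d901c901c901d801d801c801c801d901d901c901c901d801d801e501e501f501f501e401e401f401f401e501e501f501f501e401e401f401f401e501e501f401f401e401e401f501f501e501e501f401f401e401e401f501f501e401e401f401f401e501e501f501f501e401e401f401f401e501e501f501f501e401e401f501f501e501e501f401f401e401e401f501f501e501e501f401f40101010101110111010001000110011001010101011101110100010001100110010101010110011001000100011101110101010101100110010001000111011101010101011101110100010001100110010101010111011101000100011001100101010101100110010001000111011101010101011001100100010001110111013c013c012d012d013d013d012c012c013c013c012d012d013d013d012c012c013d013d012d012d013c013c012c012c013d013d012d012d013c013c012c012c013c013c012d012d013d013d012c012c013c013c012d012d013d013d012c012c013d013d012d012d013c013c012c012c013d013d012d012d013c013c012c012c01f401f401e501e501f501f501e401e401f401f401e501e501f501f501e40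1e401f501f501e501e501f401f401e401e401f501f501e501e501f401f401e401e401f501f501e401e401f401f401e501e501f501f501e401e401f401f401e501e501f401f401e401e401f501f501e501e501f401f401e401e401f501f501e501e501d801d801c901c901d901d901c801c801d801d801c901c901d901d901c801c801d901d901c901c901d801d801c801c801d901d901c901c901d801d801c801c801d901d901c801c801d801d801c901c901d901d901c801c801d801d801c901c901d801d801c801c801d901d901c901c901d801d801c801c801d901d901c901c901100110010101010111011101000100011001100101010101110111010001000111011101010101011001100100010001110111010101010110011001000100011001100101010101110111010001000110011001010101011101110100010001110111010101010110011001000100011101110101010101100110010001000092009200be00be0080008000ad00ad0080008000ad00ad0092009200be00be00be00be0092009200ad00ad0080008000ad00ad0080008000be00be009200920092009200be00be0080008000ad00ad0080008000ad00ad0092009200be00be00be00be0092009200ad00ad0080008000ad00ad0080008000be00be009200920080008000ac00ac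0092009200bf00bf0092009200bf00bf0080008000ac00ac00ac00ac0080008000bf00bf0092009200bf00bf0092009200ac00ac008000800080008000ac00ac0092009200bf00bf0092009200bf00bf0080008000ac00ac00ac00ac0080008000bf00bf0092009200bf00bf0092009200ac00ac008000800092009200be00be0080008000ad00ad0080008000ad00ad0092009200be00be00be00be0092009200ad00ad0080008000ad00ad0080008000be00be009200920092009200be00be0080008000ad00ad0080008000ad00ad0092009200be00be00be00be0092009200ad00ad0080008000ad00ad0080008000be00be009200920080008000ac00ac0092009200bf00bf0092009200bf00bf0080008000ac00ac00ac00ac0080008000bf00bf0092009200bf00bf0092009200ac00ac008000800080008000ac00ac0092009200bf00bf0092009200bf00bf0080008000ac00ac00ac00ac0080008000bf00bf0092009200bf00bf0092009200ac00ac00800080006e006e006e006e006c006c006c006c006c006c006c006c006e006e006e006e0043004300430043004100410041004100410041004100410043004300430043006f006f006f006f006d006d006d006d006d006d006d006d006f006f006f006f00420042004200420040004000400040004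00040004000400042004200420042006d006d006d006d006f006f006f006f006f006f006f006f006d006d006d006d0041004100410041004300430043004300430043004300430041004100410041006c006c006c006c006e006e006e006e006e006e006e006e006c006c006c006c004000400040004000420042004200420042004200420042004000400040004000200020002000200021002100210021002100210021002100200020002000200020002000200020002100210021002100210021002100210020002000200020002000200020002000210021002100210021002100210021002000200020002000200020002000200021002100210021002100210021002100200020002000200010001000110011001000100011001100100010001100110010001000110011001100110010001000110011001000100011001100100010001100110010001000080008000800080008000800080008000800080008000800080008000800080004000400040004000400040004000400020002000200020001000100000000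
noncomputable def c36 : Node :=
  (Node.st (nat_lit 0) (nat_lit 8) (nat_lit 0) (Node.sp (nat_lit 1) (Node.lf (Leaf.pt (nat_lit 7) (nat_lit 1) [nat_lit 8,nat_lit 16])) (Node.sp (nat_lit 2) (Node.lf (Leaf.pt (nat_lit 0) (nat_lit 2) [nat_lit 96])) (Node.st (nat_lit 0) (nat_lit 2) (nat_lit 0) (Node.sp (nat_lit 4) (Node.lf (Leaf.pt (nat_lit 7) (nat_lit 4) [nat_lit 8,nat_lit 16])) (Node.st (nat_lit 0) (nat_lit 4) (nat_lit 0) (Node.sp (nat_lit 12) (Node.lf (Leaf.pt (nat_lit 7) (nat_lit 12) [nat_lit 8,nat_lit 16])) (Node.st (nat_lit 0) (nat_lit 12) (nat_lit 0) (Node.sp (nat_lit 14) (Node.lf (Leaf.pt (nat_lit 11) (nat_lit 14) [nat_lit 2,nat_lit 64,nat_lit 1])) (Node.st (nat_lit 0) (nat_lit 14) (nat_lit 0) (Node.sp (nat_lit 44) (Node.lf (Leaf.pt (nat_lit 11) (nat_lit 44) [nat_lit 12,nat_lit 84,nat_lit 1])) (Node.st (nat_lit 0) (nat_lit 44) (nat_lit 0) (Node.sp (nat_lit 68) (Node.lf (Leaf.st (nat_lit 1) (nat_lit 16) (nat_lit 68) (Leaf.pt (nat_lit 7) (nat_lit 68) [nat_lit 104,nat_lit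 130]))) (Node.st (nat_lit 0) (nat_lit 68) (nat_lit 0) (Node.sp (nat_lit 69) (Node.lf (Leaf.pt (nat_lit 11) (nat_lit 69) [nat_lit 1,nat_lit 130,nat_lit 12])) (Node.st (nat_lit 0) (nat_lit 69) (nat_lit 0) (Node.sp (nat_lit 72) (Node.lf (Leaf.pt (nat_lit 11) (nat_lit 72) [nat_lit 12,nat_lit 130,nat_lit 1])) (Node.st (nat_lit 0) (nat_lit 72) (nat_lit 0) (Node.sp (nat_lit 73) (Node.lf (Leaf.pt (nat_lit 11) (nat_lit 73) [nat_lit 1,nat_lit 130,nat_lit 12])) (Node.st (nat_lit 0) (nat_lit 73) (nat_lit 0) (Node.sp (nat_lit 266) (Node.lf (Leaf.pt (nat_lit 7) (nat_lit 266) [nat_lit 8,nat_lit 20])) (Node.st (nat_lit 0) (nat_lit 266) (nat_lit 0) (Node.ext [] (nat_lit 8) [Ins.fr [nat_lit 0],Ins.fr [nat_lit 1],Ins.fr [nat_lit 2],Ins.fr [nat_lit 0,nat_lit 0,nat_lit 3],Ins.fr [nat_lit 0,nat_lit 3,nat_lit 2],Ins.fr [nat_lit 0,nat_lit 0,nat_lit 4,nat_lit 2,nat_lit 1],Ins.fr [nat_lit 2,nat_lit 5,nat_lit 0,nat_lit 0],Ins.df [nat_lit 4,nat_lit 4],Ins.df [nat_lit 2,nat_lit 2],Ins.df [nat_lit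 7,nat_lit 7],Ins.df [nat_lit 0,nat_lit 9,nat_lit 8],Ins.df [nat_lit 1,nat_lit 5,nat_lit 6]] [nat_lit 256,nat_lit 260,nat_lit 262,nat_lit 32,nat_lit 192,nat_lit 64,nat_lit 512] [nat_lit 4,nat_lit 3,nat_lit 1,nat_lit 12,nat_lit 2,nat_lit 8,nat_lit 6,nat_lit 0,nat_lit 11,nat_lit 5] (Srch.ex0 [nat_lit 256,nat_lit 16,nat_lit 8,nat_lit 4,nat_lit 2,nat_lit 1] Srch.nil) Node.done)))))))))))))))))))))))
theorem ok36 : nodeOK DB PT 36 t36 (nat_lit 0x30c03c0000c30c030000000000000000000000000000000000cc00cc0c0c0c0c0330033003300330c00c3003c00c300300000ff000000ff0c33cf00fccccffff) (nat_lit 0x1100001100000000111100000000000000000011000011000011000000001100000000000000000000000000000000000000000000000000000000000000000000000000000000000000000000000000000000000000000000000000000000000000001100110000000000110011000000110000001100000011000000110000000011001100000000001100110000000000110011000000000011001100001100000000001100001100000000001111000000000011000011000000000011000000000000000000002222222200000000000000000000000022222222000011000011001111002222000000002222110011001100110044884455445544ff)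 c36 = true := by
  decide +kernel
noncomputable def t37 : ℕ := nat_lit 0x3cd03cd0307030702db02db023d023d02f602f60211021103e003e0032b032b03e103e1032b032b02f702f70211021102da02da023d023d03cc03cc0307030703e103e1032b032b02f602f60210021002db02db023c023c03cc03cc0307030703cd03cd0307030702da02da023c023c02f702f70210021003e003e0032b032b0212021202f402f403cd03cd0307030703e103e1032a032a023f023f02d802d8023e023e02d802d803e003e0032a032a03cc03cc030703070213021302f402f4023e023e02d802d803e003e0032a032a03cc03cc030703070213021302f402f40212021202f402f403cd03cd0307030703e103e1032a032a023f023f02d802d8032b032b03cc03cc02e402e4022f022f02c902c9020302030307030703e103e10307030703e003e002c802c80203020302e502e5022f022f032b032b03cd03cd0307030703e003e002c902c90202020202e402e4022e022e032b032b03cd03cd032b032b03cc03cc02e502e5022e022e02c802c8020202020307030703e103e1022d022d02e602e6032a032a03cc03cc0307030703e003e00200020002ca02ca0201020102ca02ca0307030703e103e1032a032a03cd03cd022c022c02e602e60201020102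ca02ca0307030703e103e1032a032a03cd03cd022c022c02e602e6022d022d02e602e6032a032a03cc03cc0307030703e003e00200020002ca02ca0211021102e702e7032b032b03f103f10306030603dd03dd023c023c02cb02cb023c023c02cb02cb0306030603dd03dd032b032b03f103f10211021102e702e7023d023d02cb02cb0306030603dc03dc032b032b03f003f00210021002e702e70210021002e702e7032b032b03f003f00306030603dc03dc023d023d02cb02cb03dc03dc032a032a023f023f02e502e50213021302c802c803f103f10306030603f103f1030603060212021202c902c9023e023e02e402e403dc03dc032a032a03f003f0030603060212021202c802c8023e023e02e502e503dd03dd032a032a03dd03dd032a032a023f023f02e402e40213021302c902c903f003f00306030602d902d9022e022e032b032b03f103f10306030603dd03dd02f502f50203020302f502f5020302030306030603dd03dd032b032b03f103f102d902d9022e022e02f502f5020202020306030603dc03dc032b032b03f003f002d902d9022f022f02d902d9022f022f032b032b03f003f00306030603dc03dc02f502f50202020203dc03dc032a032a02f602f6022c022c02db02db0200020003f103f10306030603f103f10306030602da02da02010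20102f702f7022d022d03dc03dc032a032a03f003f00306030602db02db0201020102f602f6022d022d03dd03dd032a032a03dd03dd032a032a02f702f7022c022c02da02da0200020003f003f00306030602ca02ca0211021103dc03dc032b032b03f003f00306030602e602e6023c023c02e602e6023c023c03f003f00306030603dc03dc032b032b02ca02ca0211021102e602e6023d023d03f103f10306030603dd03dd032b032b02ca02ca0210021002ca02ca0210021003dd03dd032b032b03f103f10306030602e602e6023d023d032a032a03f003f002c902c9023f023f02e402e4021302130306030603dd03dd0306030603dd03dd02e502e50212021202c802c8023e023e032a032a03f003f00306030603dc03dc02e402e40212021202c902c9023e023e032a032a03f103f1032a032a03f103f102c802c8023f023f02e502e5021302130306030603dc03dc022e022e02f402f403dc03dc032b032b03f003f0030603060203020302d802d80203020302d802d803f003f00306030603dc03dc032b032b022e022e02f402f40202020202d802d803f103f10306030603dd03dd032b032b022f022f02f402f4022f022f02f402f403dd03dd032b032b03f103f1030603060202020202d802d8032a032a03f003f0022c022c02da02da0200020002f702f7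0306030603dd03dd0306030603dd03dd0201020102f602f6022d022d02db02db032a032a03f003f00306030603dc03dc0201020102f702f7022d022d02da02da032a032a03f103f1032a032a03f103f1022c022c02db02db0200020002f602f60306030603dc03dc0307030703e103e1023d023d02f702f70211021102da02da032b032b03cc03cc032b032b03cd03cd0211021102db02db023d023d02f602f60307030703e003e0032b032b03cd03cd0210021002da02da023c023c02f702f70307030703e003e00307030703e103e1023c023c02f602f60210021002db02db032b032b03cc03cc02d902d9021202120307030703e003e0032a032a03cc03cc02f502f5023f023f02f502f5023e023e032a032a03cd03cd0307030703e103e102d902d90213021302f502f5023e023e032a032a03cd03cd0307030703e103e102d902d90213021302d902d9021202120307030703e003e0032a032a03cc03cc02f502f5023f023f03e003e0032b032b022f022f02c802c80203020302e502e503cd03cd0307030703cc03cc030703070203020302e402e4022f022f02c902c903e103e1032b032b03cc03cc030703070202020202e502e5022e022e02c802c803e103e1032b032b03e003e0032b032b022e022e02c902c90202020202e402e403cd03cd0307030702c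b02cb022d022d03e103e1032a032a03cd03cd0307030702e702e70200020002e702e70201020103cc03cc0307030703e003e0032a032a02cb02cb022c022c02e702e70201020103cc03cc0307030703e003e0032a032a02cb02cb022c022c02cb02cb022d022d03e103e1032a032a03cd03cd0307030702e702e702000200012c012c013c013c012d012d013d013d012c012c013c013c012d012d013d013d012c012c013d013d012d012d013c013c012c012c013d013d012d012d013c013c012c012c013c013c012d012d013d013d012c012c013c013c012d012d013d013d012c012c013d013d012d012d013c013c012c012c013d013d012d012d013c013c01c901c901d901d901c801c801d801d801c901c901d901d901c801c801d801d801c901c901d801d801c801c801d901d901c901c901d801d801c801c801d901d901c801c801d801d801c901c901d901d901c801c801d801d801c901c901d901d901c801c801d901d901c901c901d801d801c801c801d901d901c901c901d801d801e501e501f501f501e401e401f401f401e501e501f501f501e401e401f401f401e501e501f401f401e401e401f501f501e501e501f401f401e401e401f501f501e401e401f401f401e501e501f501f501e401e401f401f401e501e501f501f501e401e401f501f501e501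e501f401f401e401e401f501f501e501e501f401f40101010101110111010001000110011001010101011101110100010001100110010101010110011001000100011101110101010101100110010001000111011101010101011101110100010001100110010101010111011101000100011001100101010101100110010001000111011101010101011001100100010001110111013c013c012d012d013d013d012c012c013c013c012d012d013d013d012c012c013d013d012d012d013c013c012c012c013d013d012d012d013c013c012c012c013c013c012d012d013d013d012c012c013c013c012d012d013d013d012c012c013d013d012d012d013c013c012c012c013d013d012d012d013c013c012c012c01f401f401e501e501f501f501e401e401f401f401e501e501f501f501e401e401f501f501e501e501f401f401e401e401f501f501e501e501f401f401e401e401f501f501e401e401f401f401e501e501f501f501e401e401f401f401e501e501f401f401e401e401f501f501e501e501f401f401e401e401f501f501e501e501d801d801c901c901d901d901c801c801d801d801c901c901d901d901c801c801d901d901c901c901d801d801c801c801d901d901c901c901d801d801c801c801d901d901c801c801d801d801c901c901d901d90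1c801c801d801d801c901c901d801d801c801c801d901d901c901c901d801d801c801c801d901d901c901c901100110010101010111011101000100011001100101010101110111010001000111011101010101011001100100010001110111010101010110011001000100011001100101010101110111010001000110011001010101011101110100010001110111010101010110011001000100011101110101010101100110010001000092009200be00be0080008000ad00ad0080008000ad00ad0092009200be00be00be00be0092009200ad00ad0080008000ad00ad0080008000be00be009200920092009200be00be0080008000ad00ad0080008000ad00ad0092009200be00be00be00be0092009200ad00ad0080008000ad00ad0080008000be00be009200920080008000ac00ac0092009200bf00bf0092009200bf00bf0080008000ac00ac00ac00ac0080008000bf00bf0092009200bf00bf0092009200ac00ac008000800080008000ac00ac0092009200bf00bf0092009200bf00bf0080008000ac00ac00ac00ac0080008000bf00bf0092009200bf00bf0092009200ac00ac008000800092009200be00be0080008000ad00ad0080008000ad00ad0092009200be00be00be00be0092009200ad00ad0080008000ad00ad0080008000be00be0092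00920092009200be00be0080008000ad00ad0080008000ad00ad0092009200be00be00be00be0092009200ad00ad0080008000ad00ad0080008000be00be009200920080008000ac00ac0092009200bf00bf0092009200bf00bf0080008000ac00ac00ac00ac0080008000bf00bf0092009200bf00bf0092009200ac00ac008000800080008000ac00ac0092009200bf00bf0092009200bf00bf0080008000ac00ac00ac00ac0080008000bf00bf0092009200bf00bf0092009200ac00ac00800080006e006e006e006e006c006c006c006c006c006c006c006c006e006e006e006e0043004300430043004100410041004100410041004100410043004300430043006f006f006f006f006d006d006d006d006d006d006d006d006f006f006f006f0042004200420042004000400040004000400040004000400042004200420042006d006d006d006d006f006f006f006f006f006f006f006f006d006d006d006d0041004100410041004300430043004300430043004300430041004100410041006c006c006c006c006e006e006e006e006e006e006e006e006c006c006c006c004000400040004000420042004200420042004200420042004000400040004000200020002000200021002100210021002100210021002100200020002000200020002000200020002100210021002100210021002100210020002000200020002000200020002000210021002100210021002100210021002000200020002000200020002000200021002100210021002100210021002100200020002000200010001000110011001000100011001100100010001100110010001000110011001100110010001000110011001000100011001100100010001100110010001000080008000800080008000800080008000800080008000800080008000800080004000400040004000400040004000400020002000200020001000100000000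
noncomputable def c37 : Node :=
  (Node.st (nat_lit 0) (nat_lit 8) (nat_lit 0) (Node.sp (nat_lit 1) (Node.lf (Leaf.pt (nat_lit 7) (nat_lit 1) [nat_lit 8,nat_lit 16])) (Node.sp (nat_lit 2) (Node.lf (Leaf.pt (nat_lit 0) (nat_lit 2) [nat_lit 96])) (Node.st (nat_lit 0) (nat_lit 2) (nat_lit 0) (Node.sp (nat_lit 4) (Node.lf (Leaf.pt (nat_lit 7) (nat_lit 4) [nat_lit 8,nat_lit 16])) (Node.st (nat_lit 0) (nat_lit 4) (nat_lit 0) (Node.sp (nat_lit 12) (Node.lf (Leaf.pt (nat_lit 7) (nat_lit 12) [nat_lit 8,nat_lit 16])) (Node.st (nat_lit 0) (nat_lit 12) (nat_lit 0) (Node.sp (nat_lit 14) (Node.lf (Leaf.pt (nat_lit 11) (nat_lit 14) [nat_lit 2,nat_lit 64,nat_lit 1])) (Node.st (nat_lit 0) (nat_lit 14) (nat_lit 0) (Node.sp (nat_lit 44) (Node.lf (Leaf.pt (nat_lit 11) (nat_lit 44) [nat_lit 12,nat_lit 84,nat_lit 1])) (Node.st (nat_lit 0) (nat_lit 44) (nat_lit 0) (Node.sp (nat_lit 68) (Node.lf (Leaf.st (nat_lit 1) (nat_lit 16) (nat_lit 68) (Leaf.pt (nat_lit 7) (nat_lit 68) [nat_lit 104,nat_lit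 130]))) (Node.st (nat_lit 0) (nat_lit 68) (nat_lit 0) (Node.sp (nat_lit 69) (Node.lf (Leaf.pt (nat_lit 11) (nat_lit 69) [nat_lit 1,nat_lit 130,nat_lit 12])) (Node.st (nat_lit 0) (nat_lit 69) (nat_lit 0) (Node.sp (nat_lit 72) (Node.lf (Leaf.pt (nat_lit 11) (nat_lit 72) [nat_lit 12,nat_lit 130,nat_lit 1])) (Node.st (nat_lit 0) (nat_lit 72) (nat_lit 0) (Node.sp (nat_lit 73) (Node.lf (Leaf.pt (nat_lit 11) (nat_lit 73) [nat_lit 1,nat_lit 130,nat_lit 12])) (Node.st (nat_lit 0) (nat_lit 73) (nat_lit 0) (Node.sp (nat_lit 266) (Node.lf (Leaf.pt (nat_lit 7) (nat_lit 266) [nat_lit 8,nat_lit 20])) (Node.st (nat_lit 0) (nat_lit 266) (nat_lit 0) (Node.sp (nat_lit 516) (Node.lf (Leaf.st (nat_lit 1) (nat_lit 48) (nat_lit 516) (Leaf.pt (nat_lit 7) (nat_lit 516) [nat_lit 517,nat_lit 202]))) (Node.st (nat_lit 0) (nat_lit 516) (nat_lit 0) (Node.sp (nat_lit 536) (Node.lf (Leaf.st (nat_lit 1) (nat_lit 48) (nat_lit 536) (Leaf.pt (nat_lit 7) (nat_lit 536) [nat_lit 537,nat_lit 202]))) (Node.st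 (nat_lit 0) (nat_lit 536) (nat_lit 0) (Node.sp (nat_lit 576) (Node.lf (Leaf.st (nat_lit 1) (nat_lit 16) (nat_lit 576) (Leaf.pt (nat_lit 7) (nat_lit 576) [nat_lit 577,nat_lit 198]))) (Node.st (nat_lit 0) (nat_lit 576) (nat_lit 0) (Node.ext [] (nat_lit 8) [Ins.fr [nat_lit 0],Ins.fr [nat_lit 1],Ins.fr [nat_lit 2],Ins.fr [nat_lit 0,nat_lit 0,nat_lit 3],Ins.fr [nat_lit 0,nat_lit 3,nat_lit 2],Ins.fr [nat_lit 0,nat_lit 0,nat_lit 4,nat_lit 2,nat_lit 1],Ins.fr [nat_lit 2,nat_lit 5,nat_lit 0,nat_lit 0],Ins.df [nat_lit 4,nat_lit 4],Ins.df [nat_lit 2,nat_lit 2],Ins.df [nat_lit 7,nat_lit 7],Ins.df [nat_lit 0,nat_lit 9,nat_lit 8],Ins.df [nat_lit 1,nat_lit 5,nat_lit 6]] [nat_lit 256,nat_lit 260,nat_lit 262,nat_lit 32,nat_lit 192,nat_lit 64,nat_lit 512] [nat_lit 4,nat_lit 3,nat_lit 1,nat_lit 12,nat_lit 2,nat_lit 8,nat_lit 6,nat_lit 0,nat_lit 11,nat_lit 5] (Srch.ex0 [nat_lit 256,nat_lit 16,nat_lit 8,nat_lit 4,nat_lit 2,nat_lit 1] Srch.nil) Node.done)))))))))))))))))))))))))))))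
theorem ok37 : nodeOK DB PT 37 t37 (nat_lit 0x30000300030030000030003300030000c000c0000c000c0000cc000c000000cc000000c000cc00000c000c00c000c003000300000030003003003000300003030c03c0000c30c030000000000000000000000000000000000cc00cc0c0c0c0c0330033003300330c00c3003c00c300300000ff000000ff0c33cf00fccccffff) (nat_lit 0x11000000000000000000110000000000000011000000000011000000000000000000000011000000000000001100110000000000000011000000000000000011000000000000001100000000000000000011000000000000001100000000000000000011001100000000000000110000000000000000000000000011001100000000000000000000000000110000000000000011001100000000000000000000001100000000000000110000000000110000000000000011000000000000110000000000000011000000000000000000000000001100000000000000110000000000110000000000110000000000000011000000000000000000110000001100001100000000111100000000000000000011000011000011000000001100000000000000000000000000000000000000000000000000000000000000000000000000000000000000000000000000000000000000000000000000000000000000001100110000000000110011000000110000001100000011000000110000000011001100000000001100110000000000110011000000000011001100001100000000001100001100000000001111000000000011000011000000000011000000000000000000002222222200000000000000000000000022222222000011000011001111002222000000002222110011001100110044884455445544ff)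 c37 = true := by
  decide +kernel
noncomputable def t38 : ℕ := nat_lit 0x3cc03cc0306030602da02da023c023c02f702f70210021003e103e1032a032a03e003e0032a032a02f602f60210021002db02db023c023c03cd03cd0306030603e003e0032a032a02f702f70211021102da02da023d023d03cd03cd0306030603cc03cc0306030602db02db023d023d02f602f60211021103e103e1032a032a0212021202f402f403cd03cd0307030703e103e1032a032a023f023f02d802d8023e023e02d802d803e003e0032a032a03cc03cc030703070213021302f402f4023e023e02d802d803e003e0032a032a03cc03cc030703070213021302f402f40212021202f402f403cd03cd0307030703e103e1032a032a023f023f02d802d8032b032b03cc03cc02e402e4022f022f02c902c9020302030307030703e103e10307030703e003e002c802c80203020302e502e5022f022f032b032b03cd03cd0307030703e003e002c902c90202020202e402e4022e022e032b032b03cd03cd032b032b03cc03cc02e502e5022e022e02c802c8020202020307030703e103e1022c022c02e702e7032b032b03cd03cd0306030603e103e10201020102cb02cb0200020002cb02cb0306030603e003e0032b032b03cc03cc022d022d02e702e70200020002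cb02cb0306030603e003e0032b032b03cc03cc022d022d02e702e7022c022c02e702e7032b032b03cd03cd0306030603e103e10201020102cb02cb0210021002e602e6032a032a03f003f00307030703dc03dc023d023d02ca02ca023d023d02ca02ca0307030703dc03dc032a032a03f003f00210021002e602e6023c023c02ca02ca0307030703dd03dd032a032a03f103f10211021102e602e60211021102e602e6032a032a03f103f10307030703dd03dd023c023c02ca02ca03dc03dc032a032a023f023f02e502e50213021302c802c803f103f10306030603f103f1030603060212021202c902c9023e023e02e402e403dc03dc032a032a03f003f0030603060212021202c802c8023e023e02e502e503dd03dd032a032a03dd03dd032a032a023f023f02e402e40213021302c902c903f003f00306030602d902d9022e022e032b032b03f103f10306030603dd03dd02f502f50203020302f502f5020302030306030603dd03dd032b032b03f103f102d902d9022e022e02f502f5020202020306030603dc03dc032b032b03f003f002d902d9022f022f02d902d9022f022f032b032b03f003f00306030603dc03dc02f502f50202020203dd03dd032b032b02f702f7022d022d02da02da0201020103f003f00307030703f003f00307030702db02db02000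20002f602f6022c022c03dd03dd032b032b03f103f10307030702da02da0200020002f702f7022c022c03dc03dc032b032b03dc03dc032b032b02f602f6022d022d02db02db0201020103f103f10307030702ca02ca0211021103dc03dc032b032b03f003f00306030602e602e6023c023c02e602e6023c023c03f003f00306030603dc03dc032b032b02ca02ca0211021102e602e6023d023d03f103f10306030603dd03dd032b032b02ca02ca0210021002ca02ca0210021003dd03dd032b032b03f103f10306030602e602e6023d023d032b032b03f103f102c802c8023e023e02e502e5021202120307030703dc03dc0307030703dc03dc02e402e40213021302c902c9023f023f032b032b03f103f10307030703dd03dd02e502e50213021302c802c8023f023f032b032b03f003f0032b032b03f003f002c902c9023e023e02e402e4021202120307030703dd03dd022f022f02f502f503dd03dd032a032a03f103f1030703070202020202d902d90202020202d902d903f103f10307030703dd03dd032a032a022f022f02f502f50203020302d902d903f003f00307030703dc03dc032a032a022e022e02f502f5022e022e02f502f503dc03dc032a032a03f003f0030703070203020302d902d9032a032a03f003f0022c022c02da02da0200020002f702f7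0306030603dd03dd0306030603dd03dd0201020102f602f6022d022d02db02db032a032a03f003f00306030603dc03dc0201020102f702f7022d022d02da02da032a032a03f103f1032a032a03f103f1022c022c02db02db0200020002f602f60306030603dc03dc0307030703e103e1023d023d02f702f70211021102da02da032b032b03cc03cc032b032b03cd03cd0211021102db02db023d023d02f602f60307030703e003e0032b032b03cd03cd0210021002da02da023c023c02f702f70307030703e003e00307030703e103e1023c023c02f602f60210021002db02db032b032b03cc03cc02d802d8021302130306030603e103e1032b032b03cd03cd02f402f4023e023e02f402f4023f023f032b032b03cc03cc0306030603e003e002d802d80212021202f402f4023f023f032b032b03cc03cc0306030603e003e002d802d80212021202d802d8021302130306030603e103e1032b032b03cd03cd02f402f4023e023e03e103e1032a032a022e022e02c902c90202020202e402e403cc03cc0306030603cd03cd030603060202020202e502e5022e022e02c802c803e003e0032a032a03cd03cd030603060203020302e402e4022f022f02c902c903e003e0032a032a03e103e1032a032a022f022f02c802c80203020302e502e503cc03cc0306030602c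b02cb022d022d03e103e1032a032a03cd03cd0307030702e702e70200020002e702e70201020103cc03cc0307030703e003e0032a032a02cb02cb022c022c02e702e70201020103cc03cc0307030703e003e0032a032a02cb02cb022c022c02cb02cb022d022d03e103e1032a032a03cd03cd0307030702e702e702000200012c012c013c013c012d012d013d013d012c012c013c013c012d012d013d013d012c012c013d013d012d012d013c013c012c012c013d013d012d012d013c013c012c012c013c013c012d012d013d013d012c012c013c013c012d012d013d013d012c012c013d013d012d012d013c013c012c012c013d013d012d012d013c013c01c901c901d901d901c801c801d801d801c901c901d901d901c801c801d801d801c901c901d801d801c801c801d901d901c901c901d801d801c801c801d901d901c801c801d801d801c901c901d901d901c801c801d801d801c901c901d901d901c801c801d901d901c901c901d801d801c801c801d901d901c901c901d801d801e501e501f501f501e401e401f401f401e501e501f501f501e401e401f401f401e501e501f401f401e401e401f501f501e501e501f401f401e401e401f501f501e401e401f401f401e501e501f501f501e401e401f401f401e501e501f501f501e401e401f501f501e501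e501f401f401e401e401f501f501e501e501f401f40101010101110111010001000110011001010101011101110100010001100110010101010110011001000100011101110101010101100110010001000111011101010101011101110100010001100110010101010111011101000100011001100101010101100110010001000111011101010101011001100100010001110111013c013c012d012d013d013d012c012c013c013c012d012d013d013d012c012c013d013d012d012d013c013c012c012c013d013d012d012d013c013c012c012c013c013c012d012d013d013d012c012c013c013c012d012d013d013d012c012c013d013d012d012d013c013c012c012c013d013d012d012d013c013c012c012c01f401f401e501e501f501f501e401e401f401f401e501e501f501f501e401e401f501f501e501e501f401f401e401e401f501f501e501e501f401f401e401e401f501f501e401e401f401f401e501e501f501f501e401e401f401f401e501e501f401f401e401e401f501f501e501e501f401f401e401e401f501f501e501e501d801d801c901c901d901d901c801c801d801d801c901c901d901d901c801c801d901d901c901c901d801d801c801c801d901d901c901c901d801d801c801c801d901d901c801c801d801d801c901c901d901d90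1c801c801d801d801c901c901d801d801c801c801d901d901c901c901d801d801c801c801d901d901c901c901100110010101010111011101000100011001100101010101110111010001000111011101010101011001100100010001110111010101010110011001000100011001100101010101110111010001000110011001010101011101110100010001110111010101010110011001000100011101110101010101100110010001000092009200be00be0080008000ad00ad0080008000ad00ad0092009200be00be00be00be0092009200ad00ad0080008000ad00ad0080008000be00be009200920092009200be00be0080008000ad00ad0080008000ad00ad0092009200be00be00be00be0092009200ad00ad0080008000ad00ad0080008000be00be009200920080008000ac00ac0092009200bf00bf0092009200bf00bf0080008000ac00ac00ac00ac0080008000bf00bf0092009200bf00bf0092009200ac00ac008000800080008000ac00ac0092009200bf00bf0092009200bf00bf0080008000ac00ac00ac00ac0080008000bf00bf0092009200bf00bf0092009200ac00ac008000800092009200be00be0080008000ad00ad0080008000ad00ad0092009200be00be00be00be0092009200ad00ad0080008000ad00ad0080008000be00be0092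00920092009200be00be0080008000ad00ad0080008000ad00ad0092009200be00be00be00be0092009200ad00ad0080008000ad00ad0080008000be00be009200920080008000ac00ac0092009200bf00bf0092009200bf00bf0080008000ac00ac00ac00ac0080008000bf00bf0092009200bf00bf0092009200ac00ac008000800080008000ac00ac0092009200bf00bf0092009200bf00bf0080008000ac00ac00ac00ac0080008000bf00bf0092009200bf00bf0092009200ac00ac00800080006e006e006e006e006c006c006c006c006c006c006c006c006e006e006e006e0043004300430043004100410041004100410041004100410043004300430043006f006f006f006f006d006d006d006d006d006d006d006d006f006f006f006f0042004200420042004000400040004000400040004000400042004200420042006d006d006d006d006f006f006f006f006f006f006f006f006d006d006d006d0041004100410041004300430043004300430043004300430041004100410041006c006c006c006c006e006e006e006e006e006e006e006e006c006c006c006c004000400040004000420042004200420042004200420042004000400040004000200020002000200021002100210021002100210021002100200020002000200020002000200020002100210021002100210021002100210020002000200020002000200020002000210021002100210021002100210021002000200020002000200020002000200021002100210021002100210021002100200020002000200010001000110011001000100011001100100010001100110010001000110011001100110010001000110011001000100011001100100010001100110010001000080008000800080008000800080008000800080008000800080008000800080004000400040004000400040004000400020002000200020001000100000000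
noncomputable def c38 : Node :=
  (Node.st (nat_lit 0) (nat_lit 8) (nat_lit 0) (Node.sp (nat_lit 1) (Node.lf (Leaf.pt (nat_lit 7) (nat_lit 1) [nat_lit 8,nat_lit 16])) (Node.sp (nat_lit 2) (Node.lf (Leaf.pt (nat_lit 0) (nat_lit 2) [nat_lit 96])) (Node.st (nat_lit 0) (nat_lit 2) (nat_lit 0) (Node.sp (nat_lit 4) (Node.lf (Leaf.pt (nat_lit 7) (nat_lit 4) [nat_lit 8,nat_lit 16])) (Node.st (nat_lit 0) (nat_lit 4) (nat_lit 0) (Node.sp (nat_lit 12) (Node.lf (Leaf.pt (nat_lit 7) (nat_lit 12) [nat_lit 8,nat_lit 16])) (Node.st (nat_lit 0) (nat_lit 12) (nat_lit 0) (Node.sp (nat_lit 14) (Node.lf (Leaf.pt (nat_lit 11) (nat_lit 14) [nat_lit 2,nat_lit 64,nat_lit 1])) (Node.st (nat_lit 0) (nat_lit 14) (nat_lit 0) (Node.sp (nat_lit 44) (Node.lf (Leaf.pt (nat_lit 11) (nat_lit 44) [nat_lit 12,nat_lit 84,nat_lit 1])) (Node.st (nat_lit 0) (nat_lit 44) (nat_lit 0) (Node.sp (nat_lit 68) (Node.lf (Leaf.st (nat_lit 1) (nat_lit 768) (nat_lit 68) (Leaf.pt (nat_lit 7) (nat_lit 68) [nat_lit 69,nat_lit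 130]))) (Node.st (nat_lit 0) (nat_lit 68) (nat_lit 0) (Node.sp (nat_lit 72) (Node.lf (Leaf.pt (nat_lit 11) (nat_lit 72) [nat_lit 12,nat_lit 130,nat_lit 1])) (Node.st (nat_lit 0) (nat_lit 72) (nat_lit 0) (Node.sp (nat_lit 266) (Node.lf (Leaf.pt (nat_lit 7) (nat_lit 266) [nat_lit 8,nat_lit 20])) (Node.st (nat_lit 0) (nat_lit 266) (nat_lit 0) (Node.sp (nat_lit 576) (Node.lf (Leaf.st (nat_lit 1) (nat_lit 16) (nat_lit 576) (Leaf.pt (nat_lit 7) (nat_lit 576) [nat_lit 577,nat_lit 86]))) (Node.st (nat_lit 0) (nat_lit 576) (nat_lit 0) (Node.ext [] (nat_lit 8) [Ins.fr [nat_lit 0],Ins.fr [nat_lit 1],Ins.fr [nat_lit 2],Ins.fr [nat_lit 0,nat_lit 0,nat_lit 3],Ins.fr [nat_lit 0,nat_lit 3,nat_lit 2],Ins.fr [nat_lit 0,nat_lit 0,nat_lit 4,nat_lit 2,nat_lit 1],Ins.fr [nat_lit 2,nat_lit 5,nat_lit 0,nat_lit 0],Ins.df [nat_lit 4,nat_lit 4],Ins.df [nat_lit 2,nat_lit 2],Ins.df [nat_lit 7,nat_lit 7],Ins.df [nat_lit 0,nat_lit 9,nat_lit 8],Ins.df [nat_lit 1,nat_lit 5,nat_lit 6]] [nat_lit 256,nat_lit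 260,nat_lit 262,nat_lit 32,nat_lit 192,nat_lit 64,nat_lit 512] [nat_lit 4,nat_lit 3,nat_lit 1,nat_lit 12,nat_lit 2,nat_lit 8,nat_lit 6,nat_lit 0,nat_lit 11,nat_lit 5] (Srch.ex0 [nat_lit 256,nat_lit 16,nat_lit 8,nat_lit 4,nat_lit 2,nat_lit 1] Srch.nil) Node.done)))))))))))))))))))))
theorem ok38 : nodeOK DB PT 38 t38 (nat_lit 0x30003300030000c000c0000c000c00000000000000000000000000000000000c000c00c000c003000300000030003000000000000000030c03c0000c30c030000000000000000000000000000000000cc00cc0c0c0c0c0330033003300330c00c3003c00c300300000ff000000ff0c33cf00fccccffff) (nat_lit 0x110000000000000011001100000000000000110000000000000000110000000000000011000000000000000000110000000000000011000000000000000000000000000000000000000000000000000000000000000000000000000000000000000000000000000000000000000000000000000000000000000000000011000000000000001100000000001100000000000000110000000000001100000000000000110000000000000000000000000011000000000000001100000000000000000000000000000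00000000000000000000000000000000000001100001100000000111100000000000000000011000011000011000000001100000000000000000000000000000000000000000000000000000000000000000000000000000000000000000000000000000000000000000000000000000000000000001100110000000000110011000000110000001100000011000000110000000011001100000000001100110000000000110011000000000011001100001100000000001100001100000000001111000000000011000011000000000011000000000000000000002222222200000000000000000000000022222222000011000011001111002222000000002222110011001100110044884455445544ff) c38 = true := by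
  decide +kernel
noncomputable def t39 : ℕ := nat_lit 0x3cd03cd0307030702db02db023d023d02f602f60211021103e003e0032b032b03e103e1032b032b02f702f70211021102da02da023d023d03cc03cc0307030703e103e1032b032b02f602f60210021002db02db023c023c03cc03cc0307030703cd03cd0307030702da02da023c023c02f702f70210021003e003e0032b032b0213021302f502f503cc03cc0306030603e003e0032b032b023e023e02d902d9023f023f02d902d903e103e1032b032b03cd03cd030603060212021202f502f5023f023f02d902d903e103e1032b032b03cd03cd030603060212021202f502f50213021302f502f503cc03cc0306030603e003e0032b032b023e023e02d902d9032a032a03cd03cd02e502e5022e022e02c802c8020202020306030603e003e00306030603e103e102c902c90202020202e402e4022e022e032a032a03cc03cc0306030603e103e102c802c80203020302e502e5022f022f032a032a03cc03cc032a032a03cd03cd02e402e4022f022f02c902c9020302030306030603e003e0022d022d02e602e6032a032a03cc03cc0307030703e003e00200020002ca02ca0201020102ca02ca0307030703e103e1032a032a03cd03cd022c022c02e602e60201020102ca02ca0307030703e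103e1032a032a03cd03cd022c022c02e602e6022d022d02e602e6032a032a03cc03cc0307030703e003e00200020002ca02ca0211021102e702e7032b032b03f103f10306030603dd03dd023c023c02cb02cb023c023c02cb02cb0306030603dd03dd032b032b03f103f10211021102e702e7023d023d02cb02cb0306030603dc03dc032b032b03f003f00210021002e702e70210021002e702e7032b032b03f003f00306030603dc03dc023d023d02cb02cb03dd03dd032b032b023e023e02e402e40212021202c902c903f003f00307030703f003f0030703070213021302c802c8023f023f02e502e503dd03dd032b032b03f103f1030703070213021302c902c9023f023f02e402e403dc03dc032b032b03dc03dc032b032b023e023e02e502e50212021202c802c803f103f10307030702d802d8022f022f032a032a03f003f00307030703dc03dc02f402f40202020202f402f4020202020307030703dc03dc032a032a03f003f002d802d8022f022f02f402f4020302030307030703dd03dd032a032a03f103f102d802d8022e022e02d802d8022e022e032a032a03f103f10307030703dd03dd02f402f40203020303dc03dc032a032a02f602f6022c022c02db02db0200020003f103f10306030603f103f10306030602da02da0201020102f702f7022d02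2d03dc03dc032a032a03f003f00306030602db02db0201020102f602f6022d022d03dd03dd032a032a03dd03dd032a032a02f702f7022c022c02da02da0200020003f003f00306030602ca02ca0211021103dc03dc032b032b03f003f00306030602e602e6023c023c02e602e6023c023c03f003f00306030603dc03dc032b032b02ca02ca0211021102e602e6023d023d03f103f10306030603dd03dd032b032b02ca02ca0210021002ca02ca0210021003dd03dd032b032b03f103f10306030602e602e6023d023d032b032b03f103f102c802c8023e023e02e502e5021202120307030703dc03dc0307030703dc03dc02e402e40213021302c902c9023f023f032b032b03f103f10307030703dd03dd02e502e50213021302c802c8023f023f032b032b03f003f0032b032b03f003f002c902c9023e023e02e402e4021202120307030703dd03dd022f022f02f502f503dd03dd032a032a03f103f1030703070202020202d902d90202020202d902d903f103f10307030703dd03dd032a032a022f022f02f502f50203020302d902d903f003f00307030703dc03dc032a032a022e022e02f502f5022e022e02f502f503dc03dc032a032a03f003f0030703070203020302d902d9032a032a03f003f0022c022c02da02da0200020002f702f70306030603dd03dd0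306030603dd03dd0201020102f602f6022d022d02db02db032a032a03f003f00306030603dc03dc0201020102f702f7022d022d02da02da032a032a03f103f1032a032a03f103f1022c022c02db02db0200020002f602f60306030603dc03dc0307030703e103e1023d023d02f702f70211021102da02da032b032b03cc03cc032b032b03cd03cd0211021102db02db023d023d02f602f60307030703e003e0032b032b03cd03cd0210021002da02da023c023c02f702f70307030703e003e00307030703e103e1023c023c02f602f60210021002db02db032b032b03cc03cc02d802d8021302130306030603e103e1032b032b03cd03cd02f402f4023e023e02f402f4023f023f032b032b03cc03cc0306030603e003e002d802d80212021202f402f4023f023f032b032b03cc03cc0306030603e003e002d802d80212021202d802d8021302130306030603e103e1032b032b03cd03cd02f402f4023e023e03e103e1032a032a022e022e02c902c90202020202e402e403cc03cc0306030603cd03cd030603060202020202e502e5022e022e02c802c803e003e0032a032a03cd03cd030603060203020302e402e4022f022f02c902c903e003e0032a032a03e103e1032a032a022f022f02c802c80203020302e502e503cc03cc0306030602cb02cb022d022d03e1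03e1032a032a03cd03cd0307030702e702e70200020002e702e70201020103cc03cc0307030703e003e0032a032a02cb02cb022c022c02e702e70201020103cc03cc0307030703e003e0032a032a02cb02cb022c022c02cb02cb022d022d03e103e1032a032a03cd03cd0307030702e702e702000200012c012c013c013c012d012d013d013d012c012c013c013c012d012d013d013d012c012c013d013d012d012d013c013c012c012c013d013d012d012d013c013c012c012c013c013c012d012d013d013d012c012c013c013c012d012d013d013d012c012c013d013d012d012d013c013c012c012c013d013d012d012d013c013c01c901c901d901d901c801c801d801d801c901c901d901d901c801c801d801d801c901c901d801d801c801c801d901d901c901c901d801d801c801c801d901d901c801c801d801d801c901c901d901d901c801c801d801d801c901c901d901d901c801c801d901d901c901c901d801d801c801c801d901d901c901c901d801d801e501e501f501f501e401e401f401f401e501e501f501f501e401e401f401f401e501e501f401f401e401e401f501f501e501e501f401f401e401e401f501f501e401e401f401f401e501e501f501f501e401e401f401f401e501e501f501f501e401e401f501f501e501e501f401f401e401e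401f501f501e501e501f401f40101010101110111010001000110011001010101011101110100010001100110010101010110011001000100011101110101010101100110010001000111011101010101011101110100010001100110010101010111011101000100011001100101010101100110010001000111011101010101011001100100010001110111013c013c012d012d013d013d012c012c013c013c012d012d013d013d012c012c013d013d012d012d013c013c012c012c013d013d012d012d013c013c012c012c013c013c012d012d013d013d012c012c013c013c012d012d013d013d012c012c013d013d012d012d013c013c012c012c013d013d012d012d013c013c012c012c01f401f401e501e501f501f501e401e401f401f401e501e501f501f501e401e401f501f501e501e501f401f401e401e401f501f501e501e501f401f401e401e401f501f501e401e401f401f401e501e501f501f501e401e401f401f401e501e501f401f401e401e401f501f501e501e501f401f401e401e401f501f501e501e501d801d801c901c901d901d901c801c801d801d801c901c901d901d901c801c801d901d901c901c901d801d801c801c801d901d901c901c901d801d801c801c801d901d901c801c801d801d801c901c901d901d901c801c801d801d801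c901c901d801d801c801c801d901d901c901c901d801d801c801c801d901d901c901c901100110010101010111011101000100011001100101010101110111010001000111011101010101011001100100010001110111010101010110011001000100011001100101010101110111010001000110011001010101011101110100010001110111010101010110011001000100011101110101010101100110010001000092009200be00be0080008000ad00ad0080008000ad00ad0092009200be00be00be00be0092009200ad00ad0080008000ad00ad0080008000be00be009200920092009200be00be0080008000ad00ad0080008000ad00ad0092009200be00be00be00be0092009200ad00ad0080008000ad00ad0080008000be00be009200920080008000ac00ac0092009200bf00bf0092009200bf00bf0080008000ac00ac00ac00ac0080008000bf00bf0092009200bf00bf0092009200ac00ac008000800080008000ac00ac0092009200bf00bf0092009200bf00bf0080008000ac00ac00ac00ac0080008000bf00bf0092009200bf00bf0092009200ac00ac008000800092009200be00be0080008000ad00ad0080008000ad00ad0092009200be00be00be00be0092009200ad00ad0080008000ad00ad0080008000be00be009200920092009200be0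0be0080008000ad00ad0080008000ad00ad0092009200be00be00be00be0092009200ad00ad0080008000ad00ad0080008000be00be009200920080008000ac00ac0092009200bf00bf0092009200bf00bf0080008000ac00ac00ac00ac0080008000bf00bf0092009200bf00bf0092009200ac00ac008000800080008000ac00ac0092009200bf00bf0092009200bf00bf0080008000ac00ac00ac00ac0080008000bf00bf0092009200bf00bf0092009200ac00ac00800080006e006e006e006e006c006c006c006c006c006c006c006c006e006e006e006e0043004300430043004100410041004100410041004100410043004300430043006f006f006f006f006d006d006d006d006d006d006d006d006f006f006f006f0042004200420042004000400040004000400040004000400042004200420042006d006d006d006d006f006f006f006f006f006f006f006f006d006d006d006d0041004100410041004300430043004300430043004300430041004100410041006c006c006c006c006e006e006e006e006e006e006e006e006c006c006c006c004000400040004000420042004200420042004200420042004000400040004000200020002000200021002100210021002100210021002100200020002000200020002000200020002100210021002100210021002100210020002000200020002000200020002000210021002100210021002100210021002000200020002000200020002000200021002100210021002100210021002100200020002000200010001000110011001000100011001100100010001100110010001000110011001100110010001000110011001000100011001100100010001100110010001000080008000800080008000800080008000800080008000800080008000800080004000400040004000400040004000400020002000200020001000100000000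
noncomputable def c39 : Node :=
  (Node.st (nat_lit 0) (nat_lit 8) (nat_lit 0) (Node.sp (nat_lit 1) (Node.lf (Leaf.pt (nat_lit 7) (nat_lit 1) [nat_lit 8,nat_lit 16])) (Node.sp (nat_lit 2) (Node.lf (Leaf.pt (nat_lit 0) (nat_lit 2) [nat_lit 96])) (Node.st (nat_lit 0) (nat_lit 2) (nat_lit 0) (Node.sp (nat_lit 4) (Node.lf (Leaf.pt (nat_lit 7) (nat_lit 4) [nat_lit 8,nat_lit 16])) (Node.st (nat_lit 0) (nat_lit 4) (nat_lit 0) (Node.sp (nat_lit 12) (Node.lf (Leaf.pt (nat_lit 7) (nat_lit 12) [nat_lit 8,nat_lit 16])) (Node.st (nat_lit 0) (nat_lit 12) (nat_lit 0) (Node.sp (nat_lit 14) (Node.lf (Leaf.pt (nat_lit 11) (nat_lit 14) [nat_lit 2,nat_lit 64,nat_lit 1])) (Node.st (nat_lit 0) (nat_lit 14) (nat_lit 0) (Node.sp (nat_lit 44) (Node.lf (Leaf.pt (nat_lit 11) (nat_lit 44) [nat_lit 12,nat_lit 84,nat_lit 1])) (Node.st (nat_lit 0) (nat_lit 44) (nat_lit 0) (Node.sp (nat_lit 68) (Node.lf (Leaf.st (nat_lit 1) (nat_lit 768) (nat_lit 68) (Leaf.pt (nat_lit 7) (nat_lit 68) [nat_lit 69,nat_lit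 130]))) (Node.st (nat_lit 0) (nat_lit 68) (nat_lit 0) (Node.sp (nat_lit 72) (Node.lf (Leaf.pt (nat_lit 11) (nat_lit 72) [nat_lit 12,nat_lit 130,nat_lit 1])) (Node.st (nat_lit 0) (nat_lit 72) (nat_lit 0) (Node.sp (nat_lit 266) (Node.lf (Leaf.pt (nat_lit 7) (nat_lit 266) [nat_lit 8,nat_lit 20])) (Node.st (nat_lit 0) (nat_lit 266) (nat_lit 0) (Node.sp (nat_lit 516) (Node.lf (Leaf.st (nat_lit 1) (nat_lit 48) (nat_lit 516) (Leaf.pt (nat_lit 7) (nat_lit 516) [nat_lit 517,nat_lit 90]))) (Node.st (nat_lit 0) (nat_lit 516) (nat_lit 0) (Node.sp (nat_lit 536) (Node.lf (Leaf.st (nat_lit 1) (nat_lit 128) (nat_lit 536) (Leaf.pt (nat_lit 7) (nat_lit 536) [nat_lit 537,nat_lit 86]))) (Node.st (nat_lit 0) (nat_lit 536) (nat_lit 0) (Node.ext [] (nat_lit 8) [Ins.fr [nat_lit 0],Ins.fr [nat_lit 1],Ins.fr [nat_lit 2],Ins.fr [nat_lit 0,nat_lit 0,nat_lit 3],Ins.fr [nat_lit 0,nat_lit 3,nat_lit 2],Ins.fr [nat_lit 0,nat_lit 0,nat_lit 4,nat_lit 2,nat_lit 1],Ins.fr [nat_lit 2,nat_lit 5,nat_lit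 0,nat_lit 0],Ins.df [nat_lit 4,nat_lit 4],Ins.df [nat_lit 2,nat_lit 2],Ins.df [nat_lit 7,nat_lit 7],Ins.df [nat_lit 0,nat_lit 9,nat_lit 8],Ins.df [nat_lit 1,nat_lit 5,nat_lit 6]] [nat_lit 256,nat_lit 260,nat_lit 262,nat_lit 32,nat_lit 192,nat_lit 64,nat_lit 512] [nat_lit 4,nat_lit 3,nat_lit 1,nat_lit 12,nat_lit 2,nat_lit 8,nat_lit 6,nat_lit 0,nat_lit 11,nat_lit 5] (Srch.ex0 [nat_lit 256,nat_lit 16,nat_lit 8,nat_lit 4,nat_lit 2,nat_lit 1] Srch.nil) Node.done)))))))))))))))))))))))
theorem ok39 : nodeOK DB PT 39 t39 (nat_lit 0x30000300030030000000000000000000000000000000000000cc000c000000cc000000c000cc00000000000000000000000000000000000003003000300003030c03c0000c30c030000000000000000000000000000000000cc00cc0c0c0c0c0330033003300330c00c3003c00c300300000ff000000ff0c33cf00fccccffff) (nat_lit 0x11000000000000000000110000000000000011000000000011000000000000000000000000000000000000000000000000000000000000000000000000000000000000000000000000000000000000000000000000000000000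000000000000000000011001100000000000000110000000000000000000000000011001100000000000000000000000000110000000000000011001100000000000000000000000000000000000000000000000000000000000000000000000000000000000000000000000000000000000000000000000000000000000000000000000000000000110000000000110000000000000011000000000000000000110000001100001100000000111100000000000000000011000011000011000000001100000000000000000000000000000000000000000000000000000000000000000000000000000000000000000000000000000000000000000000000000000000000000001100110000000000110011000000110000001100000011000000110000000011001100000000001100110000000000110011000000000011001100001100000000001100001100000000001111000000000011000011000000000011000000000000000000002222222200000000000000000000000022222222000011000011001111002222000000002222110011001100110044884455445544ff) c39 = true := by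
  decide +kernel
noncomputable def t40 : ℕ := nat_lit 0x307030703dc03dc022c022c02db02db0200020002f602f6032b032b03f103f1032b032b03f103f10201020102f702f7022d022d02da02da0307030703dc03dc032b032b03f003f00201020102f602f6022d022d02db02db0307030703dd03dd0307030703dd03dd022c022c02da02da0200020002f702f7032b032b03f003f0022f022f02f502f503f103f10306030603dd03dd032b032b0202020202d902d90202020202d902d903dd03dd032b032b03f103f103060306022f022f02f502f50203020302d902d903dc03dc032b032b03f003f003060306022e022e02f502f5022e022e02f502f503f003f00306030603dc03dc032b032b0203020302d902d9032a032a03f003f002e502e50213021302c802c8023f023f0306030603dd03dd0306030603dd03dd02c902c9023e023e02e402e402120212032a032a03f003f00306030603dc03dc02c802c8023e023e02e502e502120212032a032a03f103f1032a032a03f103f102e402e40213021302c902c9023f023f0306030603dc03dc02e602e6023c023c03dc03dc032a032a03f003f00307030702ca02ca0211021102ca02ca0211021103f003f00307030703dc03dc032a032a02e602e6023c023c02ca02ca0210021003f103f1030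7030703dd03dd032a032a02e602e6023d023d02e602e6023d023d03dd03dd032a032a03f103f10307030702ca02ca0210021002f602f60211021103f103f1033b033b03dd03dd0316031602da02da023c023c02db02db023c023c03dd03dd0317031703f103f1033a033a02f702f70211021102da02da023d023d03dc03dc0316031603f003f0033b033b02f602f60210021002f702f70210021003f003f0033a033a03dc03dc0317031702db02db023d023d03dd03dd03160316023e023e02d902d90212021202f402f403f003f0033a033a03f003f0033b033b0213021302f402f4023f023f02d902d903dd03dd0317031703f103f1033a033a0213021302f402f4023f023f02d902d903dc03dc0316031603dc03dc03170317023e023e02d902d90212021202f402f403f103f1033b033b02e402e4022f022f0317031703f003f0033a033a03dc03dc02c802c80202020202c902c902020202033b033b03dc03dc0316031603f003f002e502e5022f022f02c802c802030203033a033a03dd03dd0317031703f103f102e402e4022e022e02e502e5022e022e0316031603f103f1033b033b03dd03dd02c902c902030203033b033b03dc03dc022c022c02e702e70200020002ca02ca0317031703f103f10316031603f103f10201020102ca02ca022d022d02e702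e7033a033a03dc03dc0317031703f003f00201020102ca02ca022d022d02e702e7033b033b03dd03dd033a033a03dd03dd022c022c02e702e70200020002ca02ca0316031603f003f002ca02ca022d022d03dc03dc0317031703f003f0033a033a02e602e60200020002e602e60201020103f003f0033b033b03dc03dc0316031602ca02ca022c022c02e602e60201020103f103f1033a033a03dd03dd0317031702ca02ca022c022c02ca02ca022d022d03dd03dd0316031603f103f1033b033b02e602e60200020003f103f1033b033b022e022e02c802c80202020202e502e503dc03dc0317031703dc03dc031603160202020202e402e4022e022e02c902c903f103f1033a033a03dd03dd031703170203020302e502e5022f022f02c802c803f003f0033b033b03f003f0033a033a022f022f02c902c90203020302e402e403dd03dd0316031602f502f5023f023f033b033b03dd03dd0316031603f103f102d902d90212021202d902d9021302130317031703f103f1033a033a03dd03dd02f502f5023e023e02d902d9021302130316031603f003f0033b033b03dc03dc02f502f5023e023e02f502f5023f023f033a033a03dc03dc0317031703f003f002d902d9021202120316031603f003f00211021102da02da023d023d02f702f7033a033a03dd03dd0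33b033b03dd03dd023d023d02f602f60211021102db02db0317031703f003f0033a033a03dc03dc023c023c02f702f70210021002da02da0316031603f103f10317031703f103f10210021002db02db023c023c02f602f6033b033b03dc03dc0307030703dc03dc023d023d02ca02ca0211021102e702e7032b032b03f103f1032b032b03f103f10211021102e702e7023d023d02ca02ca0307030703dc03dc032b032b03f003f00210021002e702e7023c023c02ca02ca0307030703dd03dd0307030703dd03dd023c023c02ca02ca0210021002e702e7032b032b03f003f00213021302c802c803f103f10306030603dd03dd032b032b023e023e02e402e4023f023f02e502e503dd03dd032b032b03f103f1030603060212021202c902c9023f023f02e402e403dc03dc032b032b03f003f0030603060212021202c802c80213021302c902c903f003f00306030603dc03dc032b032b023e023e02e502e5032a032a03f003f002d902d9022e022e02f402f4020202020306030603dd03dd0306030603dd03dd02f402f40202020202d902d9022e022e032a032a03f003f00306030603dc03dc02f402f40203020302d902d9022f022f032a032a03f103f1032a032a03f103f102d902d9022f022f02f402f4020302030306030603dc03dc02f702f7022d022d03dc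03dc032a032a03f003f00307030702db02db0200020002da02da0201020103f003f00307030703dc03dc032a032a02f602f6022c022c02db02db0201020103f103f10307030703dd03dd032a032a02f702f7022c022c02f602f6022d022d03dd03dd032a032a03f103f10307030702da02da02000200012c012c013c013c012d012d013d013d012c012c013c013c012d012d013d013d012c012c013d013d012d012d013c013c012c012c013d013d012d012d013c013c012c012c013c013c012d012d013d013d012c012c013c013c012d012d013d013d012c012c013d013d012d012d013c013c012c012c013d013d012d012d013c013c01c901c901d901d901c801c801d801d801c901c901d901d901c801c801d801d801c901c901d801d801c801c801d901d901c901c901d801d801c801c801d901d901c801c801d801d801c901c901d901d901c801c801d801d801c901c901d901d901c801c801d901d901c901c901d801d801c801c801d901d901c901c901d801d801e501e501f501f501e401e401f401f401e501e501f501f501e401e401f401f401e501e501f401f401e401e401f501f501e501e501f401f401e401e401f501f501e401e401f401f401e501e501f501f501e401e401f401f401e501e501f501f501e401e401f501f501e501e501f401f401e401e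401f501f501e501e501f401f40101010101110111010001000110011001010101011101110100010001100110010101010110011001000100011101110101010101100110010001000111011101010101011101110100010001100110010101010111011101000100011001100101010101100110010001000111011101010101011001100100010001110111013c013c012d012d013d013d012c012c013c013c012d012d013d013d012c012c013d013d012d012d013c013c012c012c013d013d012d012d013c013c012c012c013c013c012d012d013d013d012c012c013c013c012d012d013d013d012c012c013d013d012d012d013c013c012c012c013d013d012d012d013c013c012c012c01f401f401e501e501f501f501e401e401f401f401e501e501f501f501e401e401f501f501e501e501f401f401e401e401f501f501e501e501f401f401e401e401f501f501e401e401f401f401e501e501f501f501e401e401f401f401e501e501f401f401e401e401f501f501e501e501f401f401e401e401f501f501e501e501d801d801c901c901d901d901c801c801d801d801c901c901d901d901c801c801d901d901c901c901d801d801c801c801d901d901c901c901d801d801c801c801d901d901c801c801d801d801c901c901d901d901c801c801d801d801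c901c901d801d801c801c801d901d901c901c901d801d801c801c801d901d901c901c901100110010101010111011101000100011001100101010101110111010001000111011101010101011001100100010001110111010101010110011001000100011001100101010101110111010001000110011001010101011101110100010001110111010101010110011001000100011101110101010101100110010001000092009200be00be0080008000ad00ad0080008000ad00ad0092009200be00be00be00be0092009200ad00ad0080008000ad00ad0080008000be00be009200920092009200be00be0080008000ad00ad0080008000ad00ad0092009200be00be00be00be0092009200ad00ad0080008000ad00ad0080008000be00be009200920080008000ac00ac0092009200bf00bf0092009200bf00bf0080008000ac00ac00ac00ac0080008000bf00bf0092009200bf00bf0092009200ac00ac008000800080008000ac00ac0092009200bf00bf0092009200bf00bf0080008000ac00ac00ac00ac0080008000bf00bf0092009200bf00bf0092009200ac00ac008000800092009200be00be0080008000ad00ad0080008000ad00ad0092009200be00be00be00be0092009200ad00ad0080008000ad00ad0080008000be00be009200920092009200be0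0be0080008000ad00ad0080008000ad00ad0092009200be00be00be00be0092009200ad00ad0080008000ad00ad0080008000be00be009200920080008000ac00ac0092009200bf00bf0092009200bf00bf0080008000ac00ac00ac00ac0080008000bf00bf0092009200bf00bf0092009200ac00ac008000800080008000ac00ac0092009200bf00bf0092009200bf00bf0080008000ac00ac00ac00ac0080008000bf00bf0092009200bf00bf0092009200ac00ac00800080006e006e006e006e006c006c006c006c006c006c006c006c006e006e006e006e0043004300430043004100410041004100410041004100410043004300430043006f006f006f006f006d006d006d006d006d006d006d006d006f006f006f006f0042004200420042004000400040004000400040004000400042004200420042006d006d006d006d006f006f006f006f006f006f006f006f006d006d006d006d0041004100410041004300430043004300430043004300430041004100410041006c006c006c006c006e006e006e006e006e006e006e006e006c006c006c006c004000400040004000420042004200420042004200420042004000400040004000200020002000200021002100210021002100210021002100200020002000200020002000200020002100210021002100210021002100210020002000200020002000200020002000210021002100210021002100210021002000200020002000200020002000200021002100210021002100210021002100200020002000200010001000110011001000100011001100100010001100110010001000110011001100110010001000110011001000100011001100100010001100110010001000080008000800080008000800080008000800080008000800080008000800080004000400040004000400040004000400020002000200020001000100000000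
noncomputable def c40 : Node :=
  (Node.st (nat_lit 0) (nat_lit 8) (nat_lit 0) (Node.sp (nat_lit 1) (Node.lf (Leaf.pt (nat_lit 7) (nat_lit 1) [nat_lit 8,nat_lit 16])) (Node.sp (nat_lit 2) (Node.lf (Leaf.pt (nat_lit 0) (nat_lit 2) [nat_lit 96])) (Node.st (nat_lit 0) (nat_lit 2) (nat_lit 0) (Node.sp (nat_lit 4) (Node.lf (Leaf.pt (nat_lit 7) (nat_lit 4) [nat_lit 8,nat_lit 16])) (Node.st (nat_lit 0) (nat_lit 4) (nat_lit 0) (Node.sp (nat_lit 12) (Node.lf (Leaf.pt (nat_lit 7) (nat_lit 12) [nat_lit 8,nat_lit 16])) (Node.st (nat_lit 0) (nat_lit 12) (nat_lit 0) (Node.sp (nat_lit 14) (Node.lf (Leaf.pt (nat_lit 11) (nat_lit 14) [nat_lit 2,nat_lit 64,nat_lit 1])) (Node.st (nat_lit 0) (nat_lit 14) (nat_lit 0) (Node.sp (nat_lit 44) (Node.lf (Leaf.pt (nat_lit 11) (nat_lit 44) [nat_lit 12,nat_lit 84,nat_lit 1])) (Node.st (nat_lit 0) (nat_lit 44) (nat_lit 0) (Node.sp (nat_lit 68) (Node.lf (Leaf.st (nat_lit 1) (nat_lit 516) (nat_lit 68) (Leaf.pt (nat_lit 7) (nat_lit 68) [nat_lit 69,nat_lit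 130]))) (Node.st (nat_lit 0) (nat_lit 68) (nat_lit 0) (Node.sp (nat_lit 72) (Node.lf (Leaf.pt (nat_lit 11) (nat_lit 72) [nat_lit 12,nat_lit 130,nat_lit 1])) (Node.st (nat_lit 0) (nat_lit 72) (nat_lit 0) (Node.sp (nat_lit 73) (Node.lf (Leaf.pt (nat_lit 11) (nat_lit 73) [nat_lit 1,nat_lit 130,nat_lit 12])) (Node.st (nat_lit 0) (nat_lit 73) (nat_lit 0) (Node.sp (nat_lit 266) (Node.lf (Leaf.pt (nat_lit 7) (nat_lit 266) [nat_lit 8,nat_lit 20])) (Node.st (nat_lit 0) (nat_lit 266) (nat_lit 0) (Node.sp (nat_lit 518) (Node.lf (Leaf.st (nat_lit 1) (nat_lit 68) (nat_lit 518) (Leaf.pt (nat_lit 7) (nat_lit 518) [nat_lit 519,nat_lit 198]))) (Node.st (nat_lit 0) (nat_lit 518) (nat_lit 0) (Node.ext [] (nat_lit 8) [Ins.fr [nat_lit 0],Ins.fr [nat_lit 1],Ins.fr [nat_lit 2],Ins.fr [nat_lit 0,nat_lit 0,nat_lit 3],Ins.fr [nat_lit 0,nat_lit 3,nat_lit 2],Ins.fr [nat_lit 0,nat_lit 0,nat_lit 4,nat_lit 2,nat_lit 1],Ins.fr [nat_lit 0,nat_lit 0,nat_lit 2,nat_lit 5],Ins.df [nat_lit 4,nat_lit 4],Ins.df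 [nat_lit 2,nat_lit 2],Ins.df [nat_lit 7,nat_lit 7],Ins.df [nat_lit 0,nat_lit 9,nat_lit 8],Ins.df [nat_lit 1,nat_lit 5,nat_lit 6]] [nat_lit 256,nat_lit 260,nat_lit 262,nat_lit 32,nat_lit 192,nat_lit 64,nat_lit 512] [nat_lit 4,nat_lit 3,nat_lit 1,nat_lit 12,nat_lit 2,nat_lit 8,nat_lit 6,nat_lit 0,nat_lit 11,nat_lit 5] (Srch.ex0 [nat_lit 256,nat_lit 16,nat_lit 8,nat_lit 4,nat_lit 2,nat_lit 1] Srch.nil) Node.done)))))))))))))))))))))))
theorem ok40 : nodeOK DB PT 40 t40 (nat_lit 0xc000000c00000000000000000000000000000000000000000030000000000300030000300000000000000000000000000000000000000000000c00000000c030c03c0000c30c030000000000000000000000000000000000cc00cc0c0c0c0c0330033003300330c00c3003c00c300300000ff000000ff0c33cf00fccccffff) (nat_lit 0x1100000000000000000000000000110000000000000000000000000000000000000000000000000000000000000000000000000000000000000000000000000000000000000000000000000000000000000000000000000000000000000000000000000000110000000000000000000000000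00000000000000000110000000000000011000000000000000000110000000000000000000000000000000000000000000000000000000000000000000000000000000000000000000000000000000000000000000000000000000000000000000000000000000000000000000000000000000011000000000000000000000000000000000011000000001100001100000000111100000000000000000011000011000011000000001100000000000000000000000000000000000000000000000000000000000000000000000000000000000000000000000000000000000000000000000000000000000000001100110000000000110011000000110000001100000011000000110000000011001100000000001100110000000000110011000000000011001100001100000000001100001100000000001111000000000011000011000000000011000000000000000000002222222200000000000000000000000022222222000011000011001111002222000000002222110011001100110044884455445544ff) c40 = true := by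
  decide +kernel
noncomputable def t41 : ℕ := nat_lit 0x306030603dd03dd022d022d02da02da0201020102f702f7032a032a03f003f0032a032a03f003f00200020002f602f6022c022c02db02db0306030603dd03dd032a032a03f103f10200020002f702f7022c022c02da02da0306030603dc03dc0306030603dc03dc022d022d02db02db0201020102f602f6032a032a03f103f1022e022e02f402f403f003f00307030703dc03dc032a032a0203020302d802d80203020302d802d803dc03dc032a032a03f003f003070307022e022e02f402f40202020202d802d803dd03dd032a032a03f103f103070307022f022f02f402f4022f022f02f402f403f103f10307030703dd03dd032a032a0202020202d802d8032b032b03f103f102e402e40212021202c902c9023e023e0307030703dc03dc0307030703dc03dc02c802c8023f023f02e502e502130213032b032b03f103f10307030703dd03dd02c902c9023f023f02e402e402130213032b032b03f003f0032b032b03f003f002e502e50212021202c802c8023e023e0307030703dd03dd02e702e7023d023d03dd03dd032b032b03f103f10306030602cb02cb0210021002cb02cb0210021003f103f10306030603dd03dd032b032b02e702e7023d023d02cb02cb0211021103f003f0030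6030603dc03dc032b032b02e702e7023c023c02e702e7023c023c03dc03dc032b032b03f003f00306030602cb02cb0211021102f702f70210021003f003f0033a033a03dc03dc0317031702db02db023d023d02da02da023d023d03dc03dc0316031603f003f0033b033b02f602f60210021002db02db023c023c03dd03dd0317031703f103f1033a033a02f702f70211021102f602f60211021103f103f1033b033b03dd03dd0316031602da02da023c023c03dc03dc03170317023f023f02d802d80213021302f502f503f103f1033b033b03f103f1033a033a0212021202f502f5023e023e02d802d803dc03dc0316031603f003f0033b033b0212021202f502f5023e023e02d802d803dd03dd0317031703dd03dd03160316023f023f02d802d80213021302f502f503f003f0033a033a02e502e5022e022e0316031603f103f1033b033b03dd03dd02c902c90203020302c802c802030203033a033a03dd03dd0317031703f103f102e402e4022e022e02c902c902020202033b033b03dc03dc0316031603f003f002e502e5022f022f02e402e4022f022f0317031703f003f0033a033a03dc03dc02c802c802020202033a033a03dd03dd022d022d02e602e60201020102cb02cb0316031603f003f00317031703f003f00200020002cb02cb022c022c02e602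e6033b033b03dd03dd0316031603f103f10200020002cb02cb022c022c02e602e6033a033a03dc03dc033b033b03dc03dc022d022d02e602e60201020102cb02cb0317031703f103f102ca02ca022d022d03dc03dc0317031703f003f0033a033a02e602e60200020002e602e60201020103f003f0033b033b03dc03dc0316031602ca02ca022c022c02e602e60201020103f103f1033a033a03dd03dd0317031702ca02ca022c022c02ca02ca022d022d03dd03dd0316031603f103f1033b033b02e602e60200020003f103f1033b033b022e022e02c802c80202020202e502e503dc03dc0317031703dc03dc031603160202020202e402e4022e022e02c902c903f103f1033a033a03dd03dd031703170203020302e502e5022f022f02c802c803f003f0033b033b03f003f0033a033a022f022f02c902c90203020302e402e403dd03dd0316031602f502f5023f023f033b033b03dd03dd0316031603f103f102d902d90212021202d902d9021302130317031703f103f1033a033a03dd03dd02f502f5023e023e02d902d9021302130316031603f003f0033b033b03dc03dc02f502f5023e023e02f502f5023f023f033a033a03dc03dc0317031703f003f002d902d9021202120316031603f003f00211021102da02da023d023d02f702f7033a033a03dd03dd0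33b033b03dd03dd023d023d02f602f60211021102db02db0317031703f003f0033a033a03dc03dc023c023c02f702f70210021002da02da0316031603f103f10317031703f103f10210021002db02db023c023c02f602f6033b033b03dc03dc0307030703dc03dc023d023d02ca02ca0211021102e702e7032b032b03f103f1032b032b03f103f10211021102e702e7023d023d02ca02ca0307030703dc03dc032b032b03f003f00210021002e702e7023c023c02ca02ca0307030703dd03dd0307030703dd03dd023c023c02ca02ca0210021002e702e7032b032b03f003f00213021302c802c803f103f10306030603dd03dd032b032b023e023e02e402e4023f023f02e502e503dd03dd032b032b03f103f1030603060212021202c902c9023f023f02e402e403dc03dc032b032b03f003f0030603060212021202c802c80213021302c902c903f003f00306030603dc03dc032b032b023e023e02e502e5032a032a03f003f002d902d9022e022e02f402f4020202020306030603dd03dd0306030603dd03dd02f402f40202020202d902d9022e022e032a032a03f003f00306030603dc03dc02f402f40203020302d902d9022f022f032a032a03f103f1032a032a03f103f102d902d9022f022f02f402f4020302030306030603dc03dc02f702f7022d022d03dc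03dc032a032a03f003f00307030702db02db0200020002da02da0201020103f003f00307030703dc03dc032a032a02f602f6022c022c02db02db0201020103f103f10307030703dd03dd032a032a02f702f7022c022c02f602f6022d022d03dd03dd032a032a03f103f10307030702da02da02000200012c012c013c013c012d012d013d013d012c012c013c013c012d012d013d013d012c012c013d013d012d012d013c013c012c012c013d013d012d012d013c013c012c012c013c013c012d012d013d013d012c012c013c013c012d012d013d013d012c012c013d013d012d012d013c013c012c012c013d013d012d012d013c013c01c901c901d901d901c801c801d801d801c901c901d901d901c801c801d801d801c901c901d801d801c801c801d901d901c901c901d801d801c801c801d901d901c801c801d801d801c901c901d901d901c801c801d801d801c901c901d901d901c801c801d901d901c901c901d801d801c801c801d901d901c901c901d801d801e501e501f501f501e401e401f401f401e501e501f501f501e401e401f401f401e501e501f401f401e401e401f501f501e501e501f401f401e401e401f501f501e401e401f401f401e501e501f501f501e401e401f401f401e501e501f501f501e401e401f501f501e501e501f401f401e401e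401f501f501e501e501f401f40101010101110111010001000110011001010101011101110100010001100110010101010110011001000100011101110101010101100110010001000111011101010101011101110100010001100110010101010111011101000100011001100101010101100110010001000111011101010101011001100100010001110111013c013c012d012d013d013d012c012c013c013c012d012d013d013d012c012c013d013d012d012d013c013c012c012c013d013d012d012d013c013c012c012c013c013c012d012d013d013d012c012c013c013c012d012d013d013d012c012c013d013d012d012d013c013c012c012c013d013d012d012d013c013c012c012c01f401f401e501e501f501f501e401e401f401f401e501e501f501f501e401e401f501f501e501e501f401f401e401e401f501f501e501e501f401f401e401e401f501f501e401e401f401f401e501e501f501f501e401e401f401f401e501e501f401f401e401e401f501f501e501e501f401f401e401e401f501f501e501e501d801d801c901c901d901d901c801c801d801d801c901c901d901d901c801c801d901d901c901c901d801d801c801c801d901d901c901c901d801d801c801c801d901d901c801c801d801d801c901c901d901d901c801c801d801d801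c901c901d801d801c801c801d901d901c901c901d801d801c801c801d901d901c901c901100110010101010111011101000100011001100101010101110111010001000111011101010101011001100100010001110111010101010110011001000100011001100101010101110111010001000110011001010101011101110100010001110111010101010110011001000100011101110101010101100110010001000092009200be00be0080008000ad00ad0080008000ad00ad0092009200be00be00be00be0092009200ad00ad0080008000ad00ad0080008000be00be009200920092009200be00be0080008000ad00ad0080008000ad00ad0092009200be00be00be00be0092009200ad00ad0080008000ad00ad0080008000be00be009200920080008000ac00ac0092009200bf00bf0092009200bf00bf0080008000ac00ac00ac00ac0080008000bf00bf0092009200bf00bf0092009200ac00ac008000800080008000ac00ac0092009200bf00bf0092009200bf00bf0080008000ac00ac00ac00ac0080008000bf00bf0092009200bf00bf0092009200ac00ac008000800092009200be00be0080008000ad00ad0080008000ad00ad0092009200be00be00be00be0092009200ad00ad0080008000ad00ad0080008000be00be009200920092009200be0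0be0080008000ad00ad0080008000ad00ad0092009200be00be00be00be0092009200ad00ad0080008000ad00ad0080008000be00be009200920080008000ac00ac0092009200bf00bf0092009200bf00bf0080008000ac00ac00ac00ac0080008000bf00bf0092009200bf00bf0092009200ac00ac008000800080008000ac00ac0092009200bf00bf0092009200bf00bf0080008000ac00ac00ac00ac0080008000bf00bf0092009200bf00bf0092009200ac00ac00800080006e006e006e006e006c006c006c006c006c006c006c006c006e006e006e006e0043004300430043004100410041004100410041004100410043004300430043006f006f006f006f006d006d006d006d006d006d006d006d006f006f006f006f0042004200420042004000400040004000400040004000400042004200420042006d006d006d006d006f006f006f006f006f006f006f006f006d006d006d006d0041004100410041004300430043004300430043004300430041004100410041006c006c006c006c006e006e006e006e006e006e006e006e006c006c006c006c004000400040004000420042004200420042004200420042004000400040004000200020002000200021002100210021002100210021002100200020002000200020002000200020002100210021002100210021002100210020002000200020002000200020002000210021002100210021002100210021002000200020002000200020002000200021002100210021002100210021002100200020002000200010001000110011001000100011001100100010001100110010001000110011001100110010001000110011001000100011001100100010001100110010001000080008000800080008000800080008000800080008000800080008000800080004000400040004000400040004000400020002000200020001000100000000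
noncomputable def c41 : Node :=
  (Node.st (nat_lit 0) (nat_lit 8) (nat_lit 0) (Node.sp (nat_lit 1) (Node.lf (Leaf.pt (nat_lit 7) (nat_lit 1) [nat_lit 8,nat_lit 16])) (Node.sp (nat_lit 2) (Node.lf (Leaf.pt (nat_lit 0) (nat_lit 2) [nat_lit 96])) (Node.st (nat_lit 0) (nat_lit 2) (nat_lit 0) (Node.sp (nat_lit 4) (Node.lf (Leaf.pt (nat_lit 7) (nat_lit 4) [nat_lit 8,nat_lit 16])) (Node.st (nat_lit 0) (nat_lit 4) (nat_lit 0) (Node.sp (nat_lit 12) (Node.lf (Leaf.pt (nat_lit 7) (nat_lit 12) [nat_lit 8,nat_lit 16])) (Node.st (nat_lit 0) (nat_lit 12) (nat_lit 0) (Node.sp (nat_lit 14) (Node.lf (Leaf.pt (nat_lit 11) (nat_lit 14) [nat_lit 2,nat_lit 64,nat_lit 1])) (Node.st (nat_lit 0) (nat_lit 14) (nat_lit 0) (Node.sp (nat_lit 44) (Node.lf (Leaf.pt (nat_lit 11) (nat_lit 44) [nat_lit 12,nat_lit 84,nat_lit 1])) (Node.st (nat_lit 0) (nat_lit 44) (nat_lit 0) (Node.sp (nat_lit 68) (Node.lf (Leaf.st (nat_lit 1) (nat_lit 516) (nat_lit 68) (Leaf.pt (nat_lit 7) (nat_lit 68) [nat_lit 69,nat_lit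 130]))) (Node.st (nat_lit 0) (nat_lit 68) (nat_lit 0) (Node.sp (nat_lit 72) (Node.lf (Leaf.pt (nat_lit 11) (nat_lit 72) [nat_lit 12,nat_lit 130,nat_lit 1])) (Node.st (nat_lit 0) (nat_lit 72) (nat_lit 0) (Node.sp (nat_lit 73) (Node.lf (Leaf.pt (nat_lit 11) (nat_lit 73) [nat_lit 1,nat_lit 130,nat_lit 12])) (Node.st (nat_lit 0) (nat_lit 73) (nat_lit 0) (Node.sp (nat_lit 266) (Node.lf (Leaf.pt (nat_lit 7) (nat_lit 266) [nat_lit 8,nat_lit 20])) (Node.st (nat_lit 0) (nat_lit 266) (nat_lit 0) (Node.sp (nat_lit 538) (Node.lf (Leaf.st (nat_lit 1) (nat_lit 320) (nat_lit 538) (Leaf.pt (nat_lit 7) (nat_lit 538) [nat_lit 539,nat_lit 84]))) (Node.st (nat_lit 0) (nat_lit 538) (nat_lit 0) (Node.sp (nat_lit 576) (Node.lf (Leaf.pt (nat_lit 11) (nat_lit 576) [nat_lit 146,nat_lit 84,nat_lit 1])) (Node.st (nat_lit 0) (nat_lit 576) (nat_lit 0) (Node.ext [] (nat_lit 8) [Ins.fr [nat_lit 0],Ins.fr [nat_lit 1],Ins.fr [nat_lit 2],Ins.fr [nat_lit 0,nat_lit 0,nat_lit 3],Ins.fr [nat_lit 0,nat_lit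 3,nat_lit 2],Ins.fr [nat_lit 0,nat_lit 0,nat_lit 4,nat_lit 2,nat_lit 1],Ins.fr [nat_lit 0,nat_lit 0,nat_lit 2,nat_lit 5],Ins.df [nat_lit 4,nat_lit 4],Ins.df [nat_lit 2,nat_lit 2],Ins.df [nat_lit 7,nat_lit 7],Ins.df [nat_lit 0,nat_lit 9,nat_lit 8],Ins.df [nat_lit 1,nat_lit 5,nat_lit 6]] [nat_lit 256,nat_lit 260,nat_lit 262,nat_lit 32,nat_lit 192,nat_lit 64,nat_lit 512] [nat_lit 4,nat_lit 3,nat_lit 1,nat_lit 12,nat_lit 2,nat_lit 8,nat_lit 6,nat_lit 0,nat_lit 11,nat_lit 5] (Srch.ex0 [nat_lit 256,nat_lit 16,nat_lit 8,nat_lit 4,nat_lit 2,nat_lit 1] Srch.nil) Node.done)))))))))))))))))))))))))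
theorem ok41 : nodeOK DB PT 41 t41 (nat_lit 0xc00000000c000030003300030000c000c0000c000c00003000030000000000030000000000300c000c00c000c00300030000003000300c000000c00000030c03c0000c30c030000000000000000000000000000000000cc00cc0c0c0c0c0330033003300330c00c3003c00c300300000ff000000ff0c33cf00fccccffff) (nat_lit 0x110000000000000000000000000000000000110000000000000000000011000000000000001100110000000000000011000000000000000011000000000000001100000000000000000011000000000000001100000000000000000000110000000000000000001100000000000000000000000000000000000000000000001100000000000000000000000000000000000000000011000000001100000000000000110000000000110000000000000011000000000000110000000000000011000000000000000000000000001100000000000000110000000011000000000000000000000000001100000000000000000000000000001100001100000000111100000000000000000011000011000011000000001100000000000000000000000000000000000000000000000000000000000000000000000000000000000000000000000000000000000000000000000000000000000000001100110000000000110011000000110000001100000011000000110000000011001100000000001100110000000000110011000000000011001100001100000000001100001100000000001111000000000011000011000000000011000000000000000000002222222200000000000000000000000022222222000011000011001111002222000000002222110011001100110044884455445544ff)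 c41 = true := by
  decide +kernel
noncomputable def c42_0 : Node :=
  Node.sp (nat_lit 69) (Node.lf (Leaf.pt (nat_lit 11) (nat_lit 69) [nat_lit 1,nat_lit 130,nat_lit 12])) (Node.st (nat_lit 0) (nat_lit 69) (nat_lit 0) (Node.sp (nat_lit 72) (Node.lf (Leaf.pt (nat_lit 11) (nat_lit 72) [nat_lit 12,nat_lit 130,nat_lit 1])) (Node.st (nat_lit 0) (nat_lit 72) (nat_lit 0) (Node.sp (nat_lit 73) (Node.lf (Leaf.pt (nat_lit 11) (nat_lit 73) [nat_lit 1,nat_lit 130,nat_lit 12])) (Node.st (nat_lit 0) (nat_lit 73) (nat_lit 0) (Node.sp (nat_lit 196) (Node.lf (Leaf.pt (nat_lit 0) (nat_lit 196) [nat_lit 326])) (Node.st (nat_lit 0) (nat_lit 196) (nat_lit 0) (Node.sp (nat_lit 200) (Node.lf (Leaf.pt (nat_lit 11) (nat_lit 200) [nat_lit 32,nat_lit 346,nat_lit 1])) (Node.st (nat_lit 0) (nat_lit 200) (nat_lit 0) (Node.sp (nat_lit 258) (Node.lf (Leaf.pt (nat_lit 7) (nat_lit 258) [nat_lit 8,nat_lit 20])) (Node.st (nat_lit 0) (nat_lit 258) (nat_lit 0) (Node.sp (nat_lit 266) (Node.lf (Leaf.pt (nat_lit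 7) (nat_lit 266) [nat_lit 8,nat_lit 20])) (Node.st (nat_lit 0) (nat_lit 266) (nat_lit 0) (Node.ext [] (nat_lit 8) [Ins.fr [nat_lit 0],Ins.ts (nat_lit 1) [nat_lit 0,nat_lit 0] [],Ins.ts (nat_lit 1) [nat_lit 0,nat_lit 0,nat_lit 0,nat_lit 0] [],Ins.fr [nat_lit 1],Ins.ts (nat_lit 1) [nat_lit 0,nat_lit 0] [],Ins.ts (nat_lit 0) [nat_lit 0,nat_lit 1,nat_lit 1,nat_lit 0] [],Ins.ts (nat_lit 0) [nat_lit 1,nat_lit 1,nat_lit 1] [nat_lit 0,nat_lit 1,nat_lit 0],Ins.fr [nat_lit 2],Ins.ts (nat_lit 1) [nat_lit 0,nat_lit 0] [],Ins.ts (nat_lit 0) [nat_lit 2,nat_lit 2,nat_lit 0] [nat_lit 0,nat_lit 1,nat_lit 1],Ins.ts (nat_lit 2) [nat_lit 1,nat_lit 0,nat_lit 3] [],Ins.fr [nat_lit 0,nat_lit 0,nat_lit 3],Ins.ts (nat_lit 0) [nat_lit 0,nat_lit 0] [],Ins.ts (nat_lit 3) [nat_lit 0] [],Ins.ts (nat_lit 0) [nat_lit 3,nat_lit 0] [nat_lit 0,nat_lit 3],Ins.ts (nat_lit 0) [nat_lit 1,nat_lit 0,nat_lit 1] [nat_lit 0],Ins.ts (nat_lit 3) [nat_lit 1,nat_lit 0] [],Ins.ts (nat_lit 0) [nat_lit 4,nat_lit 0,nat_lit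 2] [nat_lit 2,nat_lit 0,nat_lit 4],Ins.fr [nat_lit 0,nat_lit 3,nat_lit 2],Ins.ts (nat_lit 0) [nat_lit 0,nat_lit 5,nat_lit 0] [nat_lit 5],Ins.ts (nat_lit 0) [nat_lit 5,nat_lit 1,nat_lit 4] [nat_lit 0,nat_lit 3,nat_lit 0],Ins.ts (nat_lit 0) [nat_lit 0,nat_lit 2,nat_lit 0,nat_lit 2] [],Ins.fr [nat_lit 0,nat_lit 0,nat_lit 4,nat_lit 2,nat_lit 1],Ins.ts (nat_lit 0) [nat_lit 4,nat_lit 0,nat_lit 0] [nat_lit 3],Ins.ts (nat_lit 0) [nat_lit 6,nat_lit 0,nat_lit 1] [nat_lit 4,nat_lit 0,nat_lit 4],Ins.df [nat_lit 3,nat_lit 3],Ins.df [nat_lit 1,nat_lit 1],Ins.df [nat_lit 6,nat_lit 6],Ins.df [nat_lit 0,nat_lit 8,nat_lit 7],Ins.df [nat_lit 1,nat_lit 4,nat_lit 5]] [nat_lit 256,nat_lit 260,nat_lit 262,nat_lit 32,nat_lit 192,nat_lit 64] [nat_lit 4,nat_lit 3,nat_lit 1,nat_lit 11,nat_lit 2,nat_lit 7,nat_lit 5,nat_lit 0,nat_lit 10] (Srch.ex0 [nat_lit 256,nat_lit 16,nat_lit 8,nat_lit 4,nat_lit 2,nat_lit 1] (Srch.rep (nat_lit 290) [nat_lit 4,nat_lit 24,nat_lit 192] [nat_lit 258,nat_lit 192,nat_lit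 32,nat_lit 24,nat_lit 4,nat_lit 1] [nat_lit 64,nat_lit 2,nat_lit 8] (Srch.rep (nat_lit 192) [nat_lit 192] [] [] (Srch.rep (nat_lit 224) [] [] [] Srch.nil (Srch.rep (nat_lit 494) [] [] [] Srch.nil Srch.nil)) (Srch.rep (nat_lit 220) [nat_lit 220] [] [] (Srch.rep (nat_lit 252) [nat_lit 60] [] [] (Srch.rep (nat_lit 24) [] [] [] Srch.nil (Srch.rep (nat_lit 36) [] [] [] Srch.nil Srch.nil)) (Srch.rep (nat_lit 498) [nat_lit 60] [] [] (Srch.rep (nat_lit 262) [nat_lit 290] [] [] (Srch.rep (nat_lit 12) [] [] [] (Srch.rep (nat_lit 268) [] [] [] (Srch.rep (nat_lit 327) [] [] [] (Srch.fin [nat_lit 64] [nat_lit 0] (((nat_lit 262),(Leaf.mp (nat_lit 36) [nat_lit 1,nat_lit 2,nat_lit 4,nat_lit 8,nat_lit 16,nat_lit 32,nat_lit 64,nat_lit 128,nat_lit 256,nat_lit 512] []))::(((nat_lit 263),(Leaf.mp (nat_lit 37) [nat_lit 1,nat_lit 2,nat_lit 4,nat_lit 8,nat_lit 16,nat_lit 32,nat_lit 64,nat_lit 128,nat_lit 256,nat_lit 512] []))::[]))) (Srch.rep (nat_lit 326) [] [] [] (Srch.fin [nat_lit 64]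 [nat_lit 0] (((nat_lit 262),(Leaf.mp (nat_lit 38) [nat_lit 1,nat_lit 2,nat_lit 4,nat_lit 8,nat_lit 16,nat_lit 32,nat_lit 64,nat_lit 128,nat_lit 256,nat_lit 512] []))::(((nat_lit 263),(Leaf.mp (nat_lit 39) [nat_lit 1,nat_lit 2,nat_lit 4,nat_lit 8,nat_lit 16,nat_lit 32,nat_lit 64,nat_lit 128,nat_lit 256,nat_lit 512] []))::[]))) Srch.nil)) (Srch.rep (nat_lit 269) [] [] [] (Srch.rep (nat_lit 358) [] [] [] (Srch.fin [nat_lit 64] [] []) (Srch.rep (nat_lit 359) [] [] [] (Srch.fin [nat_lit 64] [] []) Srch.nil)) Srch.nil)) Srch.nil) (Srch.rep (nat_lit 314) [nat_lit 290] [] [] (Srch.rep (nat_lit 12) [] [] [] (Srch.rep (nat_lit 304) [] [] [] (Srch.rep (nat_lit 413) [] [] [] (Srch.fin [nat_lit 64] [nat_lit 0] (((nat_lit 496),(Leaf.mp (nat_lit 40) [nat_lit 1,nat_lit 2,nat_lit 4,nat_lit 8,nat_lit 16,nat_lit 32,nat_lit 76,nat_lit 141,nat_lit 256,nat_lit 540] []))::(((nat_lit 497),(Leaf.mp (nat_lit 41) [nat_lit 1,nat_lit 2,nat_lit 4,nat_lit 8,nat_lit 16,nat_lit 32,nat_lit 76,nat_lit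 141,nat_lit 256,nat_lit 540] []))::[]))) (Srch.rep (nat_lit 412) [] [] [] (Srch.fin [nat_lit 64] [nat_lit 0] (((nat_lit 496),(Leaf.mp (nat_lit 41) [nat_lit 1,nat_lit 2,nat_lit 4,nat_lit 8,nat_lit 16,nat_lit 32,nat_lit 64,nat_lit 128,nat_lit 256,nat_lit 512] []))::(((nat_lit 497),(Leaf.mp (nat_lit 40) [nat_lit 1,nat_lit 2,nat_lit 4,nat_lit 8,nat_lit 16,nat_lit 32,nat_lit 64,nat_lit 128,nat_lit 256,nat_lit 512] []))::[]))) Srch.nil)) (Srch.rep (nat_lit 305) [] [] [] (Srch.rep (nat_lit 444) [] [] [] (Srch.fin [nat_lit 128] [] []) (Srch.rep (nat_lit 445) [] [] [] (Srch.fin [nat_lit 128] [] []) Srch.nil)) Srch.nil)) Srch.nil) Srch.nil)) Srch.nil)) (Srch.rep (nat_lit 462) [nat_lit 192] [] [] (Srch.rep (nat_lit 224) [] [] [] Srch.nil (Srch.rep (nat_lit 494) [] [] [] Srch.nil Srch.nil)) (Srch.rep (nat_lit 466) [nat_lit 220] [] [] (Srch.rep (nat_lit 252) [nat_lit 60] [] [] (Srch.rep (nat_lit 24) [] [] [] Srch.nil (Srch.rep (nat_lit 36) [] [] [] Srch.nil Srch.nil)) (Srch.rep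 (nat_lit 498) [nat_lit 60] [] [] (Srch.rep (nat_lit 262) [] [] [] Srch.nil (Srch.rep (nat_lit 314) [] [] [] Srch.nil Srch.nil)) Srch.nil)) Srch.nil)))) Srch.nil)) Node.done))))))))))))))
noncomputable def t42 : ℕ := nat_lit 0x12c012c013c013c012d012d013d013d012c012c013c013c012d012d013d013d012c012c013d013d012d012d013c013c012c012c013d013d012d012d013c013c012c012c013c013c012d012d013d013d012c012c013c013c012d012d013d013d012c012c013d013d012d012d013c013c012c012c013d013d012d012d013c013c01c901c901d901d901c801c801d801d801c901c901d901d901c801c801d801d801c901c901d801d801c801c801d901d901c901c901d801d801c801c801d901d901c801c801d801d801c901c901d901d901c801c801d801d801c901c901d901d901c801c801d901d901c901c901d801d801c801c801d901d901c901c901d801d801e501e501f501f501e401e401f401f401e501e501f501f501e401e401f401f401e501e501f401f401e401e401f501f501e501e501f401f401e401e401f501f501e401e401f401f401e501e501f501f501e401e401f401f401e501e501f501f501e401e401f501f501e501e501f401f401e401e401f501f50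1e501e501f401f40101010101110111010001000110011001010101011101110100010001100110010101010110011001000100011101110101010101100110010001000111011101010101011101110100010001100110010101010111011101000100011001100101010101100110010001000111011101010101011001100100010001110111013c013c012d012d013d013d012c012c013c013c012d012d013d013d012c012c013d013d012d012d013c013c012c012c013d013d012d012d013c013c012c012c013c013c012d012d013d013d012c012c013c013c012d012d013d013d012c012c013d013d012d012d013c013c012c012c013d013d012d012d013c013c012c012c01f401f401e501e501f501f501e401e401f401f401e501e501f501f501e401e401f501f501e501e501f401f401e401e401f501f501e501e501f401f401e401e401f501f501e401e401f401f401e501e501f501f501e401e401f401f401e501e501f401f401e401e401f501f501e501e501f401f401e401e401f501f501e501e501d801d801c901c901d901d901c801c801d801d801c901c901d901d901c801c801d901d901c901c901d801d801c801c801d901d901c901c901d801d801c801c801d901d901c801c801d801d801c901c901d901d901c801c801d801d801c901c901d8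01d801c801c801d901d901c901c901d801d801c801c801d901d901c901c901100110010101010111011101000100011001100101010101110111010001000111011101010101011001100100010001110111010101010110011001000100011001100101010101110111010001000110011001010101011101110100010001110111010101010110011001000100011101110101010101100110010001000092009200be00be0080008000ad00ad0080008000ad00ad0092009200be00be00be00be0092009200ad00ad0080008000ad00ad0080008000be00be009200920092009200be00be0080008000ad00ad0080008000ad00ad0092009200be00be00be00be0092009200ad00ad0080008000ad00ad0080008000be00be009200920080008000ac00ac0092009200bf00bf0092009200bf00bf0080008000ac00ac00ac00ac0080008000bf00bf0092009200bf00bf0092009200ac00ac008000800080008000ac00ac0092009200bf00bf0092009200bf00bf0080008000ac00ac00ac00ac0080008000bf00bf0092009200bf00bf0092009200ac00ac008000800092009200be00be0080008000ad00ad0080008000ad00ad0092009200be00be00be00be0092009200ad00ad0080008000ad00ad0080008000be00be009200920092009200be00be0080008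000ad00ad0080008000ad00ad0092009200be00be00be00be0092009200ad00ad0080008000ad00ad0080008000be00be009200920080008000ac00ac0092009200bf00bf0092009200bf00bf0080008000ac00ac00ac00ac0080008000bf00bf0092009200bf00bf0092009200ac00ac008000800080008000ac00ac0092009200bf00bf0092009200bf00bf0080008000ac00ac00ac00ac0080008000bf00bf0092009200bf00bf0092009200ac00ac00800080006e006e006e006e006c006c006c006c006c006c006c006c006e006e006e006e0043004300430043004100410041004100410041004100410043004300430043006f006f006f006f006d006d006d006d006d006d006d006d006f006f006f006f0042004200420042004000400040004000400040004000400042004200420042006d006d006d006d006f006f006f006f006f006f006f006f006d006d006d006d0041004100410041004300430043004300430043004300430041004100410041006c006c006c006c006e006e006e006e006e006e006e006e006c006c006c006c004000400040004000420042004200420042004200420042004000400040004000200020002000200021002100210021002100210021002100200020002000200020002000200020002100210021002100210021002100210020002000200020002000200020002000210021002100210021002100210021002000200020002000200020002000200021002100210021002100210021002100200020002000200010001000110011001000100011001100100010001100110010001000110011001100110010001000110011001000100011001100100010001100110010001000080008000800080008000800080008000800080008000800080008000800080004000400040004000400040004000400020002000200020001000100000000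
noncomputable def c42 : Node :=
  (Node.st (nat_lit 0) (nat_lit 8) (nat_lit 0) (Node.sp (nat_lit 1) (Node.lf (Leaf.pt (nat_lit 7) (nat_lit 1) [nat_lit 8,nat_lit 16])) (Node.sp (nat_lit 2) (Node.lf (Leaf.pt (nat_lit 0) (nat_lit 2) [nat_lit 96])) (Node.st (nat_lit 0) (nat_lit 2) (nat_lit 0) (Node.sp (nat_lit 4) (Node.lf (Leaf.pt (nat_lit 7) (nat_lit 4) [nat_lit 8,nat_lit 16])) (Node.st (nat_lit 0) (nat_lit 4) (nat_lit 0) (Node.sp (nat_lit 12) (Node.lf (Leaf.pt (nat_lit 7) (nat_lit 12) [nat_lit 8,nat_lit 16])) (Node.st (nat_lit 0) (nat_lit 12) (nat_lit 0) (Node.sp (nat_lit 14) (Node.lf (Leaf.pt (nat_lit 11) (nat_lit 14) [nat_lit 2,nat_lit 64,nat_lit 1])) (Node.st (nat_lit 0) (nat_lit 14) (nat_lit 0) (Node.sp (nat_lit 32) (Node.lf (Leaf.pt (nat_lit 0) (nat_lit 32) [nat_lit 84])) (Node.st (nat_lit 0) (nat_lit 32) (nat_lit 0) (Node.sp (nat_lit 44) (Node.lf (Leaf.pt (nat_lit 11) (nat_lit 44) [nat_lit 12,nat_lit 84,nat_lit 1])) (Node.st (nat_lit 0) (nat_lit 44) (nat_lit 0)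 (Node.sp (nat_lit 68) (Node.lf (Leaf.st (nat_lit 1) (nat_lit 16) (nat_lit 68) (Leaf.pt (nat_lit 7) (nat_lit 68) [nat_lit 104,nat_lit 130]))) (Node.st (nat_lit 0) (nat_lit 68) (nat_lit 0) c42_0))))))))))))))))
theorem ok42 : nodeOK DB PT 42 t42 (nat_lit 0x30c03c0000c30c030000000000000000000000000000000000cc00cc0c0c0c0c0330033003300330c00c3003c00c300300000ff000000ff0c33cf00fccccffff) (nat_lit 0x1100001100000000111100000000000000000011000011000011000000001100000000000000000000000000000000000000000000000000000000000000000000000000000000000000000000000000000000000000000000000000000000000000001100110000000000110011000000110000001100000011000000110000000011001100000000001100110000000000110011000000000011001100001100000000001100001100000000001111000000000011000011000000000011000000000000000000002222222200000000000000000000000022222222000011000011001111002222000000002222110011001100110044884455445544ff) c42 = true := by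
  decide +kernel
noncomputable def c43_0 : Srch :=
  Srch.rep (nat_lit 64) [] [] [] (Srch.rep (nat_lit 128) [] [] [] (Srch.fin [nat_lit 64,nat_lit 16] [nat_lit 0] (((nat_lit 0),(Leaf.pt (nat_lit 11) (nat_lit 8) [nat_lit 4,nat_lit 16,nat_lit 256]))::(((nat_lit 1),(Leaf.pt (nat_lit 7) (nat_lit 8) [nat_lit 10,nat_lit 256]))::(((nat_lit 12),(Leaf.pt (nat_lit 7) (nat_lit 8) [nat_lit 9,nat_lit 256]))::(((nat_lit 13),(Leaf.pt (nat_lit 7) (nat_lit 8) [nat_lit 9,nat_lit 256]))::[]))))) (Srch.rep (nat_lit 129) [] [] [] (Srch.fin [nat_lit 64,nat_lit 16] [nat_lit 0] (((nat_lit 0),(Leaf.pt (nat_lit 11) (nat_lit 8) [nat_lit 4,nat_lit 16,nat_lit 256]))::(((nat_lit 1),(Leaf.pt (nat_lit 7) (nat_lit 8) [nat_lit 10,nat_lit 256]))::(((nat_lit 12),(Leaf.pt (nat_lit 7) (nat_lit 8) [nat_lit 9,nat_lit 256]))::(((nat_lit 13),(Leaf.pt (nat_lit 7) (nat_lit 8) [nat_lit 9,nat_lit 256]))::[]))))) (Srch.rep (nat_lit 140) [] [] [] (Srch.fin [nat_lit 64,nat_lit 16] [nat_lit 0] (((nat_lit 0),(Leaf.pt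 (nat_lit 11) (nat_lit 8) [nat_lit 4,nat_lit 16,nat_lit 256]))::(((nat_lit 1),(Leaf.pt (nat_lit 7) (nat_lit 8) [nat_lit 10,nat_lit 256]))::(((nat_lit 12),(Leaf.pt (nat_lit 7) (nat_lit 8) [nat_lit 9,nat_lit 256]))::(((nat_lit 13),(Leaf.pt (nat_lit 7) (nat_lit 8) [nat_lit 9,nat_lit 256]))::[]))))) (Srch.rep (nat_lit 141) [] [] [] (Srch.fin [nat_lit 64,nat_lit 16] [nat_lit 0] (((nat_lit 0),(Leaf.pt (nat_lit 11) (nat_lit 8) [nat_lit 4,nat_lit 16,nat_lit 256]))::(((nat_lit 1),(Leaf.pt (nat_lit 7) (nat_lit 8) [nat_lit 10,nat_lit 256]))::(((nat_lit 12),(Leaf.pt (nat_lit 7) (nat_lit 8) [nat_lit 9,nat_lit 256]))::(((nat_lit 13),(Leaf.pt (nat_lit 7) (nat_lit 8) [nat_lit 9,nat_lit 256]))::[]))))) Srch.nil)))) (Srch.rep (nat_lit 65) [] [] [] (Srch.rep (nat_lit 128) [] [] [] (Srch.fin [nat_lit 64,nat_lit 16] [nat_lit 0] (((nat_lit 0),(Leaf.pt (nat_lit 11) (nat_lit 8) [nat_lit 4,nat_lit 16,nat_lit 256]))::(((nat_lit 1),(Leaf.pt (nat_lit 7) (nat_lit 8) [nat_lit 10,nat_lit 256]))::(((nat_lit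 12),(Leaf.pt (nat_lit 7) (nat_lit 8) [nat_lit 9,nat_lit 256]))::(((nat_lit 13),(Leaf.pt (nat_lit 7) (nat_lit 8) [nat_lit 9,nat_lit 256]))::[]))))) (Srch.rep (nat_lit 129) [] [] [] (Srch.fin [nat_lit 64,nat_lit 16] [nat_lit 0] (((nat_lit 0),(Leaf.pt (nat_lit 11) (nat_lit 8) [nat_lit 4,nat_lit 16,nat_lit 256]))::(((nat_lit 1),(Leaf.pt (nat_lit 7) (nat_lit 8) [nat_lit 10,nat_lit 256]))::(((nat_lit 12),(Leaf.pt (nat_lit 7) (nat_lit 8) [nat_lit 9,nat_lit 256]))::(((nat_lit 13),(Leaf.pt (nat_lit 7) (nat_lit 8) [nat_lit 9,nat_lit 256]))::[]))))) (Srch.rep (nat_lit 140) [] [] [] (Srch.fin [nat_lit 64,nat_lit 16] [nat_lit 0] (((nat_lit 0),(Leaf.pt (nat_lit 11) (nat_lit 8) [nat_lit 4,nat_lit 16,nat_lit 256]))::(((nat_lit 1),(Leaf.pt (nat_lit 7) (nat_lit 8) [nat_lit 10,nat_lit 256]))::(((nat_lit 12),(Leaf.pt (nat_lit 7) (nat_lit 8) [nat_lit 9,nat_lit 256]))::(((nat_lit 13),(Leaf.pt (nat_lit 7) (nat_lit 8) [nat_lit 9,nat_lit 256]))::[]))))) (Srch.rep (nat_lit 141) [] [] [] (Srch.fin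 [nat_lit 64,nat_lit 16] [nat_lit 0] (((nat_lit 0),(Leaf.pt (nat_lit 11) (nat_lit 8) [nat_lit 4,nat_lit 16,nat_lit 256]))::(((nat_lit 1),(Leaf.pt (nat_lit 7) (nat_lit 8) [nat_lit 10,nat_lit 256]))::(((nat_lit 12),(Leaf.pt (nat_lit 7) (nat_lit 8) [nat_lit 9,nat_lit 256]))::(((nat_lit 13),(Leaf.pt (nat_lit 7) (nat_lit 8) [nat_lit 9,nat_lit 256]))::[]))))) Srch.nil)))) (Srch.rep (nat_lit 76) [] [] [] (Srch.rep (nat_lit 128) [] [] [] (Srch.fin [nat_lit 64,nat_lit 16] [nat_lit 0] (((nat_lit 0),(Leaf.pt (nat_lit 11) (nat_lit 8) [nat_lit 4,nat_lit 16,nat_lit 256]))::(((nat_lit 1),(Leaf.pt (nat_lit 7) (nat_lit 8) [nat_lit 10,nat_lit 256]))::(((nat_lit 12),(Leaf.pt (nat_lit 7) (nat_lit 8) [nat_lit 9,nat_lit 256]))::(((nat_lit 13),(Leaf.pt (nat_lit 7) (nat_lit 8) [nat_lit 9,nat_lit 256]))::[]))))) (Srch.rep (nat_lit 129) [] [] [] (Srch.fin [nat_lit 64,nat_lit 16] [nat_lit 0] (((nat_lit 0),(Leaf.pt (nat_lit 11) (nat_lit 8) [nat_lit 4,nat_lit 16,nat_lit 256]))::(((nat_lit 1),(Leaf.pt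 (nat_lit 7) (nat_lit 8) [nat_lit 10,nat_lit 256]))::(((nat_lit 12),(Leaf.pt (nat_lit 7) (nat_lit 8) [nat_lit 9,nat_lit 256]))::(((nat_lit 13),(Leaf.pt (nat_lit 7) (nat_lit 8) [nat_lit 9,nat_lit 256]))::[]))))) (Srch.rep (nat_lit 140) [] [] [] (Srch.fin [nat_lit 64,nat_lit 16] [nat_lit 0] (((nat_lit 0),(Leaf.pt (nat_lit 11) (nat_lit 8) [nat_lit 4,nat_lit 16,nat_lit 256]))::(((nat_lit 1),(Leaf.pt (nat_lit 7) (nat_lit 8) [nat_lit 10,nat_lit 256]))::(((nat_lit 12),(Leaf.pt (nat_lit 7) (nat_lit 8) [nat_lit 9,nat_lit 256]))::(((nat_lit 13),(Leaf.pt (nat_lit 7) (nat_lit 8) [nat_lit 9,nat_lit 256]))::[]))))) (Srch.rep (nat_lit 141) [] [] [] (Srch.fin [nat_lit 64,nat_lit 16] [nat_lit 0] (((nat_lit 0),(Leaf.pt (nat_lit 11) (nat_lit 8) [nat_lit 4,nat_lit 16,nat_lit 256]))::(((nat_lit 1),(Leaf.pt (nat_lit 7) (nat_lit 8) [nat_lit 10,nat_lit 256]))::(((nat_lit 12),(Leaf.pt (nat_lit 7) (nat_lit 8) [nat_lit 9,nat_lit 256]))::(((nat_lit 13),(Leaf.pt (nat_lit 7) (nat_lit 8) [nat_lit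 9,nat_lit 256]))::[]))))) Srch.nil)))) (Srch.rep (nat_lit 77) [] [] [] (Srch.rep (nat_lit 128) [] [] [] (Srch.fin [nat_lit 64,nat_lit 16] [nat_lit 0] (((nat_lit 0),(Leaf.pt (nat_lit 11) (nat_lit 8) [nat_lit 4,nat_lit 16,nat_lit 256]))::(((nat_lit 1),(Leaf.pt (nat_lit 7) (nat_lit 8) [nat_lit 10,nat_lit 256]))::(((nat_lit 12),(Leaf.pt (nat_lit 7) (nat_lit 8) [nat_lit 9,nat_lit 256]))::(((nat_lit 13),(Leaf.pt (nat_lit 7) (nat_lit 8) [nat_lit 9,nat_lit 256]))::[]))))) (Srch.rep (nat_lit 129) [] [] [] (Srch.fin [nat_lit 64,nat_lit 16] [nat_lit 0] (((nat_lit 0),(Leaf.pt (nat_lit 11) (nat_lit 8) [nat_lit 4,nat_lit 16,nat_lit 256]))::(((nat_lit 1),(Leaf.pt (nat_lit 7) (nat_lit 8) [nat_lit 10,nat_lit 256]))::(((nat_lit 12),(Leaf.pt (nat_lit 7) (nat_lit 8) [nat_lit 9,nat_lit 256]))::(((nat_lit 13),(Leaf.pt (nat_lit 7) (nat_lit 8) [nat_lit 9,nat_lit 256]))::[]))))) (Srch.rep (nat_lit 140) [] [] [] (Srch.fin [nat_lit 64,nat_lit 16] [nat_lit 0] (((nat_lit 0),(Leaf.pt (nat_lit 11)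 (nat_lit 8) [nat_lit 4,nat_lit 16,nat_lit 256]))::(((nat_lit 1),(Leaf.pt (nat_lit 7) (nat_lit 8) [nat_lit 10,nat_lit 256]))::(((nat_lit 12),(Leaf.pt (nat_lit 7) (nat_lit 8) [nat_lit 9,nat_lit 256]))::(((nat_lit 13),(Leaf.pt (nat_lit 7) (nat_lit 8) [nat_lit 9,nat_lit 256]))::[]))))) (Srch.rep (nat_lit 141) [] [] [] (Srch.fin [nat_lit 64,nat_lit 16] [nat_lit 0] (((nat_lit 0),(Leaf.pt (nat_lit 11) (nat_lit 8) [nat_lit 4,nat_lit 16,nat_lit 256]))::(((nat_lit 1),(Leaf.pt (nat_lit 7) (nat_lit 8) [nat_lit 10,nat_lit 256]))::(((nat_lit 12),(Leaf.pt (nat_lit 7) (nat_lit 8) [nat_lit 9,nat_lit 256]))::(((nat_lit 13),(Leaf.pt (nat_lit 7) (nat_lit 8) [nat_lit 9,nat_lit 256]))::[]))))) Srch.nil)))) Srch.nil)))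
noncomputable def c43_1 : Srch :=
  Srch.rep (nat_lit 20) [nat_lit 16] [] [] (Srch.rep (nat_lit 2) [nat_lit 4] [] [] (Srch.rep (nat_lit 32) [] [] [] c43_0 Srch.nil) (Srch.rep (nat_lit 18) [nat_lit 4] [] [] (Srch.rep (nat_lit 32) [] [] [] (Srch.rep (nat_lit 150) [] [] [] (Srch.rep (nat_lit 102) [] [] [] (Srch.fin [nat_lit 64] [] []) (Srch.rep (nat_lit 103) [] [] [] (Srch.fin [nat_lit 64] [] []) (Srch.rep (nat_lit 106) [] [] [] (Srch.fin [nat_lit 64] [] []) (Srch.rep (nat_lit 107) [] [] [] (Srch.fin [nat_lit 64] [nat_lit 0] (((nat_lit 16),(Leaf.pt (nat_lit 11) (nat_lit 8) [nat_lit 4,nat_lit 256,nat_lit 1]))::(((nat_lit 17),(Leaf.pt (nat_lit 11) (nat_lit 8) [nat_lit 4,nat_lit 256,nat_lit 1]))::(((nat_lit 28),(Leaf.pt (nat_lit 7) (nat_lit 8) [nat_lit 9,nat_lit 258]))::(((nat_lit 29),(Leaf.pt (nat_lit 7) (nat_lit 8) [nat_lit 9,nat_lit 258]))::[]))))) Srch.nil)))) (Srch.rep (nat_lit 151) [] [] [] (Srch.rep (nat_lit 102) [] [] [] (Srch.fin [nat_lit 64] [] []) (Srch.rep (nat_lit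 103) [] [] [] (Srch.fin [nat_lit 64] [] []) (Srch.rep (nat_lit 106) [] [] [] (Srch.fin [nat_lit 64] [nat_lit 0] (((nat_lit 16),(Leaf.pt (nat_lit 11) (nat_lit 8) [nat_lit 4,nat_lit 256,nat_lit 1]))::(((nat_lit 17),(Leaf.pt (nat_lit 11) (nat_lit 8) [nat_lit 4,nat_lit 256,nat_lit 1]))::(((nat_lit 28),(Leaf.pt (nat_lit 7) (nat_lit 8) [nat_lit 9,nat_lit 258]))::(((nat_lit 29),(Leaf.pt (nat_lit 7) (nat_lit 8) [nat_lit 9,nat_lit 258]))::[]))))) (Srch.rep (nat_lit 107) [] [] [] (Srch.fin [nat_lit 64] [] []) Srch.nil)))) (Srch.rep (nat_lit 154) [] [] [] (Srch.rep (nat_lit 102) [] [] [] (Srch.fin [nat_lit 64] [] []) (Srch.rep (nat_lit 103) [] [] [] (Srch.fin [nat_lit 64] [nat_lit 0] (((nat_lit 16),(Leaf.pt (nat_lit 11) (nat_lit 8) [nat_lit 4,nat_lit 256,nat_lit 1]))::(((nat_lit 17),(Leaf.pt (nat_lit 11) (nat_lit 8) [nat_lit 4,nat_lit 256,nat_lit 1]))::(((nat_lit 28),(Leaf.pt (nat_lit 7) (nat_lit 8) [nat_lit 9,nat_lit 258]))::(((nat_lit 29),(Leaf.pt (nat_lit 7) (nat_lit 8) [nat_lit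 9,nat_lit 258]))::[]))))) (Srch.rep (nat_lit 106) [] [] [] (Srch.fin [nat_lit 64] [] []) (Srch.rep (nat_lit 107) [] [] [] (Srch.fin [nat_lit 64] [] []) Srch.nil)))) (Srch.rep (nat_lit 155) [] [] [] (Srch.rep (nat_lit 102) [] [] [] (Srch.fin [nat_lit 64] [nat_lit 0] (((nat_lit 16),(Leaf.pt (nat_lit 11) (nat_lit 8) [nat_lit 4,nat_lit 256,nat_lit 1]))::(((nat_lit 17),(Leaf.pt (nat_lit 11) (nat_lit 8) [nat_lit 4,nat_lit 256,nat_lit 1]))::(((nat_lit 28),(Leaf.pt (nat_lit 7) (nat_lit 8) [nat_lit 9,nat_lit 258]))::(((nat_lit 29),(Leaf.pt (nat_lit 7) (nat_lit 8) [nat_lit 9,nat_lit 258]))::[]))))) (Srch.rep (nat_lit 103) [] [] [] (Srch.fin [nat_lit 64] [] []) (Srch.rep (nat_lit 106) [] [] [] (Srch.fin [nat_lit 64] [] []) (Srch.rep (nat_lit 107) [] [] [] (Srch.fin [nat_lit 64] [] []) Srch.nil)))) Srch.nil)))) Srch.nil) Srch.nil)) (Srch.rep (nat_lit 21) [nat_lit 16] [] [] (Srch.rep (nat_lit 2) [nat_lit 4] [] [] (Srch.rep (nat_lit 32) [] [] [] (Srch.rep (nat_lit 66) [] [] [] (Srch.rep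 (nat_lit 146) [] [] [] (Srch.fin [nat_lit 64,nat_lit 16] [nat_lit 0,nat_lit 12] (((nat_lit 0),(Leaf.pt (nat_lit 7) (nat_lit 8) [nat_lit 10,nat_lit 260]))::[])) (Srch.rep (nat_lit 147) [] [] [] (Srch.fin [nat_lit 64,nat_lit 16] [nat_lit 0,nat_lit 12] (((nat_lit 0),(Leaf.pt (nat_lit 7) (nat_lit 8) [nat_lit 10,nat_lit 260]))::[])) (Srch.rep (nat_lit 158) [] [] [] (Srch.fin [nat_lit 128] [] []) (Srch.rep (nat_lit 159) [] [] [] (Srch.fin [nat_lit 128] [] []) Srch.nil)))) (Srch.rep (nat_lit 67) [] [] [] (Srch.rep (nat_lit 146) [] [] [] (Srch.fin [nat_lit 64,nat_lit 16] [nat_lit 0,nat_lit 12] (((nat_lit 0),(Leaf.pt (nat_lit 7) (nat_lit 8) [nat_lit 10,nat_lit 260]))::[])) (Srch.rep (nat_lit 147) [] [] [] (Srch.fin [nat_lit 64,nat_lit 16] [nat_lit 0,nat_lit 12] (((nat_lit 0),(Leaf.pt (nat_lit 7) (nat_lit 8) [nat_lit 10,nat_lit 260]))::[])) (Srch.rep (nat_lit 158) [] [] [] (Srch.fin [nat_lit 128] [] []) (Srch.rep (nat_lit 159) [] [] [] (Srch.fin [nat_lit 128] [] []) Srch.nil))))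 (Srch.rep (nat_lit 78) [] [] [] (Srch.rep (nat_lit 146) [] [] [] (Srch.fin [nat_lit 64] [] []) (Srch.rep (nat_lit 147) [] [] [] (Srch.fin [nat_lit 64] [] []) (Srch.rep (nat_lit 158) [] [] [] (Srch.fin [nat_lit 64] [] []) (Srch.rep (nat_lit 159) [] [] [] (Srch.fin [nat_lit 64] [] []) Srch.nil)))) (Srch.rep (nat_lit 79) [] [] [] (Srch.rep (nat_lit 146) [] [] [] (Srch.fin [nat_lit 64] [] []) (Srch.rep (nat_lit 147) [] [] [] (Srch.fin [nat_lit 64] [] []) (Srch.rep (nat_lit 158) [] [] [] (Srch.fin [nat_lit 64] [] []) (Srch.rep (nat_lit 159) [] [] [] (Srch.fin [nat_lit 64] [] []) Srch.nil)))) Srch.nil)))) Srch.nil) (Srch.rep (nat_lit 18) [nat_lit 4] [] [] (Srch.rep (nat_lit 32) [] [] [] (Srch.rep (nat_lit 132) [] [] [] (Srch.rep (nat_lit 100) [] [] [] (Srch.fin [nat_lit 64] [] []) (Srch.rep (nat_lit 101) [] [] [] (Srch.fin [nat_lit 64] [] []) (Srch.rep (nat_lit 104) [] [] [] (Srch.fin [nat_lit 64] [] []) (Srch.rep (nat_lit 105) [] [] [] (Srch.fin [nat_lit 64] [nat_lit 0,nat_lit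 12] (((nat_lit 16),(Leaf.mp (nat_lit 42) [nat_lit 1,nat_lit 2,nat_lit 4,nat_lit 8,nat_lit 16,nat_lit 32,nat_lit 76,nat_lit 128,nat_lit 256] []))::[])) Srch.nil)))) (Srch.rep (nat_lit 133) [] [] [] (Srch.rep (nat_lit 100) [] [] [] (Srch.fin [nat_lit 64] [] []) (Srch.rep (nat_lit 101) [] [] [] (Srch.fin [nat_lit 64] [] []) (Srch.rep (nat_lit 104) [] [] [] (Srch.fin [nat_lit 64] [nat_lit 0,nat_lit 12] (((nat_lit 16),(Leaf.mp (nat_lit 42) [nat_lit 1,nat_lit 2,nat_lit 4,nat_lit 8,nat_lit 16,nat_lit 32,nat_lit 64,nat_lit 140,nat_lit 256] []))::[])) (Srch.rep (nat_lit 105) [] [] [] (Srch.fin [nat_lit 64] [] []) Srch.nil)))) (Srch.rep (nat_lit 136) [] [] [] (Srch.rep (nat_lit 100) [] [] [] (Srch.fin [nat_lit 64] [nat_lit 0,nat_lit 12] (((nat_lit 16),(Leaf.mp (nat_lit 42) [nat_lit 1,nat_lit 2,nat_lit 4,nat_lit 8,nat_lit 16,nat_lit 32,nat_lit 76,nat_lit 140,nat_lit 256] []))::[])) (Srch.rep (nat_lit 101) [] [] [] (Srch.fin [nat_lit 64] [] []) (Srch.rep (nat_lit 104) [] [] []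 (Srch.fin [nat_lit 64] [] []) (Srch.rep (nat_lit 105) [] [] [] (Srch.fin [nat_lit 64] [] []) Srch.nil)))) (Srch.rep (nat_lit 137) [] [] [] (Srch.rep (nat_lit 100) [] [] [] (Srch.fin [nat_lit 64] [] []) (Srch.rep (nat_lit 101) [] [] [] (Srch.fin [nat_lit 64] [nat_lit 0,nat_lit 12] (((nat_lit 16),(Leaf.mp (nat_lit 42) [nat_lit 1,nat_lit 2,nat_lit 4,nat_lit 8,nat_lit 16,nat_lit 32,nat_lit 64,nat_lit 128,nat_lit 256] []))::[])) (Srch.rep (nat_lit 104) [] [] [] (Srch.fin [nat_lit 64] [] []) (Srch.rep (nat_lit 105) [] [] [] (Srch.fin [nat_lit 64] [] []) Srch.nil)))) Srch.nil)))) Srch.nil) Srch.nil)) (Srch.rep (nat_lit 28) [nat_lit 16] [] [] (Srch.rep (nat_lit 2) [] [] [] Srch.nil (Srch.rep (nat_lit 18) [] [] [] Srch.nil Srch.nil)) (Srch.rep (nat_lit 29) [nat_lit 16] [] [] (Srch.rep (nat_lit 2) [] [] [] Srch.nil (Srch.rep (nat_lit 18) [] [] [] Srch.nil Srch.nil)) Srch.nil)))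
noncomputable def t43 : ℕ := nat_lit 0x92009200be00be0080008000ad00ad0080008000ad00ad0092009200be00be00be00be0092009200ad00ad0080008000ad00ad0080008000be00be009200920092009200be00be0080008000ad00ad0080008000ad00ad0092009200be00be00be00be0092009200ad00ad0080008000ad00ad0080008000be00be009200920080008000ac00ac0092009200bf00bf0092009200bf00bf0080008000ac00ac00ac00ac0080008000bf00bf0092009200bf00bf0092009200ac00ac008000800080008000ac00ac0092009200bf00bf0092009200bf00bf0080008000ac00ac00ac00ac0080008000bf00bf0092009200bf00bf0092009200ac00ac008000800092009200be00be0080008000ad00ad0080008000ad00ad0092009200be00be00be00be0092009200ad00ad0080008000ad00ad0080008000be00be009200920092009200be00be0080008000ad00ad0080008000ad00ad0092009200be00be00be00be0092009200ad00ad0080008000ad00ad0080008000be00be009200920080008000ac00ac0092009200bf00bf0092009200bf00bf0080008000ac00ac00ac00ac0080008000bf00bf0092009200bf00bf0092009200ac00ac008000800080008000ac00ac0092009200bf00bf0092009200bf0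0bf0080008000ac00ac00ac00ac0080008000bf00bf0092009200bf00bf0092009200ac00ac00800080006e006e006e006e006c006c006c006c006c006c006c006c006e006e006e006e0043004300430043004100410041004100410041004100410043004300430043006f006f006f006f006d006d006d006d006d006d006d006d006f006f006f006f0042004200420042004000400040004000400040004000400042004200420042006d006d006d006d006f006f006f006f006f006f006f006f006d006d006d006d0041004100410041004300430043004300430043004300430041004100410041006c006c006c006c006e006e006e006e006e006e006e006e006c006c006c006c004000400040004000420042004200420042004200420042004000400040004000200020002000200021002100210021002100210021002100200020002000200020002000200020002100210021002100210021002100210020002000200020002000200020002000210021002100210021002100210021002000200020002000200020002000200021002100210021002100210021002100200020002000200010001000110011001000100011001100100010001100110010001000110011001100110010001000110011001000100011001100100010001100110010001000080008000800080008000800080008000800080008000800080008000800080004000400040004000400040004000400020002000200020001000100000000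
noncomputable def c43 : Node :=
  (Node.st (nat_lit 0) (nat_lit 8) (nat_lit 0) (Node.sp (nat_lit 1) (Node.lf (Leaf.pt (nat_lit 7) (nat_lit 1) [nat_lit 8,nat_lit 16])) (Node.sp (nat_lit 2) (Node.lf (Leaf.pt (nat_lit 0) (nat_lit 2) [nat_lit 96])) (Node.st (nat_lit 0) (nat_lit 2) (nat_lit 0) (Node.sp (nat_lit 4) (Node.lf (Leaf.pt (nat_lit 7) (nat_lit 4) [nat_lit 8,nat_lit 16])) (Node.st (nat_lit 0) (nat_lit 4) (nat_lit 0) (Node.sp (nat_lit 12) (Node.lf (Leaf.pt (nat_lit 7) (nat_lit 12) [nat_lit 8,nat_lit 16])) (Node.sp (nat_lit 13) (Node.lf (Leaf.pt (nat_lit 7) (nat_lit 13) [nat_lit 8,nat_lit 16])) (Node.sp (nat_lit 14) (Node.lf (Leaf.pt (nat_lit 11) (nat_lit 14) [nat_lit 2,nat_lit 64,nat_lit 1])) (Node.st (nat_lit 0) (nat_lit 14) (nat_lit 0) (Node.sp (nat_lit 18) (Node.lf (Leaf.pt (nat_lit 0) (nat_lit 18) [nat_lit 164])) (Node.st (nat_lit 0) (nat_lit 18) (nat_lit 0) (Node.sp (nat_lit 30) (Node.lf (Leaf.pt (nat_lit 11) (nat_lit 30) [nat_lit 12,nat_lit 132,nat_lit 1]))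 (Node.st (nat_lit 0) (nat_lit 30) (nat_lit 0) (Node.sp (nat_lit 32) (Node.lf (Leaf.pt (nat_lit 0) (nat_lit 32) [nat_lit 84])) (Node.st (nat_lit 0) (nat_lit 32) (nat_lit 0) (Node.sp (nat_lit 44) (Node.lf (Leaf.pt (nat_lit 11) (nat_lit 44) [nat_lit 12,nat_lit 84,nat_lit 1])) (Node.st (nat_lit 0) (nat_lit 44) (nat_lit 0) (Node.sp (nat_lit 68) (Node.lf (Leaf.st (nat_lit 1) (nat_lit 16) (nat_lit 68) (Leaf.pt (nat_lit 7) (nat_lit 68) [nat_lit 104,nat_lit 130]))) (Node.st (nat_lit 0) (nat_lit 68) (nat_lit 0) (Node.sp (nat_lit 69) (Node.lf (Leaf.pt (nat_lit 11) (nat_lit 69) [nat_lit 1,nat_lit 130,nat_lit 12])) (Node.st (nat_lit 0) (nat_lit 69) (nat_lit 0) (Node.sp (nat_lit 72) (Node.lf (Leaf.pt (nat_lit 11) (nat_lit 72) [nat_lit 12,nat_lit 130,nat_lit 1])) (Node.st (nat_lit 0) (nat_lit 72) (nat_lit 0) (Node.sp (nat_lit 73) (Node.lf (Leaf.pt (nat_lit 11) (nat_lit 73) [nat_lit 1,nat_lit 130,nat_lit 12])) (Node.st (nat_lit 0) (nat_lit 73) (nat_lit 0) (Node.sp (nat_lit 128) (Node.lf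 (Leaf.st (nat_lit 1) (nat_lit 2) (nat_lit 128) (Leaf.pt (nat_lit 7) (nat_lit 128) [nat_lit 172,nat_lit 86]))) (Node.st (nat_lit 0) (nat_lit 128) (nat_lit 0) (Node.sp (nat_lit 129) (Node.lf (Leaf.pt (nat_lit 11) (nat_lit 129) [nat_lit 1,nat_lit 86,nat_lit 12])) (Node.st (nat_lit 0) (nat_lit 129) (nat_lit 0) (Node.sp (nat_lit 140) (Node.lf (Leaf.pt (nat_lit 11) (nat_lit 140) [nat_lit 12,nat_lit 86,nat_lit 1])) (Node.st (nat_lit 0) (nat_lit 140) (nat_lit 0) (Node.sp (nat_lit 141) (Node.lf (Leaf.pt (nat_lit 11) (nat_lit 141) [nat_lit 1,nat_lit 86,nat_lit 12])) (Node.st (nat_lit 0) (nat_lit 141) (nat_lit 0) (Node.sp (nat_lit 196) (Node.lf (Leaf.st (nat_lit 1) (nat_lit 16) (nat_lit 196) (Leaf.st (nat_lit 1) (nat_lit 2) (nat_lit 196) (Leaf.pt (nat_lit 21) (nat_lit 196) [nat_lit 1,nat_lit 68,nat_lit 12,nat_lit 32])))) (Node.st (nat_lit 0) (nat_lit 196) (nat_lit 0) (Node.sp (nat_lit 200) (Node.lf (Leaf.st (nat_lit 1) (nat_lit 16) (nat_lit 200) (Leaf.st (nat_lit 1) (nat_lit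 18) (nat_lit 200) (Leaf.pt (nat_lit 21) (nat_lit 200) [nat_lit 1,nat_lit 12,nat_lit 68,nat_lit 104])))) (Node.st (nat_lit 0) (nat_lit 200) (nat_lit 0) (Node.ext [] (nat_lit 8) [Ins.fr [nat_lit 0],Ins.ts (nat_lit 1) [nat_lit 0,nat_lit 0] [],Ins.fr [nat_lit 1],Ins.ts (nat_lit 1) [nat_lit 0,nat_lit 0] [],Ins.ts (nat_lit 3) [nat_lit 0,nat_lit 1] [],Ins.ts (nat_lit 3) [nat_lit 0,nat_lit 1,nat_lit 2] [],Ins.fr [nat_lit 2],Ins.ts (nat_lit 3) [nat_lit 0] [],Ins.ts (nat_lit 2) [nat_lit 0,nat_lit 3] [],Ins.ts (nat_lit 0) [nat_lit 0,nat_lit 0] [],Ins.ts (nat_lit 1) [nat_lit 0] [],Ins.ts (nat_lit 2) [nat_lit 2,nat_lit 0,nat_lit 3] [],Ins.ts (nat_lit 0) [nat_lit 2,nat_lit 0,nat_lit 2] [nat_lit 0],Ins.fr [nat_lit 1,nat_lit 1,nat_lit 3],Ins.ts (nat_lit 0) [nat_lit 0,nat_lit 0] [],Ins.ts (nat_lit 3) [nat_lit 0] [],Ins.ts (nat_lit 2) [nat_lit 2,nat_lit 0] [],Ins.ts (nat_lit 0) [nat_lit 2,nat_lit 0,nat_lit 2] [nat_lit 0],Ins.fr [nat_lit 1,nat_lit 4],Ins.ts (nat_lit 0) [nat_lit 0,nat_lit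 0] [nat_lit 2],Ins.ts (nat_lit 0) [nat_lit 5,nat_lit 1,nat_lit 4] [nat_lit 0,nat_lit 3,nat_lit 0],Ins.fr [nat_lit 4,nat_lit 2,nat_lit 5],Ins.ts (nat_lit 0) [nat_lit 0,nat_lit 0] [],Ins.ts (nat_lit 0) [nat_lit 6,nat_lit 2,nat_lit 3] [nat_lit 0,nat_lit 4,nat_lit 0],Ins.df [nat_lit 4,nat_lit 4],Ins.df [nat_lit 0,nat_lit 5,nat_lit 6]] [nat_lit 16,nat_lit 20,nat_lit 2,nat_lit 32,nat_lit 64,nat_lit 128] [nat_lit 1,nat_lit 5,nat_lit 0,nat_lit 8,nat_lit 7,nat_lit 4,nat_lit 3,nat_lit 2] (Srch.rep (nat_lit 8) [nat_lit 2] [nat_lit 16,nat_lit 8,nat_lit 4,nat_lit 2,nat_lit 1] [nat_lit 128,nat_lit 64,nat_lit 32] (Srch.rep (nat_lit 16) [] [] [] c43_1 (Srch.rep (nat_lit 20) [] [] [] (Srch.rep (nat_lit 16) [] [] [] Srch.nil (Srch.rep (nat_lit 17) [] [] [] Srch.nil (Srch.rep (nat_lit 24) [] [] [] Srch.nil (Srch.rep (nat_lit 25) [] [] [] Srch.nil Srch.nil)))) (Srch.rep (nat_lit 24) [] [] [] (Srch.rep (nat_lit 20) [] [] [] Srch.nil (Srch.rep (nat_lit 21) [] [] [] Srch.nil (Srch.rep (nat_lit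 28) [] [] [] Srch.nil (Srch.rep (nat_lit 29) [] [] [] Srch.nil Srch.nil)))) (Srch.rep (nat_lit 28) [] [] [] (Srch.rep (nat_lit 16) [] [] [] Srch.nil (Srch.rep (nat_lit 17) [] [] [] Srch.nil (Srch.rep (nat_lit 24) [] [] [] Srch.nil (Srch.rep (nat_lit 25) [] [] [] Srch.nil Srch.nil)))) Srch.nil)))) Srch.nil) Node.done)))))))))))))))))))))))))))))))))))))))
theorem ok43 : nodeOK DB PT 43 t43 (nat_lit 0x330033003300330c00c3003c00c300300000ff000000ff0c33cf00fccccffff) (nat_lit 0x11001100000000001100110000000000110011000000000011001100001100000000001100001100000000001111000000000011000011000000000011000000000000000000002222222200000000000000000000000022222222000011000011001111002222000000002222110011001100110044ff4455445544ff) c43 = true := by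
  decide +kernel
noncomputable def c44_0 : Srch :=
  Srch.rep (nat_lit 64) [] [] [] (Srch.rep (nat_lit 128) [] [] [] (Srch.fin [nat_lit 64,nat_lit 16] [nat_lit 0] (((nat_lit 0),(Leaf.pt (nat_lit 11) (nat_lit 8) [nat_lit 4,nat_lit 16,nat_lit 256]))::(((nat_lit 1),(Leaf.pt (nat_lit 7) (nat_lit 8) [nat_lit 10,nat_lit 256]))::(((nat_lit 12),(Leaf.pt (nat_lit 7) (nat_lit 8) [nat_lit 9,nat_lit 256]))::(((nat_lit 13),(Leaf.pt (nat_lit 7) (nat_lit 8) [nat_lit 9,nat_lit 256]))::[]))))) (Srch.rep (nat_lit 129) [] [] [] (Srch.fin [nat_lit 64,nat_lit 16] [nat_lit 0] (((nat_lit 0),(Leaf.pt (nat_lit 11) (nat_lit 8) [nat_lit 4,nat_lit 16,nat_lit 256]))::(((nat_lit 1),(Leaf.pt (nat_lit 7) (nat_lit 8) [nat_lit 10,nat_lit 256]))::(((nat_lit 12),(Leaf.pt (nat_lit 7) (nat_lit 8) [nat_lit 9,nat_lit 256]))::(((nat_lit 13),(Leaf.pt (nat_lit 7) (nat_lit 8) [nat_lit 9,nat_lit 256]))::[]))))) (Srch.rep (nat_lit 140) [] [] [] (Srch.fin [nat_lit 64,nat_lit 16] [nat_lit 0] (((nat_lit 0),(Leaf.pt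 (nat_lit 11) (nat_lit 8) [nat_lit 4,nat_lit 16,nat_lit 256]))::(((nat_lit 1),(Leaf.pt (nat_lit 7) (nat_lit 8) [nat_lit 10,nat_lit 256]))::(((nat_lit 12),(Leaf.pt (nat_lit 7) (nat_lit 8) [nat_lit 9,nat_lit 256]))::(((nat_lit 13),(Leaf.pt (nat_lit 7) (nat_lit 8) [nat_lit 9,nat_lit 256]))::[]))))) (Srch.rep (nat_lit 141) [] [] [] (Srch.fin [nat_lit 64,nat_lit 16] [nat_lit 0] (((nat_lit 0),(Leaf.pt (nat_lit 11) (nat_lit 8) [nat_lit 4,nat_lit 16,nat_lit 256]))::(((nat_lit 1),(Leaf.pt (nat_lit 7) (nat_lit 8) [nat_lit 10,nat_lit 256]))::(((nat_lit 12),(Leaf.pt (nat_lit 7) (nat_lit 8) [nat_lit 9,nat_lit 256]))::(((nat_lit 13),(Leaf.pt (nat_lit 7) (nat_lit 8) [nat_lit 9,nat_lit 256]))::[]))))) Srch.nil)))) (Srch.rep (nat_lit 65) [] [] [] (Srch.rep (nat_lit 128) [] [] [] (Srch.fin [nat_lit 64,nat_lit 16] [nat_lit 0] (((nat_lit 0),(Leaf.pt (nat_lit 11) (nat_lit 8) [nat_lit 4,nat_lit 16,nat_lit 256]))::(((nat_lit 1),(Leaf.pt (nat_lit 7) (nat_lit 8) [nat_lit 10,nat_lit 256]))::(((nat_lit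 12),(Leaf.pt (nat_lit 7) (nat_lit 8) [nat_lit 9,nat_lit 256]))::(((nat_lit 13),(Leaf.pt (nat_lit 7) (nat_lit 8) [nat_lit 9,nat_lit 256]))::[]))))) (Srch.rep (nat_lit 129) [] [] [] (Srch.fin [nat_lit 64,nat_lit 16] [nat_lit 0] (((nat_lit 0),(Leaf.pt (nat_lit 11) (nat_lit 8) [nat_lit 4,nat_lit 16,nat_lit 256]))::(((nat_lit 1),(Leaf.pt (nat_lit 7) (nat_lit 8) [nat_lit 10,nat_lit 256]))::(((nat_lit 12),(Leaf.pt (nat_lit 7) (nat_lit 8) [nat_lit 9,nat_lit 256]))::(((nat_lit 13),(Leaf.pt (nat_lit 7) (nat_lit 8) [nat_lit 9,nat_lit 256]))::[]))))) (Srch.rep (nat_lit 140) [] [] [] (Srch.fin [nat_lit 64,nat_lit 16] [nat_lit 0] (((nat_lit 0),(Leaf.pt (nat_lit 11) (nat_lit 8) [nat_lit 4,nat_lit 16,nat_lit 256]))::(((nat_lit 1),(Leaf.pt (nat_lit 7) (nat_lit 8) [nat_lit 10,nat_lit 256]))::(((nat_lit 12),(Leaf.pt (nat_lit 7) (nat_lit 8) [nat_lit 9,nat_lit 256]))::(((nat_lit 13),(Leaf.pt (nat_lit 7) (nat_lit 8) [nat_lit 9,nat_lit 256]))::[]))))) (Srch.rep (nat_lit 141) [] [] [] (Srch.fin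 [nat_lit 64,nat_lit 16] [nat_lit 0] (((nat_lit 0),(Leaf.pt (nat_lit 11) (nat_lit 8) [nat_lit 4,nat_lit 16,nat_lit 256]))::(((nat_lit 1),(Leaf.pt (nat_lit 7) (nat_lit 8) [nat_lit 10,nat_lit 256]))::(((nat_lit 12),(Leaf.pt (nat_lit 7) (nat_lit 8) [nat_lit 9,nat_lit 256]))::(((nat_lit 13),(Leaf.pt (nat_lit 7) (nat_lit 8) [nat_lit 9,nat_lit 256]))::[]))))) Srch.nil)))) (Srch.rep (nat_lit 76) [] [] [] (Srch.rep (nat_lit 128) [] [] [] (Srch.fin [nat_lit 64,nat_lit 16] [nat_lit 0] (((nat_lit 0),(Leaf.pt (nat_lit 11) (nat_lit 8) [nat_lit 4,nat_lit 16,nat_lit 256]))::(((nat_lit 1),(Leaf.pt (nat_lit 7) (nat_lit 8) [nat_lit 10,nat_lit 256]))::(((nat_lit 12),(Leaf.pt (nat_lit 7) (nat_lit 8) [nat_lit 9,nat_lit 256]))::(((nat_lit 13),(Leaf.pt (nat_lit 7) (nat_lit 8) [nat_lit 9,nat_lit 256]))::[]))))) (Srch.rep (nat_lit 129) [] [] [] (Srch.fin [nat_lit 64,nat_lit 16] [nat_lit 0] (((nat_lit 0),(Leaf.pt (nat_lit 11) (nat_lit 8) [nat_lit 4,nat_lit 16,nat_lit 256]))::(((nat_lit 1),(Leaf.pt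 (nat_lit 7) (nat_lit 8) [nat_lit 10,nat_lit 256]))::(((nat_lit 12),(Leaf.pt (nat_lit 7) (nat_lit 8) [nat_lit 9,nat_lit 256]))::(((nat_lit 13),(Leaf.pt (nat_lit 7) (nat_lit 8) [nat_lit 9,nat_lit 256]))::[]))))) (Srch.rep (nat_lit 140) [] [] [] (Srch.fin [nat_lit 64,nat_lit 16] [nat_lit 0] (((nat_lit 0),(Leaf.pt (nat_lit 11) (nat_lit 8) [nat_lit 4,nat_lit 16,nat_lit 256]))::(((nat_lit 1),(Leaf.pt (nat_lit 7) (nat_lit 8) [nat_lit 10,nat_lit 256]))::(((nat_lit 12),(Leaf.pt (nat_lit 7) (nat_lit 8) [nat_lit 9,nat_lit 256]))::(((nat_lit 13),(Leaf.pt (nat_lit 7) (nat_lit 8) [nat_lit 9,nat_lit 256]))::[]))))) (Srch.rep (nat_lit 141) [] [] [] (Srch.fin [nat_lit 64,nat_lit 16] [nat_lit 0] (((nat_lit 0),(Leaf.pt (nat_lit 11) (nat_lit 8) [nat_lit 4,nat_lit 16,nat_lit 256]))::(((nat_lit 1),(Leaf.pt (nat_lit 7) (nat_lit 8) [nat_lit 10,nat_lit 256]))::(((nat_lit 12),(Leaf.pt (nat_lit 7) (nat_lit 8) [nat_lit 9,nat_lit 256]))::(((nat_lit 13),(Leaf.pt (nat_lit 7) (nat_lit 8) [nat_lit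 9,nat_lit 256]))::[]))))) Srch.nil)))) (Srch.rep (nat_lit 77) [] [] [] (Srch.rep (nat_lit 128) [] [] [] (Srch.fin [nat_lit 64,nat_lit 16] [nat_lit 0] (((nat_lit 0),(Leaf.pt (nat_lit 11) (nat_lit 8) [nat_lit 4,nat_lit 16,nat_lit 256]))::(((nat_lit 1),(Leaf.pt (nat_lit 7) (nat_lit 8) [nat_lit 10,nat_lit 256]))::(((nat_lit 12),(Leaf.pt (nat_lit 7) (nat_lit 8) [nat_lit 9,nat_lit 256]))::(((nat_lit 13),(Leaf.pt (nat_lit 7) (nat_lit 8) [nat_lit 9,nat_lit 256]))::[]))))) (Srch.rep (nat_lit 129) [] [] [] (Srch.fin [nat_lit 64,nat_lit 16] [nat_lit 0] (((nat_lit 0),(Leaf.pt (nat_lit 11) (nat_lit 8) [nat_lit 4,nat_lit 16,nat_lit 256]))::(((nat_lit 1),(Leaf.pt (nat_lit 7) (nat_lit 8) [nat_lit 10,nat_lit 256]))::(((nat_lit 12),(Leaf.pt (nat_lit 7) (nat_lit 8) [nat_lit 9,nat_lit 256]))::(((nat_lit 13),(Leaf.pt (nat_lit 7) (nat_lit 8) [nat_lit 9,nat_lit 256]))::[]))))) (Srch.rep (nat_lit 140) [] [] [] (Srch.fin [nat_lit 64,nat_lit 16] [nat_lit 0] (((nat_lit 0),(Leaf.pt (nat_lit 11)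 (nat_lit 8) [nat_lit 4,nat_lit 16,nat_lit 256]))::(((nat_lit 1),(Leaf.pt (nat_lit 7) (nat_lit 8) [nat_lit 10,nat_lit 256]))::(((nat_lit 12),(Leaf.pt (nat_lit 7) (nat_lit 8) [nat_lit 9,nat_lit 256]))::(((nat_lit 13),(Leaf.pt (nat_lit 7) (nat_lit 8) [nat_lit 9,nat_lit 256]))::[]))))) (Srch.rep (nat_lit 141) [] [] [] (Srch.fin [nat_lit 64,nat_lit 16] [nat_lit 0] (((nat_lit 0),(Leaf.pt (nat_lit 11) (nat_lit 8) [nat_lit 4,nat_lit 16,nat_lit 256]))::(((nat_lit 1),(Leaf.pt (nat_lit 7) (nat_lit 8) [nat_lit 10,nat_lit 256]))::(((nat_lit 12),(Leaf.pt (nat_lit 7) (nat_lit 8) [nat_lit 9,nat_lit 256]))::(((nat_lit 13),(Leaf.pt (nat_lit 7) (nat_lit 8) [nat_lit 9,nat_lit 256]))::[]))))) Srch.nil)))) Srch.nil)))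
noncomputable def c44_1 : Node :=
  Node.sp (nat_lit 12) (Node.lf (Leaf.pt (nat_lit 7) (nat_lit 12) [nat_lit 8,nat_lit 16])) (Node.sp (nat_lit 13) (Node.lf (Leaf.pt (nat_lit 7) (nat_lit 13) [nat_lit 8,nat_lit 16])) (Node.sp (nat_lit 14) (Node.lf (Leaf.pt (nat_lit 11) (nat_lit 14) [nat_lit 2,nat_lit 64,nat_lit 1])) (Node.st (nat_lit 0) (nat_lit 14) (nat_lit 0) (Node.sp (nat_lit 18) (Node.lf (Leaf.pt (nat_lit 0) (nat_lit 18) [nat_lit 132])) (Node.st (nat_lit 0) (nat_lit 18) (nat_lit 0) (Node.sp (nat_lit 30) (Node.lf (Leaf.pt (nat_lit 11) (nat_lit 30) [nat_lit 12,nat_lit 128,nat_lit 32])) (Node.st (nat_lit 0) (nat_lit 30) (nat_lit 0) (Node.sp (nat_lit 32) (Node.lf (Leaf.pt (nat_lit 11) (nat_lit 32) [nat_lit 18,nat_lit 128,nat_lit 12])) (Node.st (nat_lit 0) (nat_lit 32) (nat_lit 0) (Node.sp (nat_lit 44) (Node.lf (Leaf.pt (nat_lit 11) (nat_lit 44) [nat_lit 12,nat_lit 84,nat_lit 1])) (Node.st (nat_lit 0) (nat_lit 44) (nat_lit 0) (Node.sp (nat_lit 68) (Node.lf (Leaf.st (nat_lit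 1) (nat_lit 16) (nat_lit 68) (Leaf.pt (nat_lit 7) (nat_lit 68) [nat_lit 104,nat_lit 128]))) (Node.st (nat_lit 0) (nat_lit 68) (nat_lit 0) (Node.sp (nat_lit 69) (Node.lf (Leaf.pt (nat_lit 11) (nat_lit 69) [nat_lit 1,nat_lit 128,nat_lit 12])) (Node.st (nat_lit 0) (nat_lit 69) (nat_lit 0) (Node.sp (nat_lit 72) (Node.lf (Leaf.pt (nat_lit 11) (nat_lit 72) [nat_lit 12,nat_lit 128,nat_lit 32])) (Node.st (nat_lit 0) (nat_lit 72) (nat_lit 0) (Node.sp (nat_lit 73) (Node.lf (Leaf.pt (nat_lit 11) (nat_lit 73) [nat_lit 1,nat_lit 128,nat_lit 12])) (Node.st (nat_lit 0) (nat_lit 73) (nat_lit 0) (Node.ext [] (nat_lit 8) [Ins.fr [nat_lit 0],Ins.ts (nat_lit 1) [nat_lit 0,nat_lit 0] [],Ins.fr [nat_lit 1],Ins.ts (nat_lit 1) [nat_lit 0,nat_lit 0] [],Ins.ts (nat_lit 3) [nat_lit 0,nat_lit 1] [],Ins.ts (nat_lit 3) [nat_lit 0,nat_lit 1,nat_lit 2] [],Ins.fr [nat_lit 2],Ins.ts (nat_lit 3) [nat_lit 0] [],Ins.ts (nat_lit 2) [nat_lit 0,nat_lit 3] [],Ins.ts (nat_lit 0) [nat_lit 0,nat_lit 0] [],Ins.ts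 (nat_lit 1) [nat_lit 0] [],Ins.ts (nat_lit 2) [nat_lit 2,nat_lit 0,nat_lit 3] [],Ins.ts (nat_lit 0) [nat_lit 2,nat_lit 0,nat_lit 2] [nat_lit 0],Ins.fr [nat_lit 1,nat_lit 1,nat_lit 3],Ins.ts (nat_lit 0) [nat_lit 0,nat_lit 0] [],Ins.ts (nat_lit 3) [nat_lit 0] [],Ins.ts (nat_lit 2) [nat_lit 2,nat_lit 0] [],Ins.ts (nat_lit 0) [nat_lit 2,nat_lit 0,nat_lit 2] [nat_lit 0],Ins.fr [nat_lit 1,nat_lit 4],Ins.ts (nat_lit 0) [nat_lit 0,nat_lit 0] [nat_lit 2],Ins.ts (nat_lit 0) [nat_lit 5,nat_lit 1,nat_lit 4] [nat_lit 0,nat_lit 3,nat_lit 0],Ins.fr [nat_lit 4,nat_lit 2,nat_lit 5],Ins.ts (nat_lit 0) [nat_lit 5,nat_lit 5] [nat_lit 0,nat_lit 0],Ins.ts (nat_lit 0) [nat_lit 6,nat_lit 2,nat_lit 4] [nat_lit 0,nat_lit 5,nat_lit 0],Ins.df [nat_lit 0,nat_lit 0],Ins.df [nat_lit 0,nat_lit 5,nat_lit 6]] [nat_lit 16,nat_lit 20,nat_lit 2,nat_lit 32,nat_lit 64,nat_lit 128] [nat_lit 1,nat_lit 5,nat_lit 0,nat_lit 8,nat_lit 7,nat_lit 4,nat_lit 3,nat_lit 2] (Srch.rep (nat_lit 8) [nat_lit 2] [nat_lit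 16,nat_lit 8,nat_lit 4,nat_lit 2,nat_lit 1] [nat_lit 128,nat_lit 64,nat_lit 32] (Srch.rep (nat_lit 16) [] [] [] (Srch.rep (nat_lit 20) [nat_lit 16] [] [] (Srch.rep (nat_lit 2) [nat_lit 4] [] [] (Srch.rep (nat_lit 32) [] [] [] c44_0 Srch.nil) (Srch.rep (nat_lit 18) [nat_lit 4] [] [] (Srch.rep (nat_lit 32) [] [] [] Srch.nil Srch.nil) Srch.nil)) (Srch.rep (nat_lit 21) [nat_lit 16] [] [] (Srch.rep (nat_lit 2) [nat_lit 4] [] [] (Srch.rep (nat_lit 32) [] [] [] (Srch.rep (nat_lit 66) [] [] [] (Srch.rep (nat_lit 146) [] [] [] (Srch.fin [nat_lit 64,nat_lit 16] [nat_lit 0,nat_lit 12] (((nat_lit 0),(Leaf.pt (nat_lit 7) (nat_lit 8) [nat_lit 10,nat_lit 260]))::[])) (Srch.rep (nat_lit 147) [] [] [] (Srch.fin [nat_lit 64,nat_lit 16] [nat_lit 0,nat_lit 12] (((nat_lit 0),(Leaf.pt (nat_lit 7) (nat_lit 8) [nat_lit 10,nat_lit 260]))::[])) (Srch.rep (nat_lit 158) [] [] [] (Srch.fin [nat_lit 128] [] []) (Srch.rep (nat_lit 159) [] [] [] (Srch.fin [nat_lit 128] [] []) Srch.nil)))) (Srch.rep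 (nat_lit 67) [] [] [] (Srch.rep (nat_lit 146) [] [] [] (Srch.fin [nat_lit 64,nat_lit 16] [nat_lit 0,nat_lit 12] (((nat_lit 0),(Leaf.pt (nat_lit 7) (nat_lit 8) [nat_lit 10,nat_lit 260]))::[])) (Srch.rep (nat_lit 147) [] [] [] (Srch.fin [nat_lit 64,nat_lit 16] [nat_lit 0,nat_lit 12] (((nat_lit 0),(Leaf.pt (nat_lit 7) (nat_lit 8) [nat_lit 10,nat_lit 260]))::[])) (Srch.rep (nat_lit 158) [] [] [] (Srch.fin [nat_lit 128] [] []) (Srch.rep (nat_lit 159) [] [] [] (Srch.fin [nat_lit 128] [] []) Srch.nil)))) (Srch.rep (nat_lit 78) [] [] [] (Srch.rep (nat_lit 146) [] [] [] (Srch.fin [nat_lit 64] [] []) (Srch.rep (nat_lit 147) [] [] [] (Srch.fin [nat_lit 64] [] []) (Srch.rep (nat_lit 158) [] [] [] (Srch.fin [nat_lit 64] [] []) (Srch.rep (nat_lit 159) [] [] [] (Srch.fin [nat_lit 64] [] []) Srch.nil)))) (Srch.rep (nat_lit 79) [] [] [] (Srch.rep (nat_lit 146) [] [] [] (Srch.fin [nat_lit 64] [] []) (Srch.rep (nat_lit 147) [] [] [] (Srch.fin [nat_lit 64] [] []) (Srch.rep (nat_lit 158)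 [] [] [] (Srch.fin [nat_lit 64] [] []) (Srch.rep (nat_lit 159) [] [] [] (Srch.fin [nat_lit 64] [] []) Srch.nil)))) Srch.nil)))) Srch.nil) (Srch.rep (nat_lit 18) [nat_lit 4] [] [] (Srch.rep (nat_lit 32) [] [] [] Srch.nil Srch.nil) Srch.nil)) (Srch.rep (nat_lit 28) [nat_lit 16] [] [] (Srch.rep (nat_lit 2) [] [] [] Srch.nil (Srch.rep (nat_lit 18) [] [] [] Srch.nil Srch.nil)) (Srch.rep (nat_lit 29) [nat_lit 16] [] [] (Srch.rep (nat_lit 2) [] [] [] Srch.nil (Srch.rep (nat_lit 18) [] [] [] Srch.nil Srch.nil)) Srch.nil)))) (Srch.rep (nat_lit 20) [] [] [] (Srch.rep (nat_lit 16) [] [] [] Srch.nil (Srch.rep (nat_lit 17) [] [] [] Srch.nil (Srch.rep (nat_lit 24) [] [] [] Srch.nil (Srch.rep (nat_lit 25) [] [] [] Srch.nil Srch.nil)))) (Srch.rep (nat_lit 24) [] [] [] (Srch.rep (nat_lit 20) [] [] [] Srch.nil (Srch.rep (nat_lit 21) [] [] [] Srch.nil (Srch.rep (nat_lit 28) [] [] [] Srch.nil (Srch.rep (nat_lit 29) [] [] [] Srch.nil Srch.nil)))) (Srch.rep (nat_lit 28) [] [] [] (Srch.rep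 (nat_lit 16) [] [] [] Srch.nil (Srch.rep (nat_lit 17) [] [] [] Srch.nil (Srch.rep (nat_lit 24) [] [] [] Srch.nil (Srch.rep (nat_lit 25) [] [] [] Srch.nil Srch.nil)))) Srch.nil)))) Srch.nil) Node.done))))))))))))))))))))
noncomputable def t44 : ℕ := nat_lit 0x93009300bf00bf0081008100ac00ac0081008100ac00ac0093009300bf00bf00bf00bf0093009300ac00ac0081008100ac00ac0081008100bf00bf009300930093009300bf00bf0081008100ac00ac0081008100ac00ac0093009300bf00bf00bf00bf0093009300ac00ac0081008100ac00ac0081008100bf00bf009300930081008100ad00ad0093009300be00be0093009300be00be0081008100ad00ad00ad00ad0081008100be00be0093009300be00be0093009300ad00ad008100810081008100ad00ad0093009300be00be0093009300be00be0081008100ad00ad00ad00ad0081008100be00be0093009300be00be0093009300ad00ad008100810092009200be00be0080008000ad00ad0080008000ad00ad0092009200be00be00be00be0092009200ad00ad0080008000ad00ad0080008000be00be009200920092009200be00be0080008000ad00ad0080008000ad00ad0092009200be00be00be00be009200920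0ad00ad0080008000ad00ad0080008000be00be009200920080008000ac00ac0092009200bf00bf0092009200bf00bf0080008000ac00ac00ac00ac0080008000bf00bf0092009200bf00bf0092009200ac00ac008000800080008000ac00ac0092009200bf00bf0092009200bf00bf0080008000ac00ac00ac00ac0080008000bf00bf0092009200bf00bf0092009200ac00ac00800080006e006e006e006e006c006c006c006c006c006c006c006c006e006e006e006e0043004300430043004100410041004100410041004100410043004300430043006f006f006f006f006d006d006d006d006d006d006d006d006f006f006f006f0042004200420042004000400040004000400040004000400042004200420042006d006d006d006d006f006f006f006f006f006f006f006f006d006d006d006d0041004100410041004300430043004300430043004300430041004100410041006c006c006c006c006e006e006e006e006e006e006e006e006c006c006c006c004000400040004000420042004200420042004200420042004000400040004000200020002000200021002100210021002100210021002100200020002000200020002000200020002100210021002100210021002100210020002000200020002000200020002000210021002100210021002100210021002000200020002000200020002000200021002100210021002100210021002100200020002000200010001000110011001000100011001100100010001100110010001000110011001100110010001000110011001000100011001100100010001100110010001000080008000800080008000800080008000800080008000800080008000800080004000400040004000400040004000400020002000200020001000100000000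
noncomputable def c44 : Node :=
  (Node.st (nat_lit 0) (nat_lit 8) (nat_lit 0) (Node.sp (nat_lit 1) (Node.lf (Leaf.pt (nat_lit 7) (nat_lit 1) [nat_lit 8,nat_lit 16])) (Node.sp (nat_lit 2) (Node.lf (Leaf.pt (nat_lit 0) (nat_lit 2) [nat_lit 96])) (Node.st (nat_lit 0) (nat_lit 2) (nat_lit 0) (Node.sp (nat_lit 4) (Node.lf (Leaf.pt (nat_lit 7) (nat_lit 4) [nat_lit 8,nat_lit 16])) (Node.st (nat_lit 0) (nat_lit 4) (nat_lit 0) c44_1))))))
theorem ok44 : nodeOK DB PT 44 t44 (nat_lit 0xff000000ff0c33cf00fccccffff) (nat_lit 0x2222222200000000000000000000000022222222000011000011001111002222000000002222110011001100110044ff4455445544ff) c44 = true := by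
  decide +kernel
noncomputable def c45_0 : Srch :=
  Srch.rep (nat_lit 64) [] [] [] (Srch.rep (nat_lit 128) [] [] [] (Srch.fin [nat_lit 64,nat_lit 16] [nat_lit 0] (((nat_lit 0),(Leaf.pt (nat_lit 11) (nat_lit 8) [nat_lit 4,nat_lit 16,nat_lit 256]))::(((nat_lit 1),(Leaf.pt (nat_lit 7) (nat_lit 8) [nat_lit 10,nat_lit 256]))::(((nat_lit 12),(Leaf.pt (nat_lit 7) (nat_lit 8) [nat_lit 9,nat_lit 256]))::(((nat_lit 13),(Leaf.pt (nat_lit 7) (nat_lit 8) [nat_lit 9,nat_lit 256]))::[]))))) (Srch.rep (nat_lit 129) [] [] [] (Srch.fin [nat_lit 64,nat_lit 16] [nat_lit 0] (((nat_lit 0),(Leaf.pt (nat_lit 11) (nat_lit 8) [nat_lit 4,nat_lit 16,nat_lit 256]))::(((nat_lit 1),(Leaf.pt (nat_lit 7) (nat_lit 8) [nat_lit 10,nat_lit 256]))::(((nat_lit 12),(Leaf.pt (nat_lit 7) (nat_lit 8) [nat_lit 9,nat_lit 256]))::(((nat_lit 13),(Leaf.pt (nat_lit 7) (nat_lit 8) [nat_lit 9,nat_lit 256]))::[]))))) (Srch.rep (nat_lit 140) [] [] [] (Srch.fin [nat_lit 64,nat_lit 16] [nat_lit 0] (((nat_lit 0),(Leaf.pt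 (nat_lit 11) (nat_lit 8) [nat_lit 4,nat_lit 16,nat_lit 256]))::(((nat_lit 1),(Leaf.pt (nat_lit 7) (nat_lit 8) [nat_lit 10,nat_lit 256]))::(((nat_lit 12),(Leaf.pt (nat_lit 7) (nat_lit 8) [nat_lit 9,nat_lit 256]))::(((nat_lit 13),(Leaf.pt (nat_lit 7) (nat_lit 8) [nat_lit 9,nat_lit 256]))::[]))))) (Srch.rep (nat_lit 141) [] [] [] (Srch.fin [nat_lit 64,nat_lit 16] [nat_lit 0] (((nat_lit 0),(Leaf.pt (nat_lit 11) (nat_lit 8) [nat_lit 4,nat_lit 16,nat_lit 256]))::(((nat_lit 1),(Leaf.pt (nat_lit 7) (nat_lit 8) [nat_lit 10,nat_lit 256]))::(((nat_lit 12),(Leaf.pt (nat_lit 7) (nat_lit 8) [nat_lit 9,nat_lit 256]))::(((nat_lit 13),(Leaf.pt (nat_lit 7) (nat_lit 8) [nat_lit 9,nat_lit 256]))::[]))))) Srch.nil)))) (Srch.rep (nat_lit 65) [] [] [] (Srch.rep (nat_lit 128) [] [] [] (Srch.fin [nat_lit 64,nat_lit 16] [nat_lit 0] (((nat_lit 0),(Leaf.pt (nat_lit 11) (nat_lit 8) [nat_lit 4,nat_lit 16,nat_lit 256]))::(((nat_lit 1),(Leaf.pt (nat_lit 7) (nat_lit 8) [nat_lit 10,nat_lit 256]))::(((nat_lit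 12),(Leaf.pt (nat_lit 7) (nat_lit 8) [nat_lit 9,nat_lit 256]))::(((nat_lit 13),(Leaf.pt (nat_lit 7) (nat_lit 8) [nat_lit 9,nat_lit 256]))::[]))))) (Srch.rep (nat_lit 129) [] [] [] (Srch.fin [nat_lit 64,nat_lit 16] [nat_lit 0] (((nat_lit 0),(Leaf.pt (nat_lit 11) (nat_lit 8) [nat_lit 4,nat_lit 16,nat_lit 256]))::(((nat_lit 1),(Leaf.pt (nat_lit 7) (nat_lit 8) [nat_lit 10,nat_lit 256]))::(((nat_lit 12),(Leaf.pt (nat_lit 7) (nat_lit 8) [nat_lit 9,nat_lit 256]))::(((nat_lit 13),(Leaf.pt (nat_lit 7) (nat_lit 8) [nat_lit 9,nat_lit 256]))::[]))))) (Srch.rep (nat_lit 140) [] [] [] (Srch.fin [nat_lit 64,nat_lit 16] [nat_lit 0] (((nat_lit 0),(Leaf.pt (nat_lit 11) (nat_lit 8) [nat_lit 4,nat_lit 16,nat_lit 256]))::(((nat_lit 1),(Leaf.pt (nat_lit 7) (nat_lit 8) [nat_lit 10,nat_lit 256]))::(((nat_lit 12),(Leaf.pt (nat_lit 7) (nat_lit 8) [nat_lit 9,nat_lit 256]))::(((nat_lit 13),(Leaf.pt (nat_lit 7) (nat_lit 8) [nat_lit 9,nat_lit 256]))::[]))))) (Srch.rep (nat_lit 141) [] [] [] (Srch.fin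 [nat_lit 64,nat_lit 16] [nat_lit 0] (((nat_lit 0),(Leaf.pt (nat_lit 11) (nat_lit 8) [nat_lit 4,nat_lit 16,nat_lit 256]))::(((nat_lit 1),(Leaf.pt (nat_lit 7) (nat_lit 8) [nat_lit 10,nat_lit 256]))::(((nat_lit 12),(Leaf.pt (nat_lit 7) (nat_lit 8) [nat_lit 9,nat_lit 256]))::(((nat_lit 13),(Leaf.pt (nat_lit 7) (nat_lit 8) [nat_lit 9,nat_lit 256]))::[]))))) Srch.nil)))) (Srch.rep (nat_lit 76) [] [] [] (Srch.rep (nat_lit 128) [] [] [] (Srch.fin [nat_lit 64,nat_lit 16] [nat_lit 0] (((nat_lit 0),(Leaf.pt (nat_lit 11) (nat_lit 8) [nat_lit 4,nat_lit 16,nat_lit 256]))::(((nat_lit 1),(Leaf.pt (nat_lit 7) (nat_lit 8) [nat_lit 10,nat_lit 256]))::(((nat_lit 12),(Leaf.pt (nat_lit 7) (nat_lit 8) [nat_lit 9,nat_lit 256]))::(((nat_lit 13),(Leaf.pt (nat_lit 7) (nat_lit 8) [nat_lit 9,nat_lit 256]))::[]))))) (Srch.rep (nat_lit 129) [] [] [] (Srch.fin [nat_lit 64,nat_lit 16] [nat_lit 0] (((nat_lit 0),(Leaf.pt (nat_lit 11) (nat_lit 8) [nat_lit 4,nat_lit 16,nat_lit 256]))::(((nat_lit 1),(Leaf.pt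 (nat_lit 7) (nat_lit 8) [nat_lit 10,nat_lit 256]))::(((nat_lit 12),(Leaf.pt (nat_lit 7) (nat_lit 8) [nat_lit 9,nat_lit 256]))::(((nat_lit 13),(Leaf.pt (nat_lit 7) (nat_lit 8) [nat_lit 9,nat_lit 256]))::[]))))) (Srch.rep (nat_lit 140) [] [] [] (Srch.fin [nat_lit 64,nat_lit 16] [nat_lit 0] (((nat_lit 0),(Leaf.pt (nat_lit 11) (nat_lit 8) [nat_lit 4,nat_lit 16,nat_lit 256]))::(((nat_lit 1),(Leaf.pt (nat_lit 7) (nat_lit 8) [nat_lit 10,nat_lit 256]))::(((nat_lit 12),(Leaf.pt (nat_lit 7) (nat_lit 8) [nat_lit 9,nat_lit 256]))::(((nat_lit 13),(Leaf.pt (nat_lit 7) (nat_lit 8) [nat_lit 9,nat_lit 256]))::[]))))) (Srch.rep (nat_lit 141) [] [] [] (Srch.fin [nat_lit 64,nat_lit 16] [nat_lit 0] (((nat_lit 0),(Leaf.pt (nat_lit 11) (nat_lit 8) [nat_lit 4,nat_lit 16,nat_lit 256]))::(((nat_lit 1),(Leaf.pt (nat_lit 7) (nat_lit 8) [nat_lit 10,nat_lit 256]))::(((nat_lit 12),(Leaf.pt (nat_lit 7) (nat_lit 8) [nat_lit 9,nat_lit 256]))::(((nat_lit 13),(Leaf.pt (nat_lit 7) (nat_lit 8) [nat_lit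 9,nat_lit 256]))::[]))))) Srch.nil)))) (Srch.rep (nat_lit 77) [] [] [] (Srch.rep (nat_lit 128) [] [] [] (Srch.fin [nat_lit 64,nat_lit 16] [nat_lit 0] (((nat_lit 0),(Leaf.pt (nat_lit 11) (nat_lit 8) [nat_lit 4,nat_lit 16,nat_lit 256]))::(((nat_lit 1),(Leaf.pt (nat_lit 7) (nat_lit 8) [nat_lit 10,nat_lit 256]))::(((nat_lit 12),(Leaf.pt (nat_lit 7) (nat_lit 8) [nat_lit 9,nat_lit 256]))::(((nat_lit 13),(Leaf.pt (nat_lit 7) (nat_lit 8) [nat_lit 9,nat_lit 256]))::[]))))) (Srch.rep (nat_lit 129) [] [] [] (Srch.fin [nat_lit 64,nat_lit 16] [nat_lit 0] (((nat_lit 0),(Leaf.pt (nat_lit 11) (nat_lit 8) [nat_lit 4,nat_lit 16,nat_lit 256]))::(((nat_lit 1),(Leaf.pt (nat_lit 7) (nat_lit 8) [nat_lit 10,nat_lit 256]))::(((nat_lit 12),(Leaf.pt (nat_lit 7) (nat_lit 8) [nat_lit 9,nat_lit 256]))::(((nat_lit 13),(Leaf.pt (nat_lit 7) (nat_lit 8) [nat_lit 9,nat_lit 256]))::[]))))) (Srch.rep (nat_lit 140) [] [] [] (Srch.fin [nat_lit 64,nat_lit 16] [nat_lit 0] (((nat_lit 0),(Leaf.pt (nat_lit 11)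 (nat_lit 8) [nat_lit 4,nat_lit 16,nat_lit 256]))::(((nat_lit 1),(Leaf.pt (nat_lit 7) (nat_lit 8) [nat_lit 10,nat_lit 256]))::(((nat_lit 12),(Leaf.pt (nat_lit 7) (nat_lit 8) [nat_lit 9,nat_lit 256]))::(((nat_lit 13),(Leaf.pt (nat_lit 7) (nat_lit 8) [nat_lit 9,nat_lit 256]))::[]))))) (Srch.rep (nat_lit 141) [] [] [] (Srch.fin [nat_lit 64,nat_lit 16] [nat_lit 0] (((nat_lit 0),(Leaf.pt (nat_lit 11) (nat_lit 8) [nat_lit 4,nat_lit 16,nat_lit 256]))::(((nat_lit 1),(Leaf.pt (nat_lit 7) (nat_lit 8) [nat_lit 10,nat_lit 256]))::(((nat_lit 12),(Leaf.pt (nat_lit 7) (nat_lit 8) [nat_lit 9,nat_lit 256]))::(((nat_lit 13),(Leaf.pt (nat_lit 7) (nat_lit 8) [nat_lit 9,nat_lit 256]))::[]))))) Srch.nil)))) Srch.nil)))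
noncomputable def t45 : ℕ := nat_lit 0x9e009e00b200b2008c008c00a100a1008c008c00a100a1009e009e00b200b200b200b2009e009e00a100a1008c008c00a100a1008c008c00b200b2009e009e009e009e00b200b2008c008c00a100a1008c008c00a100a1009e009e00b200b200b200b2009e009e00a100a1008c008c00a100a1008c008c00b200b2009e009e008c008c00a000a0009e009e00b300b3009e009e00b300b3008c008c00a000a000a000a0008c008c00b300b3009e009e00b300b3009e009e00a000a0008c008c008c008c00a000a0009e009e00b300b3009e009e00b300b3008c008c00a000a000a000a0008c008c00b300b3009e009e00b300b3009e009e00a000a0008c008c0092009200be00be0080008000ad00ad0080008000ad00ad0092009200be00be00be00be0092009200ad00ad0080008000ad00ad0080008000be00be009200920092009200be00be0080008000ad00ad0080008000ad00ad0092009200be00be00be00be0092009200ad00ad0080008000ad00ad0080008000be00be009200920080008000ac00ac0092009200bf00bf0092009200bf00bf0080008000ac00ac00ac00ac0080008000bf00bf0092009200bf00bf0092009200ac00ac008000800080008000ac00ac0092009200bf00bf0092009200bf0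0bf0080008000ac00ac00ac00ac0080008000bf00bf0092009200bf00bf0092009200ac00ac00800080006e006e006e006e006c006c006c006c006c006c006c006c006e006e006e006e0043004300430043004100410041004100410041004100410043004300430043006f006f006f006f006d006d006d006d006d006d006d006d006f006f006f006f0042004200420042004000400040004000400040004000400042004200420042006d006d006d006d006f006f006f006f006f006f006f006f006d006d006d006d0041004100410041004300430043004300430043004300430041004100410041006c006c006c006c006e006e006e006e006e006e006e006e006c006c006c006c004000400040004000420042004200420042004200420042004000400040004000200020002000200021002100210021002100210021002100200020002000200020002000200020002100210021002100210021002100210020002000200020002000200020002000210021002100210021002100210021002000200020002000200020002000200021002100210021002100210021002100200020002000200010001000110011001000100011001100100010001100110010001000110011001100110010001000110011001000100011001100100010001100110010001000080008000800080008000800080008000800080008000800080008000800080004000400040004000400040004000400020002000200020001000100000000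
noncomputable def c45 : Node :=
  (Node.st (nat_lit 0) (nat_lit 8) (nat_lit 0) (Node.sp (nat_lit 1) (Node.lf (Leaf.pt (nat_lit 7) (nat_lit 1) [nat_lit 8,nat_lit 16])) (Node.sp (nat_lit 2) (Node.lf (Leaf.pt (nat_lit 0) (nat_lit 2) [nat_lit 96])) (Node.st (nat_lit 0) (nat_lit 2) (nat_lit 0) (Node.sp (nat_lit 4) (Node.lf (Leaf.pt (nat_lit 7) (nat_lit 4) [nat_lit 8,nat_lit 16])) (Node.st (nat_lit 0) (nat_lit 4) (nat_lit 0) (Node.sp (nat_lit 12) (Node.lf (Leaf.pt (nat_lit 7) (nat_lit 12) [nat_lit 8,nat_lit 16])) (Node.sp (nat_lit 13) (Node.lf (Leaf.pt (nat_lit 7) (nat_lit 13) [nat_lit 8,nat_lit 16])) (Node.sp (nat_lit 14) (Node.lf (Leaf.pt (nat_lit 11) (nat_lit 14) [nat_lit 2,nat_lit 64,nat_lit 1])) (Node.st (nat_lit 0) (nat_lit 14) (nat_lit 0) (Node.sp (nat_lit 18) (Node.lf (Leaf.pt (nat_lit 0) (nat_lit 18) [nat_lit 132])) (Node.st (nat_lit 0) (nat_lit 18) (nat_lit 0) (Node.sp (nat_lit 30) (Node.lf (Leaf.pt (nat_lit 11) (nat_lit 30) [nat_lit 12,nat_lit 128,nat_lit 1]))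 (Node.st (nat_lit 0) (nat_lit 30) (nat_lit 0) (Node.sp (nat_lit 32) (Node.lf (Leaf.pt (nat_lit 11) (nat_lit 32) [nat_lit 18,nat_lit 128,nat_lit 1])) (Node.st (nat_lit 0) (nat_lit 32) (nat_lit 0) (Node.sp (nat_lit 44) (Node.lf (Leaf.pt (nat_lit 11) (nat_lit 44) [nat_lit 12,nat_lit 84,nat_lit 1])) (Node.st (nat_lit 0) (nat_lit 44) (nat_lit 0) (Node.sp (nat_lit 68) (Node.lf (Leaf.st (nat_lit 1) (nat_lit 16) (nat_lit 68) (Leaf.pt (nat_lit 7) (nat_lit 68) [nat_lit 104,nat_lit 128]))) (Node.st (nat_lit 0) (nat_lit 68) (nat_lit 0) (Node.sp (nat_lit 69) (Node.lf (Leaf.pt (nat_lit 11) (nat_lit 69) [nat_lit 1,nat_lit 128,nat_lit 32])) (Node.st (nat_lit 0) (nat_lit 69) (nat_lit 0) (Node.sp (nat_lit 72) (Node.lf (Leaf.pt (nat_lit 11) (nat_lit 72) [nat_lit 12,nat_lit 128,nat_lit 1])) (Node.st (nat_lit 0) (nat_lit 72) (nat_lit 0) (Node.sp (nat_lit 73) (Node.lf (Leaf.pt (nat_lit 11) (nat_lit 73) [nat_lit 1,nat_lit 128,nat_lit 32])) (Node.st (nat_lit 0) (nat_lit 73) (nat_lit 0) (Node.ext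 [] (nat_lit 8) [Ins.fr [nat_lit 0],Ins.ts (nat_lit 1) [nat_lit 0,nat_lit 0] [],Ins.fr [nat_lit 1],Ins.ts (nat_lit 1) [nat_lit 0,nat_lit 0] [],Ins.ts (nat_lit 3) [nat_lit 0,nat_lit 1] [],Ins.ts (nat_lit 3) [nat_lit 0,nat_lit 1,nat_lit 2] [],Ins.fr [nat_lit 2],Ins.ts (nat_lit 3) [nat_lit 0] [],Ins.ts (nat_lit 2) [nat_lit 0,nat_lit 3] [],Ins.ts (nat_lit 0) [nat_lit 0,nat_lit 0] [],Ins.ts (nat_lit 1) [nat_lit 0] [],Ins.ts (nat_lit 2) [nat_lit 2,nat_lit 0,nat_lit 3] [],Ins.ts (nat_lit 0) [nat_lit 2,nat_lit 0,nat_lit 2] [nat_lit 0],Ins.fr [nat_lit 1,nat_lit 1,nat_lit 3],Ins.ts (nat_lit 0) [nat_lit 0,nat_lit 0] [],Ins.ts (nat_lit 3) [nat_lit 0] [],Ins.ts (nat_lit 2) [nat_lit 2,nat_lit 0] [],Ins.ts (nat_lit 0) [nat_lit 2,nat_lit 0,nat_lit 2] [nat_lit 0],Ins.fr [nat_lit 1,nat_lit 4],Ins.ts (nat_lit 0) [nat_lit 0,nat_lit 0] [nat_lit 2],Ins.ts (nat_lit 0) [nat_lit 5,nat_lit 1,nat_lit 4] [nat_lit 0,nat_lit 3,nat_lit 0],Ins.fr [nat_lit 4,nat_lit 2,nat_lit 5],Ins.ts (nat_lit 0)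 [nat_lit 5,nat_lit 0,nat_lit 0] [nat_lit 4,nat_lit 6],Ins.ts (nat_lit 0) [nat_lit 0,nat_lit 5,nat_lit 0] [nat_lit 2,nat_lit 5],Ins.df [nat_lit 4,nat_lit 4],Ins.df [nat_lit 0,nat_lit 5,nat_lit 6]] [nat_lit 16,nat_lit 20,nat_lit 2,nat_lit 32,nat_lit 64,nat_lit 128] [nat_lit 1,nat_lit 5,nat_lit 0,nat_lit 8,nat_lit 7,nat_lit 4,nat_lit 3,nat_lit 2] (Srch.rep (nat_lit 8) [nat_lit 2] [nat_lit 16,nat_lit 8,nat_lit 4,nat_lit 2,nat_lit 1] [nat_lit 128,nat_lit 64,nat_lit 32] (Srch.rep (nat_lit 16) [] [] [] (Srch.rep (nat_lit 20) [nat_lit 16] [] [] (Srch.rep (nat_lit 2) [nat_lit 4] [] [] (Srch.rep (nat_lit 32) [] [] [] c45_0 Srch.nil) (Srch.rep (nat_lit 18) [nat_lit 4] [] [] (Srch.rep (nat_lit 32) [] [] [] Srch.nil Srch.nil) Srch.nil)) (Srch.rep (nat_lit 21) [nat_lit 16] [] [] (Srch.rep (nat_lit 2) [nat_lit 4] [] [] (Srch.rep (nat_lit 32) [] [] [] (Srch.rep (nat_lit 66) [] [] [] Srch.nil (Srch.rep (nat_lit 67) [] [] [] Srch.nil (Srch.rep (nat_lit 78) [] [] [] Srch.nil (Srch.rep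 (nat_lit 79) [] [] [] Srch.nil Srch.nil)))) Srch.nil) (Srch.rep (nat_lit 18) [nat_lit 4] [] [] (Srch.rep (nat_lit 32) [] [] [] Srch.nil Srch.nil) Srch.nil)) (Srch.rep (nat_lit 28) [nat_lit 16] [] [] (Srch.rep (nat_lit 2) [] [] [] Srch.nil (Srch.rep (nat_lit 18) [] [] [] Srch.nil Srch.nil)) (Srch.rep (nat_lit 29) [nat_lit 16] [] [] (Srch.rep (nat_lit 2) [] [] [] Srch.nil (Srch.rep (nat_lit 18) [] [] [] Srch.nil Srch.nil)) Srch.nil)))) (Srch.rep (nat_lit 20) [] [] [] (Srch.rep (nat_lit 16) [] [] [] Srch.nil (Srch.rep (nat_lit 17) [] [] [] Srch.nil (Srch.rep (nat_lit 24) [] [] [] Srch.nil (Srch.rep (nat_lit 25) [] [] [] Srch.nil Srch.nil)))) (Srch.rep (nat_lit 24) [] [] [] (Srch.rep (nat_lit 20) [] [] [] Srch.nil (Srch.rep (nat_lit 21) [] [] [] Srch.nil (Srch.rep (nat_lit 28) [] [] [] Srch.nil (Srch.rep (nat_lit 29) [] [] [] Srch.nil Srch.nil)))) (Srch.rep (nat_lit 28) [] [] [] (Srch.rep (nat_lit 16) [] [] [] Srch.nil (Srch.rep (nat_lit 17) [] [] [] Srch.nil (Srch.rep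 (nat_lit 24) [] [] [] Srch.nil (Srch.rep (nat_lit 25) [] [] [] Srch.nil Srch.nil)))) Srch.nil)))) Srch.nil) Node.done)))))))))))))))))))))))))))
theorem ok45 : nodeOK DB PT 45 t45 (nat_lit 0xff000000ff0c33cf00fccccffff) (nat_lit 0x2222222200000000000000000000000022222222000011000011001111002222000000002222110011001100110044ff4455445544ff) c45 = true := by
  decide +kernel
noncomputable def t46 : ℕ := nat_lit 0x12d012d013d013d012c012c013c013c012d012d013d013d012c012c013c013c012d012d013c013c012c012c013d013d012d012d013c013c012c012c013d013d012d012d013d013d012c012c013c013c012d012d013d013d012c012c013c013c012d012d013c013c012c012c013d013d012d012d013c013c012c012c013d013d01c901c901d901d901c801c801d801d801c901c901d901d901c801c801d801d801c901c901d801d801c801c801d901d901c901c901d801d801c801c801d901d901c801c801d801d801c901c901d901d901c801c801d801d801c901c901d901d901c801c801d901d901c901c901d801d801c801c801d901d901c901c901d801d801e501e501f501f501e401e401f401f401e501e501f501f501e40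1e401f401f401e501e501f401f401e401e401f501f501e501e501f401f401e401e401f501f501e401e401f401f401e501e501f501f501e401e401f401f401e501e501f501f501e401e401f501f501e501e501f401f401e401e401f501f501e501e501f401f40101010101110111010001000110011001010101011101110100010001100110010101010110011001000100011101110101010101100110010001000111011101010101011101110100010001100110010101010111011101000100011001100101010101100110010001000111011101010101011001100100010001110111013d013d012c012c013c013c012d012d013d013d012c012c013c013c012d012d013c013c012c012c013d013d012d012d013c013c012c012c013d013d012d012d013d013d012c012c013c013c012d012d013d013d012c012c013c013c012d012d013c013c012c012c013d013d012d012d013c013c012c012c013d013d012d012d01f401f401e501e501f501f501e401e401f401f401e501e501f501f501e401e401f501f501e501e501f401f401e401e401f501f501e501e501f401f401e401e401f501f501e401e401f401f401e501e501f501f501e401e401f401f401e501e501f401f401e401e401f501f501e501e501f401f401e401e401f501f501e501e501d801d8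01c901c901d901d901c801c801d801d801c901c901d901d901c801c801d901d901c901c901d801d801c801c801d901d901c901c901d801d801c801c801d901d901c801c801d801d801c901c901d901d901c801c801d801d801c901c901d801d801c801c801d901d901c901c901d801d801c801c801d901d901c901c901100110010101010111011101000100011001100101010101110111010001000111011101010101011001100100010001110111010101010110011001000100011001100101010101110111010001000110011001010101011101110100010001110111010101010110011001000100011101110101010101100110010001000093009300bf00bf0081008100ac00ac0081008100ac00ac0093009300bf00bf00bf00bf0093009300ac00ac0081008100ac00ac0081008100bf00bf009300930093009300bf00bf0081008100ac00ac0081008100ac00ac0093009300bf00bf00bf00bf0093009300ac00ac0081008100ac00ac0081008100bf00bf009300930080008000ac00ac0092009200bf00bf0092009200bf00bf0080008000ac00ac00ac00ac0080008000bf00bf0092009200bf00bf0092009200ac00ac008000800080008000ac00ac0092009200bf00bf0092009200bf00bf0080008000ac00ac00ac00ac0080008000bf00bf009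2009200bf00bf0092009200ac00ac008000800093009300bf00bf0081008100ac00ac0081008100ac00ac0093009300bf00bf00bf00bf0093009300ac00ac0081008100ac00ac0081008100bf00bf009300930093009300bf00bf0081008100ac00ac0081008100ac00ac0093009300bf00bf00bf00bf0093009300ac00ac0081008100ac00ac0081008100bf00bf009300930080008000ac00ac0092009200bf00bf0092009200bf00bf0080008000ac00ac00ac00ac0080008000bf00bf0092009200bf00bf0092009200ac00ac008000800080008000ac00ac0092009200bf00bf0092009200bf00bf0080008000ac00ac00ac00ac0080008000bf00bf0092009200bf00bf0092009200ac00ac00800080006e006e006e006e006c006c006c006c006c006c006c006c006e006e006e006e0043004300430043004100410041004100410041004100410043004300430043006f006f006f006f006d006d006d006d006d006d006d006d006f006f006f006f0042004200420042004000400040004000400040004000400042004200420042006d006d006d006d006f006f006f006f006f006f006f006f006d006d006d006d0041004100410041004300430043004300430043004300430041004100410041006c006c006c006c006e006e006e006e006e006e006e00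6e006c006c006c006c004000400040004000420042004200420042004200420042004000400040004000200020002000200021002100210021002100210021002100200020002000200020002000200020002100210021002100210021002100210020002000200020002000200020002000210021002100210021002100210021002000200020002000200020002000200021002100210021002100210021002100200020002000200010001000110011001000100011001100100010001100110010001000110011001100110010001000110011001000100011001100100010001100110010001000080008000800080008000800080008000800080008000800080008000800080004000400040004000400040004000400020002000200020001000100000000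
noncomputable def c46 : Node :=
  (Node.st (nat_lit 0) (nat_lit 8) (nat_lit 0) (Node.sp (nat_lit 1) (Node.lf (Leaf.pt (nat_lit 7) (nat_lit 1) [nat_lit 8,nat_lit 16])) (Node.sp (nat_lit 2) (Node.lf (Leaf.pt (nat_lit 0) (nat_lit 2) [nat_lit 96])) (Node.st (nat_lit 0) (nat_lit 2) (nat_lit 0) (Node.sp (nat_lit 4) (Node.lf (Leaf.pt (nat_lit 7) (nat_lit 4) [nat_lit 8,nat_lit 16])) (Node.st (nat_lit 0) (nat_lit 4) (nat_lit 0) (Node.sp (nat_lit 12) (Node.lf (Leaf.pt (nat_lit 7) (nat_lit 12) [nat_lit 8,nat_lit 16])) (Node.st (nat_lit 0) (nat_lit 12) (nat_lit 0) (Node.sp (nat_lit 14) (Node.lf (Leaf.pt (nat_lit 11) (nat_lit 14) [nat_lit 2,nat_lit 64,nat_lit 1])) (Node.st (nat_lit 0) (nat_lit 14) (nat_lit 0) (Node.sp (nat_lit 32) (Node.lf (Leaf.pt (nat_lit 0) (nat_lit 32) [nat_lit 84])) (Node.st (nat_lit 0) (nat_lit 32) (nat_lit 0) (Node.sp (nat_lit 44) (Node.lf (Leaf.pt (nat_lit 11) (nat_lit 44) [nat_lit 12,nat_lit 84,nat_lit 1])) (Node.st (nat_lit 0) (nat_lit 44) (nat_lit 0)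 (Node.sp (nat_lit 68) (Node.lf (Leaf.st (nat_lit 1) (nat_lit 128) (nat_lit 68) (Leaf.st (nat_lit 1) (nat_lit 4) (nat_lit 68) (Leaf.st (nat_lit 1) (nat_lit 144) (nat_lit 68) (Leaf.pt (nat_lit 15) (nat_lit 68) [nat_lit 1,nat_lit 2,nat_lit 44]))))) (Node.st (nat_lit 0) (nat_lit 68) (nat_lit 0) (Node.sp (nat_lit 72) (Node.lf (Leaf.st (nat_lit 1) (nat_lit 128) (nat_lit 72) (Leaf.st (nat_lit 1) (nat_lit 4) (nat_lit 72) (Leaf.st (nat_lit 1) (nat_lit 144) (nat_lit 72) (Leaf.pt (nat_lit 15) (nat_lit 72) [nat_lit 1,nat_lit 2,nat_lit 44]))))) (Node.st (nat_lit 0) (nat_lit 72) (nat_lit 0) (Node.sp (nat_lit 258) (Node.lf (Leaf.pt (nat_lit 7) (nat_lit 258) [nat_lit 8,nat_lit 20])) (Node.st (nat_lit 0) (nat_lit 258) (nat_lit 0) (Node.sp (nat_lit 266) (Node.lf (Leaf.pt (nat_lit 7) (nat_lit 266) [nat_lit 8,nat_lit 20])) (Node.st (nat_lit 0) (nat_lit 266) (nat_lit 0) (Node.sp (nat_lit 290) (Node.lf (Leaf.pt (nat_lit 25) (nat_lit 290) [nat_lit 24,nat_lit 200])) (Node.st (nat_lit 0) (nat_lit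 290) (nat_lit 0) (Node.ext [] (nat_lit 8) [Ins.fr [nat_lit 0],Ins.fr [nat_lit 1],Ins.fr [nat_lit 2],Ins.fr [nat_lit 0,nat_lit 0,nat_lit 3],Ins.fr [nat_lit 0,nat_lit 3,nat_lit 2],Ins.fr [nat_lit 0,nat_lit 0,nat_lit 1,nat_lit 4,nat_lit 2],Ins.df [nat_lit 3,nat_lit 3],Ins.df [nat_lit 1,nat_lit 1],Ins.df [nat_lit 6,nat_lit 6],Ins.df [nat_lit 0,nat_lit 8,nat_lit 7],Ins.df [nat_lit 5,nat_lit 2,nat_lit 4]] [nat_lit 256,nat_lit 260,nat_lit 262,nat_lit 32,nat_lit 192,nat_lit 64] [nat_lit 4,nat_lit 3,nat_lit 1,nat_lit 11,nat_lit 2,nat_lit 7,nat_lit 5,nat_lit 0,nat_lit 10] (Srch.ex0 [nat_lit 256,nat_lit 16,nat_lit 8,nat_lit 4,nat_lit 2,nat_lit 1] Srch.nil) Node.done)))))))))))))))))))))))))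
theorem ok46 : nodeOK DB PT 46 t46 (nat_lit 0x30c03c0000c30c030000000000000000000000000000000000cc00cc0c0c0c0c0000000000000000c00c3003c00c300300000ff000000ff0c33cf00fccccffff) (nat_lit 0x1100001100000000111100000000000000000011000011000011000000001100000000000000000000000000000000000000000000000000000000000000000000000000000000000000000000000000000000000000000000000000000000000000001100110000000000110011000000110000001100000011000000110000000000000000000000000000000000000000000000000000000000000000001100000000001100001100000000001111000000000011000011000000000011000000000000000000002222222200000000000000000000000022222222000011000011001111002222000000002222110011001100110044884455445544ff) c46 = true := by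
  decide +kernel
noncomputable def c47_0 : Srch :=
  Srch.rep (nat_lit 64) [] [] [] (Srch.rep (nat_lit 128) [] [] [] (Srch.fin [nat_lit 64,nat_lit 16] [nat_lit 0] (((nat_lit 0),(Leaf.pt (nat_lit 11) (nat_lit 8) [nat_lit 4,nat_lit 16,nat_lit 256]))::(((nat_lit 1),(Leaf.pt (nat_lit 7) (nat_lit 8) [nat_lit 10,nat_lit 256]))::(((nat_lit 12),(Leaf.pt (nat_lit 7) (nat_lit 8) [nat_lit 9,nat_lit 256]))::(((nat_lit 13),(Leaf.pt (nat_lit 7) (nat_lit 8) [nat_lit 9,nat_lit 256]))::[]))))) (Srch.rep (nat_lit 129) [] [] [] (Srch.fin [nat_lit 64,nat_lit 16] [nat_lit 0] (((nat_lit 0),(Leaf.pt (nat_lit 11) (nat_lit 8) [nat_lit 4,nat_lit 16,nat_lit 256]))::(((nat_lit 1),(Leaf.pt (nat_lit 7) (nat_lit 8) [nat_lit 10,nat_lit 256]))::(((nat_lit 12),(Leaf.pt (nat_lit 7) (nat_lit 8) [nat_lit 9,nat_lit 256]))::(((nat_lit 13),(Leaf.pt (nat_lit 7) (nat_lit 8) [nat_lit 9,nat_lit 256]))::[]))))) (Srch.rep (nat_lit 140) [] [] [] (Srch.fin [nat_lit 64,nat_lit 16] [nat_lit 0] (((nat_lit 0),(Leaf.pt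 (nat_lit 11) (nat_lit 8) [nat_lit 4,nat_lit 16,nat_lit 256]))::(((nat_lit 1),(Leaf.pt (nat_lit 7) (nat_lit 8) [nat_lit 10,nat_lit 256]))::(((nat_lit 12),(Leaf.pt (nat_lit 7) (nat_lit 8) [nat_lit 9,nat_lit 256]))::(((nat_lit 13),(Leaf.pt (nat_lit 7) (nat_lit 8) [nat_lit 9,nat_lit 256]))::[]))))) (Srch.rep (nat_lit 141) [] [] [] (Srch.fin [nat_lit 64,nat_lit 16] [nat_lit 0] (((nat_lit 0),(Leaf.pt (nat_lit 11) (nat_lit 8) [nat_lit 4,nat_lit 16,nat_lit 256]))::(((nat_lit 1),(Leaf.pt (nat_lit 7) (nat_lit 8) [nat_lit 10,nat_lit 256]))::(((nat_lit 12),(Leaf.pt (nat_lit 7) (nat_lit 8) [nat_lit 9,nat_lit 256]))::(((nat_lit 13),(Leaf.pt (nat_lit 7) (nat_lit 8) [nat_lit 9,nat_lit 256]))::[]))))) Srch.nil)))) (Srch.rep (nat_lit 65) [] [] [] (Srch.rep (nat_lit 128) [] [] [] (Srch.fin [nat_lit 64,nat_lit 16] [nat_lit 0] (((nat_lit 0),(Leaf.pt (nat_lit 11) (nat_lit 8) [nat_lit 4,nat_lit 16,nat_lit 256]))::(((nat_lit 1),(Leaf.pt (nat_lit 7) (nat_lit 8) [nat_lit 10,nat_lit 256]))::(((nat_lit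 12),(Leaf.pt (nat_lit 7) (nat_lit 8) [nat_lit 9,nat_lit 256]))::(((nat_lit 13),(Leaf.pt (nat_lit 7) (nat_lit 8) [nat_lit 9,nat_lit 256]))::[]))))) (Srch.rep (nat_lit 129) [] [] [] (Srch.fin [nat_lit 64,nat_lit 16] [nat_lit 0] (((nat_lit 0),(Leaf.pt (nat_lit 11) (nat_lit 8) [nat_lit 4,nat_lit 16,nat_lit 256]))::(((nat_lit 1),(Leaf.pt (nat_lit 7) (nat_lit 8) [nat_lit 10,nat_lit 256]))::(((nat_lit 12),(Leaf.pt (nat_lit 7) (nat_lit 8) [nat_lit 9,nat_lit 256]))::(((nat_lit 13),(Leaf.pt (nat_lit 7) (nat_lit 8) [nat_lit 9,nat_lit 256]))::[]))))) (Srch.rep (nat_lit 140) [] [] [] (Srch.fin [nat_lit 64,nat_lit 16] [nat_lit 0] (((nat_lit 0),(Leaf.pt (nat_lit 11) (nat_lit 8) [nat_lit 4,nat_lit 16,nat_lit 256]))::(((nat_lit 1),(Leaf.pt (nat_lit 7) (nat_lit 8) [nat_lit 10,nat_lit 256]))::(((nat_lit 12),(Leaf.pt (nat_lit 7) (nat_lit 8) [nat_lit 9,nat_lit 256]))::(((nat_lit 13),(Leaf.pt (nat_lit 7) (nat_lit 8) [nat_lit 9,nat_lit 256]))::[]))))) (Srch.rep (nat_lit 141) [] [] [] (Srch.fin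 [nat_lit 64,nat_lit 16] [nat_lit 0] (((nat_lit 0),(Leaf.pt (nat_lit 11) (nat_lit 8) [nat_lit 4,nat_lit 16,nat_lit 256]))::(((nat_lit 1),(Leaf.pt (nat_lit 7) (nat_lit 8) [nat_lit 10,nat_lit 256]))::(((nat_lit 12),(Leaf.pt (nat_lit 7) (nat_lit 8) [nat_lit 9,nat_lit 256]))::(((nat_lit 13),(Leaf.pt (nat_lit 7) (nat_lit 8) [nat_lit 9,nat_lit 256]))::[]))))) Srch.nil)))) (Srch.rep (nat_lit 76) [] [] [] (Srch.rep (nat_lit 128) [] [] [] (Srch.fin [nat_lit 64,nat_lit 16] [nat_lit 0] (((nat_lit 0),(Leaf.pt (nat_lit 11) (nat_lit 8) [nat_lit 4,nat_lit 16,nat_lit 256]))::(((nat_lit 1),(Leaf.pt (nat_lit 7) (nat_lit 8) [nat_lit 10,nat_lit 256]))::(((nat_lit 12),(Leaf.pt (nat_lit 7) (nat_lit 8) [nat_lit 9,nat_lit 256]))::(((nat_lit 13),(Leaf.pt (nat_lit 7) (nat_lit 8) [nat_lit 9,nat_lit 256]))::[]))))) (Srch.rep (nat_lit 129) [] [] [] (Srch.fin [nat_lit 64,nat_lit 16] [nat_lit 0] (((nat_lit 0),(Leaf.pt (nat_lit 11) (nat_lit 8) [nat_lit 4,nat_lit 16,nat_lit 256]))::(((nat_lit 1),(Leaf.pt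 (nat_lit 7) (nat_lit 8) [nat_lit 10,nat_lit 256]))::(((nat_lit 12),(Leaf.pt (nat_lit 7) (nat_lit 8) [nat_lit 9,nat_lit 256]))::(((nat_lit 13),(Leaf.pt (nat_lit 7) (nat_lit 8) [nat_lit 9,nat_lit 256]))::[]))))) (Srch.rep (nat_lit 140) [] [] [] (Srch.fin [nat_lit 64,nat_lit 16] [nat_lit 0] (((nat_lit 0),(Leaf.pt (nat_lit 11) (nat_lit 8) [nat_lit 4,nat_lit 16,nat_lit 256]))::(((nat_lit 1),(Leaf.pt (nat_lit 7) (nat_lit 8) [nat_lit 10,nat_lit 256]))::(((nat_lit 12),(Leaf.pt (nat_lit 7) (nat_lit 8) [nat_lit 9,nat_lit 256]))::(((nat_lit 13),(Leaf.pt (nat_lit 7) (nat_lit 8) [nat_lit 9,nat_lit 256]))::[]))))) (Srch.rep (nat_lit 141) [] [] [] (Srch.fin [nat_lit 64,nat_lit 16] [nat_lit 0] (((nat_lit 0),(Leaf.pt (nat_lit 11) (nat_lit 8) [nat_lit 4,nat_lit 16,nat_lit 256]))::(((nat_lit 1),(Leaf.pt (nat_lit 7) (nat_lit 8) [nat_lit 10,nat_lit 256]))::(((nat_lit 12),(Leaf.pt (nat_lit 7) (nat_lit 8) [nat_lit 9,nat_lit 256]))::(((nat_lit 13),(Leaf.pt (nat_lit 7) (nat_lit 8) [nat_lit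 9,nat_lit 256]))::[]))))) Srch.nil)))) (Srch.rep (nat_lit 77) [] [] [] (Srch.rep (nat_lit 128) [] [] [] (Srch.fin [nat_lit 64,nat_lit 16] [nat_lit 0] (((nat_lit 0),(Leaf.pt (nat_lit 11) (nat_lit 8) [nat_lit 4,nat_lit 16,nat_lit 256]))::(((nat_lit 1),(Leaf.pt (nat_lit 7) (nat_lit 8) [nat_lit 10,nat_lit 256]))::(((nat_lit 12),(Leaf.pt (nat_lit 7) (nat_lit 8) [nat_lit 9,nat_lit 256]))::(((nat_lit 13),(Leaf.pt (nat_lit 7) (nat_lit 8) [nat_lit 9,nat_lit 256]))::[]))))) (Srch.rep (nat_lit 129) [] [] [] (Srch.fin [nat_lit 64,nat_lit 16] [nat_lit 0] (((nat_lit 0),(Leaf.pt (nat_lit 11) (nat_lit 8) [nat_lit 4,nat_lit 16,nat_lit 256]))::(((nat_lit 1),(Leaf.pt (nat_lit 7) (nat_lit 8) [nat_lit 10,nat_lit 256]))::(((nat_lit 12),(Leaf.pt (nat_lit 7) (nat_lit 8) [nat_lit 9,nat_lit 256]))::(((nat_lit 13),(Leaf.pt (nat_lit 7) (nat_lit 8) [nat_lit 9,nat_lit 256]))::[]))))) (Srch.rep (nat_lit 140) [] [] [] (Srch.fin [nat_lit 64,nat_lit 16] [nat_lit 0] (((nat_lit 0),(Leaf.pt (nat_lit 11)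 (nat_lit 8) [nat_lit 4,nat_lit 16,nat_lit 256]))::(((nat_lit 1),(Leaf.pt (nat_lit 7) (nat_lit 8) [nat_lit 10,nat_lit 256]))::(((nat_lit 12),(Leaf.pt (nat_lit 7) (nat_lit 8) [nat_lit 9,nat_lit 256]))::(((nat_lit 13),(Leaf.pt (nat_lit 7) (nat_lit 8) [nat_lit 9,nat_lit 256]))::[]))))) (Srch.rep (nat_lit 141) [] [] [] (Srch.fin [nat_lit 64,nat_lit 16] [nat_lit 0] (((nat_lit 0),(Leaf.pt (nat_lit 11) (nat_lit 8) [nat_lit 4,nat_lit 16,nat_lit 256]))::(((nat_lit 1),(Leaf.pt (nat_lit 7) (nat_lit 8) [nat_lit 10,nat_lit 256]))::(((nat_lit 12),(Leaf.pt (nat_lit 7) (nat_lit 8) [nat_lit 9,nat_lit 256]))::(((nat_lit 13),(Leaf.pt (nat_lit 7) (nat_lit 8) [nat_lit 9,nat_lit 256]))::[]))))) Srch.nil)))) Srch.nil)))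
noncomputable def c47_1 : Srch :=
  Srch.rep (nat_lit 20) [nat_lit 16] [] [] (Srch.rep (nat_lit 2) [nat_lit 4] [] [] (Srch.rep (nat_lit 32) [] [] [] c47_0 Srch.nil) (Srch.rep (nat_lit 18) [nat_lit 4] [] [] (Srch.rep (nat_lit 32) [] [] [] (Srch.rep (nat_lit 150) [] [] [] (Srch.rep (nat_lit 102) [] [] [] (Srch.fin [nat_lit 64] [] []) (Srch.rep (nat_lit 103) [] [] [] (Srch.fin [nat_lit 64] [] []) (Srch.rep (nat_lit 106) [] [] [] (Srch.fin [nat_lit 64] [] []) (Srch.rep (nat_lit 107) [] [] [] (Srch.fin [nat_lit 64] [nat_lit 0] (((nat_lit 16),(Leaf.pt (nat_lit 11) (nat_lit 8) [nat_lit 4,nat_lit 256,nat_lit 1]))::(((nat_lit 17),(Leaf.pt (nat_lit 11) (nat_lit 8) [nat_lit 4,nat_lit 256,nat_lit 1]))::(((nat_lit 28),(Leaf.pt (nat_lit 7) (nat_lit 8) [nat_lit 9,nat_lit 258]))::(((nat_lit 29),(Leaf.pt (nat_lit 7) (nat_lit 8) [nat_lit 9,nat_lit 258]))::[]))))) Srch.nil)))) (Srch.rep (nat_lit 151) [] [] [] (Srch.rep (nat_lit 102) [] [] [] (Srch.fin [nat_lit 64] [] []) (Srch.rep (nat_lit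 103) [] [] [] (Srch.fin [nat_lit 64] [] []) (Srch.rep (nat_lit 106) [] [] [] (Srch.fin [nat_lit 64] [nat_lit 0] (((nat_lit 16),(Leaf.pt (nat_lit 11) (nat_lit 8) [nat_lit 4,nat_lit 256,nat_lit 1]))::(((nat_lit 17),(Leaf.pt (nat_lit 11) (nat_lit 8) [nat_lit 4,nat_lit 256,nat_lit 1]))::(((nat_lit 28),(Leaf.pt (nat_lit 7) (nat_lit 8) [nat_lit 9,nat_lit 258]))::(((nat_lit 29),(Leaf.pt (nat_lit 7) (nat_lit 8) [nat_lit 9,nat_lit 258]))::[]))))) (Srch.rep (nat_lit 107) [] [] [] (Srch.fin [nat_lit 64] [] []) Srch.nil)))) (Srch.rep (nat_lit 154) [] [] [] (Srch.rep (nat_lit 102) [] [] [] (Srch.fin [nat_lit 64] [] []) (Srch.rep (nat_lit 103) [] [] [] (Srch.fin [nat_lit 64] [nat_lit 0] (((nat_lit 16),(Leaf.pt (nat_lit 11) (nat_lit 8) [nat_lit 4,nat_lit 256,nat_lit 1]))::(((nat_lit 17),(Leaf.pt (nat_lit 11) (nat_lit 8) [nat_lit 4,nat_lit 256,nat_lit 1]))::(((nat_lit 28),(Leaf.pt (nat_lit 7) (nat_lit 8) [nat_lit 9,nat_lit 258]))::(((nat_lit 29),(Leaf.pt (nat_lit 7) (nat_lit 8) [nat_lit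 9,nat_lit 258]))::[]))))) (Srch.rep (nat_lit 106) [] [] [] (Srch.fin [nat_lit 64] [] []) (Srch.rep (nat_lit 107) [] [] [] (Srch.fin [nat_lit 64] [] []) Srch.nil)))) (Srch.rep (nat_lit 155) [] [] [] (Srch.rep (nat_lit 102) [] [] [] (Srch.fin [nat_lit 64] [nat_lit 0] (((nat_lit 16),(Leaf.pt (nat_lit 11) (nat_lit 8) [nat_lit 4,nat_lit 256,nat_lit 1]))::(((nat_lit 17),(Leaf.pt (nat_lit 11) (nat_lit 8) [nat_lit 4,nat_lit 256,nat_lit 1]))::(((nat_lit 28),(Leaf.pt (nat_lit 7) (nat_lit 8) [nat_lit 9,nat_lit 258]))::(((nat_lit 29),(Leaf.pt (nat_lit 7) (nat_lit 8) [nat_lit 9,nat_lit 258]))::[]))))) (Srch.rep (nat_lit 103) [] [] [] (Srch.fin [nat_lit 64] [] []) (Srch.rep (nat_lit 106) [] [] [] (Srch.fin [nat_lit 64] [] []) (Srch.rep (nat_lit 107) [] [] [] (Srch.fin [nat_lit 64] [] []) Srch.nil)))) Srch.nil)))) Srch.nil) Srch.nil)) (Srch.rep (nat_lit 21) [nat_lit 16] [] [] (Srch.rep (nat_lit 2) [nat_lit 4] [] [] (Srch.rep (nat_lit 32) [] [] [] (Srch.rep (nat_lit 66) [] [] [] (Srch.rep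 (nat_lit 146) [] [] [] (Srch.fin [nat_lit 64,nat_lit 16] [nat_lit 0,nat_lit 12] (((nat_lit 0),(Leaf.pt (nat_lit 7) (nat_lit 8) [nat_lit 10,nat_lit 260]))::[])) (Srch.rep (nat_lit 147) [] [] [] (Srch.fin [nat_lit 64,nat_lit 16] [nat_lit 0,nat_lit 12] (((nat_lit 0),(Leaf.pt (nat_lit 7) (nat_lit 8) [nat_lit 10,nat_lit 260]))::[])) (Srch.rep (nat_lit 158) [] [] [] (Srch.fin [nat_lit 128] [] []) (Srch.rep (nat_lit 159) [] [] [] (Srch.fin [nat_lit 128] [] []) Srch.nil)))) (Srch.rep (nat_lit 67) [] [] [] (Srch.rep (nat_lit 146) [] [] [] (Srch.fin [nat_lit 64,nat_lit 16] [nat_lit 0,nat_lit 12] (((nat_lit 0),(Leaf.pt (nat_lit 7) (nat_lit 8) [nat_lit 10,nat_lit 260]))::[])) (Srch.rep (nat_lit 147) [] [] [] (Srch.fin [nat_lit 64,nat_lit 16] [nat_lit 0,nat_lit 12] (((nat_lit 0),(Leaf.pt (nat_lit 7) (nat_lit 8) [nat_lit 10,nat_lit 260]))::[])) (Srch.rep (nat_lit 158) [] [] [] (Srch.fin [nat_lit 128] [] []) (Srch.rep (nat_lit 159) [] [] [] (Srch.fin [nat_lit 128] [] []) Srch.nil))))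 (Srch.rep (nat_lit 78) [] [] [] (Srch.rep (nat_lit 146) [] [] [] (Srch.fin [nat_lit 64] [] []) (Srch.rep (nat_lit 147) [] [] [] (Srch.fin [nat_lit 64] [] []) (Srch.rep (nat_lit 158) [] [] [] (Srch.fin [nat_lit 64] [] []) (Srch.rep (nat_lit 159) [] [] [] (Srch.fin [nat_lit 64] [] []) Srch.nil)))) (Srch.rep (nat_lit 79) [] [] [] (Srch.rep (nat_lit 146) [] [] [] (Srch.fin [nat_lit 64] [] []) (Srch.rep (nat_lit 147) [] [] [] (Srch.fin [nat_lit 64] [] []) (Srch.rep (nat_lit 158) [] [] [] (Srch.fin [nat_lit 64] [] []) (Srch.rep (nat_lit 159) [] [] [] (Srch.fin [nat_lit 64] [] []) Srch.nil)))) Srch.nil)))) Srch.nil) (Srch.rep (nat_lit 18) [nat_lit 4] [] [] (Srch.rep (nat_lit 32) [] [] [] (Srch.rep (nat_lit 132) [] [] [] (Srch.rep (nat_lit 100) [] [] [] (Srch.fin [nat_lit 64] [] []) (Srch.rep (nat_lit 101) [] [] [] (Srch.fin [nat_lit 64] [] []) (Srch.rep (nat_lit 104) [] [] [] (Srch.fin [nat_lit 64] [] []) (Srch.rep (nat_lit 105) [] [] [] (Srch.fin [nat_lit 64] [nat_lit 0,nat_lit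 12] (((nat_lit 16),(Leaf.mp (nat_lit 46) [nat_lit 1,nat_lit 2,nat_lit 4,nat_lit 8,nat_lit 16,nat_lit 32,nat_lit 76,nat_lit 128,nat_lit 256] []))::[])) Srch.nil)))) (Srch.rep (nat_lit 133) [] [] [] (Srch.rep (nat_lit 100) [] [] [] (Srch.fin [nat_lit 64] [] []) (Srch.rep (nat_lit 101) [] [] [] (Srch.fin [nat_lit 64] [] []) (Srch.rep (nat_lit 104) [] [] [] (Srch.fin [nat_lit 64] [nat_lit 0,nat_lit 12] (((nat_lit 16),(Leaf.mp (nat_lit 46) [nat_lit 1,nat_lit 2,nat_lit 4,nat_lit 8,nat_lit 16,nat_lit 32,nat_lit 64,nat_lit 140,nat_lit 256] []))::[])) (Srch.rep (nat_lit 105) [] [] [] (Srch.fin [nat_lit 64] [] []) Srch.nil)))) (Srch.rep (nat_lit 136) [] [] [] (Srch.rep (nat_lit 100) [] [] [] (Srch.fin [nat_lit 64] [nat_lit 0,nat_lit 12] (((nat_lit 16),(Leaf.mp (nat_lit 46) [nat_lit 1,nat_lit 2,nat_lit 4,nat_lit 8,nat_lit 16,nat_lit 32,nat_lit 76,nat_lit 140,nat_lit 256] []))::[])) (Srch.rep (nat_lit 101) [] [] [] (Srch.fin [nat_lit 64] [] []) (Srch.rep (nat_lit 104) [] [] []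 (Srch.fin [nat_lit 64] [] []) (Srch.rep (nat_lit 105) [] [] [] (Srch.fin [nat_lit 64] [] []) Srch.nil)))) (Srch.rep (nat_lit 137) [] [] [] (Srch.rep (nat_lit 100) [] [] [] (Srch.fin [nat_lit 64] [] []) (Srch.rep (nat_lit 101) [] [] [] (Srch.fin [nat_lit 64] [nat_lit 0,nat_lit 12] (((nat_lit 16),(Leaf.mp (nat_lit 46) [nat_lit 1,nat_lit 2,nat_lit 4,nat_lit 8,nat_lit 16,nat_lit 32,nat_lit 64,nat_lit 128,nat_lit 256] []))::[])) (Srch.rep (nat_lit 104) [] [] [] (Srch.fin [nat_lit 64] [] []) (Srch.rep (nat_lit 105) [] [] [] (Srch.fin [nat_lit 64] [] []) Srch.nil)))) Srch.nil)))) Srch.nil) Srch.nil)) (Srch.rep (nat_lit 28) [nat_lit 16] [] [] (Srch.rep (nat_lit 2) [] [] [] Srch.nil (Srch.rep (nat_lit 18) [] [] [] Srch.nil Srch.nil)) (Srch.rep (nat_lit 29) [nat_lit 16] [] [] (Srch.rep (nat_lit 2) [] [] [] Srch.nil (Srch.rep (nat_lit 18) [] [] [] Srch.nil Srch.nil)) Srch.nil)))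
noncomputable def t47 : ℕ := nat_lit 0x93009300bf00bf0081008100ac00ac0081008100ac00ac0093009300bf00bf00bf00bf0093009300ac00ac0081008100ac00ac0081008100bf00bf009300930093009300bf00bf0081008100ac00ac0081008100ac00ac0093009300bf00bf00bf00bf0093009300ac00ac0081008100ac00ac0081008100bf00bf009300930080008000ac00ac0092009200bf00bf0092009200bf00bf0080008000ac00ac00ac00ac0080008000bf00bf0092009200bf00bf0092009200ac00ac008000800080008000ac00ac0092009200bf00bf0092009200bf00bf0080008000ac00ac00ac00ac0080008000bf00bf0092009200bf00bf0092009200ac00ac008000800093009300bf00bf0081008100ac00ac0081008100ac00ac0093009300bf00bf00bf00bf0093009300ac00ac0081008100ac00ac0081008100bf00bf009300930093009300bf00bf0081008100ac00ac0081008100ac00ac0093009300bf00bf00bf00bf0093009300ac00ac0081008100ac00ac0081008100bf00bf009300930080008000ac00ac0092009200bf00bf0092009200bf00bf0080008000ac00ac00ac00ac0080008000bf00bf0092009200bf00bf0092009200ac00ac008000800080008000ac00ac0092009200bf00bf0092009200bf0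0bf0080008000ac00ac00ac00ac0080008000bf00bf0092009200bf00bf0092009200ac00ac00800080006e006e006e006e006c006c006c006c006c006c006c006c006e006e006e006e0043004300430043004100410041004100410041004100410043004300430043006f006f006f006f006d006d006d006d006d006d006d006d006f006f006f006f0042004200420042004000400040004000400040004000400042004200420042006d006d006d006d006f006f006f006f006f006f006f006f006d006d006d006d0041004100410041004300430043004300430043004300430041004100410041006c006c006c006c006e006e006e006e006e006e006e006e006c006c006c006c004000400040004000420042004200420042004200420042004000400040004000200020002000200021002100210021002100210021002100200020002000200020002000200020002100210021002100210021002100210020002000200020002000200020002000210021002100210021002100210021002000200020002000200020002000200021002100210021002100210021002100200020002000200010001000110011001000100011001100100010001100110010001000110011001100110010001000110011001000100011001100100010001100110010001000080008000800080008000800080008000800080008000800080008000800080004000400040004000400040004000400020002000200020001000100000000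
noncomputable def c47 : Node :=
  (Node.st (nat_lit 0) (nat_lit 8) (nat_lit 0) (Node.sp (nat_lit 1) (Node.lf (Leaf.pt (nat_lit 7) (nat_lit 1) [nat_lit 8,nat_lit 16])) (Node.sp (nat_lit 2) (Node.lf (Leaf.pt (nat_lit 0) (nat_lit 2) [nat_lit 96])) (Node.st (nat_lit 0) (nat_lit 2) (nat_lit 0) (Node.sp (nat_lit 4) (Node.lf (Leaf.pt (nat_lit 7) (nat_lit 4) [nat_lit 8,nat_lit 16])) (Node.st (nat_lit 0) (nat_lit 4) (nat_lit 0) (Node.sp (nat_lit 12) (Node.lf (Leaf.pt (nat_lit 7) (nat_lit 12) [nat_lit 8,nat_lit 16])) (Node.sp (nat_lit 13) (Node.lf (Leaf.pt (nat_lit 7) (nat_lit 13) [nat_lit 8,nat_lit 16])) (Node.sp (nat_lit 14) (Node.lf (Leaf.pt (nat_lit 11) (nat_lit 14) [nat_lit 2,nat_lit 64,nat_lit 1])) (Node.st (nat_lit 0) (nat_lit 14) (nat_lit 0) (Node.sp (nat_lit 18) (Node.lf (Leaf.pt (nat_lit 0) (nat_lit 18) [nat_lit 164])) (Node.st (nat_lit 0) (nat_lit 18) (nat_lit 0) (Node.sp (nat_lit 30) (Node.lf (Leaf.pt (nat_lit 11) (nat_lit 30) [nat_lit 12,nat_lit 132,nat_lit 1]))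 (Node.st (nat_lit 0) (nat_lit 30) (nat_lit 0) (Node.sp (nat_lit 32) (Node.lf (Leaf.pt (nat_lit 0) (nat_lit 32) [nat_lit 84])) (Node.st (nat_lit 0) (nat_lit 32) (nat_lit 0) (Node.sp (nat_lit 44) (Node.lf (Leaf.pt (nat_lit 11) (nat_lit 44) [nat_lit 12,nat_lit 84,nat_lit 1])) (Node.st (nat_lit 0) (nat_lit 44) (nat_lit 0) (Node.sp (nat_lit 68) (Node.lf (Leaf.st (nat_lit 1) (nat_lit 128) (nat_lit 68) (Leaf.st (nat_lit 1) (nat_lit 4) (nat_lit 68) (Leaf.st (nat_lit 1) (nat_lit 144) (nat_lit 68) (Leaf.pt (nat_lit 15) (nat_lit 68) [nat_lit 1,nat_lit 2,nat_lit 44]))))) (Node.st (nat_lit 0) (nat_lit 68) (nat_lit 0) (Node.sp (nat_lit 72) (Node.lf (Leaf.st (nat_lit 1) (nat_lit 128) (nat_lit 72) (Leaf.st (nat_lit 1) (nat_lit 4) (nat_lit 72) (Leaf.st (nat_lit 1) (nat_lit 144) (nat_lit 72) (Leaf.pt (nat_lit 15) (nat_lit 72) [nat_lit 1,nat_lit 2,nat_lit 44]))))) (Node.st (nat_lit 0) (nat_lit 72) (nat_lit 0) (Node.sp (nat_lit 128) (Node.lf (Leaf.st (nat_lit 1) (nat_lit 68) (nat_lit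 128) (Leaf.st (nat_lit 1) (nat_lit 4) (nat_lit 128) (Leaf.st (nat_lit 1) (nat_lit 2) (nat_lit 128) (Leaf.pt (nat_lit 15) (nat_lit 128) [nat_lit 1,nat_lit 18,nat_lit 44]))))) (Node.st (nat_lit 0) (nat_lit 128) (nat_lit 0) (Node.sp (nat_lit 140) (Node.lf (Leaf.st (nat_lit 1) (nat_lit 68) (nat_lit 140) (Leaf.st (nat_lit 1) (nat_lit 4) (nat_lit 140) (Leaf.st (nat_lit 1) (nat_lit 2) (nat_lit 140) (Leaf.pt (nat_lit 15) (nat_lit 140) [nat_lit 1,nat_lit 18,nat_lit 44]))))) (Node.st (nat_lit 0) (nat_lit 140) (nat_lit 0) (Node.ext [] (nat_lit 8) [Ins.fr [nat_lit 0],Ins.ts (nat_lit 1) [nat_lit 0,nat_lit 0] [],Ins.fr [nat_lit 1],Ins.ts (nat_lit 1) [nat_lit 0,nat_lit 0] [],Ins.ts (nat_lit 3) [nat_lit 0,nat_lit 1] [],Ins.ts (nat_lit 3) [nat_lit 0,nat_lit 1,nat_lit 2] [],Ins.fr [nat_lit 2],Ins.ts (nat_lit 3) [nat_lit 0] [],Ins.ts (nat_lit 2) [nat_lit 0,nat_lit 3] [],Ins.ts (nat_lit 0) [nat_lit 0,nat_lit 0] [],Ins.ts (nat_lit 1) [nat_lit 0] [],Ins.ts (nat_lit 2) [nat_lit 2,nat_lit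 0,nat_lit 3] [],Ins.ts (nat_lit 0) [nat_lit 2,nat_lit 0,nat_lit 2] [nat_lit 0],Ins.fr [nat_lit 1,nat_lit 1,nat_lit 3],Ins.ts (nat_lit 0) [nat_lit 0,nat_lit 0] [],Ins.ts (nat_lit 3) [nat_lit 0] [],Ins.ts (nat_lit 2) [nat_lit 2,nat_lit 0] [],Ins.ts (nat_lit 0) [nat_lit 2,nat_lit 0,nat_lit 2] [nat_lit 0],Ins.fr [nat_lit 1,nat_lit 4],Ins.ts (nat_lit 0) [nat_lit 0,nat_lit 0] [nat_lit 2],Ins.ts (nat_lit 0) [nat_lit 5,nat_lit 1,nat_lit 4] [nat_lit 0,nat_lit 3,nat_lit 0],Ins.fr [nat_lit 4,nat_lit 2,nat_lit 5],Ins.ts (nat_lit 0) [nat_lit 0,nat_lit 0] [],Ins.ts (nat_lit 0) [nat_lit 1,nat_lit 0,nat_lit 1] [nat_lit 5,nat_lit 0],Ins.df [nat_lit 4,nat_lit 4],Ins.df [nat_lit 0,nat_lit 5,nat_lit 6]] [nat_lit 16,nat_lit 20,nat_lit 2,nat_lit 32,nat_lit 64,nat_lit 128] [nat_lit 1,nat_lit 5,nat_lit 0,nat_lit 8,nat_lit 7,nat_lit 4,nat_lit 3,nat_lit 2] (Srch.rep (nat_lit 8) [nat_lit 2] [nat_lit 16,nat_lit 8,nat_lit 4,nat_lit 2,nat_lit 1] [nat_lit 128,nat_lit 64,nat_lit 32] (Srch.rep (nat_lit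 16) [] [] [] c47_1 (Srch.rep (nat_lit 20) [] [] [] (Srch.rep (nat_lit 16) [] [] [] Srch.nil (Srch.rep (nat_lit 17) [] [] [] Srch.nil (Srch.rep (nat_lit 24) [] [] [] Srch.nil (Srch.rep (nat_lit 25) [] [] [] Srch.nil Srch.nil)))) (Srch.rep (nat_lit 24) [] [] [] (Srch.rep (nat_lit 20) [] [] [] Srch.nil (Srch.rep (nat_lit 21) [] [] [] Srch.nil (Srch.rep (nat_lit 28) [] [] [] Srch.nil (Srch.rep (nat_lit 29) [] [] [] Srch.nil Srch.nil)))) (Srch.rep (nat_lit 28) [] [] [] (Srch.rep (nat_lit 16) [] [] [] Srch.nil (Srch.rep (nat_lit 17) [] [] [] Srch.nil (Srch.rep (nat_lit 24) [] [] [] Srch.nil (Srch.rep (nat_lit 25) [] [] [] Srch.nil Srch.nil)))) Srch.nil)))) Srch.nil) Node.done)))))))))))))))))))))))))))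
theorem ok47 : nodeOK DB PT 47 t47 (nat_lit 0xc00c3003c00c300300000ff000000ff0c33cf00fccccffff) (nat_lit 0x1100000000001100001100000000001111000000000011000011000000000011000000000000000000002222222200000000000000000000000022222222000011000011001111002222000000002222110011001100110044ff4455445544ff) c47 = true := by
  decide +kernel
noncomputable def c48_0 : Srch :=
  Srch.rep (nat_lit 64) [] [] [] (Srch.rep (nat_lit 128) [] [] [] (Srch.fin [nat_lit 64,nat_lit 16] [nat_lit 0] (((nat_lit 0),(Leaf.pt (nat_lit 11) (nat_lit 8) [nat_lit 4,nat_lit 16,nat_lit 256]))::(((nat_lit 1),(Leaf.pt (nat_lit 7) (nat_lit 8) [nat_lit 10,nat_lit 256]))::(((nat_lit 12),(Leaf.pt (nat_lit 7) (nat_lit 8) [nat_lit 9,nat_lit 256]))::(((nat_lit 13),(Leaf.pt (nat_lit 7) (nat_lit 8) [nat_lit 9,nat_lit 256]))::[]))))) (Srch.rep (nat_lit 129) [] [] [] (Srch.fin [nat_lit 64,nat_lit 16] [nat_lit 0] (((nat_lit 0),(Leaf.pt (nat_lit 11) (nat_lit 8) [nat_lit 4,nat_lit 16,nat_lit 256]))::(((nat_lit 1),(Leaf.pt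 (nat_lit 7) (nat_lit 8) [nat_lit 10,nat_lit 256]))::(((nat_lit 12),(Leaf.pt (nat_lit 7) (nat_lit 8) [nat_lit 9,nat_lit 256]))::(((nat_lit 13),(Leaf.pt (nat_lit 7) (nat_lit 8) [nat_lit 9,nat_lit 256]))::[]))))) (Srch.rep (nat_lit 140) [] [] [] (Srch.fin [nat_lit 64,nat_lit 16] [nat_lit 0] (((nat_lit 0),(Leaf.pt (nat_lit 11) (nat_lit 8) [nat_lit 4,nat_lit 16,nat_lit 256]))::(((nat_lit 1),(Leaf.pt (nat_lit 7) (nat_lit 8) [nat_lit 10,nat_lit 256]))::(((nat_lit 12),(Leaf.pt (nat_lit 7) (nat_lit 8) [nat_lit 9,nat_lit 256]))::(((nat_lit 13),(Leaf.pt (nat_lit 7) (nat_lit 8) [nat_lit 9,nat_lit 256]))::[]))))) (Srch.rep (nat_lit 141) [] [] [] (Srch.fin [nat_lit 64,nat_lit 16] [nat_lit 0] (((nat_lit 0),(Leaf.pt (nat_lit 11) (nat_lit 8) [nat_lit 4,nat_lit 16,nat_lit 256]))::(((nat_lit 1),(Leaf.pt (nat_lit 7) (nat_lit 8) [nat_lit 10,nat_lit 256]))::(((nat_lit 12),(Leaf.pt (nat_lit 7) (nat_lit 8) [nat_lit 9,nat_lit 256]))::(((nat_lit 13),(Leaf.pt (nat_lit 7) (nat_lit 8) [nat_lit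 9,nat_lit 256]))::[]))))) Srch.nil)))) (Srch.rep (nat_lit 65) [] [] [] (Srch.rep (nat_lit 128) [] [] [] (Srch.fin [nat_lit 64,nat_lit 16] [nat_lit 0] (((nat_lit 0),(Leaf.pt (nat_lit 11) (nat_lit 8) [nat_lit 4,nat_lit 16,nat_lit 256]))::(((nat_lit 1),(Leaf.pt (nat_lit 7) (nat_lit 8) [nat_lit 10,nat_lit 256]))::(((nat_lit 12),(Leaf.pt (nat_lit 7) (nat_lit 8) [nat_lit 9,nat_lit 256]))::(((nat_lit 13),(Leaf.pt (nat_lit 7) (nat_lit 8) [nat_lit 9,nat_lit 256]))::[]))))) (Srch.rep (nat_lit 129) [] [] [] (Srch.fin [nat_lit 64,nat_lit 16] [nat_lit 0] (((nat_lit 0),(Leaf.pt (nat_lit 11) (nat_lit 8) [nat_lit 4,nat_lit 16,nat_lit 256]))::(((nat_lit 1),(Leaf.pt (nat_lit 7) (nat_lit 8) [nat_lit 10,nat_lit 256]))::(((nat_lit 12),(Leaf.pt (nat_lit 7) (nat_lit 8) [nat_lit 9,nat_lit 256]))::(((nat_lit 13),(Leaf.pt (nat_lit 7) (nat_lit 8) [nat_lit 9,nat_lit 256]))::[]))))) (Srch.rep (nat_lit 140) [] [] [] (Srch.fin [nat_lit 64,nat_lit 16] [nat_lit 0] (((nat_lit 0),(Leaf.pt (nat_lit 11)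 (nat_lit 8) [nat_lit 4,nat_lit 16,nat_lit 256]))::(((nat_lit 1),(Leaf.pt (nat_lit 7) (nat_lit 8) [nat_lit 10,nat_lit 256]))::(((nat_lit 12),(Leaf.pt (nat_lit 7) (nat_lit 8) [nat_lit 9,nat_lit 256]))::(((nat_lit 13),(Leaf.pt (nat_lit 7) (nat_lit 8) [nat_lit 9,nat_lit 256]))::[]))))) (Srch.rep (nat_lit 141) [] [] [] (Srch.fin [nat_lit 64,nat_lit 16] [nat_lit 0] (((nat_lit 0),(Leaf.pt (nat_lit 11) (nat_lit 8) [nat_lit 4,nat_lit 16,nat_lit 256]))::(((nat_lit 1),(Leaf.pt (nat_lit 7) (nat_lit 8) [nat_lit 10,nat_lit 256]))::(((nat_lit 12),(Leaf.pt (nat_lit 7) (nat_lit 8) [nat_lit 9,nat_lit 256]))::(((nat_lit 13),(Leaf.pt (nat_lit 7) (nat_lit 8) [nat_lit 9,nat_lit 256]))::[]))))) Srch.nil)))) (Srch.rep (nat_lit 76) [] [] [] (Srch.rep (nat_lit 128) [] [] [] (Srch.fin [nat_lit 64,nat_lit 16] [nat_lit 0] (((nat_lit 0),(Leaf.pt (nat_lit 11) (nat_lit 8) [nat_lit 4,nat_lit 16,nat_lit 256]))::(((nat_lit 1),(Leaf.pt (nat_lit 7) (nat_lit 8) [nat_lit 10,nat_lit 256]))::(((nat_lit 12),(Leaf.pt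 (nat_lit 7) (nat_lit 8) [nat_lit 9,nat_lit 256]))::(((nat_lit 13),(Leaf.pt (nat_lit 7) (nat_lit 8) [nat_lit 9,nat_lit 256]))::[]))))) (Srch.rep (nat_lit 129) [] [] [] (Srch.fin [nat_lit 64,nat_lit 16] [nat_lit 0] (((nat_lit 0),(Leaf.pt (nat_lit 11) (nat_lit 8) [nat_lit 4,nat_lit 16,nat_lit 256]))::(((nat_lit 1),(Leaf.pt (nat_lit 7) (nat_lit 8) [nat_lit 10,nat_lit 256]))::(((nat_lit 12),(Leaf.pt (nat_lit 7) (nat_lit 8) [nat_lit 9,nat_lit 256]))::(((nat_lit 13),(Leaf.pt (nat_lit 7) (nat_lit 8) [nat_lit 9,nat_lit 256]))::[]))))) (Srch.rep (nat_lit 140) [] [] [] (Srch.fin [nat_lit 64,nat_lit 16] [nat_lit 0] (((nat_lit 0),(Leaf.pt (nat_lit 11) (nat_lit 8) [nat_lit 4,nat_lit 16,nat_lit 256]))::(((nat_lit 1),(Leaf.pt (nat_lit 7) (nat_lit 8) [nat_lit 10,nat_lit 256]))::(((nat_lit 12),(Leaf.pt (nat_lit 7) (nat_lit 8) [nat_lit 9,nat_lit 256]))::(((nat_lit 13),(Leaf.pt (nat_lit 7) (nat_lit 8) [nat_lit 9,nat_lit 256]))::[]))))) (Srch.rep (nat_lit 141) [] [] [] (Srch.fin [nat_lit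 64,nat_lit 16] [nat_lit 0] (((nat_lit 0),(Leaf.pt (nat_lit 11) (nat_lit 8) [nat_lit 4,nat_lit 16,nat_lit 256]))::(((nat_lit 1),(Leaf.pt (nat_lit 7) (nat_lit 8) [nat_lit 10,nat_lit 256]))::(((nat_lit 12),(Leaf.pt (nat_lit 7) (nat_lit 8) [nat_lit 9,nat_lit 256]))::(((nat_lit 13),(Leaf.pt (nat_lit 7) (nat_lit 8) [nat_lit 9,nat_lit 256]))::[]))))) Srch.nil)))) (Srch.rep (nat_lit 77) [] [] [] (Srch.rep (nat_lit 128) [] [] [] (Srch.fin [nat_lit 64,nat_lit 16] [nat_lit 0] (((nat_lit 0),(Leaf.pt (nat_lit 11) (nat_lit 8) [nat_lit 4,nat_lit 16,nat_lit 256]))::(((nat_lit 1),(Leaf.pt (nat_lit 7) (nat_lit 8) [nat_lit 10,nat_lit 256]))::(((nat_lit 12),(Leaf.pt (nat_lit 7) (nat_lit 8) [nat_lit 9,nat_lit 256]))::(((nat_lit 13),(Leaf.pt (nat_lit 7) (nat_lit 8) [nat_lit 9,nat_lit 256]))::[]))))) (Srch.rep (nat_lit 129) [] [] [] (Srch.fin [nat_lit 64,nat_lit 16] [nat_lit 0] (((nat_lit 0),(Leaf.pt (nat_lit 11) (nat_lit 8) [nat_lit 4,nat_lit 16,nat_lit 256]))::(((nat_lit 1),(Leaf.pt (nat_lit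 7) (nat_lit 8) [nat_lit 10,nat_lit 256]))::(((nat_lit 12),(Leaf.pt (nat_lit 7) (nat_lit 8) [nat_lit 9,nat_lit 256]))::(((nat_lit 13),(Leaf.pt (nat_lit 7) (nat_lit 8) [nat_lit 9,nat_lit 256]))::[]))))) (Srch.rep (nat_lit 140) [] [] [] (Srch.fin [nat_lit 64,nat_lit 16] [nat_lit 0] (((nat_lit 0),(Leaf.pt (nat_lit 11) (nat_lit 8) [nat_lit 4,nat_lit 16,nat_lit 256]))::(((nat_lit 1),(Leaf.pt (nat_lit 7) (nat_lit 8) [nat_lit 10,nat_lit 256]))::(((nat_lit 12),(Leaf.pt (nat_lit 7) (nat_lit 8) [nat_lit 9,nat_lit 256]))::(((nat_lit 13),(Leaf.pt (nat_lit 7) (nat_lit 8) [nat_lit 9,nat_lit 256]))::[]))))) (Srch.rep (nat_lit 141) [] [] [] (Srch.fin [nat_lit 64,nat_lit 16] [nat_lit 0] (((nat_lit 0),(Leaf.pt (nat_lit 11) (nat_lit 8) [nat_lit 4,nat_lit 16,nat_lit 256]))::(((nat_lit 1),(Leaf.pt (nat_lit 7) (nat_lit 8) [nat_lit 10,nat_lit 256]))::(((nat_lit 12),(Leaf.pt (nat_lit 7) (nat_lit 8) [nat_lit 9,nat_lit 256]))::(((nat_lit 13),(Leaf.pt (nat_lit 7) (nat_lit 8) [nat_lit 9,nat_lit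 256]))::[]))))) Srch.nil)))) Srch.nil)))
noncomputable def c48_1 : Node :=
  Node.sp (nat_lit 18) (Node.lf (Leaf.pt (nat_lit 0) (nat_lit 18) [nat_lit 132])) (Node.st (nat_lit 0) (nat_lit 18) (nat_lit 0) (Node.sp (nat_lit 30) (Node.lf (Leaf.pt (nat_lit 11) (nat_lit 30) [nat_lit 12,nat_lit 128,nat_lit 32])) (Node.st (nat_lit 0) (nat_lit 30) (nat_lit 0) (Node.sp (nat_lit 32) (Node.lf (Leaf.pt (nat_lit 11) (nat_lit 32) [nat_lit 18,nat_lit 128,nat_lit 12])) (Node.st (nat_lit 0) (nat_lit 32) (nat_lit 0) (Node.sp (nat_lit 44) (Node.lf (Leaf.pt (nat_lit 11) (nat_lit 44) [nat_lit 12,nat_lit 84,nat_lit 1])) (Node.st (nat_lit 0) (nat_lit 44) (nat_lit 0) (Node.sp (nat_lit 68) (Node.lf (Leaf.st (nat_lit 1) (nat_lit 128) (nat_lit 68) (Leaf.st (nat_lit 1) (nat_lit 4) (nat_lit 68) (Leaf.st (nat_lit 1) (nat_lit 144) (nat_lit 68) (Leaf.pt (nat_lit 15) (nat_lit 68) [nat_lit 1,nat_lit 2,nat_lit 44]))))) (Node.st (nat_lit 0) (nat_lit 68) (nat_lit 0) (Node.sp (nat_lit 72) (Node.lf (Leaf.st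 (nat_lit 1) (nat_lit 128) (nat_lit 72) (Leaf.st (nat_lit 1) (nat_lit 4) (nat_lit 72) (Leaf.st (nat_lit 1) (nat_lit 144) (nat_lit 72) (Leaf.pt (nat_lit 15) (nat_lit 72) [nat_lit 1,nat_lit 2,nat_lit 44]))))) (Node.st (nat_lit 0) (nat_lit 72) (nat_lit 0) (Node.sp (nat_lit 196) (Node.lf (Leaf.st (nat_lit 1) (nat_lit 16) (nat_lit 196) (Leaf.pt (nat_lit 7) (nat_lit 196) [nat_lit 197,nat_lit 84]))) (Node.st (nat_lit 0) (nat_lit 196) (nat_lit 0) (Node.sp (nat_lit 200) (Node.lf (Leaf.pt (nat_lit 11) (nat_lit 200) [nat_lit 12,nat_lit 84,nat_lit 1])) (Node.st (nat_lit 0) (nat_lit 200) (nat_lit 0) (Node.ext [] (nat_lit 8) [Ins.fr [nat_lit 0],Ins.ts (nat_lit 1) [nat_lit 0,nat_lit 0] [],Ins.fr [nat_lit 1],Ins.ts (nat_lit 1) [nat_lit 0,nat_lit 0] [],Ins.ts (nat_lit 3) [nat_lit 0,nat_lit 1] [],Ins.ts (nat_lit 3) [nat_lit 0,nat_lit 1,nat_lit 2] [],Ins.fr [nat_lit 2],Ins.ts (nat_lit 3) [nat_lit 0] [],Ins.ts (nat_lit 2) [nat_lit 0,nat_lit 3] [],Ins.ts (nat_lit 0) [nat_lit 0,nat_lit 0]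 [],Ins.ts (nat_lit 1) [nat_lit 0] [],Ins.ts (nat_lit 2) [nat_lit 2,nat_lit 0,nat_lit 3] [],Ins.ts (nat_lit 0) [nat_lit 2,nat_lit 0,nat_lit 2] [nat_lit 0],Ins.fr [nat_lit 1,nat_lit 1,nat_lit 3],Ins.ts (nat_lit 0) [nat_lit 0,nat_lit 0] [],Ins.ts (nat_lit 3) [nat_lit 0] [],Ins.ts (nat_lit 2) [nat_lit 2,nat_lit 0] [],Ins.ts (nat_lit 0) [nat_lit 2,nat_lit 0,nat_lit 2] [nat_lit 0],Ins.fr [nat_lit 1,nat_lit 4],Ins.ts (nat_lit 0) [nat_lit 0,nat_lit 0] [nat_lit 2],Ins.ts (nat_lit 0) [nat_lit 5,nat_lit 1,nat_lit 4] [nat_lit 0,nat_lit 3,nat_lit 0],Ins.fr [nat_lit 4,nat_lit 2,nat_lit 5],Ins.ts (nat_lit 0) [nat_lit 5,nat_lit 5] [nat_lit 0,nat_lit 0],Ins.ts (nat_lit 0) [nat_lit 1,nat_lit 0,nat_lit 1] [nat_lit 5,nat_lit 0],Ins.df [nat_lit 0,nat_lit 0],Ins.df [nat_lit 0,nat_lit 5,nat_lit 6]] [nat_lit 16,nat_lit 20,nat_lit 2,nat_lit 32,nat_lit 64,nat_lit 128] [nat_lit 1,nat_lit 5,nat_lit 0,nat_lit 8,nat_lit 7,nat_lit 4,nat_lit 3,nat_lit 2] (Srch.rep (nat_lit 8) [nat_lit 2] [nat_lit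 16,nat_lit 8,nat_lit 4,nat_lit 2,nat_lit 1] [nat_lit 128,nat_lit 64,nat_lit 32] (Srch.rep (nat_lit 16) [] [] [] (Srch.rep (nat_lit 20) [nat_lit 16] [] [] (Srch.rep (nat_lit 2) [nat_lit 4] [] [] (Srch.rep (nat_lit 32) [] [] [] c48_0 Srch.nil) (Srch.rep (nat_lit 18) [nat_lit 4] [] [] (Srch.rep (nat_lit 32) [] [] [] Srch.nil Srch.nil) Srch.nil)) (Srch.rep (nat_lit 21) [nat_lit 16] [] [] (Srch.rep (nat_lit 2) [nat_lit 4] [] [] (Srch.rep (nat_lit 32) [] [] [] (Srch.rep (nat_lit 66) [] [] [] (Srch.rep (nat_lit 146) [] [] [] (Srch.fin [nat_lit 64,nat_lit 16] [nat_lit 0,nat_lit 12] (((nat_lit 0),(Leaf.pt (nat_lit 7) (nat_lit 8) [nat_lit 10,nat_lit 260]))::[])) (Srch.rep (nat_lit 147) [] [] [] (Srch.fin [nat_lit 64,nat_lit 16] [nat_lit 0,nat_lit 12] (((nat_lit 0),(Leaf.pt (nat_lit 7) (nat_lit 8) [nat_lit 10,nat_lit 260]))::[])) (Srch.rep (nat_lit 158) [] [] [] (Srch.fin [nat_lit 128] [] []) (Srch.rep (nat_lit 159) [] [] [] (Srch.fin [nat_lit 128] [] []) Srch.nil)))) (Srch.rep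 (nat_lit 67) [] [] [] (Srch.rep (nat_lit 146) [] [] [] (Srch.fin [nat_lit 64,nat_lit 16] [nat_lit 0,nat_lit 12] (((nat_lit 0),(Leaf.pt (nat_lit 7) (nat_lit 8) [nat_lit 10,nat_lit 260]))::[])) (Srch.rep (nat_lit 147) [] [] [] (Srch.fin [nat_lit 64,nat_lit 16] [nat_lit 0,nat_lit 12] (((nat_lit 0),(Leaf.pt (nat_lit 7) (nat_lit 8) [nat_lit 10,nat_lit 260]))::[])) (Srch.rep (nat_lit 158) [] [] [] (Srch.fin [nat_lit 128] [] []) (Srch.rep (nat_lit 159) [] [] [] (Srch.fin [nat_lit 128] [] []) Srch.nil)))) (Srch.rep (nat_lit 78) [] [] [] (Srch.rep (nat_lit 146) [] [] [] (Srch.fin [nat_lit 64] [] []) (Srch.rep (nat_lit 147) [] [] [] (Srch.fin [nat_lit 64] [] []) (Srch.rep (nat_lit 158) [] [] [] (Srch.fin [nat_lit 64] [] []) (Srch.rep (nat_lit 159) [] [] [] (Srch.fin [nat_lit 64] [] []) Srch.nil)))) (Srch.rep (nat_lit 79) [] [] [] (Srch.rep (nat_lit 146) [] [] [] (Srch.fin [nat_lit 64] [] []) (Srch.rep (nat_lit 147) [] [] [] (Srch.fin [nat_lit 64] [] []) (Srch.rep (nat_lit 158)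 [] [] [] (Srch.fin [nat_lit 64] [] []) (Srch.rep (nat_lit 159) [] [] [] (Srch.fin [nat_lit 64] [] []) Srch.nil)))) Srch.nil)))) Srch.nil) (Srch.rep (nat_lit 18) [nat_lit 4] [] [] (Srch.rep (nat_lit 32) [] [] [] Srch.nil Srch.nil) Srch.nil)) (Srch.rep (nat_lit 28) [nat_lit 16] [] [] (Srch.rep (nat_lit 2) [] [] [] Srch.nil (Srch.rep (nat_lit 18) [] [] [] Srch.nil Srch.nil)) (Srch.rep (nat_lit 29) [nat_lit 16] [] [] (Srch.rep (nat_lit 2) [] [] [] Srch.nil (Srch.rep (nat_lit 18) [] [] [] Srch.nil Srch.nil)) Srch.nil)))) (Srch.rep (nat_lit 20) [] [] [] (Srch.rep (nat_lit 16) [] [] [] Srch.nil (Srch.rep (nat_lit 17) [] [] [] Srch.nil (Srch.rep (nat_lit 24) [] [] [] Srch.nil (Srch.rep (nat_lit 25) [] [] [] Srch.nil Srch.nil)))) (Srch.rep (nat_lit 24) [] [] [] (Srch.rep (nat_lit 20) [] [] [] Srch.nil (Srch.rep (nat_lit 21) [] [] [] Srch.nil (Srch.rep (nat_lit 28) [] [] [] Srch.nil (Srch.rep (nat_lit 29) [] [] [] Srch.nil Srch.nil)))) (Srch.rep (nat_lit 28) [] [] [] (Srch.rep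 (nat_lit 16) [] [] [] Srch.nil (Srch.rep (nat_lit 17) [] [] [] Srch.nil (Srch.rep (nat_lit 24) [] [] [] Srch.nil (Srch.rep (nat_lit 25) [] [] [] Srch.nil Srch.nil)))) Srch.nil)))) Srch.nil) Node.done))))))))))))))))
noncomputable def t48 : ℕ := nat_lit 0x92009200be00be0080008000ad00ad0080008000ad00ad0092009200be00be00be00be0092009200ad00ad0080008000ad00ad0080008000be00be009200920092009200be00be0080008000ad00ad0080008000ad00ad0092009200be00be00be00be0092009200ad00ad0080008000ad00ad0080008000be00be009200920081008100ad00ad0093009300be00be0093009300be00be0081008100ad00ad00ad00ad0081008100be00be0093009300be00be0093009300ad00ad008100810081008100ad00ad0093009300be00be0093009300be00be0081008100ad00ad00ad00ad0081008100be00be0093009300be00be0093009300ad00ad008100810093009300bf00bf0081008100ac00ac0081008100ac00ac0093009300bf00bf00bf00bf0093009300ac00ac0081008100ac00ac0081008100bf00bf009300930093009300bf00bf0081008100ac00ac0081008100ac00ac0093009300bf00bf00bf00bf0093009300ac0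0ac0081008100ac00ac0081008100bf00bf009300930080008000ac00ac0092009200bf00bf0092009200bf00bf0080008000ac00ac00ac00ac0080008000bf00bf0092009200bf00bf0092009200ac00ac008000800080008000ac00ac0092009200bf00bf0092009200bf00bf0080008000ac00ac00ac00ac0080008000bf00bf0092009200bf00bf0092009200ac00ac00800080006e006e006e006e006c006c006c006c006c006c006c006c006e006e006e006e0043004300430043004100410041004100410041004100410043004300430043006f006f006f006f006d006d006d006d006d006d006d006d006f006f006f006f0042004200420042004000400040004000400040004000400042004200420042006d006d006d006d006f006f006f006f006f006f006f006f006d006d006d006d0041004100410041004300430043004300430043004300430041004100410041006c006c006c006c006e006e006e006e006e006e006e006e006c006c006c006c004000400040004000420042004200420042004200420042004000400040004000200020002000200021002100210021002100210021002100200020002000200020002000200020002100210021002100210021002100210020002000200020002000200020002000210021002100210021002100210021002000200020002000200020002000200021002100210021002100210021002100200020002000200010001000110011001000100011001100100010001100110010001000110011001100110010001000110011001000100011001100100010001100110010001000080008000800080008000800080008000800080008000800080008000800080004000400040004000400040004000400020002000200020001000100000000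
noncomputable def c48 : Node :=
  (Node.st (nat_lit 0) (nat_lit 8) (nat_lit 0) (Node.sp (nat_lit 1) (Node.lf (Leaf.pt (nat_lit 7) (nat_lit 1) [nat_lit 8,nat_lit 16])) (Node.sp (nat_lit 2) (Node.lf (Leaf.pt (nat_lit 0) (nat_lit 2) [nat_lit 96])) (Node.st (nat_lit 0) (nat_lit 2) (nat_lit 0) (Node.sp (nat_lit 4) (Node.lf (Leaf.pt (nat_lit 7) (nat_lit 4) [nat_lit 8,nat_lit 16])) (Node.st (nat_lit 0) (nat_lit 4) (nat_lit 0) (Node.sp (nat_lit 12) (Node.lf (Leaf.pt (nat_lit 7) (nat_lit 12) [nat_lit 8,nat_lit 16])) (Node.sp (nat_lit 13) (Node.lf (Leaf.pt (nat_lit 7) (nat_lit 13) [nat_lit 8,nat_lit 16])) (Node.sp (nat_lit 14) (Node.lf (Leaf.pt (nat_lit 11) (nat_lit 14) [nat_lit 2,nat_lit 64,nat_lit 1])) (Node.st (nat_lit 0) (nat_lit 14) (nat_lit 0) c48_1))))))))))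
theorem ok48 : nodeOK DB PT 48 t48 (nat_lit 0x330033003300330000000000000000000000ff000000ff0c33cf00fccccffff) (nat_lit 0x11001100000000001100110000000000110011000000000011001100000000000000000000000000000000000000000000000000000000000000000000000000000000000000002222222200000000000000000000000022222222000011000011001111002222000000002222110011001100110044ff4455445544ff) c48 = true := by
  decide +kernel
noncomputable def c49_0 : Srch :=
  Srch.rep (nat_lit 64) [] [] [] (Srch.rep (nat_lit 128) [] [] [] (Srch.fin [nat_lit 64,nat_lit 16] [nat_lit 0] (((nat_lit 0),(Leaf.pt (nat_lit 11) (nat_lit 8) [nat_lit 4,nat_lit 16,nat_lit 256]))::(((nat_lit 1),(Leaf.pt (nat_lit 7) (nat_lit 8) [nat_lit 10,nat_lit 256]))::(((nat_lit 12),(Leaf.pt (nat_lit 7) (nat_lit 8) [nat_lit 9,nat_lit 256]))::(((nat_lit 13),(Leaf.pt (nat_lit 7) (nat_lit 8) [nat_lit 9,nat_lit 256]))::[]))))) (Srch.rep (nat_lit 129) [] [] [] (Srch.fin [nat_lit 64,nat_lit 16] [nat_lit 0] (((nat_lit 0),(Leaf.pt (nat_lit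 11) (nat_lit 8) [nat_lit 4,nat_lit 16,nat_lit 256]))::(((nat_lit 1),(Leaf.pt (nat_lit 7) (nat_lit 8) [nat_lit 10,nat_lit 256]))::(((nat_lit 12),(Leaf.pt (nat_lit 7) (nat_lit 8) [nat_lit 9,nat_lit 256]))::(((nat_lit 13),(Leaf.pt (nat_lit 7) (nat_lit 8) [nat_lit 9,nat_lit 256]))::[]))))) (Srch.rep (nat_lit 140) [] [] [] (Srch.fin [nat_lit 64,nat_lit 16] [nat_lit 0] (((nat_lit 0),(Leaf.pt (nat_lit 11) (nat_lit 8) [nat_lit 4,nat_lit 16,nat_lit 256]))::(((nat_lit 1),(Leaf.pt (nat_lit 7) (nat_lit 8) [nat_lit 10,nat_lit 256]))::(((nat_lit 12),(Leaf.pt (nat_lit 7) (nat_lit 8) [nat_lit 9,nat_lit 256]))::(((nat_lit 13),(Leaf.pt (nat_lit 7) (nat_lit 8) [nat_lit 9,nat_lit 256]))::[]))))) (Srch.rep (nat_lit 141) [] [] [] (Srch.fin [nat_lit 64,nat_lit 16] [nat_lit 0] (((nat_lit 0),(Leaf.pt (nat_lit 11) (nat_lit 8) [nat_lit 4,nat_lit 16,nat_lit 256]))::(((nat_lit 1),(Leaf.pt (nat_lit 7) (nat_lit 8) [nat_lit 10,nat_lit 256]))::(((nat_lit 12),(Leaf.pt (nat_lit 7) (nat_lit 8) [nat_lit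 9,nat_lit 256]))::(((nat_lit 13),(Leaf.pt (nat_lit 7) (nat_lit 8) [nat_lit 9,nat_lit 256]))::[]))))) Srch.nil)))) (Srch.rep (nat_lit 65) [] [] [] (Srch.rep (nat_lit 128) [] [] [] (Srch.fin [nat_lit 64,nat_lit 16] [nat_lit 0] (((nat_lit 0),(Leaf.pt (nat_lit 11) (nat_lit 8) [nat_lit 4,nat_lit 16,nat_lit 256]))::(((nat_lit 1),(Leaf.pt (nat_lit 7) (nat_lit 8) [nat_lit 10,nat_lit 256]))::(((nat_lit 12),(Leaf.pt (nat_lit 7) (nat_lit 8) [nat_lit 9,nat_lit 256]))::(((nat_lit 13),(Leaf.pt (nat_lit 7) (nat_lit 8) [nat_lit 9,nat_lit 256]))::[]))))) (Srch.rep (nat_lit 129) [] [] [] (Srch.fin [nat_lit 64,nat_lit 16] [nat_lit 0] (((nat_lit 0),(Leaf.pt (nat_lit 11) (nat_lit 8) [nat_lit 4,nat_lit 16,nat_lit 256]))::(((nat_lit 1),(Leaf.pt (nat_lit 7) (nat_lit 8) [nat_lit 10,nat_lit 256]))::(((nat_lit 12),(Leaf.pt (nat_lit 7) (nat_lit 8) [nat_lit 9,nat_lit 256]))::(((nat_lit 13),(Leaf.pt (nat_lit 7) (nat_lit 8) [nat_lit 9,nat_lit 256]))::[]))))) (Srch.rep (nat_lit 140) [] [] [] (Srch.fin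 [nat_lit 64,nat_lit 16] [nat_lit 0] (((nat_lit 0),(Leaf.pt (nat_lit 11) (nat_lit 8) [nat_lit 4,nat_lit 16,nat_lit 256]))::(((nat_lit 1),(Leaf.pt (nat_lit 7) (nat_lit 8) [nat_lit 10,nat_lit 256]))::(((nat_lit 12),(Leaf.pt (nat_lit 7) (nat_lit 8) [nat_lit 9,nat_lit 256]))::(((nat_lit 13),(Leaf.pt (nat_lit 7) (nat_lit 8) [nat_lit 9,nat_lit 256]))::[]))))) (Srch.rep (nat_lit 141) [] [] [] (Srch.fin [nat_lit 64,nat_lit 16] [nat_lit 0] (((nat_lit 0),(Leaf.pt (nat_lit 11) (nat_lit 8) [nat_lit 4,nat_lit 16,nat_lit 256]))::(((nat_lit 1),(Leaf.pt (nat_lit 7) (nat_lit 8) [nat_lit 10,nat_lit 256]))::(((nat_lit 12),(Leaf.pt (nat_lit 7) (nat_lit 8) [nat_lit 9,nat_lit 256]))::(((nat_lit 13),(Leaf.pt (nat_lit 7) (nat_lit 8) [nat_lit 9,nat_lit 256]))::[]))))) Srch.nil)))) (Srch.rep (nat_lit 76) [] [] [] (Srch.rep (nat_lit 128) [] [] [] (Srch.fin [nat_lit 64,nat_lit 16] [nat_lit 0] (((nat_lit 0),(Leaf.pt (nat_lit 11) (nat_lit 8) [nat_lit 4,nat_lit 16,nat_lit 256]))::(((nat_lit 1),(Leaf.pt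 (nat_lit 7) (nat_lit 8) [nat_lit 10,nat_lit 256]))::(((nat_lit 12),(Leaf.pt (nat_lit 7) (nat_lit 8) [nat_lit 9,nat_lit 256]))::(((nat_lit 13),(Leaf.pt (nat_lit 7) (nat_lit 8) [nat_lit 9,nat_lit 256]))::[]))))) (Srch.rep (nat_lit 129) [] [] [] (Srch.fin [nat_lit 64,nat_lit 16] [nat_lit 0] (((nat_lit 0),(Leaf.pt (nat_lit 11) (nat_lit 8) [nat_lit 4,nat_lit 16,nat_lit 256]))::(((nat_lit 1),(Leaf.pt (nat_lit 7) (nat_lit 8) [nat_lit 10,nat_lit 256]))::(((nat_lit 12),(Leaf.pt (nat_lit 7) (nat_lit 8) [nat_lit 9,nat_lit 256]))::(((nat_lit 13),(Leaf.pt (nat_lit 7) (nat_lit 8) [nat_lit 9,nat_lit 256]))::[]))))) (Srch.rep (nat_lit 140) [] [] [] (Srch.fin [nat_lit 64,nat_lit 16] [nat_lit 0] (((nat_lit 0),(Leaf.pt (nat_lit 11) (nat_lit 8) [nat_lit 4,nat_lit 16,nat_lit 256]))::(((nat_lit 1),(Leaf.pt (nat_lit 7) (nat_lit 8) [nat_lit 10,nat_lit 256]))::(((nat_lit 12),(Leaf.pt (nat_lit 7) (nat_lit 8) [nat_lit 9,nat_lit 256]))::(((nat_lit 13),(Leaf.pt (nat_lit 7) (nat_lit 8) [nat_lit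 9,nat_lit 256]))::[]))))) (Srch.rep (nat_lit 141) [] [] [] (Srch.fin [nat_lit 64,nat_lit 16] [nat_lit 0] (((nat_lit 0),(Leaf.pt (nat_lit 11) (nat_lit 8) [nat_lit 4,nat_lit 16,nat_lit 256]))::(((nat_lit 1),(Leaf.pt (nat_lit 7) (nat_lit 8) [nat_lit 10,nat_lit 256]))::(((nat_lit 12),(Leaf.pt (nat_lit 7) (nat_lit 8) [nat_lit 9,nat_lit 256]))::(((nat_lit 13),(Leaf.pt (nat_lit 7) (nat_lit 8) [nat_lit 9,nat_lit 256]))::[]))))) Srch.nil)))) (Srch.rep (nat_lit 77) [] [] [] (Srch.rep (nat_lit 128) [] [] [] (Srch.fin [nat_lit 64,nat_lit 16] [nat_lit 0] (((nat_lit 0),(Leaf.pt (nat_lit 11) (nat_lit 8) [nat_lit 4,nat_lit 16,nat_lit 256]))::(((nat_lit 1),(Leaf.pt (nat_lit 7) (nat_lit 8) [nat_lit 10,nat_lit 256]))::(((nat_lit 12),(Leaf.pt (nat_lit 7) (nat_lit 8) [nat_lit 9,nat_lit 256]))::(((nat_lit 13),(Leaf.pt (nat_lit 7) (nat_lit 8) [nat_lit 9,nat_lit 256]))::[]))))) (Srch.rep (nat_lit 129) [] [] [] (Srch.fin [nat_lit 64,nat_lit 16] [nat_lit 0] (((nat_lit 0),(Leaf.pt (nat_lit 11)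 (nat_lit 8) [nat_lit 4,nat_lit 16,nat_lit 256]))::(((nat_lit 1),(Leaf.pt (nat_lit 7) (nat_lit 8) [nat_lit 10,nat_lit 256]))::(((nat_lit 12),(Leaf.pt (nat_lit 7) (nat_lit 8) [nat_lit 9,nat_lit 256]))::(((nat_lit 13),(Leaf.pt (nat_lit 7) (nat_lit 8) [nat_lit 9,nat_lit 256]))::[]))))) (Srch.rep (nat_lit 140) [] [] [] (Srch.fin [nat_lit 64,nat_lit 16] [nat_lit 0] (((nat_lit 0),(Leaf.pt (nat_lit 11) (nat_lit 8) [nat_lit 4,nat_lit 16,nat_lit 256]))::(((nat_lit 1),(Leaf.pt (nat_lit 7) (nat_lit 8) [nat_lit 10,nat_lit 256]))::(((nat_lit 12),(Leaf.pt (nat_lit 7) (nat_lit 8) [nat_lit 9,nat_lit 256]))::(((nat_lit 13),(Leaf.pt (nat_lit 7) (nat_lit 8) [nat_lit 9,nat_lit 256]))::[]))))) (Srch.rep (nat_lit 141) [] [] [] (Srch.fin [nat_lit 64,nat_lit 16] [nat_lit 0] (((nat_lit 0),(Leaf.pt (nat_lit 11) (nat_lit 8) [nat_lit 4,nat_lit 16,nat_lit 256]))::(((nat_lit 1),(Leaf.pt (nat_lit 7) (nat_lit 8) [nat_lit 10,nat_lit 256]))::(((nat_lit 12),(Leaf.pt (nat_lit 7) (nat_lit 8) [nat_lit 9,nat_lit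 256]))::(((nat_lit 13),(Leaf.pt (nat_lit 7) (nat_lit 8) [nat_lit 9,nat_lit 256]))::[]))))) Srch.nil)))) Srch.nil)))
noncomputable def t49 : ℕ := nat_lit 0x9f009f00b300b3008d008d00a000a0008d008d00a000a0009f009f00b300b300b300b3009f009f00a000a0008d008d00a000a0008d008d00b300b3009f009f009f009f00b300b3008d008d00a000a0008d008d00a000a0009f009f00b300b300b300b3009f009f00a000a0008d008d00a000a0008d008d00b300b3009f009f008c008c00a000a0009e009e00b300b3009e009e00b300b3008c008c00a000a000a000a0008c008c00b300b3009e009e00b300b3009e009e00a000a0008c008c008c008c00a000a0009e009e00b300b3009e009e00b300b3008c008c00a000a000a000a0008c008c00b300b3009e009e00b300b3009e009e00a000a0008c008c0093009300bf00bf0081008100ac00ac0081008100ac00ac0093009300bf00bf00bf00bf0093009300ac00ac0081008100ac00ac0081008100bf00bf009300930093009300bf00bf0081008100ac00ac0081008100ac00ac0093009300bf00bf00bf00bf0093009300ac00ac0081008100ac00ac0081008100bf00bf009300930080008000ac00ac0092009200bf00bf0092009200bf00bf008000800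0ac00ac00ac00ac0080008000bf00bf0092009200bf00bf0092009200ac00ac008000800080008000ac00ac0092009200bf00bf0092009200bf00bf0080008000ac00ac00ac00ac0080008000bf00bf0092009200bf00bf0092009200ac00ac00800080006e006e006e006e006c006c006c006c006c006c006c006c006e006e006e006e0043004300430043004100410041004100410041004100410043004300430043006f006f006f006f006d006d006d006d006d006d006d006d006f006f006f006f0042004200420042004000400040004000400040004000400042004200420042006d006d006d006d006f006f006f006f006f006f006f006f006d006d006d006d0041004100410041004300430043004300430043004300430041004100410041006c006c006c006c006e006e006e006e006e006e006e006e006c006c006c006c004000400040004000420042004200420042004200420042004000400040004000200020002000200021002100210021002100210021002100200020002000200020002000200020002100210021002100210021002100210020002000200020002000200020002000210021002100210021002100210021002000200020002000200020002000200021002100210021002100210021002100200020002000200010001000110011001000100011001100100010001100110010001000110011001100110010001000110011001000100011001100100010001100110010001000080008000800080008000800080008000800080008000800080008000800080004000400040004000400040004000400020002000200020001000100000000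
noncomputable def c49 : Node :=
  (Node.st (nat_lit 0) (nat_lit 8) (nat_lit 0) (Node.sp (nat_lit 1) (Node.lf (Leaf.pt (nat_lit 7) (nat_lit 1) [nat_lit 8,nat_lit 16])) (Node.sp (nat_lit 2) (Node.lf (Leaf.pt (nat_lit 0) (nat_lit 2) [nat_lit 96])) (Node.st (nat_lit 0) (nat_lit 2) (nat_lit 0) (Node.sp (nat_lit 4) (Node.lf (Leaf.pt (nat_lit 7) (nat_lit 4) [nat_lit 8,nat_lit 16])) (Node.st (nat_lit 0) (nat_lit 4) (nat_lit 0) (Node.sp (nat_lit 12) (Node.lf (Leaf.pt (nat_lit 7) (nat_lit 12) [nat_lit 8,nat_lit 16])) (Node.sp (nat_lit 13) (Node.lf (Leaf.pt (nat_lit 7) (nat_lit 13) [nat_lit 8,nat_lit 16])) (Node.sp (nat_lit 14) (Node.lf (Leaf.pt (nat_lit 11) (nat_lit 14) [nat_lit 2,nat_lit 64,nat_lit 1])) (Node.st (nat_lit 0) (nat_lit 14) (nat_lit 0) (Node.sp (nat_lit 18) (Node.lf (Leaf.pt (nat_lit 0) (nat_lit 18) [nat_lit 132])) (Node.st (nat_lit 0) (nat_lit 18) (nat_lit 0) (Node.sp (nat_lit 30) (Node.lf (Leaf.pt (nat_lit 11) (nat_lit 30) [nat_lit 12,nat_lit 128,nat_lit 1]))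 (Node.st (nat_lit 0) (nat_lit 30) (nat_lit 0) (Node.sp (nat_lit 32) (Node.lf (Leaf.pt (nat_lit 11) (nat_lit 32) [nat_lit 18,nat_lit 128,nat_lit 1])) (Node.st (nat_lit 0) (nat_lit 32) (nat_lit 0) (Node.sp (nat_lit 44) (Node.lf (Leaf.pt (nat_lit 11) (nat_lit 44) [nat_lit 12,nat_lit 84,nat_lit 1])) (Node.st (nat_lit 0) (nat_lit 44) (nat_lit 0) (Node.sp (nat_lit 68) (Node.lf (Leaf.st (nat_lit 1) (nat_lit 128) (nat_lit 68) (Leaf.st (nat_lit 1) (nat_lit 4) (nat_lit 68) (Leaf.st (nat_lit 1) (nat_lit 144) (nat_lit 68) (Leaf.pt (nat_lit 15) (nat_lit 68) [nat_lit 1,nat_lit 2,nat_lit 44]))))) (Node.st (nat_lit 0) (nat_lit 68) (nat_lit 0) (Node.sp (nat_lit 72) (Node.lf (Leaf.st (nat_lit 1) (nat_lit 128) (nat_lit 72) (Leaf.st (nat_lit 1) (nat_lit 4) (nat_lit 72) (Leaf.st (nat_lit 1) (nat_lit 144) (nat_lit 72) (Leaf.pt (nat_lit 15) (nat_lit 72) [nat_lit 1,nat_lit 2,nat_lit 44]))))) (Node.st (nat_lit 0) (nat_lit 72) (nat_lit 0) (Node.ext [] (nat_lit 8) [Ins.fr [nat_lit 0],Ins.ts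 (nat_lit 1) [nat_lit 0,nat_lit 0] [],Ins.fr [nat_lit 1],Ins.ts (nat_lit 1) [nat_lit 0,nat_lit 0] [],Ins.ts (nat_lit 3) [nat_lit 0,nat_lit 1] [],Ins.ts (nat_lit 3) [nat_lit 0,nat_lit 1,nat_lit 2] [],Ins.fr [nat_lit 2],Ins.ts (nat_lit 3) [nat_lit 0] [],Ins.ts (nat_lit 2) [nat_lit 0,nat_lit 3] [],Ins.ts (nat_lit 0) [nat_lit 0,nat_lit 0] [],Ins.ts (nat_lit 1) [nat_lit 0] [],Ins.ts (nat_lit 2) [nat_lit 2,nat_lit 0,nat_lit 3] [],Ins.ts (nat_lit 0) [nat_lit 2,nat_lit 0,nat_lit 2] [nat_lit 0],Ins.fr [nat_lit 1,nat_lit 1,nat_lit 3],Ins.ts (nat_lit 0) [nat_lit 0,nat_lit 0] [],Ins.ts (nat_lit 3) [nat_lit 0] [],Ins.ts (nat_lit 2) [nat_lit 2,nat_lit 0] [],Ins.ts (nat_lit 0) [nat_lit 2,nat_lit 0,nat_lit 2] [nat_lit 0],Ins.fr [nat_lit 1,nat_lit 4],Ins.ts (nat_lit 0) [nat_lit 0,nat_lit 0] [nat_lit 2],Ins.ts (nat_lit 0) [nat_lit 5,nat_lit 1,nat_lit 4] [nat_lit 0,nat_lit 3,nat_lit 0],Ins.fr [nat_lit 4,nat_lit 2,nat_lit 5],Ins.ts (nat_lit 0) [nat_lit 5,nat_lit 0,nat_lit 0] [nat_lit 4,nat_lit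 6],Ins.ts (nat_lit 0) [nat_lit 1,nat_lit 0,nat_lit 1] [nat_lit 5,nat_lit 0],Ins.df [nat_lit 4,nat_lit 4],Ins.df [nat_lit 0,nat_lit 5,nat_lit 6]] [nat_lit 16,nat_lit 20,nat_lit 2,nat_lit 32,nat_lit 64,nat_lit 128] [nat_lit 1,nat_lit 5,nat_lit 0,nat_lit 8,nat_lit 7,nat_lit 4,nat_lit 3,nat_lit 2] (Srch.rep (nat_lit 8) [nat_lit 2] [nat_lit 16,nat_lit 8,nat_lit 4,nat_lit 2,nat_lit 1] [nat_lit 128,nat_lit 64,nat_lit 32] (Srch.rep (nat_lit 16) [] [] [] (Srch.rep (nat_lit 20) [nat_lit 16] [] [] (Srch.rep (nat_lit 2) [nat_lit 4] [] [] (Srch.rep (nat_lit 32) [] [] [] c49_0 Srch.nil) (Srch.rep (nat_lit 18) [nat_lit 4] [] [] (Srch.rep (nat_lit 32) [] [] [] Srch.nil Srch.nil) Srch.nil)) (Srch.rep (nat_lit 21) [nat_lit 16] [] [] (Srch.rep (nat_lit 2) [nat_lit 4] [] [] (Srch.rep (nat_lit 32) [] [] [] (Srch.rep (nat_lit 66) [] [] [] Srch.nil (Srch.rep (nat_lit 67) [] [] [] Srch.nil (Srch.rep (nat_lit 78) [] [] [] Srch.nil (Srch.rep (nat_lit 79) [] [] [] Srch.nil Srch.nil)))) Srch.nil)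 (Srch.rep (nat_lit 18) [nat_lit 4] [] [] (Srch.rep (nat_lit 32) [] [] [] Srch.nil Srch.nil) Srch.nil)) (Srch.rep (nat_lit 28) [nat_lit 16] [] [] (Srch.rep (nat_lit 2) [] [] [] Srch.nil (Srch.rep (nat_lit 18) [] [] [] Srch.nil Srch.nil)) (Srch.rep (nat_lit 29) [nat_lit 16] [] [] (Srch.rep (nat_lit 2) [] [] [] Srch.nil (Srch.rep (nat_lit 18) [] [] [] Srch.nil Srch.nil)) Srch.nil)))) (Srch.rep (nat_lit 20) [] [] [] (Srch.rep (nat_lit 16) [] [] [] Srch.nil (Srch.rep (nat_lit 17) [] [] [] Srch.nil (Srch.rep (nat_lit 24) [] [] [] Srch.nil (Srch.rep (nat_lit 25) [] [] [] Srch.nil Srch.nil)))) (Srch.rep (nat_lit 24) [] [] [] (Srch.rep (nat_lit 20) [] [] [] Srch.nil (Srch.rep (nat_lit 21) [] [] [] Srch.nil (Srch.rep (nat_lit 28) [] [] [] Srch.nil (Srch.rep (nat_lit 29) [] [] [] Srch.nil Srch.nil)))) (Srch.rep (nat_lit 28) [] [] [] (Srch.rep (nat_lit 16) [] [] [] Srch.nil (Srch.rep (nat_lit 17) [] [] [] Srch.nil (Srch.rep (nat_lit 24) [] [] [] Srch.nil (Srch.rep (nat_lit 25)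 [] [] [] Srch.nil Srch.nil)))) Srch.nil)))) Srch.nil) Node.done)))))))))))))))))))))))
theorem ok49 : nodeOK DB PT 49 t49 (nat_lit 0xff000000ff0c33cf00fccccffff) (nat_lit 0x2222222200000000000000000000000022222222000011000011001111002222000000002222110011001100110044ff4455445544ff) c49 = true := by
  decide +kernel
noncomputable def c50_0 : Srch :=
  Srch.rep (nat_lit 64) [] [] [] (Srch.rep (nat_lit 128) [] [] [] (Srch.fin [nat_lit 64,nat_lit 16] [nat_lit 0] (((nat_lit 0),(Leaf.pt (nat_lit 11) (nat_lit 8) [nat_lit 4,nat_lit 16,nat_lit 256]))::(((nat_lit 1),(Leaf.pt (nat_lit 7) (nat_lit 8) [nat_lit 10,nat_lit 256]))::(((nat_lit 12),(Leaf.pt (nat_lit 7) (nat_lit 8) [nat_lit 9,nat_lit 256]))::(((nat_lit 13),(Leaf.pt (nat_lit 7) (nat_lit 8) [nat_lit 9,nat_lit 256]))::[]))))) (Srch.rep (nat_lit 129) [] [] [] (Srch.fin [nat_lit 64,nat_lit 16] [nat_lit 0] (((nat_lit 0),(Leaf.pt (nat_lit 11) (nat_lit 8) [nat_lit 4,nat_lit 16,nat_lit 256]))::(((nat_lit 1),(Leaf.pt (nat_lit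 7) (nat_lit 8) [nat_lit 10,nat_lit 256]))::(((nat_lit 12),(Leaf.pt (nat_lit 7) (nat_lit 8) [nat_lit 9,nat_lit 256]))::(((nat_lit 13),(Leaf.pt (nat_lit 7) (nat_lit 8) [nat_lit 9,nat_lit 256]))::[]))))) (Srch.rep (nat_lit 140) [] [] [] (Srch.fin [nat_lit 64,nat_lit 16] [nat_lit 0] (((nat_lit 0),(Leaf.pt (nat_lit 11) (nat_lit 8) [nat_lit 4,nat_lit 16,nat_lit 256]))::(((nat_lit 1),(Leaf.pt (nat_lit 7) (nat_lit 8) [nat_lit 10,nat_lit 256]))::(((nat_lit 12),(Leaf.pt (nat_lit 7) (nat_lit 8) [nat_lit 9,nat_lit 256]))::(((nat_lit 13),(Leaf.pt (nat_lit 7) (nat_lit 8) [nat_lit 9,nat_lit 256]))::[]))))) (Srch.rep (nat_lit 141) [] [] [] (Srch.fin [nat_lit 64,nat_lit 16] [nat_lit 0] (((nat_lit 0),(Leaf.pt (nat_lit 11) (nat_lit 8) [nat_lit 4,nat_lit 16,nat_lit 256]))::(((nat_lit 1),(Leaf.pt (nat_lit 7) (nat_lit 8) [nat_lit 10,nat_lit 256]))::(((nat_lit 12),(Leaf.pt (nat_lit 7) (nat_lit 8) [nat_lit 9,nat_lit 256]))::(((nat_lit 13),(Leaf.pt (nat_lit 7) (nat_lit 8) [nat_lit 9,nat_lit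 256]))::[]))))) Srch.nil)))) (Srch.rep (nat_lit 65) [] [] [] (Srch.rep (nat_lit 128) [] [] [] (Srch.fin [nat_lit 64,nat_lit 16] [nat_lit 0] (((nat_lit 0),(Leaf.pt (nat_lit 11) (nat_lit 8) [nat_lit 4,nat_lit 16,nat_lit 256]))::(((nat_lit 1),(Leaf.pt (nat_lit 7) (nat_lit 8) [nat_lit 10,nat_lit 256]))::(((nat_lit 12),(Leaf.pt (nat_lit 7) (nat_lit 8) [nat_lit 9,nat_lit 256]))::(((nat_lit 13),(Leaf.pt (nat_lit 7) (nat_lit 8) [nat_lit 9,nat_lit 256]))::[]))))) (Srch.rep (nat_lit 129) [] [] [] (Srch.fin [nat_lit 64,nat_lit 16] [nat_lit 0] (((nat_lit 0),(Leaf.pt (nat_lit 11) (nat_lit 8) [nat_lit 4,nat_lit 16,nat_lit 256]))::(((nat_lit 1),(Leaf.pt (nat_lit 7) (nat_lit 8) [nat_lit 10,nat_lit 256]))::(((nat_lit 12),(Leaf.pt (nat_lit 7) (nat_lit 8) [nat_lit 9,nat_lit 256]))::(((nat_lit 13),(Leaf.pt (nat_lit 7) (nat_lit 8) [nat_lit 9,nat_lit 256]))::[]))))) (Srch.rep (nat_lit 140) [] [] [] (Srch.fin [nat_lit 64,nat_lit 16] [nat_lit 0] (((nat_lit 0),(Leaf.pt (nat_lit 11) (nat_lit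 8) [nat_lit 4,nat_lit 16,nat_lit 256]))::(((nat_lit 1),(Leaf.pt (nat_lit 7) (nat_lit 8) [nat_lit 10,nat_lit 256]))::(((nat_lit 12),(Leaf.pt (nat_lit 7) (nat_lit 8) [nat_lit 9,nat_lit 256]))::(((nat_lit 13),(Leaf.pt (nat_lit 7) (nat_lit 8) [nat_lit 9,nat_lit 256]))::[]))))) (Srch.rep (nat_lit 141) [] [] [] (Srch.fin [nat_lit 64,nat_lit 16] [nat_lit 0] (((nat_lit 0),(Leaf.pt (nat_lit 11) (nat_lit 8) [nat_lit 4,nat_lit 16,nat_lit 256]))::(((nat_lit 1),(Leaf.pt (nat_lit 7) (nat_lit 8) [nat_lit 10,nat_lit 256]))::(((nat_lit 12),(Leaf.pt (nat_lit 7) (nat_lit 8) [nat_lit 9,nat_lit 256]))::(((nat_lit 13),(Leaf.pt (nat_lit 7) (nat_lit 8) [nat_lit 9,nat_lit 256]))::[]))))) Srch.nil)))) (Srch.rep (nat_lit 76) [] [] [] (Srch.rep (nat_lit 128) [] [] [] (Srch.fin [nat_lit 64,nat_lit 16] [nat_lit 0] (((nat_lit 0),(Leaf.pt (nat_lit 11) (nat_lit 8) [nat_lit 4,nat_lit 16,nat_lit 256]))::(((nat_lit 1),(Leaf.pt (nat_lit 7) (nat_lit 8) [nat_lit 10,nat_lit 256]))::(((nat_lit 12),(Leaf.pt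 (nat_lit 7) (nat_lit 8) [nat_lit 9,nat_lit 256]))::(((nat_lit 13),(Leaf.pt (nat_lit 7) (nat_lit 8) [nat_lit 9,nat_lit 256]))::[]))))) (Srch.rep (nat_lit 129) [] [] [] (Srch.fin [nat_lit 64,nat_lit 16] [nat_lit 0] (((nat_lit 0),(Leaf.pt (nat_lit 11) (nat_lit 8) [nat_lit 4,nat_lit 16,nat_lit 256]))::(((nat_lit 1),(Leaf.pt (nat_lit 7) (nat_lit 8) [nat_lit 10,nat_lit 256]))::(((nat_lit 12),(Leaf.pt (nat_lit 7) (nat_lit 8) [nat_lit 9,nat_lit 256]))::(((nat_lit 13),(Leaf.pt (nat_lit 7) (nat_lit 8) [nat_lit 9,nat_lit 256]))::[]))))) (Srch.rep (nat_lit 140) [] [] [] (Srch.fin [nat_lit 64,nat_lit 16] [nat_lit 0] (((nat_lit 0),(Leaf.pt (nat_lit 11) (nat_lit 8) [nat_lit 4,nat_lit 16,nat_lit 256]))::(((nat_lit 1),(Leaf.pt (nat_lit 7) (nat_lit 8) [nat_lit 10,nat_lit 256]))::(((nat_lit 12),(Leaf.pt (nat_lit 7) (nat_lit 8) [nat_lit 9,nat_lit 256]))::(((nat_lit 13),(Leaf.pt (nat_lit 7) (nat_lit 8) [nat_lit 9,nat_lit 256]))::[]))))) (Srch.rep (nat_lit 141) [] [] [] (Srch.fin [nat_lit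 64,nat_lit 16] [nat_lit 0] (((nat_lit 0),(Leaf.pt (nat_lit 11) (nat_lit 8) [nat_lit 4,nat_lit 16,nat_lit 256]))::(((nat_lit 1),(Leaf.pt (nat_lit 7) (nat_lit 8) [nat_lit 10,nat_lit 256]))::(((nat_lit 12),(Leaf.pt (nat_lit 7) (nat_lit 8) [nat_lit 9,nat_lit 256]))::(((nat_lit 13),(Leaf.pt (nat_lit 7) (nat_lit 8) [nat_lit 9,nat_lit 256]))::[]))))) Srch.nil)))) (Srch.rep (nat_lit 77) [] [] [] (Srch.rep (nat_lit 128) [] [] [] (Srch.fin [nat_lit 64,nat_lit 16] [nat_lit 0] (((nat_lit 0),(Leaf.pt (nat_lit 11) (nat_lit 8) [nat_lit 4,nat_lit 16,nat_lit 256]))::(((nat_lit 1),(Leaf.pt (nat_lit 7) (nat_lit 8) [nat_lit 10,nat_lit 256]))::(((nat_lit 12),(Leaf.pt (nat_lit 7) (nat_lit 8) [nat_lit 9,nat_lit 256]))::(((nat_lit 13),(Leaf.pt (nat_lit 7) (nat_lit 8) [nat_lit 9,nat_lit 256]))::[]))))) (Srch.rep (nat_lit 129) [] [] [] (Srch.fin [nat_lit 64,nat_lit 16] [nat_lit 0] (((nat_lit 0),(Leaf.pt (nat_lit 11) (nat_lit 8) [nat_lit 4,nat_lit 16,nat_lit 256]))::(((nat_lit 1),(Leaf.pt (nat_lit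 7) (nat_lit 8) [nat_lit 10,nat_lit 256]))::(((nat_lit 12),(Leaf.pt (nat_lit 7) (nat_lit 8) [nat_lit 9,nat_lit 256]))::(((nat_lit 13),(Leaf.pt (nat_lit 7) (nat_lit 8) [nat_lit 9,nat_lit 256]))::[]))))) (Srch.rep (nat_lit 140) [] [] [] (Srch.fin [nat_lit 64,nat_lit 16] [nat_lit 0] (((nat_lit 0),(Leaf.pt (nat_lit 11) (nat_lit 8) [nat_lit 4,nat_lit 16,nat_lit 256]))::(((nat_lit 1),(Leaf.pt (nat_lit 7) (nat_lit 8) [nat_lit 10,nat_lit 256]))::(((nat_lit 12),(Leaf.pt (nat_lit 7) (nat_lit 8) [nat_lit 9,nat_lit 256]))::(((nat_lit 13),(Leaf.pt (nat_lit 7) (nat_lit 8) [nat_lit 9,nat_lit 256]))::[]))))) (Srch.rep (nat_lit 141) [] [] [] (Srch.fin [nat_lit 64,nat_lit 16] [nat_lit 0] (((nat_lit 0),(Leaf.pt (nat_lit 11) (nat_lit 8) [nat_lit 4,nat_lit 16,nat_lit 256]))::(((nat_lit 1),(Leaf.pt (nat_lit 7) (nat_lit 8) [nat_lit 10,nat_lit 256]))::(((nat_lit 12),(Leaf.pt (nat_lit 7) (nat_lit 8) [nat_lit 9,nat_lit 256]))::(((nat_lit 13),(Leaf.pt (nat_lit 7) (nat_lit 8) [nat_lit 9,nat_lit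 256]))::[]))))) Srch.nil)))) Srch.nil)))
noncomputable def c50_1 : Node :=
  Node.st (nat_lit 0) (nat_lit 128) (nat_lit 0) (Node.sp (nat_lit 129) (Node.lf (Leaf.st (nat_lit 1) (nat_lit 4) (nat_lit 129) (Leaf.st (nat_lit 1) (nat_lit 64) (nat_lit 129) (Leaf.pt (nat_lit 8) (nat_lit 129) [nat_lit 18,nat_lit 32])))) (Node.st (nat_lit 0) (nat_lit 129) (nat_lit 0) (Node.ext [] (nat_lit 8) [Ins.fr [nat_lit 0],Ins.ts (nat_lit 1) [nat_lit 0,nat_lit 0] [],Ins.fr [nat_lit 1],Ins.ts (nat_lit 1) [nat_lit 0,nat_lit 0] [],Ins.ts (nat_lit 3) [nat_lit 0,nat_lit 1] [],Ins.ts (nat_lit 3) [nat_lit 0,nat_lit 1,nat_lit 2] [],Ins.fr [nat_lit 2],Ins.ts (nat_lit 3) [nat_lit 0] [],Ins.ts (nat_lit 2) [nat_lit 0,nat_lit 3] [],Ins.ts (nat_lit 0) [nat_lit 0,nat_lit 0] [],Ins.ts (nat_lit 1) [nat_lit 0] [],Ins.ts (nat_lit 2) [nat_lit 2,nat_lit 0,nat_lit 3] [],Ins.ts (nat_lit 0) [nat_lit 2,nat_lit 0,nat_lit 2] [nat_lit 0],Ins.fr [nat_lit 1,nat_lit 1,nat_lit 3],Ins.ts (nat_lit 0) [nat_lit 0,nat_lit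 0] [],Ins.ts (nat_lit 3) [nat_lit 0] [],Ins.ts (nat_lit 2) [nat_lit 2,nat_lit 0] [],Ins.ts (nat_lit 0) [nat_lit 2,nat_lit 0,nat_lit 2] [nat_lit 0],Ins.fr [nat_lit 1,nat_lit 4],Ins.ts (nat_lit 0) [nat_lit 0,nat_lit 0] [nat_lit 2],Ins.ts (nat_lit 0) [nat_lit 5,nat_lit 1,nat_lit 4] [nat_lit 0,nat_lit 3,nat_lit 0],Ins.fr [nat_lit 4,nat_lit 2,nat_lit 5],Ins.ts (nat_lit 0) [nat_lit 0,nat_lit 0] [],Ins.ts (nat_lit 0) [nat_lit 6,nat_lit 1,nat_lit 4] [nat_lit 0,nat_lit 1,nat_lit 0],Ins.df [nat_lit 4,nat_lit 4],Ins.df [nat_lit 0,nat_lit 5,nat_lit 6]] [nat_lit 16,nat_lit 20,nat_lit 2,nat_lit 32,nat_lit 64,nat_lit 128] [nat_lit 1,nat_lit 5,nat_lit 0,nat_lit 8,nat_lit 7,nat_lit 4,nat_lit 3,nat_lit 2] (Srch.rep (nat_lit 8) [nat_lit 2] [nat_lit 16,nat_lit 8,nat_lit 4,nat_lit 2,nat_lit 1] [nat_lit 128,nat_lit 64,nat_lit 32] (Srch.rep (nat_lit 16) [] [] [] (Srch.rep (nat_lit 20) [nat_lit 16] [] [] (Srch.rep (nat_lit 2) [nat_lit 4] [] [] (Srch.rep (nat_lit 32) [] [] [] c50_0 Srch.nil)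 (Srch.rep (nat_lit 18) [nat_lit 4] [] [] (Srch.rep (nat_lit 32) [] [] [] (Srch.rep (nat_lit 150) [] [] [] (Srch.rep (nat_lit 102) [] [] [] (Srch.fin [nat_lit 64] [] []) (Srch.rep (nat_lit 103) [] [] [] (Srch.fin [nat_lit 64] [] []) (Srch.rep (nat_lit 106) [] [] [] (Srch.fin [nat_lit 64] [] []) (Srch.rep (nat_lit 107) [] [] [] (Srch.fin [nat_lit 64] [nat_lit 0] (((nat_lit 16),(Leaf.pt (nat_lit 11) (nat_lit 8) [nat_lit 4,nat_lit 256,nat_lit 1]))::(((nat_lit 17),(Leaf.pt (nat_lit 11) (nat_lit 8) [nat_lit 4,nat_lit 256,nat_lit 1]))::(((nat_lit 28),(Leaf.pt (nat_lit 7) (nat_lit 8) [nat_lit 9,nat_lit 258]))::(((nat_lit 29),(Leaf.pt (nat_lit 7) (nat_lit 8) [nat_lit 9,nat_lit 258]))::[]))))) Srch.nil)))) (Srch.rep (nat_lit 151) [] [] [] (Srch.rep (nat_lit 102) [] [] [] (Srch.fin [nat_lit 64] [] []) (Srch.rep (nat_lit 103) [] [] [] (Srch.fin [nat_lit 64] [] []) (Srch.rep (nat_lit 106) [] [] [] (Srch.fin [nat_lit 64] [nat_lit 0] (((nat_lit 16),(Leaf.pt (nat_lit 11) (nat_lit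 8) [nat_lit 4,nat_lit 256,nat_lit 1]))::(((nat_lit 17),(Leaf.pt (nat_lit 11) (nat_lit 8) [nat_lit 4,nat_lit 256,nat_lit 1]))::(((nat_lit 28),(Leaf.pt (nat_lit 7) (nat_lit 8) [nat_lit 9,nat_lit 258]))::(((nat_lit 29),(Leaf.pt (nat_lit 7) (nat_lit 8) [nat_lit 9,nat_lit 258]))::[]))))) (Srch.rep (nat_lit 107) [] [] [] (Srch.fin [nat_lit 64] [] []) Srch.nil)))) (Srch.rep (nat_lit 154) [] [] [] (Srch.rep (nat_lit 102) [] [] [] (Srch.fin [nat_lit 64] [] []) (Srch.rep (nat_lit 103) [] [] [] (Srch.fin [nat_lit 64] [nat_lit 0] (((nat_lit 16),(Leaf.pt (nat_lit 11) (nat_lit 8) [nat_lit 4,nat_lit 256,nat_lit 1]))::(((nat_lit 17),(Leaf.pt (nat_lit 11) (nat_lit 8) [nat_lit 4,nat_lit 256,nat_lit 1]))::(((nat_lit 28),(Leaf.pt (nat_lit 7) (nat_lit 8) [nat_lit 9,nat_lit 258]))::(((nat_lit 29),(Leaf.pt (nat_lit 7) (nat_lit 8) [nat_lit 9,nat_lit 258]))::[]))))) (Srch.rep (nat_lit 106) [] [] [] (Srch.fin [nat_lit 64] [] []) (Srch.rep (nat_lit 107) [] [] [] (Srch.fin [nat_lit 64] [] [])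 Srch.nil)))) (Srch.rep (nat_lit 155) [] [] [] (Srch.rep (nat_lit 102) [] [] [] (Srch.fin [nat_lit 64] [nat_lit 0] (((nat_lit 16),(Leaf.pt (nat_lit 11) (nat_lit 8) [nat_lit 4,nat_lit 256,nat_lit 1]))::(((nat_lit 17),(Leaf.pt (nat_lit 11) (nat_lit 8) [nat_lit 4,nat_lit 256,nat_lit 1]))::(((nat_lit 28),(Leaf.pt (nat_lit 7) (nat_lit 8) [nat_lit 9,nat_lit 258]))::(((nat_lit 29),(Leaf.pt (nat_lit 7) (nat_lit 8) [nat_lit 9,nat_lit 258]))::[]))))) (Srch.rep (nat_lit 103) [] [] [] (Srch.fin [nat_lit 64] [] []) (Srch.rep (nat_lit 106) [] [] [] (Srch.fin [nat_lit 64] [] []) (Srch.rep (nat_lit 107) [] [] [] (Srch.fin [nat_lit 64] [] []) Srch.nil)))) Srch.nil)))) Srch.nil) Srch.nil)) (Srch.rep (nat_lit 21) [nat_lit 16] [] [] (Srch.rep (nat_lit 2) [nat_lit 4] [] [] (Srch.rep (nat_lit 32) [] [] [] (Srch.rep (nat_lit 66) [] [] [] Srch.nil (Srch.rep (nat_lit 67) [] [] [] Srch.nil (Srch.rep (nat_lit 78) [] [] [] Srch.nil (Srch.rep (nat_lit 79) [] [] [] Srch.nil Srch.nil)))) Srch.nil)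 (Srch.rep (nat_lit 18) [nat_lit 4] [] [] (Srch.rep (nat_lit 32) [] [] [] (Srch.rep (nat_lit 132) [] [] [] Srch.nil (Srch.rep (nat_lit 133) [] [] [] Srch.nil (Srch.rep (nat_lit 136) [] [] [] Srch.nil (Srch.rep (nat_lit 137) [] [] [] Srch.nil Srch.nil)))) Srch.nil) Srch.nil)) (Srch.rep (nat_lit 28) [nat_lit 16] [] [] (Srch.rep (nat_lit 2) [] [] [] Srch.nil (Srch.rep (nat_lit 18) [] [] [] Srch.nil Srch.nil)) (Srch.rep (nat_lit 29) [nat_lit 16] [] [] (Srch.rep (nat_lit 2) [] [] [] Srch.nil (Srch.rep (nat_lit 18) [] [] [] Srch.nil Srch.nil)) Srch.nil)))) (Srch.rep (nat_lit 20) [] [] [] (Srch.rep (nat_lit 16) [] [] [] Srch.nil (Srch.rep (nat_lit 17) [] [] [] Srch.nil (Srch.rep (nat_lit 24) [] [] [] Srch.nil (Srch.rep (nat_lit 25) [] [] [] Srch.nil Srch.nil)))) (Srch.rep (nat_lit 24) [] [] [] (Srch.rep (nat_lit 20) [] [] [] Srch.nil (Srch.rep (nat_lit 21) [] [] [] Srch.nil (Srch.rep (nat_lit 28) [] [] [] Srch.nil (Srch.rep (nat_lit 29) [] [] [] Srch.nil Srch.nil)))) (Srch.rep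 (nat_lit 28) [] [] [] (Srch.rep (nat_lit 16) [] [] [] Srch.nil (Srch.rep (nat_lit 17) [] [] [] Srch.nil (Srch.rep (nat_lit 24) [] [] [] Srch.nil (Srch.rep (nat_lit 25) [] [] [] Srch.nil Srch.nil)))) Srch.nil)))) Srch.nil) Node.done)))
noncomputable def t50 : ℕ := nat_lit 0x9f009f00b300b3008d008d00a000a0008d008d00a000a0009f009f00b300b300b300b3009f009f00a000a0008d008d00a000a0008d008d00b300b3009f009f009f009f00b300b3008d008d00a000a0008d008d00a000a0009f009f00b300b300b300b3009f009f00a000a0008d008d00a000a0008d008d00b300b3009f009f0080008000ac00ac0092009200bf00bf0092009200bf00bf0080008000ac00ac00ac00ac0080008000bf00bf0092009200bf00bf0092009200ac00ac008000800080008000ac00ac0092009200bf00bf0092009200bf00bf0080008000ac00ac00ac00ac0080008000bf00bf0092009200bf00bf0092009200ac00ac00800080009f009f00b300b3008d008d00a000a0008d008d00a000a0009f009f00b300b300b300b3009f009f00a000a0008d008d00a000a0008d008d00b300b3009f009f009f009f00b300b3008d008d00a000a0008d008d00a000a0009f009f00b300b300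b300b3009f009f00a000a0008d008d00a000a0008d008d00b300b3009f009f0080008000ac00ac0092009200bf00bf0092009200bf00bf0080008000ac00ac00ac00ac0080008000bf00bf0092009200bf00bf0092009200ac00ac008000800080008000ac00ac0092009200bf00bf0092009200bf00bf0080008000ac00ac00ac00ac0080008000bf00bf0092009200bf00bf0092009200ac00ac00800080006e006e006e006e006c006c006c006c006c006c006c006c006e006e006e006e0043004300430043004100410041004100410041004100410043004300430043006f006f006f006f006d006d006d006d006d006d006d006d006f006f006f006f0042004200420042004000400040004000400040004000400042004200420042006d006d006d006d006f006f006f006f006f006f006f006f006d006d006d006d0041004100410041004300430043004300430043004300430041004100410041006c006c006c006c006e006e006e006e006e006e006e006e006c006c006c006c004000400040004000420042004200420042004200420042004000400040004000200020002000200021002100210021002100210021002100200020002000200020002000200020002100210021002100210021002100210020002000200020002000200020002000210021002100210021002100210021002000200020002000200020002000200021002100210021002100210021002100200020002000200010001000110011001000100011001100100010001100110010001000110011001100110010001000110011001000100011001100100010001100110010001000080008000800080008000800080008000800080008000800080008000800080004000400040004000400040004000400020002000200020001000100000000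
noncomputable def c50 : Node :=
  (Node.st (nat_lit 0) (nat_lit 8) (nat_lit 0) (Node.sp (nat_lit 1) (Node.lf (Leaf.pt (nat_lit 7) (nat_lit 1) [nat_lit 8,nat_lit 16])) (Node.sp (nat_lit 2) (Node.lf (Leaf.pt (nat_lit 0) (nat_lit 2) [nat_lit 96])) (Node.st (nat_lit 0) (nat_lit 2) (nat_lit 0) (Node.sp (nat_lit 4) (Node.lf (Leaf.pt (nat_lit 7) (nat_lit 4) [nat_lit 8,nat_lit 16])) (Node.st (nat_lit 0) (nat_lit 4) (nat_lit 0) (Node.sp (nat_lit 12) (Node.lf (Leaf.pt (nat_lit 7) (nat_lit 12) [nat_lit 8,nat_lit 16])) (Node.sp (nat_lit 13) (Node.lf (Leaf.pt (nat_lit 7) (nat_lit 13) [nat_lit 8,nat_lit 16])) (Node.sp (nat_lit 14) (Node.lf (Leaf.pt (nat_lit 11) (nat_lit 14) [nat_lit 2,nat_lit 64,nat_lit 1])) (Node.st (nat_lit 0) (nat_lit 14) (nat_lit 0) (Node.sp (nat_lit 18) (Node.lf (Leaf.pt (nat_lit 0) (nat_lit 18) [nat_lit 164])) (Node.st (nat_lit 0) (nat_lit 18) (nat_lit 0) (Node.sp (nat_lit 30) (Node.lf (Leaf.pt (nat_lit 11) (nat_lit 30) [nat_lit 12,nat_lit 132,nat_lit 1]))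 (Node.st (nat_lit 0) (nat_lit 30) (nat_lit 0) (Node.sp (nat_lit 32) (Node.lf (Leaf.pt (nat_lit 0) (nat_lit 32) [nat_lit 84])) (Node.st (nat_lit 0) (nat_lit 32) (nat_lit 0) (Node.sp (nat_lit 44) (Node.lf (Leaf.pt (nat_lit 11) (nat_lit 44) [nat_lit 12,nat_lit 84,nat_lit 1])) (Node.st (nat_lit 0) (nat_lit 44) (nat_lit 0) (Node.sp (nat_lit 68) (Node.lf (Leaf.st (nat_lit 1) (nat_lit 4) (nat_lit 68) (Leaf.st (nat_lit 1) (nat_lit 128) (nat_lit 68) (Leaf.st (nat_lit 1) (nat_lit 144) (nat_lit 68) (Leaf.pt (nat_lit 15) (nat_lit 68) [nat_lit 2,nat_lit 13,nat_lit 32]))))) (Node.st (nat_lit 0) (nat_lit 68) (nat_lit 0) (Node.sp (nat_lit 69) (Node.lf (Leaf.st (nat_lit 1) (nat_lit 4) (nat_lit 69) (Leaf.st (nat_lit 1) (nat_lit 132) (nat_lit 69) (Leaf.pt (nat_lit 8) (nat_lit 69) [nat_lit 2,nat_lit 33])))) (Node.st (nat_lit 0) (nat_lit 69) (nat_lit 0) (Node.sp (nat_lit 128) (Node.lf (Leaf.st (nat_lit 1) (nat_lit 68) (nat_lit 128) (Leaf.st (nat_lit 1) (nat_lit 4) (nat_lit 128) (Leaf.st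 (nat_lit 1) (nat_lit 70) (nat_lit 128) (Leaf.pt (nat_lit 15) (nat_lit 128) [nat_lit 13,nat_lit 18,nat_lit 33]))))) c50_1)))))))))))))))))))))))
theorem ok50 : nodeOK DB PT 50 t50 (nat_lit 0xc00c3003c00c300300000ff000000ff0c33cf00fccccffff) (nat_lit 0x1100000000001100001100000000001111000000000011000011000000000011000000000000000000002222222200000000000000000000000022222222000011000011001111002222000000002222110011001100110044ff4455445544ff) c50 = true := by
  decide +kernel
noncomputable def c51_0 : Srch :=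
  Srch.rep (nat_lit 64) [] [] [] (Srch.rep (nat_lit 128) [] [] [] (Srch.fin [nat_lit 64,nat_lit 16] [nat_lit 0] (((nat_lit 0),(Leaf.pt (nat_lit 11) (nat_lit 8) [nat_lit 4,nat_lit 16,nat_lit 256]))::(((nat_lit 1),(Leaf.pt (nat_lit 7) (nat_lit 8) [nat_lit 10,nat_lit 256]))::(((nat_lit 12),(Leaf.pt (nat_lit 7) (nat_lit 8) [nat_lit 9,nat_lit 256]))::(((nat_lit 13),(Leaf.pt (nat_lit 7) (nat_lit 8) [nat_lit 9,nat_lit 256]))::[]))))) (Srch.rep (nat_lit 129) [] [] [] (Srch.fin [nat_lit 64,nat_lit 16] [nat_lit 0] (((nat_lit 0),(Leaf.pt (nat_lit 11) (nat_lit 8) [nat_lit 4,nat_lit 16,nat_lit 256]))::(((nat_lit 1),(Leaf.pt (nat_lit 7) (nat_lit 8) [nat_lit 10,nat_lit 256]))::(((nat_lit 12),(Leaf.pt (nat_lit 7) (nat_lit 8) [nat_lit 9,nat_lit 256]))::(((nat_lit 13),(Leaf.pt (nat_lit 7) (nat_lit 8) [nat_lit 9,nat_lit 256]))::[]))))) (Srch.rep (nat_lit 140) [] [] [] (Srch.fin [nat_lit 64,nat_lit 16] [nat_lit 0] (((nat_lit 0),(Leaf.pt (nat_lit 11) (nat_lit 8) [nat_lit 4,nat_lit 16,nat_lit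 256]))::(((nat_lit 1),(Leaf.pt (nat_lit 7) (nat_lit 8) [nat_lit 10,nat_lit 256]))::(((nat_lit 12),(Leaf.pt (nat_lit 7) (nat_lit 8) [nat_lit 9,nat_lit 256]))::(((nat_lit 13),(Leaf.pt (nat_lit 7) (nat_lit 8) [nat_lit 9,nat_lit 256]))::[]))))) (Srch.rep (nat_lit 141) [] [] [] (Srch.fin [nat_lit 64,nat_lit 16] [nat_lit 0] (((nat_lit 0),(Leaf.pt (nat_lit 11) (nat_lit 8) [nat_lit 4,nat_lit 16,nat_lit 256]))::(((nat_lit 1),(Leaf.pt (nat_lit 7) (nat_lit 8) [nat_lit 10,nat_lit 256]))::(((nat_lit 12),(Leaf.pt (nat_lit 7) (nat_lit 8) [nat_lit 9,nat_lit 256]))::(((nat_lit 13),(Leaf.pt (nat_lit 7) (nat_lit 8) [nat_lit 9,nat_lit 256]))::[]))))) Srch.nil)))) (Srch.rep (nat_lit 65) [] [] [] (Srch.rep (nat_lit 128) [] [] [] (Srch.fin [nat_lit 64,nat_lit 16] [nat_lit 0] (((nat_lit 0),(Leaf.pt (nat_lit 11) (nat_lit 8) [nat_lit 4,nat_lit 16,nat_lit 256]))::(((nat_lit 1),(Leaf.pt (nat_lit 7) (nat_lit 8) [nat_lit 10,nat_lit 256]))::(((nat_lit 12),(Leaf.pt (nat_lit 7) (nat_lit 8) [nat_lit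 9,nat_lit 256]))::(((nat_lit 13),(Leaf.pt (nat_lit 7) (nat_lit 8) [nat_lit 9,nat_lit 256]))::[]))))) (Srch.rep (nat_lit 129) [] [] [] (Srch.fin [nat_lit 64,nat_lit 16] [nat_lit 0] (((nat_lit 0),(Leaf.pt (nat_lit 11) (nat_lit 8) [nat_lit 4,nat_lit 16,nat_lit 256]))::(((nat_lit 1),(Leaf.pt (nat_lit 7) (nat_lit 8) [nat_lit 10,nat_lit 256]))::(((nat_lit 12),(Leaf.pt (nat_lit 7) (nat_lit 8) [nat_lit 9,nat_lit 256]))::(((nat_lit 13),(Leaf.pt (nat_lit 7) (nat_lit 8) [nat_lit 9,nat_lit 256]))::[]))))) (Srch.rep (nat_lit 140) [] [] [] (Srch.fin [nat_lit 64,nat_lit 16] [nat_lit 0] (((nat_lit 0),(Leaf.pt (nat_lit 11) (nat_lit 8) [nat_lit 4,nat_lit 16,nat_lit 256]))::(((nat_lit 1),(Leaf.pt (nat_lit 7) (nat_lit 8) [nat_lit 10,nat_lit 256]))::(((nat_lit 12),(Leaf.pt (nat_lit 7) (nat_lit 8) [nat_lit 9,nat_lit 256]))::(((nat_lit 13),(Leaf.pt (nat_lit 7) (nat_lit 8) [nat_lit 9,nat_lit 256]))::[]))))) (Srch.rep (nat_lit 141) [] [] [] (Srch.fin [nat_lit 64,nat_lit 16] [nat_lit 0] (((nat_lit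 0),(Leaf.pt (nat_lit 11) (nat_lit 8) [nat_lit 4,nat_lit 16,nat_lit 256]))::(((nat_lit 1),(Leaf.pt (nat_lit 7) (nat_lit 8) [nat_lit 10,nat_lit 256]))::(((nat_lit 12),(Leaf.pt (nat_lit 7) (nat_lit 8) [nat_lit 9,nat_lit 256]))::(((nat_lit 13),(Leaf.pt (nat_lit 7) (nat_lit 8) [nat_lit 9,nat_lit 256]))::[]))))) Srch.nil)))) (Srch.rep (nat_lit 76) [] [] [] (Srch.rep (nat_lit 128) [] [] [] (Srch.fin [nat_lit 64,nat_lit 16] [nat_lit 0] (((nat_lit 0),(Leaf.pt (nat_lit 11) (nat_lit 8) [nat_lit 4,nat_lit 16,nat_lit 256]))::(((nat_lit 1),(Leaf.pt (nat_lit 7) (nat_lit 8) [nat_lit 10,nat_lit 256]))::(((nat_lit 12),(Leaf.pt (nat_lit 7) (nat_lit 8) [nat_lit 9,nat_lit 256]))::(((nat_lit 13),(Leaf.pt (nat_lit 7) (nat_lit 8) [nat_lit 9,nat_lit 256]))::[]))))) (Srch.rep (nat_lit 129) [] [] [] (Srch.fin [nat_lit 64,nat_lit 16] [nat_lit 0] (((nat_lit 0),(Leaf.pt (nat_lit 11) (nat_lit 8) [nat_lit 4,nat_lit 16,nat_lit 256]))::(((nat_lit 1),(Leaf.pt (nat_lit 7) (nat_lit 8) [nat_lit 10,nat_lit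 256]))::(((nat_lit 12),(Leaf.pt (nat_lit 7) (nat_lit 8) [nat_lit 9,nat_lit 256]))::(((nat_lit 13),(Leaf.pt (nat_lit 7) (nat_lit 8) [nat_lit 9,nat_lit 256]))::[]))))) (Srch.rep (nat_lit 140) [] [] [] (Srch.fin [nat_lit 64,nat_lit 16] [nat_lit 0] (((nat_lit 0),(Leaf.pt (nat_lit 11) (nat_lit 8) [nat_lit 4,nat_lit 16,nat_lit 256]))::(((nat_lit 1),(Leaf.pt (nat_lit 7) (nat_lit 8) [nat_lit 10,nat_lit 256]))::(((nat_lit 12),(Leaf.pt (nat_lit 7) (nat_lit 8) [nat_lit 9,nat_lit 256]))::(((nat_lit 13),(Leaf.pt (nat_lit 7) (nat_lit 8) [nat_lit 9,nat_lit 256]))::[]))))) (Srch.rep (nat_lit 141) [] [] [] (Srch.fin [nat_lit 64,nat_lit 16] [nat_lit 0] (((nat_lit 0),(Leaf.pt (nat_lit 11) (nat_lit 8) [nat_lit 4,nat_lit 16,nat_lit 256]))::(((nat_lit 1),(Leaf.pt (nat_lit 7) (nat_lit 8) [nat_lit 10,nat_lit 256]))::(((nat_lit 12),(Leaf.pt (nat_lit 7) (nat_lit 8) [nat_lit 9,nat_lit 256]))::(((nat_lit 13),(Leaf.pt (nat_lit 7) (nat_lit 8) [nat_lit 9,nat_lit 256]))::[]))))) Srch.nil)))) (Srch.rep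 (nat_lit 77) [] [] [] (Srch.rep (nat_lit 128) [] [] [] (Srch.fin [nat_lit 64,nat_lit 16] [nat_lit 0] (((nat_lit 0),(Leaf.pt (nat_lit 11) (nat_lit 8) [nat_lit 4,nat_lit 16,nat_lit 256]))::(((nat_lit 1),(Leaf.pt (nat_lit 7) (nat_lit 8) [nat_lit 10,nat_lit 256]))::(((nat_lit 12),(Leaf.pt (nat_lit 7) (nat_lit 8) [nat_lit 9,nat_lit 256]))::(((nat_lit 13),(Leaf.pt (nat_lit 7) (nat_lit 8) [nat_lit 9,nat_lit 256]))::[]))))) (Srch.rep (nat_lit 129) [] [] [] (Srch.fin [nat_lit 64,nat_lit 16] [nat_lit 0] (((nat_lit 0),(Leaf.pt (nat_lit 11) (nat_lit 8) [nat_lit 4,nat_lit 16,nat_lit 256]))::(((nat_lit 1),(Leaf.pt (nat_lit 7) (nat_lit 8) [nat_lit 10,nat_lit 256]))::(((nat_lit 12),(Leaf.pt (nat_lit 7) (nat_lit 8) [nat_lit 9,nat_lit 256]))::(((nat_lit 13),(Leaf.pt (nat_lit 7) (nat_lit 8) [nat_lit 9,nat_lit 256]))::[]))))) (Srch.rep (nat_lit 140) [] [] [] (Srch.fin [nat_lit 64,nat_lit 16] [nat_lit 0] (((nat_lit 0),(Leaf.pt (nat_lit 11) (nat_lit 8) [nat_lit 4,nat_lit 16,nat_lit 256]))::(((nat_lit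 1),(Leaf.pt (nat_lit 7) (nat_lit 8) [nat_lit 10,nat_lit 256]))::(((nat_lit 12),(Leaf.pt (nat_lit 7) (nat_lit 8) [nat_lit 9,nat_lit 256]))::(((nat_lit 13),(Leaf.pt (nat_lit 7) (nat_lit 8) [nat_lit 9,nat_lit 256]))::[]))))) (Srch.rep (nat_lit 141) [] [] [] (Srch.fin [nat_lit 64,nat_lit 16] [nat_lit 0] (((nat_lit 0),(Leaf.pt (nat_lit 11) (nat_lit 8) [nat_lit 4,nat_lit 16,nat_lit 256]))::(((nat_lit 1),(Leaf.pt (nat_lit 7) (nat_lit 8) [nat_lit 10,nat_lit 256]))::(((nat_lit 12),(Leaf.pt (nat_lit 7) (nat_lit 8) [nat_lit 9,nat_lit 256]))::(((nat_lit 13),(Leaf.pt (nat_lit 7) (nat_lit 8) [nat_lit 9,nat_lit 256]))::[]))))) Srch.nil)))) Srch.nil)))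
noncomputable def t51 : ℕ := nat_lit 0x9e009e00b200b2008c008c00a100a1008c008c00a100a1009e009e00b200b200b200b2009e009e00a100a1008c008c00a100a1008c008c00b200b2009e009e009e009e00b200b2008c008c00a100a1008c008c00a100a1009e009e00b200b200b200b2009e009e00a100a1008c008c00a100a1008c008c00b200b2009e009e0081008100ad00ad0093009300be00be0093009300be00be0081008100ad00ad00ad00ad0081008100be00be0093009300be00be0093009300ad00ad008100810081008100ad00ad0093009300be00be0093009300be00be0081008100ad00ad00ad00ad0081008100be00be0093009300be00be0093009300ad00ad00810081009f009f00b300b3008d008d00a000a0008d008d00a000a0009f009f00b300b300b300b3009f009f00a000a0008d008d00a000a0008d008d00b300b3009f009f009f009f00b300b3008d008d00a000a0008d008d00a000a0009f009f00b300b300b300b3009f009f00a000a0008d008d00a000a0008d008d00b300b3009f009f0080008000ac00ac0092009200bf00bf0092009200bf00bf0080008000ac00ac00ac00ac0080008000bf00bf0092009200bf00bf0092009200ac00ac008000800080008000ac00ac0092009200bf00bf0092009200bf0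0bf0080008000ac00ac00ac00ac0080008000bf00bf0092009200bf00bf0092009200ac00ac00800080006e006e006e006e006c006c006c006c006c006c006c006c006e006e006e006e0043004300430043004100410041004100410041004100410043004300430043006f006f006f006f006d006d006d006d006d006d006d006d006f006f006f006f0042004200420042004000400040004000400040004000400042004200420042006d006d006d006d006f006f006f006f006f006f006f006f006d006d006d006d0041004100410041004300430043004300430043004300430041004100410041006c006c006c006c006e006e006e006e006e006e006e006e006c006c006c006c004000400040004000420042004200420042004200420042004000400040004000200020002000200021002100210021002100210021002100200020002000200020002000200020002100210021002100210021002100210020002000200020002000200020002000210021002100210021002100210021002000200020002000200020002000200021002100210021002100210021002100200020002000200010001000110011001000100011001100100010001100110010001000110011001100110010001000110011001000100011001100100010001100110010001000080008000800080008000800080008000800080008000800080008000800080004000400040004000400040004000400020002000200020001000100000000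
noncomputable def c51 : Node :=
  (Node.st (nat_lit 0) (nat_lit 8) (nat_lit 0) (Node.sp (nat_lit 1) (Node.lf (Leaf.pt (nat_lit 7) (nat_lit 1) [nat_lit 8,nat_lit 16])) (Node.sp (nat_lit 2) (Node.lf (Leaf.pt (nat_lit 0) (nat_lit 2) [nat_lit 96])) (Node.st (nat_lit 0) (nat_lit 2) (nat_lit 0) (Node.sp (nat_lit 4) (Node.lf (Leaf.pt (nat_lit 7) (nat_lit 4) [nat_lit 8,nat_lit 16])) (Node.st (nat_lit 0) (nat_lit 4) (nat_lit 0) (Node.sp (nat_lit 12) (Node.lf (Leaf.pt (nat_lit 7) (nat_lit 12) [nat_lit 8,nat_lit 16])) (Node.sp (nat_lit 13) (Node.lf (Leaf.pt (nat_lit 7) (nat_lit 13) [nat_lit 8,nat_lit 16])) (Node.sp (nat_lit 14) (Node.lf (Leaf.pt (nat_lit 11) (nat_lit 14) [nat_lit 2,nat_lit 64,nat_lit 1])) (Node.st (nat_lit 0) (nat_lit 14) (nat_lit 0) (Node.sp (nat_lit 18) (Node.lf (Leaf.pt (nat_lit 0) (nat_lit 18) [nat_lit 132])) (Node.st (nat_lit 0) (nat_lit 18) (nat_lit 0) (Node.sp (nat_lit 30) (Node.lf (Leaf.pt (nat_lit 11) (nat_lit 30) [nat_lit 12,nat_lit 128,nat_lit 32]))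 (Node.st (nat_lit 0) (nat_lit 30) (nat_lit 0) (Node.sp (nat_lit 32) (Node.lf (Leaf.pt (nat_lit 11) (nat_lit 32) [nat_lit 18,nat_lit 128,nat_lit 12])) (Node.st (nat_lit 0) (nat_lit 32) (nat_lit 0) (Node.sp (nat_lit 44) (Node.lf (Leaf.pt (nat_lit 11) (nat_lit 44) [nat_lit 12,nat_lit 84,nat_lit 1])) (Node.st (nat_lit 0) (nat_lit 44) (nat_lit 0) (Node.sp (nat_lit 68) (Node.lf (Leaf.st (nat_lit 1) (nat_lit 4) (nat_lit 68) (Leaf.st (nat_lit 1) (nat_lit 128) (nat_lit 68) (Leaf.st (nat_lit 1) (nat_lit 144) (nat_lit 68) (Leaf.pt (nat_lit 15) (nat_lit 68) [nat_lit 2,nat_lit 13,nat_lit 32]))))) (Node.st (nat_lit 0) (nat_lit 68) (nat_lit 0) (Node.sp (nat_lit 69) (Node.lf (Leaf.st (nat_lit 1) (nat_lit 4) (nat_lit 69) (Leaf.st (nat_lit 1) (nat_lit 132) (nat_lit 69) (Leaf.pt (nat_lit 8) (nat_lit 69) [nat_lit 2,nat_lit 33])))) (Node.st (nat_lit 0) (nat_lit 69) (nat_lit 0) (Node.ext [] (nat_lit 8) [Ins.fr [nat_lit 0],Ins.ts (nat_lit 1) [nat_lit 0,nat_lit 0] [],Ins.fr [nat_lit 1],Ins.ts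 (nat_lit 1) [nat_lit 0,nat_lit 0] [],Ins.ts (nat_lit 3) [nat_lit 0,nat_lit 1] [],Ins.ts (nat_lit 3) [nat_lit 0,nat_lit 1,nat_lit 2] [],Ins.fr [nat_lit 2],Ins.ts (nat_lit 3) [nat_lit 0] [],Ins.ts (nat_lit 2) [nat_lit 0,nat_lit 3] [],Ins.ts (nat_lit 0) [nat_lit 0,nat_lit 0] [],Ins.ts (nat_lit 1) [nat_lit 0] [],Ins.ts (nat_lit 2) [nat_lit 2,nat_lit 0,nat_lit 3] [],Ins.ts (nat_lit 0) [nat_lit 2,nat_lit 0,nat_lit 2] [nat_lit 0],Ins.fr [nat_lit 1,nat_lit 1,nat_lit 3],Ins.ts (nat_lit 0) [nat_lit 0,nat_lit 0] [],Ins.ts (nat_lit 3) [nat_lit 0] [],Ins.ts (nat_lit 2) [nat_lit 2,nat_lit 0] [],Ins.ts (nat_lit 0) [nat_lit 2,nat_lit 0,nat_lit 2] [nat_lit 0],Ins.fr [nat_lit 1,nat_lit 4],Ins.ts (nat_lit 0) [nat_lit 0,nat_lit 0] [nat_lit 2],Ins.ts (nat_lit 0) [nat_lit 5,nat_lit 1,nat_lit 4] [nat_lit 0,nat_lit 3,nat_lit 0],Ins.fr [nat_lit 4,nat_lit 2,nat_lit 5],Ins.ts (nat_lit 0) [nat_lit 5,nat_lit 5] [nat_lit 0,nat_lit 0],Ins.ts (nat_lit 0) [nat_lit 6,nat_lit 0,nat_lit 1] [nat_lit 1,nat_lit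 4,nat_lit 0],Ins.df [nat_lit 0,nat_lit 0],Ins.df [nat_lit 0,nat_lit 5,nat_lit 6]] [nat_lit 16,nat_lit 20,nat_lit 2,nat_lit 32,nat_lit 64,nat_lit 128] [nat_lit 1,nat_lit 5,nat_lit 0,nat_lit 8,nat_lit 7,nat_lit 4,nat_lit 3,nat_lit 2] (Srch.rep (nat_lit 8) [nat_lit 2] [nat_lit 16,nat_lit 8,nat_lit 4,nat_lit 2,nat_lit 1] [nat_lit 128,nat_lit 64,nat_lit 32] (Srch.rep (nat_lit 16) [] [] [] (Srch.rep (nat_lit 20) [nat_lit 16] [] [] (Srch.rep (nat_lit 2) [nat_lit 4] [] [] (Srch.rep (nat_lit 32) [] [] [] c51_0 Srch.nil) (Srch.rep (nat_lit 18) [nat_lit 4] [] [] (Srch.rep (nat_lit 32) [] [] [] Srch.nil Srch.nil) Srch.nil)) (Srch.rep (nat_lit 21) [nat_lit 16] [] [] (Srch.rep (nat_lit 2) [nat_lit 4] [] [] (Srch.rep (nat_lit 32) [] [] [] (Srch.rep (nat_lit 66) [] [] [] Srch.nil (Srch.rep (nat_lit 67) [] [] [] Srch.nil (Srch.rep (nat_lit 78) [] [] [] Srch.nil (Srch.rep (nat_lit 79) [] [] [] Srch.nil Srch.nil)))) Srch.nil) (Srch.rep (nat_lit 18) [nat_lit 4] [] [] (Srch.rep (nat_lit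 32) [] [] [] Srch.nil Srch.nil) Srch.nil)) (Srch.rep (nat_lit 28) [nat_lit 16] [] [] (Srch.rep (nat_lit 2) [] [] [] Srch.nil (Srch.rep (nat_lit 18) [] [] [] Srch.nil Srch.nil)) (Srch.rep (nat_lit 29) [nat_lit 16] [] [] (Srch.rep (nat_lit 2) [] [] [] Srch.nil (Srch.rep (nat_lit 18) [] [] [] Srch.nil Srch.nil)) Srch.nil)))) (Srch.rep (nat_lit 20) [] [] [] (Srch.rep (nat_lit 16) [] [] [] Srch.nil (Srch.rep (nat_lit 17) [] [] [] Srch.nil (Srch.rep (nat_lit 24) [] [] [] Srch.nil (Srch.rep (nat_lit 25) [] [] [] Srch.nil Srch.nil)))) (Srch.rep (nat_lit 24) [] [] [] (Srch.rep (nat_lit 20) [] [] [] Srch.nil (Srch.rep (nat_lit 21) [] [] [] Srch.nil (Srch.rep (nat_lit 28) [] [] [] Srch.nil (Srch.rep (nat_lit 29) [] [] [] Srch.nil Srch.nil)))) (Srch.rep (nat_lit 28) [] [] [] (Srch.rep (nat_lit 16) [] [] [] Srch.nil (Srch.rep (nat_lit 17) [] [] [] Srch.nil (Srch.rep (nat_lit 24) [] [] [] Srch.nil (Srch.rep (nat_lit 25) [] [] [] Srch.nil Srch.nil)))) Srch.nil)))) Srch.nil) Node.done)))))))))))))))))))))))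
theorem ok51 : nodeOK DB PT 51 t51 (nat_lit 0xff000000ff0c33cf00fccccffff) (nat_lit 0x2222222200000000000000000000000022222222000011000011001111002222000000002222110011001100110044ff4455445544ff) c51 = true := by
  decide +kernel
noncomputable def c52_0 : Srch :=
  Srch.rep (nat_lit 64) [] [] [] (Srch.rep (nat_lit 128) [] [] [] (Srch.fin [nat_lit 64,nat_lit 16] [nat_lit 0] (((nat_lit 0),(Leaf.pt (nat_lit 11) (nat_lit 8) [nat_lit 4,nat_lit 16,nat_lit 256]))::(((nat_lit 1),(Leaf.pt (nat_lit 7) (nat_lit 8) [nat_lit 10,nat_lit 256]))::(((nat_lit 12),(Leaf.pt (nat_lit 7) (nat_lit 8) [nat_lit 9,nat_lit 256]))::(((nat_lit 13),(Leaf.pt (nat_lit 7) (nat_lit 8) [nat_lit 9,nat_lit 256]))::[]))))) (Srch.rep (nat_lit 129) [] [] [] (Srch.fin [nat_lit 64,nat_lit 16] [nat_lit 0] (((nat_lit 0),(Leaf.pt (nat_lit 11) (nat_lit 8) [nat_lit 4,nat_lit 16,nat_lit 256]))::(((nat_lit 1),(Leaf.pt (nat_lit 7) (nat_lit 8) [nat_lit 10,nat_lit 256]))::(((nat_lit 12),(Leaf.pt (nat_lit 7) (nat_lit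 8) [nat_lit 9,nat_lit 256]))::(((nat_lit 13),(Leaf.pt (nat_lit 7) (nat_lit 8) [nat_lit 9,nat_lit 256]))::[]))))) (Srch.rep (nat_lit 140) [] [] [] (Srch.fin [nat_lit 64,nat_lit 16] [nat_lit 0] (((nat_lit 0),(Leaf.pt (nat_lit 11) (nat_lit 8) [nat_lit 4,nat_lit 16,nat_lit 256]))::(((nat_lit 1),(Leaf.pt (nat_lit 7) (nat_lit 8) [nat_lit 10,nat_lit 256]))::(((nat_lit 12),(Leaf.pt (nat_lit 7) (nat_lit 8) [nat_lit 9,nat_lit 256]))::(((nat_lit 13),(Leaf.pt (nat_lit 7) (nat_lit 8) [nat_lit 9,nat_lit 256]))::[]))))) (Srch.rep (nat_lit 141) [] [] [] (Srch.fin [nat_lit 64,nat_lit 16] [nat_lit 0] (((nat_lit 0),(Leaf.pt (nat_lit 11) (nat_lit 8) [nat_lit 4,nat_lit 16,nat_lit 256]))::(((nat_lit 1),(Leaf.pt (nat_lit 7) (nat_lit 8) [nat_lit 10,nat_lit 256]))::(((nat_lit 12),(Leaf.pt (nat_lit 7) (nat_lit 8) [nat_lit 9,nat_lit 256]))::(((nat_lit 13),(Leaf.pt (nat_lit 7) (nat_lit 8) [nat_lit 9,nat_lit 256]))::[]))))) Srch.nil)))) (Srch.rep (nat_lit 65) [] [] [] (Srch.rep (nat_lit 128) []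 [] [] (Srch.fin [nat_lit 64,nat_lit 16] [nat_lit 0] (((nat_lit 0),(Leaf.pt (nat_lit 11) (nat_lit 8) [nat_lit 4,nat_lit 16,nat_lit 256]))::(((nat_lit 1),(Leaf.pt (nat_lit 7) (nat_lit 8) [nat_lit 10,nat_lit 256]))::(((nat_lit 12),(Leaf.pt (nat_lit 7) (nat_lit 8) [nat_lit 9,nat_lit 256]))::(((nat_lit 13),(Leaf.pt (nat_lit 7) (nat_lit 8) [nat_lit 9,nat_lit 256]))::[]))))) (Srch.rep (nat_lit 129) [] [] [] (Srch.fin [nat_lit 64,nat_lit 16] [nat_lit 0] (((nat_lit 0),(Leaf.pt (nat_lit 11) (nat_lit 8) [nat_lit 4,nat_lit 16,nat_lit 256]))::(((nat_lit 1),(Leaf.pt (nat_lit 7) (nat_lit 8) [nat_lit 10,nat_lit 256]))::(((nat_lit 12),(Leaf.pt (nat_lit 7) (nat_lit 8) [nat_lit 9,nat_lit 256]))::(((nat_lit 13),(Leaf.pt (nat_lit 7) (nat_lit 8) [nat_lit 9,nat_lit 256]))::[]))))) (Srch.rep (nat_lit 140) [] [] [] (Srch.fin [nat_lit 64,nat_lit 16] [nat_lit 0] (((nat_lit 0),(Leaf.pt (nat_lit 11) (nat_lit 8) [nat_lit 4,nat_lit 16,nat_lit 256]))::(((nat_lit 1),(Leaf.pt (nat_lit 7) (nat_lit 8)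 [nat_lit 10,nat_lit 256]))::(((nat_lit 12),(Leaf.pt (nat_lit 7) (nat_lit 8) [nat_lit 9,nat_lit 256]))::(((nat_lit 13),(Leaf.pt (nat_lit 7) (nat_lit 8) [nat_lit 9,nat_lit 256]))::[]))))) (Srch.rep (nat_lit 141) [] [] [] (Srch.fin [nat_lit 64,nat_lit 16] [nat_lit 0] (((nat_lit 0),(Leaf.pt (nat_lit 11) (nat_lit 8) [nat_lit 4,nat_lit 16,nat_lit 256]))::(((nat_lit 1),(Leaf.pt (nat_lit 7) (nat_lit 8) [nat_lit 10,nat_lit 256]))::(((nat_lit 12),(Leaf.pt (nat_lit 7) (nat_lit 8) [nat_lit 9,nat_lit 256]))::(((nat_lit 13),(Leaf.pt (nat_lit 7) (nat_lit 8) [nat_lit 9,nat_lit 256]))::[]))))) Srch.nil)))) (Srch.rep (nat_lit 76) [] [] [] (Srch.rep (nat_lit 128) [] [] [] (Srch.fin [nat_lit 64,nat_lit 16] [nat_lit 0] (((nat_lit 0),(Leaf.pt (nat_lit 11) (nat_lit 8) [nat_lit 4,nat_lit 16,nat_lit 256]))::(((nat_lit 1),(Leaf.pt (nat_lit 7) (nat_lit 8) [nat_lit 10,nat_lit 256]))::(((nat_lit 12),(Leaf.pt (nat_lit 7) (nat_lit 8) [nat_lit 9,nat_lit 256]))::(((nat_lit 13),(Leaf.pt (nat_lit 7)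 (nat_lit 8) [nat_lit 9,nat_lit 256]))::[]))))) (Srch.rep (nat_lit 129) [] [] [] (Srch.fin [nat_lit 64,nat_lit 16] [nat_lit 0] (((nat_lit 0),(Leaf.pt (nat_lit 11) (nat_lit 8) [nat_lit 4,nat_lit 16,nat_lit 256]))::(((nat_lit 1),(Leaf.pt (nat_lit 7) (nat_lit 8) [nat_lit 10,nat_lit 256]))::(((nat_lit 12),(Leaf.pt (nat_lit 7) (nat_lit 8) [nat_lit 9,nat_lit 256]))::(((nat_lit 13),(Leaf.pt (nat_lit 7) (nat_lit 8) [nat_lit 9,nat_lit 256]))::[]))))) (Srch.rep (nat_lit 140) [] [] [] (Srch.fin [nat_lit 64,nat_lit 16] [nat_lit 0] (((nat_lit 0),(Leaf.pt (nat_lit 11) (nat_lit 8) [nat_lit 4,nat_lit 16,nat_lit 256]))::(((nat_lit 1),(Leaf.pt (nat_lit 7) (nat_lit 8) [nat_lit 10,nat_lit 256]))::(((nat_lit 12),(Leaf.pt (nat_lit 7) (nat_lit 8) [nat_lit 9,nat_lit 256]))::(((nat_lit 13),(Leaf.pt (nat_lit 7) (nat_lit 8) [nat_lit 9,nat_lit 256]))::[]))))) (Srch.rep (nat_lit 141) [] [] [] (Srch.fin [nat_lit 64,nat_lit 16] [nat_lit 0] (((nat_lit 0),(Leaf.pt (nat_lit 11) (nat_lit 8) [nat_lit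 4,nat_lit 16,nat_lit 256]))::(((nat_lit 1),(Leaf.pt (nat_lit 7) (nat_lit 8) [nat_lit 10,nat_lit 256]))::(((nat_lit 12),(Leaf.pt (nat_lit 7) (nat_lit 8) [nat_lit 9,nat_lit 256]))::(((nat_lit 13),(Leaf.pt (nat_lit 7) (nat_lit 8) [nat_lit 9,nat_lit 256]))::[]))))) Srch.nil)))) (Srch.rep (nat_lit 77) [] [] [] (Srch.rep (nat_lit 128) [] [] [] (Srch.fin [nat_lit 64,nat_lit 16] [nat_lit 0] (((nat_lit 0),(Leaf.pt (nat_lit 11) (nat_lit 8) [nat_lit 4,nat_lit 16,nat_lit 256]))::(((nat_lit 1),(Leaf.pt (nat_lit 7) (nat_lit 8) [nat_lit 10,nat_lit 256]))::(((nat_lit 12),(Leaf.pt (nat_lit 7) (nat_lit 8) [nat_lit 9,nat_lit 256]))::(((nat_lit 13),(Leaf.pt (nat_lit 7) (nat_lit 8) [nat_lit 9,nat_lit 256]))::[]))))) (Srch.rep (nat_lit 129) [] [] [] (Srch.fin [nat_lit 64,nat_lit 16] [nat_lit 0] (((nat_lit 0),(Leaf.pt (nat_lit 11) (nat_lit 8) [nat_lit 4,nat_lit 16,nat_lit 256]))::(((nat_lit 1),(Leaf.pt (nat_lit 7) (nat_lit 8) [nat_lit 10,nat_lit 256]))::(((nat_lit 12),(Leaf.pt (nat_lit 7)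 (nat_lit 8) [nat_lit 9,nat_lit 256]))::(((nat_lit 13),(Leaf.pt (nat_lit 7) (nat_lit 8) [nat_lit 9,nat_lit 256]))::[]))))) (Srch.rep (nat_lit 140) [] [] [] (Srch.fin [nat_lit 64,nat_lit 16] [nat_lit 0] (((nat_lit 0),(Leaf.pt (nat_lit 11) (nat_lit 8) [nat_lit 4,nat_lit 16,nat_lit 256]))::(((nat_lit 1),(Leaf.pt (nat_lit 7) (nat_lit 8) [nat_lit 10,nat_lit 256]))::(((nat_lit 12),(Leaf.pt (nat_lit 7) (nat_lit 8) [nat_lit 9,nat_lit 256]))::(((nat_lit 13),(Leaf.pt (nat_lit 7) (nat_lit 8) [nat_lit 9,nat_lit 256]))::[]))))) (Srch.rep (nat_lit 141) [] [] [] (Srch.fin [nat_lit 64,nat_lit 16] [nat_lit 0] (((nat_lit 0),(Leaf.pt (nat_lit 11) (nat_lit 8) [nat_lit 4,nat_lit 16,nat_lit 256]))::(((nat_lit 1),(Leaf.pt (nat_lit 7) (nat_lit 8) [nat_lit 10,nat_lit 256]))::(((nat_lit 12),(Leaf.pt (nat_lit 7) (nat_lit 8) [nat_lit 9,nat_lit 256]))::(((nat_lit 13),(Leaf.pt (nat_lit 7) (nat_lit 8) [nat_lit 9,nat_lit 256]))::[]))))) Srch.nil)))) Srch.nil)))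
noncomputable def t52 : ℕ := nat_lit 0x92009200be00be0080008000ad00ad0080008000ad00ad0092009200be00be00be00be0092009200ad00ad0080008000ad00ad0080008000be00be009200920092009200be00be0080008000ad00ad0080008000ad00ad0092009200be00be00be00be0092009200ad00ad0080008000ad00ad0080008000be00be00920092008d008d00a100a1009f009f00b200b2009f009f00b200b2008d008d00a100a100a100a1008d008d00b200b2009f009f00b200b2009f009f00a100a1008d008d008d008d00a100a1009f009f00b200b2009f009f00b200b2008d008d00a100a100a100a1008d008d00b200b2009f009f00b200b2009f009f00a100a1008d008d009f009f00b300b3008d008d00a000a0008d008d00a000a0009f009f00b300b300b300b3009f009f00a000a0008d008d00a000a0008d008d00b300b3009f009f009f009f00b300b3008d008d00a000a0008d008d00a000a0009f009f00b300b300b300b3009f009f00a000a0008d008d00a000a0008d008d00b300b3009f009f0080008000ac00ac0092009200bf00bf0092009200bf00bf0080008000ac00ac00ac00ac0080008000bf00bf0092009200bf00bf0092009200ac00ac008000800080008000ac00ac0092009200bf00bf0092009200bf0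0bf0080008000ac00ac00ac00ac0080008000bf00bf0092009200bf00bf0092009200ac00ac00800080006e006e006e006e006c006c006c006c006c006c006c006c006e006e006e006e0043004300430043004100410041004100410041004100410043004300430043006f006f006f006f006d006d006d006d006d006d006d006d006f006f006f006f0042004200420042004000400040004000400040004000400042004200420042006d006d006d006d006f006f006f006f006f006f006f006f006d006d006d006d0041004100410041004300430043004300430043004300430041004100410041006c006c006c006c006e006e006e006e006e006e006e006e006c006c006c006c004000400040004000420042004200420042004200420042004000400040004000200020002000200021002100210021002100210021002100200020002000200020002000200020002100210021002100210021002100210020002000200020002000200020002000210021002100210021002100210021002000200020002000200020002000200021002100210021002100210021002100200020002000200010001000110011001000100011001100100010001100110010001000110011001100110010001000110011001000100011001100100010001100110010001000080008000800080008000800080008000800080008000800080008000800080004000400040004000400040004000400020002000200020001000100000000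
noncomputable def c52 : Node :=
  (Node.st (nat_lit 0) (nat_lit 8) (nat_lit 0) (Node.sp (nat_lit 1) (Node.lf (Leaf.pt (nat_lit 7) (nat_lit 1) [nat_lit 8,nat_lit 16])) (Node.sp (nat_lit 2) (Node.lf (Leaf.pt (nat_lit 0) (nat_lit 2) [nat_lit 96])) (Node.st (nat_lit 0) (nat_lit 2) (nat_lit 0) (Node.sp (nat_lit 4) (Node.lf (Leaf.pt (nat_lit 7) (nat_lit 4) [nat_lit 8,nat_lit 16])) (Node.st (nat_lit 0) (nat_lit 4) (nat_lit 0) (Node.sp (nat_lit 12) (Node.lf (Leaf.pt (nat_lit 7) (nat_lit 12) [nat_lit 8,nat_lit 16])) (Node.sp (nat_lit 13) (Node.lf (Leaf.pt (nat_lit 7) (nat_lit 13) [nat_lit 8,nat_lit 16])) (Node.sp (nat_lit 14) (Node.lf (Leaf.pt (nat_lit 11) (nat_lit 14) [nat_lit 2,nat_lit 64,nat_lit 1])) (Node.st (nat_lit 0) (nat_lit 14) (nat_lit 0) (Node.sp (nat_lit 18) (Node.lf (Leaf.pt (nat_lit 0) (nat_lit 18) [nat_lit 132])) (Node.st (nat_lit 0) (nat_lit 18) (nat_lit 0) (Node.sp (nat_lit 30) (Node.lf (Leaf.pt (nat_lit 11) (nat_lit 30) [nat_lit 12,nat_lit 128,nat_lit 32]))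 (Node.st (nat_lit 0) (nat_lit 30) (nat_lit 0) (Node.sp (nat_lit 32) (Node.lf (Leaf.pt (nat_lit 11) (nat_lit 32) [nat_lit 18,nat_lit 128,nat_lit 1])) (Node.st (nat_lit 0) (nat_lit 32) (nat_lit 0) (Node.sp (nat_lit 44) (Node.lf (Leaf.pt (nat_lit 11) (nat_lit 44) [nat_lit 12,nat_lit 84,nat_lit 1])) (Node.st (nat_lit 0) (nat_lit 44) (nat_lit 0) (Node.sp (nat_lit 68) (Node.lf (Leaf.st (nat_lit 1) (nat_lit 4) (nat_lit 68) (Leaf.st (nat_lit 1) (nat_lit 128) (nat_lit 68) (Leaf.st (nat_lit 1) (nat_lit 144) (nat_lit 68) (Leaf.pt (nat_lit 15) (nat_lit 68) [nat_lit 2,nat_lit 13,nat_lit 32]))))) (Node.st (nat_lit 0) (nat_lit 68) (nat_lit 0) (Node.sp (nat_lit 69) (Node.lf (Leaf.st (nat_lit 1) (nat_lit 4) (nat_lit 69) (Leaf.st (nat_lit 1) (nat_lit 132) (nat_lit 69) (Leaf.pt (nat_lit 8) (nat_lit 69) [nat_lit 2,nat_lit 33])))) (Node.st (nat_lit 0) (nat_lit 69) (nat_lit 0) (Node.sp (nat_lit 196) (Node.lf (Leaf.st (nat_lit 1) (nat_lit 16) (nat_lit 196) (Leaf.st (nat_lit 1) (nat_lit 84)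 (nat_lit 196) (Leaf.st (nat_lit 1) (nat_lit 86) (nat_lit 196) (Leaf.pt (nat_lit 15) (nat_lit 196) [nat_lit 1,nat_lit 12,nat_lit 32]))))) (Node.st (nat_lit 0) (nat_lit 196) (nat_lit 0) (Node.ext [] (nat_lit 8) [Ins.fr [nat_lit 0],Ins.ts (nat_lit 1) [nat_lit 0,nat_lit 0] [],Ins.fr [nat_lit 1],Ins.ts (nat_lit 1) [nat_lit 0,nat_lit 0] [],Ins.ts (nat_lit 3) [nat_lit 0,nat_lit 1] [],Ins.ts (nat_lit 3) [nat_lit 0,nat_lit 1,nat_lit 2] [],Ins.fr [nat_lit 2],Ins.ts (nat_lit 3) [nat_lit 0] [],Ins.ts (nat_lit 2) [nat_lit 0,nat_lit 3] [],Ins.ts (nat_lit 0) [nat_lit 0,nat_lit 0] [],Ins.ts (nat_lit 1) [nat_lit 0] [],Ins.ts (nat_lit 2) [nat_lit 2,nat_lit 0,nat_lit 3] [],Ins.ts (nat_lit 0) [nat_lit 2,nat_lit 0,nat_lit 2] [nat_lit 0],Ins.fr [nat_lit 1,nat_lit 1,nat_lit 3],Ins.ts (nat_lit 0) [nat_lit 0,nat_lit 0] [],Ins.ts (nat_lit 3) [nat_lit 0] [],Ins.ts (nat_lit 2) [nat_lit 2,nat_lit 0] [],Ins.ts (nat_lit 0) [nat_lit 2,nat_lit 0,nat_lit 2] [nat_lit 0],Ins.fr [nat_lit 1,nat_lit 4],Ins.ts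 (nat_lit 0) [nat_lit 0,nat_lit 0] [nat_lit 2],Ins.ts (nat_lit 0) [nat_lit 5,nat_lit 1,nat_lit 4] [nat_lit 0,nat_lit 3,nat_lit 0],Ins.fr [nat_lit 4,nat_lit 2,nat_lit 5],Ins.ts (nat_lit 0) [nat_lit 6,nat_lit 0,nat_lit 0] [nat_lit 4,nat_lit 5],Ins.ts (nat_lit 0) [nat_lit 6,nat_lit 2,nat_lit 0] [nat_lit 3,nat_lit 0,nat_lit 4],Ins.df [nat_lit 4,nat_lit 4],Ins.df [nat_lit 0,nat_lit 5,nat_lit 6]] [nat_lit 16,nat_lit 20,nat_lit 2,nat_lit 32,nat_lit 64,nat_lit 128] [nat_lit 1,nat_lit 5,nat_lit 0,nat_lit 8,nat_lit 7,nat_lit 4,nat_lit 3,nat_lit 2] (Srch.rep (nat_lit 8) [nat_lit 2] [nat_lit 16,nat_lit 8,nat_lit 4,nat_lit 2,nat_lit 1] [nat_lit 128,nat_lit 64,nat_lit 32] (Srch.rep (nat_lit 16) [] [] [] (Srch.rep (nat_lit 20) [nat_lit 16] [] [] (Srch.rep (nat_lit 2) [nat_lit 4] [] [] (Srch.rep (nat_lit 32) [] [] [] c52_0 Srch.nil) (Srch.rep (nat_lit 18) [nat_lit 4] [] [] (Srch.rep (nat_lit 32) [] [] [] Srch.nil Srch.nil) Srch.nil)) (Srch.rep (nat_lit 21) [nat_lit 16] [] [] (Srch.rep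 (nat_lit 2) [nat_lit 4] [] [] (Srch.rep (nat_lit 32) [] [] [] (Srch.rep (nat_lit 66) [] [] [] Srch.nil (Srch.rep (nat_lit 67) [] [] [] Srch.nil (Srch.rep (nat_lit 78) [] [] [] Srch.nil (Srch.rep (nat_lit 79) [] [] [] Srch.nil Srch.nil)))) Srch.nil) (Srch.rep (nat_lit 18) [nat_lit 4] [] [] (Srch.rep (nat_lit 32) [] [] [] Srch.nil Srch.nil) Srch.nil)) (Srch.rep (nat_lit 28) [nat_lit 16] [] [] (Srch.rep (nat_lit 2) [] [] [] Srch.nil (Srch.rep (nat_lit 18) [] [] [] Srch.nil Srch.nil)) (Srch.rep (nat_lit 29) [nat_lit 16] [] [] (Srch.rep (nat_lit 2) [] [] [] Srch.nil (Srch.rep (nat_lit 18) [] [] [] Srch.nil Srch.nil)) Srch.nil)))) (Srch.rep (nat_lit 20) [] [] [] (Srch.rep (nat_lit 16) [] [] [] Srch.nil (Srch.rep (nat_lit 17) [] [] [] Srch.nil (Srch.rep (nat_lit 24) [] [] [] Srch.nil (Srch.rep (nat_lit 25) [] [] [] Srch.nil Srch.nil)))) (Srch.rep (nat_lit 24) [] [] [] (Srch.rep (nat_lit 20) [] [] [] Srch.nil (Srch.rep (nat_lit 21) [] [] [] Srch.nil (Srch.rep (nat_lit 28)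 [] [] [] Srch.nil (Srch.rep (nat_lit 29) [] [] [] Srch.nil Srch.nil)))) (Srch.rep (nat_lit 28) [] [] [] (Srch.rep (nat_lit 16) [] [] [] Srch.nil (Srch.rep (nat_lit 17) [] [] [] Srch.nil (Srch.rep (nat_lit 24) [] [] [] Srch.nil (Srch.rep (nat_lit 25) [] [] [] Srch.nil Srch.nil)))) Srch.nil)))) Srch.nil) Node.done)))))))))))))))))))))))))
theorem ok52 : nodeOK DB PT 52 t52 (nat_lit 0x330033003300330000000000000000000000ff000000ff0c33cf00fccccffff) (nat_lit 0x11001100000000001100110000000000110011000000000011001100000000000000000000000000000000000000000000000000000000000000000000000000000000000000002222222200000000000000000000000022222222000011000011001111002222000000002222110011001100110044ff4455445544ff) c52 = true := by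
  decide +kernel
noncomputable def c53_0 : Srch :=
  Srch.rep (nat_lit 64) [] [] [] (Srch.rep (nat_lit 128) [] [] [] (Srch.fin [nat_lit 64,nat_lit 16] [nat_lit 0] (((nat_lit 0),(Leaf.pt (nat_lit 11) (nat_lit 8) [nat_lit 4,nat_lit 16,nat_lit 256]))::(((nat_lit 1),(Leaf.pt (nat_lit 7) (nat_lit 8) [nat_lit 10,nat_lit 256]))::(((nat_lit 12),(Leaf.pt (nat_lit 7) (nat_lit 8) [nat_lit 9,nat_lit 256]))::(((nat_lit 13),(Leaf.pt (nat_lit 7) (nat_lit 8) [nat_lit 9,nat_lit 256]))::[]))))) (Srch.rep (nat_lit 129) [] [] [] (Srch.fin [nat_lit 64,nat_lit 16] [nat_lit 0] (((nat_lit 0),(Leaf.pt (nat_lit 11) (nat_lit 8) [nat_lit 4,nat_lit 16,nat_lit 256]))::(((nat_lit 1),(Leaf.pt (nat_lit 7) (nat_lit 8) [nat_lit 10,nat_lit 256]))::(((nat_lit 12),(Leaf.pt (nat_lit 7) (nat_lit 8) [nat_lit 9,nat_lit 256]))::(((nat_lit 13),(Leaf.pt (nat_lit 7) (nat_lit 8) [nat_lit 9,nat_lit 256]))::[]))))) (Srch.rep (nat_lit 140) [] [] [] (Srch.fin [nat_lit 64,nat_lit 16] [nat_lit 0] (((nat_lit 0),(Leaf.pt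 (nat_lit 11) (nat_lit 8) [nat_lit 4,nat_lit 16,nat_lit 256]))::(((nat_lit 1),(Leaf.pt (nat_lit 7) (nat_lit 8) [nat_lit 10,nat_lit 256]))::(((nat_lit 12),(Leaf.pt (nat_lit 7) (nat_lit 8) [nat_lit 9,nat_lit 256]))::(((nat_lit 13),(Leaf.pt (nat_lit 7) (nat_lit 8) [nat_lit 9,nat_lit 256]))::[]))))) (Srch.rep (nat_lit 141) [] [] [] (Srch.fin [nat_lit 64,nat_lit 16] [nat_lit 0] (((nat_lit 0),(Leaf.pt (nat_lit 11) (nat_lit 8) [nat_lit 4,nat_lit 16,nat_lit 256]))::(((nat_lit 1),(Leaf.pt (nat_lit 7) (nat_lit 8) [nat_lit 10,nat_lit 256]))::(((nat_lit 12),(Leaf.pt (nat_lit 7) (nat_lit 8) [nat_lit 9,nat_lit 256]))::(((nat_lit 13),(Leaf.pt (nat_lit 7) (nat_lit 8) [nat_lit 9,nat_lit 256]))::[]))))) Srch.nil)))) (Srch.rep (nat_lit 65) [] [] [] (Srch.rep (nat_lit 128) [] [] [] (Srch.fin [nat_lit 64,nat_lit 16] [nat_lit 0] (((nat_lit 0),(Leaf.pt (nat_lit 11) (nat_lit 8) [nat_lit 4,nat_lit 16,nat_lit 256]))::(((nat_lit 1),(Leaf.pt (nat_lit 7) (nat_lit 8) [nat_lit 10,nat_lit 256]))::(((nat_lit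 12),(Leaf.pt (nat_lit 7) (nat_lit 8) [nat_lit 9,nat_lit 256]))::(((nat_lit 13),(Leaf.pt (nat_lit 7) (nat_lit 8) [nat_lit 9,nat_lit 256]))::[]))))) (Srch.rep (nat_lit 129) [] [] [] (Srch.fin [nat_lit 64,nat_lit 16] [nat_lit 0] (((nat_lit 0),(Leaf.pt (nat_lit 11) (nat_lit 8) [nat_lit 4,nat_lit 16,nat_lit 256]))::(((nat_lit 1),(Leaf.pt (nat_lit 7) (nat_lit 8) [nat_lit 10,nat_lit 256]))::(((nat_lit 12),(Leaf.pt (nat_lit 7) (nat_lit 8) [nat_lit 9,nat_lit 256]))::(((nat_lit 13),(Leaf.pt (nat_lit 7) (nat_lit 8) [nat_lit 9,nat_lit 256]))::[]))))) (Srch.rep (nat_lit 140) [] [] [] (Srch.fin [nat_lit 64,nat_lit 16] [nat_lit 0] (((nat_lit 0),(Leaf.pt (nat_lit 11) (nat_lit 8) [nat_lit 4,nat_lit 16,nat_lit 256]))::(((nat_lit 1),(Leaf.pt (nat_lit 7) (nat_lit 8) [nat_lit 10,nat_lit 256]))::(((nat_lit 12),(Leaf.pt (nat_lit 7) (nat_lit 8) [nat_lit 9,nat_lit 256]))::(((nat_lit 13),(Leaf.pt (nat_lit 7) (nat_lit 8) [nat_lit 9,nat_lit 256]))::[]))))) (Srch.rep (nat_lit 141) [] [] [] (Srch.fin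 [nat_lit 64,nat_lit 16] [nat_lit 0] (((nat_lit 0),(Leaf.pt (nat_lit 11) (nat_lit 8) [nat_lit 4,nat_lit 16,nat_lit 256]))::(((nat_lit 1),(Leaf.pt (nat_lit 7) (nat_lit 8) [nat_lit 10,nat_lit 256]))::(((nat_lit 12),(Leaf.pt (nat_lit 7) (nat_lit 8) [nat_lit 9,nat_lit 256]))::(((nat_lit 13),(Leaf.pt (nat_lit 7) (nat_lit 8) [nat_lit 9,nat_lit 256]))::[]))))) Srch.nil)))) (Srch.rep (nat_lit 76) [] [] [] (Srch.rep (nat_lit 128) [] [] [] (Srch.fin [nat_lit 64,nat_lit 16] [nat_lit 0] (((nat_lit 0),(Leaf.pt (nat_lit 11) (nat_lit 8) [nat_lit 4,nat_lit 16,nat_lit 256]))::(((nat_lit 1),(Leaf.pt (nat_lit 7) (nat_lit 8) [nat_lit 10,nat_lit 256]))::(((nat_lit 12),(Leaf.pt (nat_lit 7) (nat_lit 8) [nat_lit 9,nat_lit 256]))::(((nat_lit 13),(Leaf.pt (nat_lit 7) (nat_lit 8) [nat_lit 9,nat_lit 256]))::[]))))) (Srch.rep (nat_lit 129) [] [] [] (Srch.fin [nat_lit 64,nat_lit 16] [nat_lit 0] (((nat_lit 0),(Leaf.pt (nat_lit 11) (nat_lit 8) [nat_lit 4,nat_lit 16,nat_lit 256]))::(((nat_lit 1),(Leaf.pt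 (nat_lit 7) (nat_lit 8) [nat_lit 10,nat_lit 256]))::(((nat_lit 12),(Leaf.pt (nat_lit 7) (nat_lit 8) [nat_lit 9,nat_lit 256]))::(((nat_lit 13),(Leaf.pt (nat_lit 7) (nat_lit 8) [nat_lit 9,nat_lit 256]))::[]))))) (Srch.rep (nat_lit 140) [] [] [] (Srch.fin [nat_lit 64,nat_lit 16] [nat_lit 0] (((nat_lit 0),(Leaf.pt (nat_lit 11) (nat_lit 8) [nat_lit 4,nat_lit 16,nat_lit 256]))::(((nat_lit 1),(Leaf.pt (nat_lit 7) (nat_lit 8) [nat_lit 10,nat_lit 256]))::(((nat_lit 12),(Leaf.pt (nat_lit 7) (nat_lit 8) [nat_lit 9,nat_lit 256]))::(((nat_lit 13),(Leaf.pt (nat_lit 7) (nat_lit 8) [nat_lit 9,nat_lit 256]))::[]))))) (Srch.rep (nat_lit 141) [] [] [] (Srch.fin [nat_lit 64,nat_lit 16] [nat_lit 0] (((nat_lit 0),(Leaf.pt (nat_lit 11) (nat_lit 8) [nat_lit 4,nat_lit 16,nat_lit 256]))::(((nat_lit 1),(Leaf.pt (nat_lit 7) (nat_lit 8) [nat_lit 10,nat_lit 256]))::(((nat_lit 12),(Leaf.pt (nat_lit 7) (nat_lit 8) [nat_lit 9,nat_lit 256]))::(((nat_lit 13),(Leaf.pt (nat_lit 7) (nat_lit 8) [nat_lit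 9,nat_lit 256]))::[]))))) Srch.nil)))) (Srch.rep (nat_lit 77) [] [] [] (Srch.rep (nat_lit 128) [] [] [] (Srch.fin [nat_lit 64,nat_lit 16] [nat_lit 0] (((nat_lit 0),(Leaf.pt (nat_lit 11) (nat_lit 8) [nat_lit 4,nat_lit 16,nat_lit 256]))::(((nat_lit 1),(Leaf.pt (nat_lit 7) (nat_lit 8) [nat_lit 10,nat_lit 256]))::(((nat_lit 12),(Leaf.pt (nat_lit 7) (nat_lit 8) [nat_lit 9,nat_lit 256]))::(((nat_lit 13),(Leaf.pt (nat_lit 7) (nat_lit 8) [nat_lit 9,nat_lit 256]))::[]))))) (Srch.rep (nat_lit 129) [] [] [] (Srch.fin [nat_lit 64,nat_lit 16] [nat_lit 0] (((nat_lit 0),(Leaf.pt (nat_lit 11) (nat_lit 8) [nat_lit 4,nat_lit 16,nat_lit 256]))::(((nat_lit 1),(Leaf.pt (nat_lit 7) (nat_lit 8) [nat_lit 10,nat_lit 256]))::(((nat_lit 12),(Leaf.pt (nat_lit 7) (nat_lit 8) [nat_lit 9,nat_lit 256]))::(((nat_lit 13),(Leaf.pt (nat_lit 7) (nat_lit 8) [nat_lit 9,nat_lit 256]))::[]))))) (Srch.rep (nat_lit 140) [] [] [] (Srch.fin [nat_lit 64,nat_lit 16] [nat_lit 0] (((nat_lit 0),(Leaf.pt (nat_lit 11)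 (nat_lit 8) [nat_lit 4,nat_lit 16,nat_lit 256]))::(((nat_lit 1),(Leaf.pt (nat_lit 7) (nat_lit 8) [nat_lit 10,nat_lit 256]))::(((nat_lit 12),(Leaf.pt (nat_lit 7) (nat_lit 8) [nat_lit 9,nat_lit 256]))::(((nat_lit 13),(Leaf.pt (nat_lit 7) (nat_lit 8) [nat_lit 9,nat_lit 256]))::[]))))) (Srch.rep (nat_lit 141) [] [] [] (Srch.fin [nat_lit 64,nat_lit 16] [nat_lit 0] (((nat_lit 0),(Leaf.pt (nat_lit 11) (nat_lit 8) [nat_lit 4,nat_lit 16,nat_lit 256]))::(((nat_lit 1),(Leaf.pt (nat_lit 7) (nat_lit 8) [nat_lit 10,nat_lit 256]))::(((nat_lit 12),(Leaf.pt (nat_lit 7) (nat_lit 8) [nat_lit 9,nat_lit 256]))::(((nat_lit 13),(Leaf.pt (nat_lit 7) (nat_lit 8) [nat_lit 9,nat_lit 256]))::[]))))) Srch.nil)))) Srch.nil)))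
noncomputable def t53 : ℕ := nat_lit 0x93009300bf00bf0081008100ac00ac0081008100ac00ac0093009300bf00bf00bf00bf0093009300ac00ac0081008100ac00ac0081008100bf00bf009300930093009300bf00bf0081008100ac00ac0081008100ac00ac0093009300bf00bf00bf00bf0093009300ac00ac0081008100ac00ac0081008100bf00bf00930093008c008c00a000a0009e009e00b300b3009e009e00b300b3008c008c00a000a000a000a0008c008c00b300b3009e009e00b300b3009e009e00a000a0008c008c008c008c00a000a0009e009e00b300b3009e009e00b300b3008c008c00a000a000a000a0008c008c00b300b3009e009e00b300b3009e009e00a000a0008c008c009f009f00b300b3008d008d00a000a0008d008d00a000a0009f009f00b300b300b300b3009f009f00a000a0008d008d00a000a0008d008d00b300b3009f009f009f009f00b300b3008d008d00a000a0008d008d00a000a0009f009f00b300b300b300b3009f009f00a000a0008d008d00a000a0008d008d00b300b3009f009f0080008000ac00ac0092009200bf00bf0092009200bf00bf0080008000ac00ac00ac00ac0080008000bf00bf0092009200bf00bf0092009200ac00ac008000800080008000ac00ac0092009200bf00bf0092009200bf0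0bf0080008000ac00ac00ac00ac0080008000bf00bf0092009200bf00bf0092009200ac00ac00800080006e006e006e006e006c006c006c006c006c006c006c006c006e006e006e006e0043004300430043004100410041004100410041004100410043004300430043006f006f006f006f006d006d006d006d006d006d006d006d006f006f006f006f0042004200420042004000400040004000400040004000400042004200420042006d006d006d006d006f006f006f006f006f006f006f006f006d006d006d006d0041004100410041004300430043004300430043004300430041004100410041006c006c006c006c006e006e006e006e006e006e006e006e006c006c006c006c004000400040004000420042004200420042004200420042004000400040004000200020002000200021002100210021002100210021002100200020002000200020002000200020002100210021002100210021002100210020002000200020002000200020002000210021002100210021002100210021002000200020002000200020002000200021002100210021002100210021002100200020002000200010001000110011001000100011001100100010001100110010001000110011001100110010001000110011001000100011001100100010001100110010001000080008000800080008000800080008000800080008000800080008000800080004000400040004000400040004000400020002000200020001000100000000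
noncomputable def c53 : Node :=
  (Node.st (nat_lit 0) (nat_lit 8) (nat_lit 0) (Node.sp (nat_lit 1) (Node.lf (Leaf.pt (nat_lit 7) (nat_lit 1) [nat_lit 8,nat_lit 16])) (Node.sp (nat_lit 2) (Node.lf (Leaf.pt (nat_lit 0) (nat_lit 2) [nat_lit 96])) (Node.st (nat_lit 0) (nat_lit 2) (nat_lit 0) (Node.sp (nat_lit 4) (Node.lf (Leaf.pt (nat_lit 7) (nat_lit 4) [nat_lit 8,nat_lit 16])) (Node.st (nat_lit 0) (nat_lit 4) (nat_lit 0) (Node.sp (nat_lit 12) (Node.lf (Leaf.pt (nat_lit 7) (nat_lit 12) [nat_lit 8,nat_lit 16])) (Node.sp (nat_lit 13) (Node.lf (Leaf.pt (nat_lit 7) (nat_lit 13) [nat_lit 8,nat_lit 16])) (Node.sp (nat_lit 14) (Node.lf (Leaf.pt (nat_lit 11) (nat_lit 14) [nat_lit 2,nat_lit 64,nat_lit 1])) (Node.st (nat_lit 0) (nat_lit 14) (nat_lit 0) (Node.sp (nat_lit 18) (Node.lf (Leaf.pt (nat_lit 0) (nat_lit 18) [nat_lit 132])) (Node.st (nat_lit 0) (nat_lit 18) (nat_lit 0) (Node.sp (nat_lit 30) (Node.lf (Leaf.pt (nat_lit 11) (nat_lit 30) [nat_lit 12,nat_lit 128,nat_lit 1]))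 (Node.st (nat_lit 0) (nat_lit 30) (nat_lit 0) (Node.sp (nat_lit 32) (Node.lf (Leaf.pt (nat_lit 11) (nat_lit 32) [nat_lit 18,nat_lit 128,nat_lit 1])) (Node.st (nat_lit 0) (nat_lit 32) (nat_lit 0) (Node.sp (nat_lit 44) (Node.lf (Leaf.pt (nat_lit 11) (nat_lit 44) [nat_lit 12,nat_lit 84,nat_lit 1])) (Node.st (nat_lit 0) (nat_lit 44) (nat_lit 0) (Node.sp (nat_lit 68) (Node.lf (Leaf.st (nat_lit 1) (nat_lit 4) (nat_lit 68) (Leaf.st (nat_lit 1) (nat_lit 128) (nat_lit 68) (Leaf.st (nat_lit 1) (nat_lit 144) (nat_lit 68) (Leaf.pt (nat_lit 15) (nat_lit 68) [nat_lit 2,nat_lit 13,nat_lit 32]))))) (Node.st (nat_lit 0) (nat_lit 68) (nat_lit 0) (Node.sp (nat_lit 69) (Node.lf (Leaf.st (nat_lit 1) (nat_lit 4) (nat_lit 69) (Leaf.st (nat_lit 1) (nat_lit 132) (nat_lit 69) (Leaf.pt (nat_lit 8) (nat_lit 69) [nat_lit 2,nat_lit 33])))) (Node.st (nat_lit 0) (nat_lit 69) (nat_lit 0) (Node.ext [] (nat_lit 8) [Ins.fr [nat_lit 0],Ins.ts (nat_lit 1) [nat_lit 0,nat_lit 0] [],Ins.fr [nat_lit 1],Ins.ts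 (nat_lit 1) [nat_lit 0,nat_lit 0] [],Ins.ts (nat_lit 3) [nat_lit 0,nat_lit 1] [],Ins.ts (nat_lit 3) [nat_lit 0,nat_lit 1,nat_lit 2] [],Ins.fr [nat_lit 2],Ins.ts (nat_lit 3) [nat_lit 0] [],Ins.ts (nat_lit 2) [nat_lit 0,nat_lit 3] [],Ins.ts (nat_lit 0) [nat_lit 0,nat_lit 0] [],Ins.ts (nat_lit 1) [nat_lit 0] [],Ins.ts (nat_lit 2) [nat_lit 2,nat_lit 0,nat_lit 3] [],Ins.ts (nat_lit 0) [nat_lit 2,nat_lit 0,nat_lit 2] [nat_lit 0],Ins.fr [nat_lit 1,nat_lit 1,nat_lit 3],Ins.ts (nat_lit 0) [nat_lit 0,nat_lit 0] [],Ins.ts (nat_lit 3) [nat_lit 0] [],Ins.ts (nat_lit 2) [nat_lit 2,nat_lit 0] [],Ins.ts (nat_lit 0) [nat_lit 2,nat_lit 0,nat_lit 2] [nat_lit 0],Ins.fr [nat_lit 1,nat_lit 4],Ins.ts (nat_lit 0) [nat_lit 0,nat_lit 0] [nat_lit 2],Ins.ts (nat_lit 0) [nat_lit 5,nat_lit 1,nat_lit 4] [nat_lit 0,nat_lit 3,nat_lit 0],Ins.fr [nat_lit 4,nat_lit 2,nat_lit 5],Ins.ts (nat_lit 0) [nat_lit 5,nat_lit 0,nat_lit 0] [nat_lit 4,nat_lit 6],Ins.ts (nat_lit 0) [nat_lit 0,nat_lit 5,nat_lit 0]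 [nat_lit 2,nat_lit 5],Ins.df [nat_lit 4,nat_lit 4],Ins.df [nat_lit 0,nat_lit 5,nat_lit 6]] [nat_lit 16,nat_lit 20,nat_lit 2,nat_lit 32,nat_lit 64,nat_lit 128] [nat_lit 1,nat_lit 5,nat_lit 0,nat_lit 8,nat_lit 7,nat_lit 4,nat_lit 3,nat_lit 2] (Srch.rep (nat_lit 8) [nat_lit 2] [nat_lit 16,nat_lit 8,nat_lit 4,nat_lit 2,nat_lit 1] [nat_lit 128,nat_lit 64,nat_lit 32] (Srch.rep (nat_lit 16) [] [] [] (Srch.rep (nat_lit 20) [nat_lit 16] [] [] (Srch.rep (nat_lit 2) [nat_lit 4] [] [] (Srch.rep (nat_lit 32) [] [] [] c53_0 Srch.nil) (Srch.rep (nat_lit 18) [nat_lit 4] [] [] (Srch.rep (nat_lit 32) [] [] [] Srch.nil Srch.nil) Srch.nil)) (Srch.rep (nat_lit 21) [nat_lit 16] [] [] (Srch.rep (nat_lit 2) [nat_lit 4] [] [] (Srch.rep (nat_lit 32) [] [] [] (Srch.rep (nat_lit 66) [] [] [] Srch.nil (Srch.rep (nat_lit 67) [] [] [] Srch.nil (Srch.rep (nat_lit 78) [] [] [] Srch.nil (Srch.rep (nat_lit 79) [] [] [] Srch.nil Srch.nil)))) Srch.nil) (Srch.rep (nat_lit 18) [nat_lit 4] [] [] (Srch.rep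 (nat_lit 32) [] [] [] Srch.nil Srch.nil) Srch.nil)) (Srch.rep (nat_lit 28) [nat_lit 16] [] [] (Srch.rep (nat_lit 2) [] [] [] Srch.nil (Srch.rep (nat_lit 18) [] [] [] Srch.nil Srch.nil)) (Srch.rep (nat_lit 29) [nat_lit 16] [] [] (Srch.rep (nat_lit 2) [] [] [] Srch.nil (Srch.rep (nat_lit 18) [] [] [] Srch.nil Srch.nil)) Srch.nil)))) (Srch.rep (nat_lit 20) [] [] [] (Srch.rep (nat_lit 16) [] [] [] Srch.nil (Srch.rep (nat_lit 17) [] [] [] Srch.nil (Srch.rep (nat_lit 24) [] [] [] Srch.nil (Srch.rep (nat_lit 25) [] [] [] Srch.nil Srch.nil)))) (Srch.rep (nat_lit 24) [] [] [] (Srch.rep (nat_lit 20) [] [] [] Srch.nil (Srch.rep (nat_lit 21) [] [] [] Srch.nil (Srch.rep (nat_lit 28) [] [] [] Srch.nil (Srch.rep (nat_lit 29) [] [] [] Srch.nil Srch.nil)))) (Srch.rep (nat_lit 28) [] [] [] (Srch.rep (nat_lit 16) [] [] [] Srch.nil (Srch.rep (nat_lit 17) [] [] [] Srch.nil (Srch.rep (nat_lit 24) [] [] [] Srch.nil (Srch.rep (nat_lit 25) [] [] [] Srch.nil Srch.nil)))) Srch.nil)))) Srch.nil)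 Node.done)))))))))))))))))))))))
theorem ok53 : nodeOK DB PT 53 t53 (nat_lit 0xff000000ff0c33cf00fccccffff) (nat_lit 0x2222222200000000000000000000000022222222000011000011001111002222000000002222110011001100110044ff4455445544ff) c53 = true := by
  decide +kernel
noncomputable def c54_0 : Srch :=
  Srch.rep (nat_lit 8) [nat_lit 2] [nat_lit 16,nat_lit 8,nat_lit 4,nat_lit 2,nat_lit 1] [nat_lit 64,nat_lit 32] (Srch.rep (nat_lit 16) [] [] [] (Srch.rep (nat_lit 20) [nat_lit 16] [] [] (Srch.rep (nat_lit 2) [nat_lit 4] [] [] (Srch.rep (nat_lit 32) [] [] [] (Srch.rep (nat_lit 64) [] [] [] (Srch.fin [nat_lit 64,nat_lit 16] [nat_lit 0] (((nat_lit 0),(Leaf.pt (nat_lit 11) (nat_lit 8) [nat_lit 4,nat_lit 16,nat_lit 128]))::(((nat_lit 1),(Leaf.pt (nat_lit 7) (nat_lit 8) [nat_lit 10,nat_lit 128]))::(((nat_lit 12),(Leaf.pt (nat_lit 7) (nat_lit 8) [nat_lit 9,nat_lit 128]))::(((nat_lit 13),(Leaf.pt (nat_lit 7) (nat_lit 8) [nat_lit 9,nat_lit 128]))::[]))))) (Srch.rep (nat_lit 65) [] []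 [] (Srch.fin [nat_lit 64,nat_lit 16] [nat_lit 0] (((nat_lit 0),(Leaf.pt (nat_lit 11) (nat_lit 8) [nat_lit 4,nat_lit 16,nat_lit 128]))::(((nat_lit 1),(Leaf.pt (nat_lit 7) (nat_lit 8) [nat_lit 10,nat_lit 128]))::(((nat_lit 12),(Leaf.pt (nat_lit 7) (nat_lit 8) [nat_lit 9,nat_lit 128]))::(((nat_lit 13),(Leaf.pt (nat_lit 7) (nat_lit 8) [nat_lit 9,nat_lit 128]))::[]))))) (Srch.rep (nat_lit 76) [] [] [] (Srch.fin [nat_lit 64,nat_lit 16] [nat_lit 0] (((nat_lit 0),(Leaf.pt (nat_lit 11) (nat_lit 8) [nat_lit 4,nat_lit 16,nat_lit 128]))::(((nat_lit 1),(Leaf.pt (nat_lit 7) (nat_lit 8) [nat_lit 10,nat_lit 128]))::(((nat_lit 12),(Leaf.pt (nat_lit 7) (nat_lit 8) [nat_lit 9,nat_lit 128]))::(((nat_lit 13),(Leaf.pt (nat_lit 7) (nat_lit 8) [nat_lit 9,nat_lit 128]))::[]))))) (Srch.rep (nat_lit 77) [] [] [] (Srch.fin [nat_lit 64,nat_lit 16] [nat_lit 0] (((nat_lit 0),(Leaf.pt (nat_lit 11) (nat_lit 8) [nat_lit 4,nat_lit 16,nat_lit 128]))::(((nat_lit 1),(Leaf.pt (nat_lit 7) (nat_lit 8) [nat_lit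 10,nat_lit 128]))::(((nat_lit 12),(Leaf.pt (nat_lit 7) (nat_lit 8) [nat_lit 9,nat_lit 128]))::(((nat_lit 13),(Leaf.pt (nat_lit 7) (nat_lit 8) [nat_lit 9,nat_lit 128]))::[]))))) Srch.nil)))) Srch.nil) (Srch.rep (nat_lit 18) [nat_lit 4] [] [] (Srch.rep (nat_lit 32) [] [] [] Srch.nil Srch.nil) Srch.nil)) (Srch.rep (nat_lit 21) [nat_lit 16] [] [] (Srch.rep (nat_lit 2) [nat_lit 4] [] [] (Srch.rep (nat_lit 32) [] [] [] (Srch.rep (nat_lit 66) [] [] [] (Srch.fin [nat_lit 64,nat_lit 16] [nat_lit 0,nat_lit 12] (((nat_lit 0),(Leaf.pt (nat_lit 7) (nat_lit 8) [nat_lit 10,nat_lit 132]))::[])) (Srch.rep (nat_lit 67) [] [] [] (Srch.fin [nat_lit 64,nat_lit 16] [nat_lit 0,nat_lit 12] (((nat_lit 0),(Leaf.pt (nat_lit 7) (nat_lit 8) [nat_lit 10,nat_lit 132]))::[])) (Srch.rep (nat_lit 78) [] [] [] (Srch.fin [nat_lit 64] [] []) (Srch.rep (nat_lit 79) [] [] [] (Srch.fin [nat_lit 64] [] []) Srch.nil)))) Srch.nil) (Srch.rep (nat_lit 18) [nat_lit 4] [] [] (Srch.rep (nat_lit 32) [] [] [] Srch.nil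 Srch.nil) Srch.nil)) (Srch.rep (nat_lit 28) [nat_lit 16] [] [] (Srch.rep (nat_lit 2) [] [] [] Srch.nil (Srch.rep (nat_lit 18) [] [] [] Srch.nil Srch.nil)) (Srch.rep (nat_lit 29) [nat_lit 16] [] [] (Srch.rep (nat_lit 2) [] [] [] Srch.nil (Srch.rep (nat_lit 18) [] [] [] Srch.nil Srch.nil)) Srch.nil)))) (Srch.rep (nat_lit 20) [] [] [] (Srch.rep (nat_lit 16) [] [] [] Srch.nil (Srch.rep (nat_lit 17) [] [] [] Srch.nil (Srch.rep (nat_lit 24) [] [] [] Srch.nil (Srch.rep (nat_lit 25) [] [] [] Srch.nil Srch.nil)))) (Srch.rep (nat_lit 24) [] [] [] (Srch.rep (nat_lit 20) [] [] [] Srch.nil (Srch.rep (nat_lit 21) [] [] [] Srch.nil (Srch.rep (nat_lit 28) [] [] [] Srch.nil (Srch.rep (nat_lit 29) [] [] [] Srch.nil Srch.nil)))) (Srch.rep (nat_lit 28) [] [] [] (Srch.rep (nat_lit 16) [] [] [] Srch.nil (Srch.rep (nat_lit 17) [] [] [] Srch.nil (Srch.rep (nat_lit 24) [] [] [] Srch.nil (Srch.rep (nat_lit 25) [] [] [] Srch.nil Srch.nil)))) Srch.nil)))) (Srch.rep (nat_lit 26) [nat_lit 4] [nat_lit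 34,nat_lit 18,nat_lit 8,nat_lit 4,nat_lit 1] [nat_lit 64,nat_lit 2] (Srch.rep (nat_lit 38) [] [] [] (Srch.rep (nat_lit 42) [] [] [] Srch.nil (Srch.rep (nat_lit 43) [] [] [] Srch.nil (Srch.rep (nat_lit 48) [] [] [] Srch.nil (Srch.rep (nat_lit 49) [] [] [] Srch.nil Srch.nil)))) (Srch.rep (nat_lit 42) [] [] [] (Srch.rep (nat_lit 38) [] [] [] Srch.nil (Srch.rep (nat_lit 39) [] [] [] Srch.nil (Srch.rep (nat_lit 60) [] [] [] Srch.nil (Srch.rep (nat_lit 61) [] [] [] Srch.nil Srch.nil)))) (Srch.rep (nat_lit 48) [] [] [] (Srch.rep (nat_lit 38) [] [] [] Srch.nil (Srch.rep (nat_lit 39) [] [] [] Srch.nil (Srch.rep (nat_lit 60) [] [] [] Srch.nil (Srch.rep (nat_lit 61) [] [] [] Srch.nil Srch.nil)))) (Srch.rep (nat_lit 60) [] [] [] (Srch.rep (nat_lit 42) [nat_lit 38] [] [] (Srch.rep (nat_lit 18) [nat_lit 22] [] [] (Srch.rep (nat_lit 32) [] [] [] Srch.nil Srch.nil) (Srch.rep (nat_lit 46) [nat_lit 22] [] [] (Srch.rep (nat_lit 32) [] [] [] (Srch.rep (nat_lit 112) [] [] [] (Srch.fin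 [nat_lit 64] [] []) (Srch.rep (nat_lit 113) [] [] [] (Srch.fin [nat_lit 64] [] []) (Srch.rep (nat_lit 124) [] [] [] (Srch.fin [nat_lit 64] [nat_lit 0,nat_lit 12] (((nat_lit 18),(Leaf.mp (nat_lit 35) [nat_lit 1,nat_lit 2,nat_lit 4,nat_lit 8,nat_lit 16,nat_lit 32,nat_lit 76,nat_lit 128] []))::[])) (Srch.rep (nat_lit 125) [] [] [] (Srch.fin [nat_lit 64] [nat_lit 0,nat_lit 12] (((nat_lit 18),(Leaf.mp (nat_lit 35) [nat_lit 1,nat_lit 2,nat_lit 4,nat_lit 8,nat_lit 16,nat_lit 32,nat_lit 64,nat_lit 128] []))::[])) Srch.nil)))) Srch.nil) Srch.nil)) (Srch.rep (nat_lit 43) [nat_lit 38] [] [] (Srch.rep (nat_lit 18) [nat_lit 22] [] [] (Srch.rep (nat_lit 32) [] [] [] Srch.nil Srch.nil) (Srch.rep (nat_lit 46) [nat_lit 22] [] [] (Srch.rep (nat_lit 32) [] [] [] (Srch.rep (nat_lit 82) [] [] [] (Srch.fin [nat_lit 64] [nat_lit 0] (((nat_lit 0),(Leaf.mp (nat_lit 43) [nat_lit 1,nat_lit 2,nat_lit 4,nat_lit 8,nat_lit 16,nat_lit 32,nat_lit 64,nat_lit 128] []))::(((nat_lit 1),(Leaf.mp (nat_lit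 44) [nat_lit 1,nat_lit 2,nat_lit 4,nat_lit 8,nat_lit 16,nat_lit 32,nat_lit 64,nat_lit 128] []))::(((nat_lit 12),(Leaf.mp (nat_lit 45) [nat_lit 1,nat_lit 2,nat_lit 4,nat_lit 8,nat_lit 16,nat_lit 32,nat_lit 64,nat_lit 128] []))::(((nat_lit 13),(Leaf.mp (nat_lit 45) [nat_lit 1,nat_lit 2,nat_lit 5,nat_lit 8,nat_lit 16,nat_lit 32,nat_lit 66,nat_lit 146] []))::[]))))) (Srch.rep (nat_lit 83) [] [] [] (Srch.fin [nat_lit 64] [nat_lit 0] (((nat_lit 0),(Leaf.mp (nat_lit 47) [nat_lit 1,nat_lit 2,nat_lit 4,nat_lit 8,nat_lit 16,nat_lit 32,nat_lit 64,nat_lit 128] []))::(((nat_lit 1),(Leaf.mp (nat_lit 48) [nat_lit 1,nat_lit 2,nat_lit 4,nat_lit 8,nat_lit 16,nat_lit 32,nat_lit 64,nat_lit 128] []))::(((nat_lit 12),(Leaf.mp (nat_lit 49) [nat_lit 1,nat_lit 2,nat_lit 4,nat_lit 8,nat_lit 16,nat_lit 32,nat_lit 64,nat_lit 128] []))::(((nat_lit 13),(Leaf.mp (nat_lit 49) [nat_lit 1,nat_lit 2,nat_lit 5,nat_lit 8,nat_lit 16,nat_lit 32,nat_lit 66,nat_lit 146] []))::[]))))) (Srch.rep (nat_lit 94)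 [] [] [] (Srch.fin [nat_lit 64] [nat_lit 0] (((nat_lit 0),(Leaf.mp (nat_lit 50) [nat_lit 1,nat_lit 2,nat_lit 5,nat_lit 8,nat_lit 16,nat_lit 32,nat_lit 66,nat_lit 146] []))::(((nat_lit 1),(Leaf.mp (nat_lit 51) [nat_lit 1,nat_lit 2,nat_lit 5,nat_lit 8,nat_lit 16,nat_lit 32,nat_lit 66,nat_lit 146] []))::(((nat_lit 12),(Leaf.mp (nat_lit 52) [nat_lit 1,nat_lit 2,nat_lit 5,nat_lit 8,nat_lit 16,nat_lit 32,nat_lit 66,nat_lit 146] []))::(((nat_lit 13),(Leaf.mp (nat_lit 53) [nat_lit 1,nat_lit 2,nat_lit 5,nat_lit 8,nat_lit 16,nat_lit 32,nat_lit 66,nat_lit 146] []))::[]))))) (Srch.rep (nat_lit 95) [] [] [] (Srch.fin [nat_lit 64] [nat_lit 0] (((nat_lit 0),(Leaf.mp (nat_lit 50) [nat_lit 1,nat_lit 2,nat_lit 4,nat_lit 8,nat_lit 16,nat_lit 32,nat_lit 64,nat_lit 128] []))::(((nat_lit 1),(Leaf.mp (nat_lit 51) [nat_lit 1,nat_lit 2,nat_lit 4,nat_lit 8,nat_lit 16,nat_lit 32,nat_lit 64,nat_lit 128] []))::(((nat_lit 12),(Leaf.mp (nat_lit 53) [nat_lit 1,nat_lit 2,nat_lit 4,nat_lit 8,nat_lit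 16,nat_lit 32,nat_lit 64,nat_lit 128] []))::(((nat_lit 13),(Leaf.mp (nat_lit 52) [nat_lit 1,nat_lit 2,nat_lit 4,nat_lit 8,nat_lit 16,nat_lit 32,nat_lit 64,nat_lit 128] []))::[]))))) Srch.nil)))) Srch.nil) Srch.nil)) (Srch.rep (nat_lit 48) [nat_lit 38] [] [] (Srch.rep (nat_lit 18) [] [] [] Srch.nil (Srch.rep (nat_lit 46) [] [] [] Srch.nil Srch.nil)) (Srch.rep (nat_lit 49) [nat_lit 38] [] [] (Srch.rep (nat_lit 18) [] [] [] Srch.nil (Srch.rep (nat_lit 46) [] [] [] Srch.nil Srch.nil)) Srch.nil)))) Srch.nil)))) Srch.nil)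
noncomputable def t54 : ℕ := nat_lit 0x6e006e006e006e006c006c006c006c006c006c006c006c006e006e006e006e0043004300430043004100410041004100410041004100410043004300430043006f006f006f006f006d006d006d006d006d006d006d006d006f006f006f006f0042004200420042004000400040004000400040004000400042004200420042006d006d006d006d006f006f006f006f006f006f006f006f006d006d006d006d0041004100410041004300430043004300430043004300430041004100410041006c006c006c006c006e006e006e006e006e006e006e006e006c006c006c006c004000400040004000420042004200420042004200420042004000400040004000200020002000200021002100210021002100210021002100200020002000200020002000200020002100210021002100210021002100210020002000200020002000200020002000210021002100210021002100210021002000200020002000200020002000200021002100210021002100210021002100200020002000200010001000110011001000100011001100100010001100110010001000110011001100110010001000110011001000100011001100100010001100110010001000080008000800080008000800080008000800080008000800080008000800080004000400040004000400040004000400020002000200020001000100000000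
noncomputable def c54 : Node :=
  (Node.st (nat_lit 0) (nat_lit 8) (nat_lit 0) (Node.st (nat_lit 0) (nat_lit 26) (nat_lit 0) (Node.sp (nat_lit 1) (Node.lf (Leaf.pt (nat_lit 7) (nat_lit 1) [nat_lit 8,nat_lit 16])) (Node.sp (nat_lit 2) (Node.lf (Leaf.pt (nat_lit 0) (nat_lit 2) [nat_lit 96])) (Node.st (nat_lit 0) (nat_lit 2) (nat_lit 0) (Node.sp (nat_lit 4) (Node.lf (Leaf.pt (nat_lit 7) (nat_lit 4) [nat_lit 8,nat_lit 16])) (Node.st (nat_lit 0) (nat_lit 4) (nat_lit 0) (Node.sp (nat_lit 12) (Node.lf (Leaf.pt (nat_lit 7) (nat_lit 12) [nat_lit 8,nat_lit 16])) (Node.sp (nat_lit 13) (Node.lf (Leaf.pt (nat_lit 7) (nat_lit 13) [nat_lit 8,nat_lit 16])) (Node.sp (nat_lit 14) (Node.lf (Leaf.pt (nat_lit 0) (nat_lit 14) [nat_lit 64])) (Node.st (nat_lit 0) (nat_lit 14) (nat_lit 0) (Node.sp (nat_lit 18) (Node.lf (Leaf.pt (nat_lit 6) (nat_lit 18) [nat_lit 8])) (Node.st (nat_lit 0) (nat_lit 18) (nat_lit 0) (Node.sp (nat_lit 22) (Node.lf (Leaf.pt (nat_lit 7) (nat_lit 22) [nat_lit 26,nat_lit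 38])) (Node.st (nat_lit 0) (nat_lit 22) (nat_lit 0) (Node.sp (nat_lit 30) (Node.lf (Leaf.pt (nat_lit 8) (nat_lit 30) [nat_lit 4,nat_lit 18])) (Node.st (nat_lit 0) (nat_lit 30) (nat_lit 0) (Node.sp (nat_lit 32) (Node.lf (Leaf.pt (nat_lit 0) (nat_lit 32) [nat_lit 84])) (Node.st (nat_lit 0) (nat_lit 32) (nat_lit 0) (Node.sp (nat_lit 34) (Node.lf (Leaf.pt (nat_lit 0) (nat_lit 34) [nat_lit 80])) (Node.st (nat_lit 0) (nat_lit 34) (nat_lit 0) (Node.sp (nat_lit 44) (Node.lf (Leaf.pt (nat_lit 0) (nat_lit 44) [nat_lit 86])) (Node.st (nat_lit 0) (nat_lit 44) (nat_lit 0) (Node.sp (nat_lit 46) (Node.lf (Leaf.pt (nat_lit 0) (nat_lit 46) [nat_lit 80])) (Node.st (nat_lit 0) (nat_lit 46) (nat_lit 0) (Node.sp (nat_lit 68) (Node.lf (Leaf.st (nat_lit 1) (nat_lit 4) (nat_lit 68) (Leaf.st (nat_lit 1) (nat_lit 16) (nat_lit 68) (Leaf.st (nat_lit 1) (nat_lit 20) (nat_lit 68) (Leaf.pt (nat_lit 15) (nat_lit 68) [nat_lit 2,nat_lit 45,nat_lit 46]))))) (Node.st (nat_lit 0) (nat_lit 68) (nat_lit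 0) (Node.sp (nat_lit 69) (Node.lf (Leaf.st (nat_lit 1) (nat_lit 4) (nat_lit 69) (Leaf.st (nat_lit 1) (nat_lit 20) (nat_lit 69) (Leaf.pt (nat_lit 8) (nat_lit 69) [nat_lit 2,nat_lit 44])))) (Node.st (nat_lit 0) (nat_lit 69) (nat_lit 0) (Node.sp (nat_lit 72) (Node.lf (Leaf.st (nat_lit 1) (nat_lit 4) (nat_lit 72) (Leaf.st (nat_lit 1) (nat_lit 16) (nat_lit 72) (Leaf.st (nat_lit 1) (nat_lit 20) (nat_lit 72) (Leaf.pt (nat_lit 15) (nat_lit 72) [nat_lit 2,nat_lit 45,nat_lit 46]))))) (Node.st (nat_lit 0) (nat_lit 72) (nat_lit 0) (Node.sp (nat_lit 73) (Node.lf (Leaf.st (nat_lit 1) (nat_lit 4) (nat_lit 73) (Leaf.st (nat_lit 1) (nat_lit 20) (nat_lit 73) (Leaf.pt (nat_lit 8) (nat_lit 73) [nat_lit 2,nat_lit 44])))) (Node.st (nat_lit 0) (nat_lit 73) (nat_lit 0) (Node.ext [] (nat_lit 8) [Ins.fr [nat_lit 0],Ins.ts (nat_lit 1) [nat_lit 0,nat_lit 0] [],Ins.fr [nat_lit 1],Ins.ts (nat_lit 1) [nat_lit 0,nat_lit 0] [],Ins.ts (nat_lit 3) [nat_lit 0,nat_lit 1] [],Ins.ts (nat_lit 3) [nat_lit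 0,nat_lit 1,nat_lit 2] [],Ins.fr [nat_lit 2],Ins.ts (nat_lit 3) [nat_lit 0] [],Ins.ts (nat_lit 2) [nat_lit 0,nat_lit 3] [],Ins.ts (nat_lit 0) [nat_lit 0,nat_lit 0] [],Ins.ts (nat_lit 1) [nat_lit 0] [],Ins.ts (nat_lit 2) [nat_lit 2,nat_lit 0,nat_lit 3] [],Ins.ts (nat_lit 0) [nat_lit 2,nat_lit 0,nat_lit 2] [nat_lit 0],Ins.fr [nat_lit 1,nat_lit 1,nat_lit 3],Ins.ts (nat_lit 0) [nat_lit 0,nat_lit 0] [],Ins.ts (nat_lit 2) [nat_lit 2,nat_lit 0] [],Ins.ts (nat_lit 0) [nat_lit 2,nat_lit 0,nat_lit 2] [nat_lit 0],Ins.fr [nat_lit 1,nat_lit 4],Ins.ts (nat_lit 0) [nat_lit 0,nat_lit 0] [nat_lit 2],Ins.ts (nat_lit 0) [nat_lit 5,nat_lit 1,nat_lit 4] [nat_lit 0,nat_lit 3,nat_lit 0],Ins.df [nat_lit 3,nat_lit 3],Ins.df [nat_lit 0,nat_lit 4,nat_lit 5]] [nat_lit 16,nat_lit 20,nat_lit 2,nat_lit 32,nat_lit 64] [nat_lit 1,nat_lit 4,nat_lit 0,nat_lit 7,nat_lit 6,nat_lit 3,nat_lit 2] c54_0 Node.done))))))))))))))))))))))))))))))))))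
theorem ok54 : nodeOK DB PT 54 t54 (nat_lit 0xff000000ff0c33cf00fccccffff) (nat_lit 0x2222222200000000000000000000000022222222000011000011001111002222000000002222110011001100110044ff4455445544ff) c54 = true := by
  decide +kernel
noncomputable def c55_0 : Node :=
  Node.frat (nat_lit 1) (nat_lit 0) (nat_lit 0) [[],[nat_lit 12],[nat_lit 2,nat_lit 1,nat_lit 12]] [] [((nat_lit 1),(nat_lit 0)),((nat_lit 2),(nat_lit 1)),((nat_lit 3),(nat_lit 2))] [nat_lit 1] [nat_lit 64,nat_lit 32,nat_lit 8,nat_lit 4,nat_lit 2,nat_lit 1] (nat_lit 16) (nat_lit 2) (nat_lit 8) [Ins.fr [nat_lit 0],Ins.ts (nat_lit 3) [nat_lit 0] [],Ins.ts (nat_lit 4) [nat_lit 0] [nat_lit 2,nat_lit 2,nat_lit 1],Ins.ts (nat_lit 2) [nat_lit 0,nat_lit 1] [],Ins.fr [nat_lit 1],Ins.ts (nat_lit 3) [nat_lit 0] [],Ins.ts (nat_lit 4) [nat_lit 0] [nat_lit 3,nat_lit 2,nat_lit 1],Ins.ts (nat_lit 2) [nat_lit 0,nat_lit 2] [],Ins.fr [nat_lit 2],Ins.ts (nat_lit 3) [nat_lit 0] [],Ins.ts (nat_lit 4) [nat_lit 0] [nat_lit 4,nat_lit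 3,nat_lit 2],Ins.ts (nat_lit 4) [nat_lit 0,nat_lit 3] [nat_lit 12,nat_lit 1,nat_lit 0],Ins.fr [nat_lit 2,nat_lit 3],Ins.ts (nat_lit 0) [nat_lit 0,nat_lit 0] [],Ins.fr [nat_lit 2,nat_lit 4],Ins.ts (nat_lit 0) [nat_lit 0,nat_lit 0] [nat_lit 3]] [nat_lit 1,nat_lit 2,nat_lit 4,nat_lit 32,nat_lit 64] [nat_lit 4,nat_lit 3,nat_lit 2,nat_lit 5,nat_lit 1,nat_lit 0] [] (Srch.rep (nat_lit 8) [] [nat_lit 8,nat_lit 4,nat_lit 2,nat_lit 1] [nat_lit 64,nat_lit 32] (Srch.rep (nat_lit 2) [] [] [] (Srch.rep (nat_lit 3) [] [] [] (Srch.rep (nat_lit 4) [nat_lit 4] [] [] (Srch.rep (nat_lit 68) [] [] [] (Srch.rep (nat_lit 96) [] [] [] (Srch.lf (Leaf.mp (nat_lit 54) [nat_lit 1,nat_lit 2,nat_lit 4,nat_lit 8,nat_lit 16,nat_lit 32,nat_lit 64] [])) (Srch.rep (nat_lit 97) [] [] [] (Srch.lf (Leaf.mp (nat_lit 54) [nat_lit 1,nat_lit 2,nat_lit 4,nat_lit 8,nat_lit 16,nat_lit 32,nat_lit 64] [])) (Srch.rep (nat_lit 98) [] [] [] (Srch.lf (Leaf.mp (nat_lit 54) [nat_lit 1,nat_lit 2,nat_lit 4,nat_lit 8,nat_lit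 16,nat_lit 32,nat_lit 64] [])) (Srch.rep (nat_lit 99) [] [] [] (Srch.lf (Leaf.mp (nat_lit 54) [nat_lit 1,nat_lit 2,nat_lit 4,nat_lit 8,nat_lit 16,nat_lit 32,nat_lit 64] [])) (Srch.rep (nat_lit 108) [] [] [] (Srch.lf (Leaf.mp (nat_lit 54) [nat_lit 1,nat_lit 2,nat_lit 4,nat_lit 8,nat_lit 16,nat_lit 32,nat_lit 64] [])) (Srch.rep (nat_lit 109) [] [] [] (Srch.lf (Leaf.mp (nat_lit 54) [nat_lit 1,nat_lit 2,nat_lit 4,nat_lit 8,nat_lit 16,nat_lit 32,nat_lit 64] [])) (Srch.rep (nat_lit 110) [] [] [] (Srch.lf (Leaf.mp (nat_lit 54) [nat_lit 1,nat_lit 2,nat_lit 4,nat_lit 8,nat_lit 16,nat_lit 32,nat_lit 64] [])) (Srch.rep (nat_lit 111) [] [] [] (Srch.lf (Leaf.mp (nat_lit 54) [nat_lit 1,nat_lit 2,nat_lit 4,nat_lit 8,nat_lit 16,nat_lit 32,nat_lit 64] [])) Srch.nil)))))))) (Srch.rep (nat_lit 69) [] [] [] (Srch.rep (nat_lit 96) [] [] [] (Srch.lf (Leaf.mp (nat_lit 54) [nat_lit 1,nat_lit 2,nat_lit 4,nat_lit 8,nat_lit 16,nat_lit 32,nat_lit 64] [])) (Srch.rep (nat_lit 97) [] [] [] (Srch.lf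 (Leaf.mp (nat_lit 54) [nat_lit 1,nat_lit 2,nat_lit 4,nat_lit 8,nat_lit 16,nat_lit 32,nat_lit 64] [])) (Srch.rep (nat_lit 98) [] [] [] (Srch.lf (Leaf.mp (nat_lit 54) [nat_lit 1,nat_lit 2,nat_lit 4,nat_lit 8,nat_lit 16,nat_lit 32,nat_lit 64] [])) (Srch.rep (nat_lit 99) [] [] [] (Srch.lf (Leaf.mp (nat_lit 54) [nat_lit 1,nat_lit 2,nat_lit 4,nat_lit 8,nat_lit 16,nat_lit 32,nat_lit 64] [])) (Srch.rep (nat_lit 108) [] [] [] (Srch.lf (Leaf.mp (nat_lit 54) [nat_lit 1,nat_lit 2,nat_lit 4,nat_lit 8,nat_lit 16,nat_lit 32,nat_lit 64] [])) (Srch.rep (nat_lit 109) [] [] [] (Srch.lf (Leaf.mp (nat_lit 54) [nat_lit 1,nat_lit 2,nat_lit 4,nat_lit 8,nat_lit 16,nat_lit 32,nat_lit 64] [])) (Srch.rep (nat_lit 110) [] [] [] (Srch.lf (Leaf.mp (nat_lit 54) [nat_lit 1,nat_lit 2,nat_lit 4,nat_lit 8,nat_lit 16,nat_lit 32,nat_lit 64] [])) (Srch.rep (nat_lit 111) [] [] [] (Srch.lf (Leaf.mp (nat_lit 54) [nat_lit 1,nat_lit 2,nat_lit 4,nat_lit 8,nat_lit 16,nat_lit 32,nat_lit 64] [])) Srch.nil))))))))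 (Srch.rep (nat_lit 72) [] [] [] (Srch.rep (nat_lit 96) [] [] [] (Srch.lf (Leaf.mp (nat_lit 54) [nat_lit 1,nat_lit 2,nat_lit 4,nat_lit 8,nat_lit 16,nat_lit 32,nat_lit 64] [])) (Srch.rep (nat_lit 97) [] [] [] (Srch.lf (Leaf.mp (nat_lit 54) [nat_lit 1,nat_lit 2,nat_lit 4,nat_lit 8,nat_lit 16,nat_lit 32,nat_lit 64] [])) (Srch.rep (nat_lit 98) [] [] [] (Srch.lf (Leaf.mp (nat_lit 54) [nat_lit 1,nat_lit 2,nat_lit 4,nat_lit 8,nat_lit 16,nat_lit 32,nat_lit 64] [])) (Srch.rep (nat_lit 99) [] [] [] (Srch.lf (Leaf.mp (nat_lit 54) [nat_lit 1,nat_lit 2,nat_lit 4,nat_lit 8,nat_lit 16,nat_lit 32,nat_lit 64] [])) (Srch.rep (nat_lit 108) [] [] [] (Srch.lf (Leaf.mp (nat_lit 54) [nat_lit 1,nat_lit 2,nat_lit 4,nat_lit 8,nat_lit 16,nat_lit 32,nat_lit 64] [])) (Srch.rep (nat_lit 109) [] [] [] (Srch.lf (Leaf.mp (nat_lit 54) [nat_lit 1,nat_lit 2,nat_lit 4,nat_lit 8,nat_lit 16,nat_lit 32,nat_lit 64] [])) (Srch.rep (nat_lit 110) [] [] [] (Srch.lf (Leaf.mp (nat_lit 54) [nat_lit 1,nat_lit 2,nat_lit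 4,nat_lit 8,nat_lit 16,nat_lit 32,nat_lit 64] [])) (Srch.rep (nat_lit 111) [] [] [] (Srch.lf (Leaf.mp (nat_lit 54) [nat_lit 1,nat_lit 2,nat_lit 4,nat_lit 8,nat_lit 16,nat_lit 32,nat_lit 64] [])) Srch.nil)))))))) (Srch.rep (nat_lit 73) [] [] [] (Srch.rep (nat_lit 96) [] [] [] (Srch.lf (Leaf.mp (nat_lit 54) [nat_lit 1,nat_lit 2,nat_lit 4,nat_lit 8,nat_lit 16,nat_lit 32,nat_lit 64] [])) (Srch.rep (nat_lit 97) [] [] [] (Srch.lf (Leaf.mp (nat_lit 54) [nat_lit 1,nat_lit 2,nat_lit 4,nat_lit 8,nat_lit 16,nat_lit 32,nat_lit 64] [])) (Srch.rep (nat_lit 98) [] [] [] (Srch.lf (Leaf.mp (nat_lit 54) [nat_lit 1,nat_lit 2,nat_lit 4,nat_lit 8,nat_lit 16,nat_lit 32,nat_lit 64] [])) (Srch.rep (nat_lit 99) [] [] [] (Srch.lf (Leaf.mp (nat_lit 54) [nat_lit 1,nat_lit 2,nat_lit 4,nat_lit 8,nat_lit 16,nat_lit 32,nat_lit 64] [])) (Srch.rep (nat_lit 108) [] [] [] (Srch.lf (Leaf.mp (nat_lit 54) [nat_lit 1,nat_lit 2,nat_lit 4,nat_lit 8,nat_lit 16,nat_lit 32,nat_lit 64] [])) (Srch.rep (nat_lit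 109) [] [] [] (Srch.lf (Leaf.mp (nat_lit 54) [nat_lit 1,nat_lit 2,nat_lit 4,nat_lit 8,nat_lit 16,nat_lit 32,nat_lit 64] [])) (Srch.rep (nat_lit 110) [] [] [] (Srch.lf (Leaf.mp (nat_lit 54) [nat_lit 1,nat_lit 2,nat_lit 4,nat_lit 8,nat_lit 16,nat_lit 32,nat_lit 64] [])) (Srch.rep (nat_lit 111) [] [] [] (Srch.lf (Leaf.mp (nat_lit 54) [nat_lit 1,nat_lit 2,nat_lit 4,nat_lit 8,nat_lit 16,nat_lit 32,nat_lit 64] [])) Srch.nil)))))))) Srch.nil)))) Srch.nil) Srch.nil) Srch.nil) Srch.nil)
noncomputable def c55_1 : Node :=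
  Node.sp (nat_lit 34) (Node.lf (Leaf.pt (nat_lit 0) (nat_lit 34) [nat_lit 80])) (Node.st (nat_lit 0) (nat_lit 34) (nat_lit 0) (Node.sp (nat_lit 44) (Node.lf (Leaf.pt (nat_lit 0) (nat_lit 44) [nat_lit 86])) (Node.st (nat_lit 0) (nat_lit 44) (nat_lit 0) (Node.sp (nat_lit 46) (Node.lf (Leaf.pt (nat_lit 0) (nat_lit 46) [nat_lit 80])) (Node.st (nat_lit 0) (nat_lit 46) (nat_lit 0) (Node.sp (nat_lit 68) (Node.lf (Leaf.st (nat_lit 1) (nat_lit 4) (nat_lit 68) (Leaf.st (nat_lit 1) (nat_lit 16) (nat_lit 68) (Leaf.st (nat_lit 1) (nat_lit 20) (nat_lit 68) (Leaf.pt (nat_lit 15) (nat_lit 68) [nat_lit 2,nat_lit 45,nat_lit 46]))))) (Node.st (nat_lit 0) (nat_lit 68) (nat_lit 0) (Node.sp (nat_lit 69) (Node.lf (Leaf.st (nat_lit 1) (nat_lit 4) (nat_lit 69) (Leaf.st (nat_lit 1) (nat_lit 20) (nat_lit 69) (Leaf.pt (nat_lit 8) (nat_lit 69) [nat_lit 2,nat_lit 44])))) (Node.st (nat_lit 0) (nat_lit 69) (nat_lit 0) (Node.sp (nat_lit 72) (Node.lf (Leaf.st (nat_lit 1) (nat_lit 4) (nat_lit 72) (Leaf.st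 (nat_lit 1) (nat_lit 16) (nat_lit 72) (Leaf.st (nat_lit 1) (nat_lit 20) (nat_lit 72) (Leaf.pt (nat_lit 15) (nat_lit 72) [nat_lit 2,nat_lit 45,nat_lit 46]))))) (Node.st (nat_lit 0) (nat_lit 72) (nat_lit 0) (Node.sp (nat_lit 73) (Node.lf (Leaf.st (nat_lit 1) (nat_lit 4) (nat_lit 73) (Leaf.st (nat_lit 1) (nat_lit 20) (nat_lit 73) (Leaf.pt (nat_lit 8) (nat_lit 73) [nat_lit 2,nat_lit 44])))) (Node.st (nat_lit 0) (nat_lit 73) (nat_lit 0) (Node.ext [[nat_lit 8,nat_lit 4,nat_lit 2,nat_lit 1]] (nat_lit 8) [Ins.ts (nat_lit 4) [nat_lit 0] [nat_lit 8,nat_lit 0,nat_lit 0],Ins.fr [nat_lit 0],Ins.ts (nat_lit 1) [nat_lit 0,nat_lit 0] [],Ins.fr [nat_lit 1],Ins.ts (nat_lit 1) [nat_lit 0,nat_lit 0] [],Ins.ts (nat_lit 3) [nat_lit 0,nat_lit 1] [],Ins.ts (nat_lit 3) [nat_lit 0,nat_lit 1,nat_lit 2] [],Ins.fr [nat_lit 2],Ins.ts (nat_lit 3) [nat_lit 0] [],Ins.ts (nat_lit 4) [nat_lit 0] [nat_lit 2,nat_lit 0,nat_lit 0],Ins.ts (nat_lit 2) [nat_lit 0,nat_lit 3] [],Ins.ts (nat_lit 1) [nat_lit 0]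 [],Ins.ts (nat_lit 2) [nat_lit 2,nat_lit 0,nat_lit 3] [],Ins.ts (nat_lit 0) [nat_lit 2,nat_lit 0,nat_lit 2] [nat_lit 0],Ins.fr [nat_lit 1,nat_lit 1,nat_lit 3],Ins.ts (nat_lit 0) [nat_lit 0,nat_lit 0] [],Ins.ts (nat_lit 3) [nat_lit 0] [],Ins.ts (nat_lit 2) [nat_lit 2,nat_lit 0] [],Ins.ts (nat_lit 0) [nat_lit 2,nat_lit 0,nat_lit 2] [nat_lit 0],Ins.fr [nat_lit 1,nat_lit 4],Ins.ts (nat_lit 0) [nat_lit 0,nat_lit 0] [nat_lit 2],Ins.ts (nat_lit 0) [nat_lit 5,nat_lit 1,nat_lit 4] [nat_lit 0,nat_lit 3,nat_lit 0],Ins.df [nat_lit 3,nat_lit 3],Ins.df [nat_lit 0,nat_lit 4,nat_lit 5]] [nat_lit 16,nat_lit 20,nat_lit 2,nat_lit 32,nat_lit 64] [nat_lit 1,nat_lit 4,nat_lit 0,nat_lit 7,nat_lit 6,nat_lit 3,nat_lit 2] (Srch.rep (nat_lit 8) [nat_lit 2] [nat_lit 16,nat_lit 8,nat_lit 4,nat_lit 2,nat_lit 1] [nat_lit 64,nat_lit 32] (Srch.rep (nat_lit 16) [] [] [] (Srch.rep (nat_lit 20) [nat_lit 16] [] [] (Srch.rep (nat_lit 2) [nat_lit 4] [] [] (Srch.rep (nat_lit 32) [] [] [] (Srch.rep (nat_lit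 64) [] [] [] (Srch.fin [nat_lit 64,nat_lit 16] [nat_lit 0] (((nat_lit 0),(Leaf.pt (nat_lit 11) (nat_lit 8) [nat_lit 4,nat_lit 16,nat_lit 128]))::(((nat_lit 1),(Leaf.pt (nat_lit 7) (nat_lit 8) [nat_lit 10,nat_lit 128]))::(((nat_lit 12),(Leaf.pt (nat_lit 7) (nat_lit 8) [nat_lit 9,nat_lit 128]))::(((nat_lit 13),(Leaf.pt (nat_lit 7) (nat_lit 8) [nat_lit 9,nat_lit 128]))::[]))))) (Srch.rep (nat_lit 65) [] [] [] (Srch.fin [nat_lit 64,nat_lit 16] [nat_lit 0] (((nat_lit 0),(Leaf.pt (nat_lit 11) (nat_lit 8) [nat_lit 4,nat_lit 16,nat_lit 128]))::(((nat_lit 1),(Leaf.pt (nat_lit 7) (nat_lit 8) [nat_lit 10,nat_lit 128]))::(((nat_lit 12),(Leaf.pt (nat_lit 7) (nat_lit 8) [nat_lit 9,nat_lit 128]))::(((nat_lit 13),(Leaf.pt (nat_lit 7) (nat_lit 8) [nat_lit 9,nat_lit 128]))::[]))))) (Srch.rep (nat_lit 76) [] [] [] (Srch.fin [nat_lit 64,nat_lit 16] [nat_lit 0] (((nat_lit 0),(Leaf.pt (nat_lit 11) (nat_lit 8) [nat_lit 4,nat_lit 16,nat_lit 128]))::(((nat_lit 1),(Leaf.pt (nat_lit 7) (nat_lit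 8) [nat_lit 10,nat_lit 128]))::(((nat_lit 12),(Leaf.pt (nat_lit 7) (nat_lit 8) [nat_lit 9,nat_lit 128]))::(((nat_lit 13),(Leaf.pt (nat_lit 7) (nat_lit 8) [nat_lit 9,nat_lit 128]))::[]))))) (Srch.rep (nat_lit 77) [] [] [] (Srch.fin [nat_lit 64,nat_lit 16] [nat_lit 0] (((nat_lit 0),(Leaf.pt (nat_lit 11) (nat_lit 8) [nat_lit 4,nat_lit 16,nat_lit 128]))::(((nat_lit 1),(Leaf.pt (nat_lit 7) (nat_lit 8) [nat_lit 10,nat_lit 128]))::(((nat_lit 12),(Leaf.pt (nat_lit 7) (nat_lit 8) [nat_lit 9,nat_lit 128]))::(((nat_lit 13),(Leaf.pt (nat_lit 7) (nat_lit 8) [nat_lit 9,nat_lit 128]))::[]))))) Srch.nil)))) Srch.nil) Srch.nil) (Srch.rep (nat_lit 21) [nat_lit 16] [] [] (Srch.rep (nat_lit 2) [nat_lit 4] [] [] (Srch.rep (nat_lit 32) [] [] [] (Srch.rep (nat_lit 66) [] [] [] (Srch.fin [nat_lit 64,nat_lit 16] [nat_lit 0,nat_lit 12] (((nat_lit 0),(Leaf.pt (nat_lit 7) (nat_lit 8) [nat_lit 10,nat_lit 132]))::[])) (Srch.rep (nat_lit 67) [] [] [] (Srch.fin [nat_lit 64,nat_lit 16] [nat_lit 0,nat_lit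 12] (((nat_lit 0),(Leaf.pt (nat_lit 7) (nat_lit 8) [nat_lit 10,nat_lit 132]))::[])) (Srch.rep (nat_lit 78) [] [] [] (Srch.fin [nat_lit 64] [] []) (Srch.rep (nat_lit 79) [] [] [] (Srch.fin [nat_lit 64] [] []) Srch.nil)))) Srch.nil) Srch.nil) (Srch.rep (nat_lit 28) [nat_lit 16] [] [] (Srch.rep (nat_lit 2) [] [] [] Srch.nil Srch.nil) (Srch.rep (nat_lit 29) [nat_lit 16] [] [] (Srch.rep (nat_lit 2) [] [] [] Srch.nil Srch.nil) Srch.nil)))) (Srch.rep (nat_lit 20) [] [] [] (Srch.rep (nat_lit 16) [] [] [] Srch.nil (Srch.rep (nat_lit 17) [] [] [] Srch.nil (Srch.rep (nat_lit 24) [] [] [] Srch.nil (Srch.rep (nat_lit 25) [] [] [] Srch.nil Srch.nil)))) (Srch.rep (nat_lit 24) [] [] [] (Srch.rep (nat_lit 20) [] [] [] Srch.nil (Srch.rep (nat_lit 21) [] [] [] Srch.nil (Srch.rep (nat_lit 28) [] [] [] Srch.nil (Srch.rep (nat_lit 29) [] [] [] Srch.nil Srch.nil)))) (Srch.rep (nat_lit 28) [] [] [] (Srch.rep (nat_lit 16) [] [] [] Srch.nil (Srch.rep (nat_lit 17) [] [] [] Srch.nil (Srch.rep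 (nat_lit 24) [] [] [] Srch.nil (Srch.rep (nat_lit 25) [] [] [] Srch.nil Srch.nil)))) Srch.nil)))) Srch.nil) c55_0))))))))))))))
noncomputable def t55 : ℕ := nat_lit 0x6e006e006e006e006c006c006c006c006c006c006c006c006e006e006e006e0043004300430043004100410041004100410041004100410043004300430043006f006f006f006f006d006d006d006d006d006d006d006d006f006f006f006f0042004200420042004000400040004000400040004000400042004200420042006d006d006d006d006f006f006f006f006f006f006f006f006d006d006d006d0041004100410041004300430043004300430043004300430041004100410041006c006c006c006c006e006e006e006e006e006e006e006e006c006c006c006c004000400040004000420042004200420042004200420042004000400040004000200020002000200021002100210021002100210021002100200020002000200020002000200020002100210021002100210021002100210020002000200020002000200020002000210021002100210021002100210021002000200020002000200020002000200021002100210021002100210021002100200020002000200010001000110011001000100011001100100010001100110010001000110011001100110010001000110011001000100011001100100010001100110010001000080008000800080008000800080008000800080008000800080008000800080004000400040004000400040004000400020002000200020001000100000000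
noncomputable def c55 : Node :=
  (Node.st (nat_lit 0) (nat_lit 8) (nat_lit 0) (Node.st (nat_lit 0) (nat_lit 26) (nat_lit 0) (Node.sp (nat_lit 1) (Node.lf (Leaf.pt (nat_lit 7) (nat_lit 1) [nat_lit 8,nat_lit 16])) (Node.sp (nat_lit 2) (Node.lf (Leaf.pt (nat_lit 0) (nat_lit 2) [nat_lit 96])) (Node.st (nat_lit 0) (nat_lit 2) (nat_lit 0) (Node.sp (nat_lit 4) (Node.lf (Leaf.pt (nat_lit 7) (nat_lit 4) [nat_lit 8,nat_lit 16])) (Node.st (nat_lit 0) (nat_lit 4) (nat_lit 0) (Node.sp (nat_lit 12) (Node.lf (Leaf.pt (nat_lit 7) (nat_lit 12) [nat_lit 8,nat_lit 16])) (Node.sp (nat_lit 13) (Node.lf (Leaf.pt (nat_lit 7) (nat_lit 13) [nat_lit 8,nat_lit 16])) (Node.sp (nat_lit 14) (Node.lf (Leaf.pt (nat_lit 0) (nat_lit 14) [nat_lit 64])) (Node.st (nat_lit 0) (nat_lit 14) (nat_lit 0) (Node.sp (nat_lit 18) (Node.lf (Leaf.pt (nat_lit 6) (nat_lit 18) [nat_lit 8])) (Node.st (nat_lit 0) (nat_lit 18) (nat_lit 0) (Node.sp (nat_lit 22) (Node.lf (Leaf.pt (nat_lit 7) (nat_lit 22) [nat_lit 26,nat_lit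 38])) (Node.st (nat_lit 0) (nat_lit 22) (nat_lit 0) (Node.sp (nat_lit 30) (Node.lf (Leaf.pt (nat_lit 8) (nat_lit 30) [nat_lit 4,nat_lit 18])) (Node.st (nat_lit 0) (nat_lit 30) (nat_lit 0) (Node.sp (nat_lit 32) (Node.lf (Leaf.pt (nat_lit 0) (nat_lit 32) [nat_lit 84])) (Node.st (nat_lit 0) (nat_lit 32) (nat_lit 0) c55_1)))))))))))))))))))
theorem ok55 : nodeOK DB PT 55 t55 (nat_lit 0xff000000ff0c33cf00fccccffff) (nat_lit 0x2222222200000000000000000000000022222222000011000011001111002222000000002222110011001100110044ff4455445544ff) c55 = true := by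
  decide +kernel
noncomputable def c56_0 : Node :=
  Node.st (nat_lit 0) (nat_lit 44) (nat_lit 0) (Node.sp (nat_lit 46) (Node.lf (Leaf.pt (nat_lit 0) (nat_lit 46) [nat_lit 82])) (Node.st (nat_lit 0) (nat_lit 46) (nat_lit 0) (Node.ext [[nat_lit 8,nat_lit 4,nat_lit 2,nat_lit 1]] (nat_lit 8) [Ins.ts (nat_lit 4) [nat_lit 0] [nat_lit 8,nat_lit 0,nat_lit 0],Ins.fr [nat_lit 0],Ins.ts (nat_lit 1) [nat_lit 0,nat_lit 0] [],Ins.fr [nat_lit 1],Ins.ts (nat_lit 1) [nat_lit 0,nat_lit 0] [],Ins.ts (nat_lit 3) [nat_lit 0,nat_lit 1] [],Ins.ts (nat_lit 3) [nat_lit 0,nat_lit 1,nat_lit 2] [],Ins.fr [nat_lit 2],Ins.ts (nat_lit 3) [nat_lit 0] [],Ins.ts (nat_lit 4) [nat_lit 0] [nat_lit 2,nat_lit 0,nat_lit 0],Ins.ts (nat_lit 2) [nat_lit 0,nat_lit 3] [],Ins.ts (nat_lit 1) [nat_lit 0] [],Ins.ts (nat_lit 2) [nat_lit 2,nat_lit 0,nat_lit 3] [],Ins.ts (nat_lit 0) [nat_lit 2,nat_lit 0,nat_lit 2] [nat_lit 0],Ins.fr [nat_lit 1,nat_lit 1,nat_lit 3],Ins.ts (nat_lit 0) [nat_lit 0,nat_lit 0] [],Ins.ts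 (nat_lit 3) [nat_lit 0] [],Ins.ts (nat_lit 2) [nat_lit 2,nat_lit 0] [],Ins.ts (nat_lit 0) [nat_lit 2,nat_lit 0,nat_lit 2] [nat_lit 0],Ins.fr [nat_lit 1,nat_lit 4],Ins.ts (nat_lit 0) [nat_lit 4,nat_lit 0,nat_lit 0] [nat_lit 2,nat_lit 4],Ins.ts (nat_lit 0) [nat_lit 5,nat_lit 1,nat_lit 0] [nat_lit 3,nat_lit 0,nat_lit 4],Ins.df [nat_lit 3,nat_lit 3],Ins.df [nat_lit 0,nat_lit 4,nat_lit 5]] [nat_lit 16,nat_lit 20,nat_lit 2,nat_lit 32,nat_lit 64] [nat_lit 1,nat_lit 4,nat_lit 0,nat_lit 7,nat_lit 6,nat_lit 3,nat_lit 2] (Srch.rep (nat_lit 8) [nat_lit 2] [nat_lit 16,nat_lit 8,nat_lit 4,nat_lit 2,nat_lit 1] [nat_lit 64,nat_lit 32] (Srch.rep (nat_lit 16) [] [] [] (Srch.rep (nat_lit 20) [nat_lit 16] [] [] (Srch.rep (nat_lit 2) [nat_lit 4] [] [] (Srch.rep (nat_lit 32) [] [] [] (Srch.rep (nat_lit 64) [] [] [] (Srch.fin [nat_lit 64,nat_lit 16] [nat_lit 0] (((nat_lit 0),(Leaf.pt (nat_lit 11) (nat_lit 8) [nat_lit 4,nat_lit 16,nat_lit 128]))::(((nat_lit 1),(Leaf.pt (nat_lit 7) (nat_lit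 8) [nat_lit 10,nat_lit 128]))::(((nat_lit 12),(Leaf.pt (nat_lit 7) (nat_lit 8) [nat_lit 9,nat_lit 128]))::(((nat_lit 13),(Leaf.pt (nat_lit 7) (nat_lit 8) [nat_lit 9,nat_lit 128]))::[]))))) (Srch.rep (nat_lit 65) [] [] [] (Srch.fin [nat_lit 64,nat_lit 16] [nat_lit 0] (((nat_lit 0),(Leaf.pt (nat_lit 11) (nat_lit 8) [nat_lit 4,nat_lit 16,nat_lit 128]))::(((nat_lit 1),(Leaf.pt (nat_lit 7) (nat_lit 8) [nat_lit 10,nat_lit 128]))::(((nat_lit 12),(Leaf.pt (nat_lit 7) (nat_lit 8) [nat_lit 9,nat_lit 128]))::(((nat_lit 13),(Leaf.pt (nat_lit 7) (nat_lit 8) [nat_lit 9,nat_lit 128]))::[]))))) (Srch.rep (nat_lit 76) [] [] [] (Srch.fin [nat_lit 64,nat_lit 16] [nat_lit 0] (((nat_lit 0),(Leaf.pt (nat_lit 11) (nat_lit 8) [nat_lit 4,nat_lit 16,nat_lit 128]))::(((nat_lit 1),(Leaf.pt (nat_lit 7) (nat_lit 8) [nat_lit 10,nat_lit 128]))::(((nat_lit 12),(Leaf.pt (nat_lit 7) (nat_lit 8) [nat_lit 9,nat_lit 128]))::(((nat_lit 13),(Leaf.pt (nat_lit 7) (nat_lit 8) [nat_lit 9,nat_lit 128]))::[])))))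 (Srch.rep (nat_lit 77) [] [] [] (Srch.fin [nat_lit 64,nat_lit 16] [nat_lit 0] (((nat_lit 0),(Leaf.pt (nat_lit 11) (nat_lit 8) [nat_lit 4,nat_lit 16,nat_lit 128]))::(((nat_lit 1),(Leaf.pt (nat_lit 7) (nat_lit 8) [nat_lit 10,nat_lit 128]))::(((nat_lit 12),(Leaf.pt (nat_lit 7) (nat_lit 8) [nat_lit 9,nat_lit 128]))::(((nat_lit 13),(Leaf.pt (nat_lit 7) (nat_lit 8) [nat_lit 9,nat_lit 128]))::[]))))) Srch.nil)))) Srch.nil) Srch.nil) (Srch.rep (nat_lit 21) [nat_lit 16] [] [] (Srch.rep (nat_lit 2) [nat_lit 4] [] [] (Srch.rep (nat_lit 32) [] [] [] (Srch.rep (nat_lit 66) [] [] [] (Srch.fin [nat_lit 64,nat_lit 16] [nat_lit 0,nat_lit 12] (((nat_lit 0),(Leaf.pt (nat_lit 7) (nat_lit 8) [nat_lit 10,nat_lit 132]))::[])) (Srch.rep (nat_lit 67) [] [] [] (Srch.fin [nat_lit 64,nat_lit 16] [nat_lit 0,nat_lit 12] (((nat_lit 0),(Leaf.pt (nat_lit 7) (nat_lit 8) [nat_lit 10,nat_lit 132]))::[])) (Srch.rep (nat_lit 78) [] [] [] (Srch.fin [nat_lit 64] [] []) (Srch.rep (nat_lit 79) [] [] [] (Srch.fin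 [nat_lit 64] [] []) Srch.nil)))) Srch.nil) Srch.nil) (Srch.rep (nat_lit 28) [nat_lit 16] [] [] (Srch.rep (nat_lit 2) [] [] [] Srch.nil Srch.nil) (Srch.rep (nat_lit 29) [nat_lit 16] [] [] (Srch.rep (nat_lit 2) [] [] [] Srch.nil Srch.nil) Srch.nil)))) (Srch.rep (nat_lit 20) [] [] [] (Srch.rep (nat_lit 16) [] [] [] Srch.nil (Srch.rep (nat_lit 17) [] [] [] Srch.nil (Srch.rep (nat_lit 24) [] [] [] Srch.nil (Srch.rep (nat_lit 25) [] [] [] Srch.nil Srch.nil)))) (Srch.rep (nat_lit 24) [] [] [] (Srch.rep (nat_lit 20) [] [] [] Srch.nil (Srch.rep (nat_lit 21) [] [] [] Srch.nil (Srch.rep (nat_lit 28) [] [] [] Srch.nil (Srch.rep (nat_lit 29) [] [] [] Srch.nil Srch.nil)))) (Srch.rep (nat_lit 28) [] [] [] (Srch.rep (nat_lit 16) [] [] [] Srch.nil (Srch.rep (nat_lit 17) [] [] [] Srch.nil (Srch.rep (nat_lit 24) [] [] [] Srch.nil (Srch.rep (nat_lit 25) [] [] [] Srch.nil Srch.nil)))) Srch.nil)))) Srch.nil) (Node.frat (nat_lit 1) (nat_lit 0) (nat_lit 0) [[],[nat_lit 12],[nat_lit 2,nat_lit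 1,nat_lit 12]] [] [((nat_lit 1),(nat_lit 0)),((nat_lit 2),(nat_lit 1)),((nat_lit 3),(nat_lit 2))] [nat_lit 1] [nat_lit 64,nat_lit 32,nat_lit 8,nat_lit 4,nat_lit 2,nat_lit 1] (nat_lit 16) (nat_lit 2) (nat_lit 8) [Ins.fr [nat_lit 0],Ins.ts (nat_lit 3) [nat_lit 0] [],Ins.ts (nat_lit 4) [nat_lit 0] [nat_lit 2,nat_lit 2,nat_lit 1],Ins.ts (nat_lit 2) [nat_lit 0,nat_lit 1] [],Ins.fr [nat_lit 1],Ins.ts (nat_lit 3) [nat_lit 0] [],Ins.ts (nat_lit 4) [nat_lit 0] [nat_lit 3,nat_lit 2,nat_lit 1],Ins.ts (nat_lit 2) [nat_lit 0,nat_lit 2] [],Ins.fr [nat_lit 2],Ins.ts (nat_lit 3) [nat_lit 0] [],Ins.ts (nat_lit 4) [nat_lit 0] [nat_lit 4,nat_lit 3,nat_lit 2],Ins.ts (nat_lit 4) [nat_lit 0,nat_lit 3] [nat_lit 12,nat_lit 1,nat_lit 0],Ins.fr [nat_lit 2,nat_lit 3],Ins.ts (nat_lit 0) [nat_lit 0,nat_lit 0] [],Ins.fr [nat_lit 2,nat_lit 4]] [nat_lit 1,nat_lit 2,nat_lit 4,nat_lit 32,nat_lit 64] [nat_lit 4,nat_lit 3,nat_lit 2,nat_lit 5,nat_lit 1,nat_lit 0] [] (Srch.rep (nat_lit 8) [] [nat_lit 8,nat_lit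 4,nat_lit 2,nat_lit 1] [nat_lit 64,nat_lit 32] (Srch.rep (nat_lit 2) [] [] [] (Srch.rep (nat_lit 3) [] [] [] (Srch.rep (nat_lit 4) [] [] [] Srch.nil Srch.nil) Srch.nil) Srch.nil) Srch.nil)))))
noncomputable def t56 : ℕ := nat_lit 0x6f006f006f006f006d006d006d006d006d006d006d006d006f006f006f006f0042004200420042004000400040004000400040004000400042004200420042006e006e006e006e006c006c006c006c006c006c006c006c006e006e006e006e0043004300430043004100410041004100410041004100410043004300430043006d006d006d006d006f006f006f006f006f006f006f006f006d006d006d006d0041004100410041004300430043004300430043004300430041004100410041006c006c006c006c006e006e006e006e006e006e006e006e006c006c006c006c004000400040004000420042004200420042004200420042004000400040004000200020002000200021002100210021002100210021002100200020002000200020002000200020002100210021002100210021002100210020002000200020002000200020002000210021002100210021002100210021002000200020002000200020002000200021002100210021002100210021002100200020002000200010001000110011001000100011001100100010001100110010001000110011001100110010001000110011001000100011001100100010001100110010001000080008000800080008000800080008000800080008000800080008000800080004000400040004000400040004000400020002000200020001000100000000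
noncomputable def c56 : Node :=
  (Node.st (nat_lit 0) (nat_lit 8) (nat_lit 0) (Node.st (nat_lit 0) (nat_lit 26) (nat_lit 0) (Node.sp (nat_lit 1) (Node.lf (Leaf.pt (nat_lit 7) (nat_lit 1) [nat_lit 8,nat_lit 16])) (Node.sp (nat_lit 2) (Node.lf (Leaf.pt (nat_lit 0) (nat_lit 2) [nat_lit 64])) (Node.st (nat_lit 0) (nat_lit 2) (nat_lit 0) (Node.sp (nat_lit 4) (Node.lf (Leaf.pt (nat_lit 7) (nat_lit 4) [nat_lit 8,nat_lit 16])) (Node.st (nat_lit 0) (nat_lit 4) (nat_lit 0) (Node.sp (nat_lit 12) (Node.lf (Leaf.pt (nat_lit 7) (nat_lit 12) [nat_lit 8,nat_lit 16])) (Node.sp (nat_lit 13) (Node.lf (Leaf.pt (nat_lit 7) (nat_lit 13) [nat_lit 8,nat_lit 16])) (Node.sp (nat_lit 14) (Node.lf (Leaf.pt (nat_lit 0) (nat_lit 14) [nat_lit 64])) (Node.st (nat_lit 0) (nat_lit 14) (nat_lit 0) (Node.sp (nat_lit 18) (Node.lf (Leaf.pt (nat_lit 6) (nat_lit 18) [nat_lit 8])) (Node.st (nat_lit 0) (nat_lit 18) (nat_lit 0) (Node.sp (nat_lit 22) (Node.lf (Leaf.pt (nat_lit 7) (nat_lit 22) [nat_lit 26,nat_lit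 38])) (Node.st (nat_lit 0) (nat_lit 22) (nat_lit 0) (Node.sp (nat_lit 30) (Node.lf (Leaf.pt (nat_lit 8) (nat_lit 30) [nat_lit 4,nat_lit 18])) (Node.st (nat_lit 0) (nat_lit 30) (nat_lit 0) (Node.sp (nat_lit 32) (Node.lf (Leaf.pt (nat_lit 0) (nat_lit 32) [nat_lit 84])) (Node.st (nat_lit 0) (nat_lit 32) (nat_lit 0) (Node.sp (nat_lit 34) (Node.lf (Leaf.pt (nat_lit 0) (nat_lit 34) [nat_lit 80])) (Node.st (nat_lit 0) (nat_lit 34) (nat_lit 0) (Node.sp (nat_lit 44) (Node.lf (Leaf.pt (nat_lit 0) (nat_lit 44) [nat_lit 84])) c56_0))))))))))))))))))))))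
theorem ok56 : nodeOK DB PT 56 t56 (nat_lit 0xc33cf00fccccffff) (nat_lit 0x11000011001111002222000000002222110011001100110044ff4455445544ff) c56 = true := by
  decide +kernel
noncomputable def c57_0 : Node :=
  Node.sp (nat_lit 30) (Node.lf (Leaf.pt (nat_lit 8) (nat_lit 30) [nat_lit 4,nat_lit 18])) (Node.st (nat_lit 0) (nat_lit 30) (nat_lit 0) (Node.sp (nat_lit 32) (Node.lf (Leaf.pt (nat_lit 0) (nat_lit 32) [nat_lit 86])) (Node.st (nat_lit 0) (nat_lit 32) (nat_lit 0) (Node.sp (nat_lit 34) (Node.lf (Leaf.pt (nat_lit 0) (nat_lit 34) [nat_lit 80])) (Node.st (nat_lit 0) (nat_lit 34) (nat_lit 0) (Node.sp (nat_lit 44) (Node.lf (Leaf.pt (nat_lit 0) (nat_lit 44) [nat_lit 68])) (Node.st (nat_lit 0) (nat_lit 44) (nat_lit 0) (Node.sp (nat_lit 46) (Node.lf (Leaf.pt (nat_lit 0) (nat_lit 46) [nat_lit 68])) (Node.st (nat_lit 0) (nat_lit 46) (nat_lit 0) (Node.ext [[nat_lit 8,nat_lit 4,nat_lit 2,nat_lit 1]] (nat_lit 8) [Ins.ts (nat_lit 4) [nat_lit 0] [nat_lit 8,nat_lit 0,nat_lit 0],Ins.fr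 [nat_lit 0],Ins.ts (nat_lit 1) [nat_lit 0,nat_lit 0] [],Ins.fr [nat_lit 1],Ins.ts (nat_lit 1) [nat_lit 0,nat_lit 0] [],Ins.ts (nat_lit 3) [nat_lit 0,nat_lit 1] [],Ins.ts (nat_lit 3) [nat_lit 0,nat_lit 1,nat_lit 2] [],Ins.fr [nat_lit 2],Ins.ts (nat_lit 3) [nat_lit 0] [],Ins.ts (nat_lit 4) [nat_lit 0] [nat_lit 2,nat_lit 0,nat_lit 0],Ins.ts (nat_lit 2) [nat_lit 0,nat_lit 3] [],Ins.ts (nat_lit 1) [nat_lit 0] [],Ins.ts (nat_lit 2) [nat_lit 2,nat_lit 0,nat_lit 3] [],Ins.ts (nat_lit 0) [nat_lit 2,nat_lit 0,nat_lit 2] [nat_lit 0],Ins.fr [nat_lit 1,nat_lit 1,nat_lit 3],Ins.ts (nat_lit 0) [nat_lit 0,nat_lit 0] [],Ins.ts (nat_lit 3) [nat_lit 0] [],Ins.ts (nat_lit 2) [nat_lit 2,nat_lit 0] [],Ins.ts (nat_lit 0) [nat_lit 2,nat_lit 0,nat_lit 2] [nat_lit 0],Ins.fr [nat_lit 1,nat_lit 4],Ins.ts (nat_lit 0) [nat_lit 0,nat_lit 3,nat_lit 0] [nat_lit 3,nat_lit 1],Ins.ts (nat_lit 0) [nat_lit 5,nat_lit 1,nat_lit 0] [nat_lit 3,nat_lit 0,nat_lit 4],Ins.df [nat_lit 3,nat_lit 3],Ins.df [nat_lit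 0,nat_lit 4,nat_lit 5]] [nat_lit 16,nat_lit 20,nat_lit 2,nat_lit 32,nat_lit 64] [nat_lit 1,nat_lit 4,nat_lit 0,nat_lit 7,nat_lit 6,nat_lit 3,nat_lit 2] (Srch.rep (nat_lit 8) [nat_lit 2] [nat_lit 16,nat_lit 8,nat_lit 4,nat_lit 2,nat_lit 1] [nat_lit 64,nat_lit 32] (Srch.rep (nat_lit 16) [] [] [] (Srch.rep (nat_lit 20) [nat_lit 16] [] [] (Srch.rep (nat_lit 2) [nat_lit 4] [] [] (Srch.rep (nat_lit 32) [] [] [] (Srch.rep (nat_lit 64) [] [] [] (Srch.fin [nat_lit 64,nat_lit 16] [nat_lit 0] (((nat_lit 0),(Leaf.pt (nat_lit 11) (nat_lit 8) [nat_lit 4,nat_lit 16,nat_lit 128]))::(((nat_lit 1),(Leaf.pt (nat_lit 7) (nat_lit 8) [nat_lit 10,nat_lit 128]))::(((nat_lit 12),(Leaf.pt (nat_lit 7) (nat_lit 8) [nat_lit 9,nat_lit 128]))::(((nat_lit 13),(Leaf.pt (nat_lit 7) (nat_lit 8) [nat_lit 9,nat_lit 128]))::[]))))) (Srch.rep (nat_lit 65) [] [] [] (Srch.fin [nat_lit 64,nat_lit 16] [nat_lit 0] (((nat_lit 0),(Leaf.pt (nat_lit 11) (nat_lit 8) [nat_lit 4,nat_lit 16,nat_lit 128]))::(((nat_lit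 1),(Leaf.pt (nat_lit 7) (nat_lit 8) [nat_lit 10,nat_lit 128]))::(((nat_lit 12),(Leaf.pt (nat_lit 7) (nat_lit 8) [nat_lit 9,nat_lit 128]))::(((nat_lit 13),(Leaf.pt (nat_lit 7) (nat_lit 8) [nat_lit 9,nat_lit 128]))::[]))))) (Srch.rep (nat_lit 76) [] [] [] (Srch.fin [nat_lit 64,nat_lit 16] [nat_lit 0] (((nat_lit 0),(Leaf.pt (nat_lit 11) (nat_lit 8) [nat_lit 4,nat_lit 16,nat_lit 128]))::(((nat_lit 1),(Leaf.pt (nat_lit 7) (nat_lit 8) [nat_lit 10,nat_lit 128]))::(((nat_lit 12),(Leaf.pt (nat_lit 7) (nat_lit 8) [nat_lit 9,nat_lit 128]))::(((nat_lit 13),(Leaf.pt (nat_lit 7) (nat_lit 8) [nat_lit 9,nat_lit 128]))::[]))))) (Srch.rep (nat_lit 77) [] [] [] (Srch.fin [nat_lit 64,nat_lit 16] [nat_lit 0] (((nat_lit 0),(Leaf.pt (nat_lit 11) (nat_lit 8) [nat_lit 4,nat_lit 16,nat_lit 128]))::(((nat_lit 1),(Leaf.pt (nat_lit 7) (nat_lit 8) [nat_lit 10,nat_lit 128]))::(((nat_lit 12),(Leaf.pt (nat_lit 7) (nat_lit 8) [nat_lit 9,nat_lit 128]))::(((nat_lit 13),(Leaf.pt (nat_lit 7) (nat_lit 8)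 [nat_lit 9,nat_lit 128]))::[]))))) Srch.nil)))) Srch.nil) Srch.nil) (Srch.rep (nat_lit 21) [nat_lit 16] [] [] (Srch.rep (nat_lit 2) [nat_lit 4] [] [] (Srch.rep (nat_lit 32) [] [] [] Srch.nil Srch.nil) Srch.nil) (Srch.rep (nat_lit 28) [nat_lit 16] [] [] (Srch.rep (nat_lit 2) [] [] [] Srch.nil Srch.nil) (Srch.rep (nat_lit 29) [nat_lit 16] [] [] (Srch.rep (nat_lit 2) [] [] [] Srch.nil Srch.nil) Srch.nil)))) (Srch.rep (nat_lit 20) [] [] [] (Srch.rep (nat_lit 16) [] [] [] Srch.nil (Srch.rep (nat_lit 17) [] [] [] Srch.nil (Srch.rep (nat_lit 24) [] [] [] Srch.nil (Srch.rep (nat_lit 25) [] [] [] Srch.nil Srch.nil)))) (Srch.rep (nat_lit 24) [] [] [] (Srch.rep (nat_lit 20) [] [] [] Srch.nil (Srch.rep (nat_lit 21) [] [] [] Srch.nil (Srch.rep (nat_lit 28) [] [] [] Srch.nil (Srch.rep (nat_lit 29) [] [] [] Srch.nil Srch.nil)))) (Srch.rep (nat_lit 28) [] [] [] (Srch.rep (nat_lit 16) [] [] [] Srch.nil (Srch.rep (nat_lit 17) [] [] [] Srch.nil (Srch.rep (nat_lit 24) [] [] [] Srch.nil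 (Srch.rep (nat_lit 25) [] [] [] Srch.nil Srch.nil)))) Srch.nil)))) Srch.nil) (Node.frat (nat_lit 1) (nat_lit 0) (nat_lit 0) [[],[nat_lit 12],[nat_lit 2,nat_lit 1,nat_lit 12]] [] [((nat_lit 1),(nat_lit 0)),((nat_lit 2),(nat_lit 1)),((nat_lit 3),(nat_lit 2))] [nat_lit 1] [nat_lit 64,nat_lit 32,nat_lit 8,nat_lit 4,nat_lit 2,nat_lit 1] (nat_lit 16) (nat_lit 2) (nat_lit 8) [Ins.fr [nat_lit 0],Ins.ts (nat_lit 3) [nat_lit 0] [],Ins.ts (nat_lit 4) [nat_lit 0] [nat_lit 2,nat_lit 2,nat_lit 1],Ins.ts (nat_lit 2) [nat_lit 0,nat_lit 1] [],Ins.fr [nat_lit 1],Ins.ts (nat_lit 3) [nat_lit 0] [],Ins.ts (nat_lit 4) [nat_lit 0] [nat_lit 3,nat_lit 2,nat_lit 1],Ins.ts (nat_lit 2) [nat_lit 0,nat_lit 2] [],Ins.fr [nat_lit 2],Ins.ts (nat_lit 3) [nat_lit 0] [],Ins.ts (nat_lit 4) [nat_lit 0] [nat_lit 4,nat_lit 3,nat_lit 2],Ins.ts (nat_lit 4) [nat_lit 0,nat_lit 3] [nat_lit 12,nat_lit 1,nat_lit 0],Ins.fr [nat_lit 2,nat_lit 3],Ins.ts (nat_lit 0) [nat_lit 0,nat_lit 0] [],Ins.fr [nat_lit 2,nat_lit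 4]] [nat_lit 1,nat_lit 2,nat_lit 4,nat_lit 32,nat_lit 64] [nat_lit 4,nat_lit 3,nat_lit 2,nat_lit 5,nat_lit 1,nat_lit 0] [] (Srch.rep (nat_lit 8) [] [nat_lit 8,nat_lit 4,nat_lit 2,nat_lit 1] [nat_lit 64,nat_lit 32] (Srch.rep (nat_lit 2) [] [] [] (Srch.rep (nat_lit 3) [] [] [] (Srch.rep (nat_lit 4) [] [] [] Srch.nil Srch.nil) Srch.nil) Srch.nil) Srch.nil))))))))))))
noncomputable def t57 : ℕ := nat_lit 0x62006200620062006000600060006000600060006000600062006200620062004f004f004f004f004d004d004d004d004d004d004d004d004f004f004f004f0063006300630063006100610061006100610061006100610063006300630063004e004e004e004e004c004c004c004c004c004c004c004c004e004e004e004e006d006d006d006d006f006f006f006f006f006f006f006f006d006d006d006d0041004100410041004300430043004300430043004300430041004100410041006c006c006c006c006e006e006e006e006e006e006e006e006c006c006c006c004000400040004000420042004200420042004200420042004000400040004000200020002000200021002100210021002100210021002100200020002000200020002000200020002100210021002100210021002100210020002000200020002000200020002000210021002100210021002100210021002000200020002000200020002000200021002100210021002100210021002100200020002000200010001000110011001000100011001100100010001100110010001000110011001100110010001000110011001000100011001100100010001100110010001000080008000800080008000800080008000800080008000800080008000800080004000400040004000400040004000400020002000200020001000100000000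
noncomputable def c57 : Node :=
  (Node.st (nat_lit 0) (nat_lit 8) (nat_lit 0) (Node.st (nat_lit 0) (nat_lit 26) (nat_lit 0) (Node.sp (nat_lit 1) (Node.lf (Leaf.pt (nat_lit 7) (nat_lit 1) [nat_lit 8,nat_lit 16])) (Node.sp (nat_lit 2) (Node.lf (Leaf.pt (nat_lit 6) (nat_lit 2) [nat_lit 8])) (Node.st (nat_lit 0) (nat_lit 2) (nat_lit 0) (Node.sp (nat_lit 4) (Node.lf (Leaf.pt (nat_lit 7) (nat_lit 4) [nat_lit 8,nat_lit 16])) (Node.st (nat_lit 0) (nat_lit 4) (nat_lit 0) (Node.sp (nat_lit 12) (Node.lf (Leaf.pt (nat_lit 7) (nat_lit 12) [nat_lit 8,nat_lit 16])) (Node.sp (nat_lit 13) (Node.lf (Leaf.pt (nat_lit 7) (nat_lit 13) [nat_lit 8,nat_lit 16])) (Node.sp (nat_lit 14) (Node.lf (Leaf.pt (nat_lit 0) (nat_lit 14) [nat_lit 68])) (Node.st (nat_lit 0) (nat_lit 14) (nat_lit 0) (Node.sp (nat_lit 18) (Node.lf (Leaf.pt (nat_lit 6) (nat_lit 18) [nat_lit 8])) (Node.st (nat_lit 0) (nat_lit 18) (nat_lit 0) (Node.sp (nat_lit 22) (Node.lf (Leaf.pt (nat_lit 7) (nat_lit 22) [nat_lit 26,nat_lit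 38])) (Node.st (nat_lit 0) (nat_lit 22) (nat_lit 0) c57_0)))))))))))))))
theorem ok57 : nodeOK DB PT 57 t57 (nat_lit 0xc33cf00fccccffff) (nat_lit 0x11000011001111002222000000002222110011001100110044ff4455445544ff) c57 = true := by
  decide +kernel
noncomputable def c58_0 : Node :=
  Node.sp (nat_lit 30) (Node.lf (Leaf.pt (nat_lit 8) (nat_lit 30) [nat_lit 4,nat_lit 18])) (Node.st (nat_lit 0) (nat_lit 30) (nat_lit 0) (Node.sp (nat_lit 32) (Node.lf (Leaf.pt (nat_lit 0) (nat_lit 32) [nat_lit 84])) (Node.st (nat_lit 0) (nat_lit 32) (nat_lit 0) (Node.sp (nat_lit 34) (Node.lf (Leaf.pt (nat_lit 0) (nat_lit 34) [nat_lit 82])) (Node.st (nat_lit 0) (nat_lit 34) (nat_lit 0) (Node.sp (nat_lit 44) (Node.lf (Leaf.pt (nat_lit 0) (nat_lit 44) [nat_lit 68])) (Node.st (nat_lit 0) (nat_lit 44) (nat_lit 0) (Node.sp (nat_lit 46) (Node.lf (Leaf.pt (nat_lit 0) (nat_lit 46) [nat_lit 68])) (Node.st (nat_lit 0) (nat_lit 46) (nat_lit 0) (Node.ext [[nat_lit 8,nat_lit 4,nat_lit 2,nat_lit 1]] (nat_lit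 8) [Ins.ts (nat_lit 4) [nat_lit 0] [nat_lit 8,nat_lit 0,nat_lit 0],Ins.fr [nat_lit 0],Ins.ts (nat_lit 1) [nat_lit 0,nat_lit 0] [],Ins.fr [nat_lit 1],Ins.ts (nat_lit 1) [nat_lit 0,nat_lit 0] [],Ins.ts (nat_lit 3) [nat_lit 0,nat_lit 1] [],Ins.ts (nat_lit 3) [nat_lit 0,nat_lit 1,nat_lit 2] [],Ins.fr [nat_lit 2],Ins.ts (nat_lit 3) [nat_lit 0] [],Ins.ts (nat_lit 4) [nat_lit 0] [nat_lit 2,nat_lit 0,nat_lit 0],Ins.ts (nat_lit 2) [nat_lit 0,nat_lit 3] [],Ins.ts (nat_lit 1) [nat_lit 0] [],Ins.ts (nat_lit 2) [nat_lit 2,nat_lit 0,nat_lit 3] [],Ins.ts (nat_lit 0) [nat_lit 2,nat_lit 0,nat_lit 2] [nat_lit 0],Ins.fr [nat_lit 1,nat_lit 1,nat_lit 3],Ins.ts (nat_lit 0) [nat_lit 0,nat_lit 0] [],Ins.ts (nat_lit 3) [nat_lit 0] [],Ins.ts (nat_lit 2) [nat_lit 2,nat_lit 0] [],Ins.ts (nat_lit 0) [nat_lit 2,nat_lit 0,nat_lit 2] [nat_lit 0],Ins.fr [nat_lit 1,nat_lit 4],Ins.ts (nat_lit 0) [nat_lit 0,nat_lit 5,nat_lit 0] [nat_lit 3,nat_lit 4],Ins.ts (nat_lit 0) [nat_lit 0,nat_lit 3,nat_lit 0]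 [nat_lit 1,nat_lit 3],Ins.df [nat_lit 3,nat_lit 3],Ins.df [nat_lit 0,nat_lit 4,nat_lit 5]] [nat_lit 16,nat_lit 20,nat_lit 2,nat_lit 32,nat_lit 64] [nat_lit 1,nat_lit 4,nat_lit 0,nat_lit 7,nat_lit 6,nat_lit 3,nat_lit 2] (Srch.rep (nat_lit 8) [nat_lit 2] [nat_lit 16,nat_lit 8,nat_lit 4,nat_lit 2,nat_lit 1] [nat_lit 64,nat_lit 32] (Srch.rep (nat_lit 16) [] [] [] (Srch.rep (nat_lit 20) [nat_lit 16] [] [] (Srch.rep (nat_lit 2) [nat_lit 4] [] [] (Srch.rep (nat_lit 32) [] [] [] (Srch.rep (nat_lit 64) [] [] [] (Srch.fin [nat_lit 64,nat_lit 16] [nat_lit 0] (((nat_lit 0),(Leaf.pt (nat_lit 11) (nat_lit 8) [nat_lit 4,nat_lit 16,nat_lit 128]))::(((nat_lit 1),(Leaf.pt (nat_lit 7) (nat_lit 8) [nat_lit 10,nat_lit 128]))::(((nat_lit 12),(Leaf.pt (nat_lit 7) (nat_lit 8) [nat_lit 9,nat_lit 128]))::(((nat_lit 13),(Leaf.pt (nat_lit 7) (nat_lit 8) [nat_lit 9,nat_lit 128]))::[]))))) (Srch.rep (nat_lit 65) [] [] [] (Srch.fin [nat_lit 64,nat_lit 16] [nat_lit 0] (((nat_lit 0),(Leaf.pt (nat_lit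 11) (nat_lit 8) [nat_lit 4,nat_lit 16,nat_lit 128]))::(((nat_lit 1),(Leaf.pt (nat_lit 7) (nat_lit 8) [nat_lit 10,nat_lit 128]))::(((nat_lit 12),(Leaf.pt (nat_lit 7) (nat_lit 8) [nat_lit 9,nat_lit 128]))::(((nat_lit 13),(Leaf.pt (nat_lit 7) (nat_lit 8) [nat_lit 9,nat_lit 128]))::[]))))) (Srch.rep (nat_lit 76) [] [] [] (Srch.fin [nat_lit 64,nat_lit 16] [nat_lit 0] (((nat_lit 0),(Leaf.pt (nat_lit 11) (nat_lit 8) [nat_lit 4,nat_lit 16,nat_lit 128]))::(((nat_lit 1),(Leaf.pt (nat_lit 7) (nat_lit 8) [nat_lit 10,nat_lit 128]))::(((nat_lit 12),(Leaf.pt (nat_lit 7) (nat_lit 8) [nat_lit 9,nat_lit 128]))::(((nat_lit 13),(Leaf.pt (nat_lit 7) (nat_lit 8) [nat_lit 9,nat_lit 128]))::[]))))) (Srch.rep (nat_lit 77) [] [] [] (Srch.fin [nat_lit 64,nat_lit 16] [nat_lit 0] (((nat_lit 0),(Leaf.pt (nat_lit 11) (nat_lit 8) [nat_lit 4,nat_lit 16,nat_lit 128]))::(((nat_lit 1),(Leaf.pt (nat_lit 7) (nat_lit 8) [nat_lit 10,nat_lit 128]))::(((nat_lit 12),(Leaf.pt (nat_lit 7) (nat_lit 8) [nat_lit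 9,nat_lit 128]))::(((nat_lit 13),(Leaf.pt (nat_lit 7) (nat_lit 8) [nat_lit 9,nat_lit 128]))::[]))))) Srch.nil)))) Srch.nil) Srch.nil) (Srch.rep (nat_lit 21) [nat_lit 16] [] [] (Srch.rep (nat_lit 2) [nat_lit 4] [] [] (Srch.rep (nat_lit 32) [] [] [] Srch.nil Srch.nil) Srch.nil) (Srch.rep (nat_lit 28) [nat_lit 16] [] [] (Srch.rep (nat_lit 2) [] [] [] Srch.nil Srch.nil) (Srch.rep (nat_lit 29) [nat_lit 16] [] [] (Srch.rep (nat_lit 2) [] [] [] Srch.nil Srch.nil) Srch.nil)))) (Srch.rep (nat_lit 20) [] [] [] (Srch.rep (nat_lit 16) [] [] [] Srch.nil (Srch.rep (nat_lit 17) [] [] [] Srch.nil (Srch.rep (nat_lit 24) [] [] [] Srch.nil (Srch.rep (nat_lit 25) [] [] [] Srch.nil Srch.nil)))) (Srch.rep (nat_lit 24) [] [] [] (Srch.rep (nat_lit 20) [] [] [] Srch.nil (Srch.rep (nat_lit 21) [] [] [] Srch.nil (Srch.rep (nat_lit 28) [] [] [] Srch.nil (Srch.rep (nat_lit 29) [] [] [] Srch.nil Srch.nil)))) (Srch.rep (nat_lit 28) [] [] [] (Srch.rep (nat_lit 16) [] [] [] Srch.nil (Srch.rep (nat_lit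 17) [] [] [] Srch.nil (Srch.rep (nat_lit 24) [] [] [] Srch.nil (Srch.rep (nat_lit 25) [] [] [] Srch.nil Srch.nil)))) Srch.nil)))) Srch.nil) (Node.frat (nat_lit 1) (nat_lit 0) (nat_lit 0) [[],[nat_lit 12],[nat_lit 2,nat_lit 1,nat_lit 12]] [] [((nat_lit 1),(nat_lit 0)),((nat_lit 2),(nat_lit 1)),((nat_lit 3),(nat_lit 2))] [nat_lit 1] [nat_lit 64,nat_lit 32,nat_lit 8,nat_lit 4,nat_lit 2,nat_lit 1] (nat_lit 16) (nat_lit 2) (nat_lit 8) [Ins.fr [nat_lit 0],Ins.ts (nat_lit 3) [nat_lit 0] [],Ins.ts (nat_lit 4) [nat_lit 0] [nat_lit 2,nat_lit 2,nat_lit 1],Ins.ts (nat_lit 2) [nat_lit 0,nat_lit 1] [],Ins.fr [nat_lit 1],Ins.ts (nat_lit 3) [nat_lit 0] [],Ins.ts (nat_lit 4) [nat_lit 0] [nat_lit 3,nat_lit 2,nat_lit 1],Ins.ts (nat_lit 2) [nat_lit 0,nat_lit 2] [],Ins.fr [nat_lit 2],Ins.ts (nat_lit 3) [nat_lit 0] [],Ins.ts (nat_lit 4) [nat_lit 0] [nat_lit 4,nat_lit 3,nat_lit 2],Ins.ts (nat_lit 4) [nat_lit 0,nat_lit 3] [nat_lit 12,nat_lit 1,nat_lit 0],Ins.fr [nat_lit 2,nat_lit 3],Ins.ts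 (nat_lit 0) [nat_lit 0,nat_lit 0] [],Ins.fr [nat_lit 2,nat_lit 4]] [nat_lit 1,nat_lit 2,nat_lit 4,nat_lit 32,nat_lit 64] [nat_lit 4,nat_lit 3,nat_lit 2,nat_lit 5,nat_lit 1,nat_lit 0] [] (Srch.rep (nat_lit 8) [] [nat_lit 8,nat_lit 4,nat_lit 2,nat_lit 1] [nat_lit 64,nat_lit 32] (Srch.rep (nat_lit 2) [] [] [] (Srch.rep (nat_lit 3) [] [] [] (Srch.rep (nat_lit 4) [] [] [] Srch.nil Srch.nil) Srch.nil) Srch.nil) Srch.nil))))))))))))
noncomputable def t58 : ℕ := nat_lit 0x63006300630063006100610061006100610061006100610063006300630063004e004e004e004e004c004c004c004c004c004c004c004c004e004e004e004e0062006200620062006000600060006000600060006000600062006200620062004f004f004f004f004d004d004d004d004d004d004d004d004f004f004f004f006d006d006d006d006f006f006f006f006f006f006f006f006d006d006d006d0041004100410041004300430043004300430043004300430041004100410041006c006c006c006c006e006e006e006e006e006e006e006e006c006c006c006c004000400040004000420042004200420042004200420042004000400040004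000200020002000200021002100210021002100210021002100200020002000200020002000200020002100210021002100210021002100210020002000200020002000200020002000210021002100210021002100210021002000200020002000200020002000200021002100210021002100210021002100200020002000200010001000110011001000100011001100100010001100110010001000110011001100110010001000110011001000100011001100100010001100110010001000080008000800080008000800080008000800080008000800080008000800080004000400040004000400040004000400020002000200020001000100000000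
noncomputable def c58 : Node :=
  (Node.st (nat_lit 0) (nat_lit 8) (nat_lit 0) (Node.st (nat_lit 0) (nat_lit 26) (nat_lit 0) (Node.sp (nat_lit 1) (Node.lf (Leaf.pt (nat_lit 7) (nat_lit 1) [nat_lit 8,nat_lit 16])) (Node.sp (nat_lit 2) (Node.lf (Leaf.pt (nat_lit 6) (nat_lit 2) [nat_lit 8])) (Node.st (nat_lit 0) (nat_lit 2) (nat_lit 0) (Node.sp (nat_lit 4) (Node.lf (Leaf.pt (nat_lit 7) (nat_lit 4) [nat_lit 8,nat_lit 16])) (Node.st (nat_lit 0) (nat_lit 4) (nat_lit 0) (Node.sp (nat_lit 12) (Node.lf (Leaf.pt (nat_lit 7) (nat_lit 12) [nat_lit 8,nat_lit 16])) (Node.sp (nat_lit 13) (Node.lf (Leaf.pt (nat_lit 7) (nat_lit 13) [nat_lit 8,nat_lit 16])) (Node.sp (nat_lit 14) (Node.lf (Leaf.pt (nat_lit 0) (nat_lit 14) [nat_lit 64])) (Node.st (nat_lit 0) (nat_lit 14) (nat_lit 0) (Node.sp (nat_lit 18) (Node.lf (Leaf.pt (nat_lit 6) (nat_lit 18) [nat_lit 8])) (Node.st (nat_lit 0) (nat_lit 18) (nat_lit 0) (Node.sp (nat_lit 22) (Node.lf (Leaf.pt (nat_lit 7) (nat_lit 22) [nat_lit 26,nat_lit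 38])) (Node.st (nat_lit 0) (nat_lit 22) (nat_lit 0) c58_0)))))))))))))))
theorem ok58 : nodeOK DB PT 58 t58 (nat_lit 0xc33cf00fccccffff) (nat_lit 0x11000011001111002222000000002222110011001100110044ff4455445544ff) c58 = true := by
  decide +kernel
noncomputable def t59 : ℕ := nat_lit 0x6c006c006c006c006f006f006f006f006e006e006e006e006d006d006d006d0040004000400040004300430043004300420042004200420041004100410041006d006d006d006d006e006e006e006e006f006f006f006f006c006c006c006c0041004100410041004200420042004200430043004300430040004000400040006c006c006c006c006f006f006f006f006e006e006e006e006d006d006d006d0040004000400040004300430043004300420042004200420041004100410041006d006d006d006d006e006e006e006e006f006f006f006f006c006c006c006c004100410041004100420042004200420043004300430043004000400040004000200020002000200021002100210021002100210021002100200020002000200020002000200020002100210021002100210021002100210020002000200020002000200020002000210021002100210021002100210021002000200020002000200020002000200021002100210021002100210021002100200020002000200010001000110011001000100011001100100010001100110010001000110011001100110010001000110011001000100011001100100010001100110010001000080008000800080008000800080008000800080008000800080008000800080004000400040004000400040004000400020002000200020001000100000000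
noncomputable def c59 : Node :=
  (Node.st (nat_lit 0) (nat_lit 8) (nat_lit 0) (Node.st (nat_lit 0) (nat_lit 26) (nat_lit 0) (Node.sp (nat_lit 1) (Node.lf (Leaf.pt (nat_lit 7) (nat_lit 1) [nat_lit 8,nat_lit 16])) (Node.sp (nat_lit 2) (Node.lf (Leaf.pt (nat_lit 6) (nat_lit 2) [nat_lit 8])) (Node.st (nat_lit 0) (nat_lit 2) (nat_lit 0) (Node.sp (nat_lit 4) (Node.lf (Leaf.pt (nat_lit 7) (nat_lit 4) [nat_lit 8,nat_lit 16])) (Node.st (nat_lit 0) (nat_lit 4) (nat_lit 0) (Node.sp (nat_lit 12) (Node.lf (Leaf.pt (nat_lit 7) (nat_lit 12) [nat_lit 8,nat_lit 16])) (Node.st (nat_lit 0) (nat_lit 12) (nat_lit 0) (Node.sp (nat_lit 14) (Node.lf (Leaf.pt (nat_lit 8) (nat_lit 14) [nat_lit 4,nat_lit 2])) (Node.st (nat_lit 0) (nat_lit 14) (nat_lit 0) (Node.sp (nat_lit 18) (Node.lf (Leaf.pt (nat_lit 6) (nat_lit 18) [nat_lit 8])) (Node.st (nat_lit 0) (nat_lit 18) (nat_lit 0) (Node.sp (nat_lit 22) (Node.lf (Leaf.pt (nat_lit 7) (nat_lit 22) [nat_lit 26,nat_lit 38])) (Node.st (nat_lit 0) (nat_lit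 22) (nat_lit 0) (Node.sp (nat_lit 30) (Node.lf (Leaf.pt (nat_lit 8) (nat_lit 30) [nat_lit 4,nat_lit 18])) (Node.st (nat_lit 0) (nat_lit 30) (nat_lit 0) (Node.sp (nat_lit 32) (Node.lf (Leaf.pt (nat_lit 0) (nat_lit 32) [nat_lit 84])) (Node.st (nat_lit 0) (nat_lit 32) (nat_lit 0) (Node.sp (nat_lit 34) (Node.lf (Leaf.pt (nat_lit 0) (nat_lit 34) [nat_lit 68])) (Node.st (nat_lit 0) (nat_lit 34) (nat_lit 0) (Node.sp (nat_lit 44) (Node.lf (Leaf.pt (nat_lit 0) (nat_lit 44) [nat_lit 80])) (Node.st (nat_lit 0) (nat_lit 44) (nat_lit 0) (Node.sp (nat_lit 46) (Node.lf (Leaf.pt (nat_lit 0) (nat_lit 46) [nat_lit 84])) (Node.st (nat_lit 0) (nat_lit 46) (nat_lit 0) (Node.sp (nat_lit 64) (Node.lf (Leaf.st (nat_lit 1) (nat_lit 32) (nat_lit 64) (Leaf.st (nat_lit 1) (nat_lit 8) (nat_lit 64) (Leaf.st (nat_lit 1) (nat_lit 16) (nat_lit 64) (Leaf.pt (nat_lit 15) (nat_lit 64) [nat_lit 1,nat_lit 2,nat_lit 44]))))) (Node.st (nat_lit 0) (nat_lit 64) (nat_lit 0) (Node.ext [[nat_lit 8,nat_lit 4,nat_lit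 2,nat_lit 1]] (nat_lit 8) [Ins.ts (nat_lit 4) [nat_lit 0] [nat_lit 8,nat_lit 0,nat_lit 0],Ins.fr [nat_lit 0],Ins.ts (nat_lit 1) [nat_lit 0,nat_lit 0] [],Ins.fr [nat_lit 1],Ins.ts (nat_lit 1) [nat_lit 0,nat_lit 0] [],Ins.ts (nat_lit 3) [nat_lit 0,nat_lit 1] [],Ins.ts (nat_lit 3) [nat_lit 0,nat_lit 1,nat_lit 2] [],Ins.fr [nat_lit 2],Ins.ts (nat_lit 3) [nat_lit 0] [],Ins.ts (nat_lit 4) [nat_lit 0] [nat_lit 2,nat_lit 0,nat_lit 0],Ins.ts (nat_lit 2) [nat_lit 0,nat_lit 3] [],Ins.ts (nat_lit 1) [nat_lit 0] [],Ins.ts (nat_lit 2) [nat_lit 2,nat_lit 0,nat_lit 3] [],Ins.ts (nat_lit 0) [nat_lit 2,nat_lit 0,nat_lit 2] [nat_lit 0],Ins.fr [nat_lit 1,nat_lit 1,nat_lit 3],Ins.ts (nat_lit 0) [nat_lit 0,nat_lit 0] [],Ins.ts (nat_lit 3) [nat_lit 0] [],Ins.ts (nat_lit 2) [nat_lit 2,nat_lit 0] [],Ins.ts (nat_lit 0) [nat_lit 2,nat_lit 0,nat_lit 2] [nat_lit 0],Ins.fr [nat_lit 1,nat_lit 4],Ins.ts (nat_lit 0) [nat_lit 0,nat_lit 0] [],Ins.ts (nat_lit 0) [nat_lit 5,nat_lit 0,nat_lit 4] [nat_lit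 3,nat_lit 1,nat_lit 0],Ins.df [nat_lit 3,nat_lit 3],Ins.df [nat_lit 0,nat_lit 4,nat_lit 5]] [nat_lit 16,nat_lit 20,nat_lit 2,nat_lit 32,nat_lit 64] [nat_lit 1,nat_lit 4,nat_lit 0,nat_lit 7,nat_lit 6,nat_lit 3,nat_lit 2] (Srch.rep (nat_lit 8) [nat_lit 2] [nat_lit 16,nat_lit 8,nat_lit 4,nat_lit 2,nat_lit 1] [nat_lit 64,nat_lit 32] (Srch.rep (nat_lit 16) [] [] [] (Srch.rep (nat_lit 20) [nat_lit 16] [] [] (Srch.rep (nat_lit 2) [nat_lit 4] [] [] (Srch.rep (nat_lit 32) [nat_lit 12] [] [] (Srch.rep (nat_lit 64) [] [] [] (Srch.fin [nat_lit 64,nat_lit 16] [nat_lit 0] (((nat_lit 0),(Leaf.pt (nat_lit 11) (nat_lit 8) [nat_lit 4,nat_lit 16,nat_lit 128]))::(((nat_lit 1),(Leaf.pt (nat_lit 7) (nat_lit 8) [nat_lit 10,nat_lit 128]))::[]))) Srch.nil) Srch.nil) Srch.nil) (Srch.rep (nat_lit 21) [nat_lit 16] [] [] (Srch.rep (nat_lit 2) [nat_lit 4] [] [] (Srch.rep (nat_lit 32) [nat_lit 12] [] [] (Srch.rep (nat_lit 66) [] [] [] (Srch.fin [nat_lit 64,nat_lit 16] [nat_lit 0] (((nat_lit 0),(Leaf.pt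 (nat_lit 7) (nat_lit 8) [nat_lit 10,nat_lit 132]))::(((nat_lit 1),(Leaf.pt (nat_lit 7) (nat_lit 8) [nat_lit 10,nat_lit 128]))::[]))) Srch.nil) Srch.nil) Srch.nil) (Srch.rep (nat_lit 28) [nat_lit 16] [] [] (Srch.rep (nat_lit 2) [] [] [] Srch.nil Srch.nil) (Srch.rep (nat_lit 29) [nat_lit 16] [] [] (Srch.rep (nat_lit 2) [] [] [] Srch.nil Srch.nil) Srch.nil)))) (Srch.rep (nat_lit 20) [] [] [] (Srch.rep (nat_lit 16) [] [] [] Srch.nil (Srch.rep (nat_lit 17) [] [] [] Srch.nil (Srch.rep (nat_lit 24) [] [] [] Srch.nil (Srch.rep (nat_lit 25) [] [] [] Srch.nil Srch.nil)))) (Srch.rep (nat_lit 24) [] [] [] (Srch.rep (nat_lit 20) [] [] [] Srch.nil (Srch.rep (nat_lit 21) [] [] [] Srch.nil (Srch.rep (nat_lit 28) [] [] [] Srch.nil (Srch.rep (nat_lit 29) [] [] [] Srch.nil Srch.nil)))) (Srch.rep (nat_lit 28) [] [] [] (Srch.rep (nat_lit 16) [] [] [] Srch.nil (Srch.rep (nat_lit 17) [] [] [] Srch.nil (Srch.rep (nat_lit 24) [] [] [] Srch.nil (Srch.rep (nat_lit 25) [] [] [] Srch.nil Srch.nil))))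 Srch.nil)))) Srch.nil) (Node.lf (Leaf.au (nat_lit 1) (nat_lit 0) (nat_lit 0) [] [] [nat_lit 1,nat_lit 96,nat_lit 1] (nat_lit 0) [] (nat_lit 32) [nat_lit 0,nat_lit 0,nat_lit 0,nat_lit 0,nat_lit 48,nat_lit 32,nat_lit 96]))))))))))))))))))))))))))))))
theorem ok59 : nodeOK DB PT 59 t59 (nat_lit 0xf0000000000fc33cf00fccccffff) (nat_lit 0x22220000000000000000000000000000000000000000222211000011001111002222000000002222110011001100110044664455445544ff) c59 = true := by
  decide +kernel
noncomputable def t60 : ℕ := nat_lit 0x1e601e601e601e60188018801880188018a018a018a018a01e401e401e401e40100010001000100014501450145014501470147014701470102010201020102018b018b018b018b01e501e501e501e501e701e701e701e701890189018901890146014601460146010201020102010201000100010001000144014401440144018b018b018b018b01e701e701e701e701e501e501e501e50189018901890189014701470147014701000100010001000102010201020102014501450145014501e401e401e401e40188018801880188018a018a018a018a01e601e601e601e601020102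0102010201440144014401440146014601460146010001000100010001a201a201a201a201ce01ce01ce01ce01cc01cc01cc01cc01a001a001a001a0014501450145014501020102010201020100010001000100014701470147014701cc01cc01cc01cc01a001a001a001a001a201a201a201a201ce01ce01ce01ce010001000100010001460146014601460144014401440144010201020102010201ce01ce01ce01ce01a001a001a001a001a201a201a201a201cc01cc01cc01cc010201020102010201470147014701470145014501450145010001000100010001a201a201a201a201cc01cc01cc01cc01ce01ce01ce01ce01a001a001a001a0014401440144014401000100010001000102010201020102014601460146014601a201a201a201a201ce01ce01ce01ce01cc01cc01cc01cc01a001a001a001a0014501450145014501020102010201020100010001000100014701470147014701cc01cc01cc01cc01a001a001a001a001a201a201a201a201ce01ce01ce01ce010001000100010001460146014601460144014401440144010201020102010201ce01ce01ce01ce01a001a001a001a001a201a201a201a201cc01cc01cc01cc010201020102010201470147014701470145014501450145010001000100010001a201a201a201a201cc01cc01c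c01cc01ce01ce01ce01ce01a001a001a001a0014401440144014401000100010001000102010201020102014601460146014601e601e601e601e60188018801880188018a018a018a018a01e401e401e401e40100010001000100014501450145014501470147014701470102010201020102018b018b018b018b01e501e501e501e501e701e701e701e701890189018901890146014601460146010201020102010201000100010001000144014401440144018b018b018b018b01e701e701e701e701e501e501e501e50189018901890189014701470147014701000100010001000102010201020102014501450145014501e401e401e401e40188018801880188018a018a018a018a01e601e601e601e60102010201020102014401440144014401460146014601460100010001000100008200820082008200ab00ab00ab00ab00aa00aa00aa00aa0083008300830083008300830083008300aa00aa00aa00aa00ab00ab00ab00ab008200820082008200aa00aa00aa00aa0082008200820082008300830083008300ab00ab00ab00ab00ab00ab00ab00ab0083008300830083008200820082008200aa00aa00aa00aa00a900a900a900a90081008100810081008000800080008000a800a800a800a800a900a900a900a9008100810081008100800080008000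8000a800a800a800a8008100810081008100a800a800a800a800a900a900a900a90080008000800080008100810081008100a800a800a800a800a900a900a900a90080008000800080008200820082008200ab00ab00ab00ab00aa00aa00aa00aa0083008300830083008300830083008300aa00aa00aa00aa00ab00ab00ab00ab008200820082008200aa00aa00aa00aa0082008200820082008300830083008300ab00ab00ab00ab00ab00ab00ab00ab0083008300830083008200820082008200aa00aa00aa00aa00a900a900a900a90081008100810081008000800080008000a800a800a800a800a900a900a900a90081008100810081008000800080008000a800a800a800a8008100810081008100a800a800a800a800a900a900a900a90080008000800080008100810081008100a800a800a800a800a900a900a900a900800080008000800068006800680068006a006a006a006a006a006a006a006a00680068006800680043004300430043004100410041004100410041004100410043004300430043006a006a006a006a00680068006800680068006800680068006a006a006a006a00400040004000400042004200420042004200420042004200400040004000400068006800680068006a006a006a006a006a006a006a006a00680068006800680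043004300430043004100410041004100410041004100410043004300430043006a006a006a006a00680068006800680068006800680068006a006a006a006a004000400040004000420042004200420042004200420042004000400040004000200020002000200021002100210021002100210021002100200020002000200020002000200020002100210021002100210021002100210020002000200020002000200020002000210021002100210021002100210021002000200020002000200020002000200021002100210021002100210021002100200020002000200010001000110011001000100011001100100010001100110010001000110011001100110010001000110011001000100011001100100010001100110010001000080008000800080008000800080008000800080008000800080008000800080004000400040004000400040004000400020002000200020001000100000000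
noncomputable def c60 : Node :=
  (Node.st (nat_lit 0) (nat_lit 8) (nat_lit 0) (Node.st (nat_lit 0) (nat_lit 26) (nat_lit 0) (Node.sp (nat_lit 1) (Node.lf (Leaf.pt (nat_lit 7) (nat_lit 1) [nat_lit 8,nat_lit 16])) (Node.sp (nat_lit 2) (Node.lf (Leaf.pt (nat_lit 0) (nat_lit 2) [nat_lit 96])) (Node.st (nat_lit 0) (nat_lit 2) (nat_lit 0) (Node.sp (nat_lit 4) (Node.lf (Leaf.pt (nat_lit 7) (nat_lit 4) [nat_lit 8,nat_lit 16])) (Node.st (nat_lit 0) (nat_lit 4) (nat_lit 0) (Node.sp (nat_lit 12) (Node.lf (Leaf.pt (nat_lit 7) (nat_lit 12) [nat_lit 8,nat_lit 16])) (Node.st (nat_lit 0) (nat_lit 12) (nat_lit 0) (Node.sp (nat_lit 18) (Node.lf (Leaf.pt (nat_lit 7) (nat_lit 18) [nat_lit 146,nat_lit 36])) (Node.st (nat_lit 0) (nat_lit 18) (nat_lit 0) (Node.sp (nat_lit 22) (Node.lf (Leaf.pt (nat_lit 7) (nat_lit 22) [nat_lit 26,nat_lit 38])) (Node.st (nat_lit 0) (nat_lit 22) (nat_lit 0) (Node.sp (nat_lit 30) (Node.lf (Leaf.pt (nat_lit 8) (nat_lit 30) [nat_lit 4,nat_lit 18])) (Node.st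 (nat_lit 0) (nat_lit 30) (nat_lit 0) (Node.sp (nat_lit 128) (Node.lf (Leaf.pt (nat_lit 7) (nat_lit 128) [nat_lit 146,nat_lit 36])) (Node.st (nat_lit 0) (nat_lit 128) (nat_lit 0) (Node.sp (nat_lit 264) (Node.lf (Leaf.st (nat_lit 1) (nat_lit 40) (nat_lit 264) (Leaf.pt (nat_lit 7) (nat_lit 264) [nat_lit 265,nat_lit 72]))) (Node.st (nat_lit 0) (nat_lit 264) (nat_lit 0) (Node.ext [] (nat_lit 26) [Ins.fr [nat_lit 0],Ins.ts (nat_lit 1) [nat_lit 0,nat_lit 0] [],Ins.ts (nat_lit 1) [nat_lit 0,nat_lit 0,nat_lit 0,nat_lit 0] [],Ins.fr [nat_lit 1],Ins.fr [nat_lit 2],Ins.fr [nat_lit 0,nat_lit 0,nat_lit 3],Ins.fr [nat_lit 0,nat_lit 2,nat_lit 2,nat_lit 4],Ins.fr [nat_lit 0,nat_lit 2,nat_lit 5,nat_lit 1],Ins.df [nat_lit 3,nat_lit 3],Ins.df [nat_lit 6,nat_lit 2],Ins.df [nat_lit 1,nat_lit 5,nat_lit 6],Ins.df [nat_lit 2,nat_lit 6,nat_lit 8],Ins.df [nat_lit 0,nat_lit 10,nat_lit 6],Ins.df [nat_lit 3,nat_lit 1,nat_lit 3]] [nat_lit 192,nat_lit 204,nat_lit 200,nat_lit 2,nat_lit 64,nat_lit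 256] [nat_lit 5,nat_lit 8,nat_lit 3,nat_lit 2,nat_lit 1,nat_lit 0,nat_lit 7,nat_lit 4,nat_lit 6] (Srch.ex0 [nat_lit 192,nat_lit 34,nat_lit 18,nat_lit 8,nat_lit 4,nat_lit 1] (Srch.rep (nat_lit 8) [] [nat_lit 16,nat_lit 8,nat_lit 4,nat_lit 2,nat_lit 1] [nat_lit 256,nat_lit 128,nat_lit 64,nat_lit 32] Srch.nil Srch.nil)) Node.done))))))))))))))))))))
theorem ok60 : nodeOK DB PT 60 t60 (nat_lit 0xf000000000f000000f000000000f000000f00000f0000000000f00000f000c30f000c00300f00c300f00300c000f00000ff00000f00fc33cf00fccccffff) (nat_lit 0x22220000000000000000000000000000000000002222000000000000000000000000222200000000000000000000000000000000000022220000000000000000000000002222000000000000000000002222000000000000000000000000000000000000000022220000000000000000000022220000000000001100001100002222000000000000110000000000001100000000222200000000110000110000000022220000000000110000000011000000000000002222000000000000000000002222222200000000000000000000222200000000222211000011001111002222000000002222110011001100110044774455445544ff)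 c60 = true := by
  decide +kernel
noncomputable def t61 : ℕ := nat_lit 0x1e701e701e701e70189018901890189018b018b018b018b01e501e501e501e50101010101010101014401440144014401460146014601460103010301030103018a018a018a018a01e401e401e401e401e601e601e601e601880188018801880147014701470147010301030103010301010101010101010145014501450145018a018a018a018a01e601e601e601e601e401e401e401e40188018801880188014601460146014601010101010101010103010301030103014401440144014401e501e501e501e50189018901890189018b018b018b018b01e701e701e701e7010301030103010301450145014501450147014701470147010101010101010101a301a301a301a301cf01cf01cf01cf01cd01cd01cd01cd01a101a101a101a1014401440144014401030103010301030101010101010101014601460146014601cd01cd01cd01cd01a101a101a101a101a301a301a301a301cf01cf01cf01cf010101010101010101470147014701470145014501450145010301030103010301cf01cf01cf01cf01a101a101a101a101a301a301a301a301cd01cd01cd01cd010301030103010301460146014601460144014401440144010101010101010101a301a301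a301a301cd01cd01cd01cd01cf01cf01cf01cf01a101a101a101a1014501450145014501010101010101010103010301030103014701470147014701a201a201a201a201ce01ce01ce01ce01cc01cc01cc01cc01a001a001a001a0014501450145014501020102010201020100010001000100014701470147014701cc01cc01cc01cc01a001a001a001a001a201a201a201a201ce01ce01ce01ce010001000100010001460146014601460144014401440144010201020102010201ce01ce01ce01ce01a001a001a001a001a201a201a201a201cc01cc01cc01cc010201020102010201470147014701470145014501450145010001000100010001a201a201a201a201cc01cc01cc01cc01ce01ce01ce01ce01a001a001a001a0014401440144014401000100010001000102010201020102014601460146014601e601e601e601e60188018801880188018a018a018a018a01e401e401e401e40100010001000100014501450145014501470147014701470102010201020102018b018b018b018b01e501e501e501e501e701e701e701e701890189018901890146014601460146010201020102010201000100010001000144014401440144018b018b018b018b01e701e701e701e701e501e501e501e5018901890189018901470147014701470100010001000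1000102010201020102014501450145014501e401e401e401e40188018801880188018a018a018a018a01e601e601e601e60102010201020102014401440144014401460146014601460100010001000100008200820082008200ab00ab00ab00ab00aa00aa00aa00aa0083008300830083008300830083008300aa00aa00aa00aa00ab00ab00ab00ab008200820082008200aa00aa00aa00aa0082008200820082008300830083008300ab00ab00ab00ab00ab00ab00ab00ab0083008300830083008200820082008200aa00aa00aa00aa00a900a900a900a90081008100810081008000800080008000a800a800a800a800a900a900a900a90081008100810081008000800080008000a800a800a800a8008100810081008100a800a800a800a800a900a900a900a90080008000800080008100810081008100a800a800a800a800a900a900a900a90080008000800080008200820082008200ab00ab00ab00ab00aa00aa00aa00aa0083008300830083008300830083008300aa00aa00aa00aa00ab00ab00ab00ab008200820082008200aa00aa00aa00aa0082008200820082008300830083008300ab00ab00ab00ab00ab00ab00ab00ab0083008300830083008200820082008200aa00aa00aa00aa00a900a900a900a900810081008100810080008000800080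00a800a800a800a800a900a900a900a90081008100810081008000800080008000a800a800a800a8008100810081008100a800a800a800a800a900a900a900a90080008000800080008100810081008100a800a800a800a800a900a900a900a900800080008000800068006800680068006a006a006a006a006a006a006a006a00680068006800680043004300430043004100410041004100410041004100410043004300430043006a006a006a006a00680068006800680068006800680068006a006a006a006a00400040004000400042004200420042004200420042004200400040004000400068006800680068006a006a006a006a006a006a006a006a00680068006800680043004300430043004100410041004100410041004100410043004300430043006a006a006a006a00680068006800680068006800680068006a006a006a006a004000400040004000420042004200420042004200420042004000400040004000200020002000200021002100210021002100210021002100200020002000200020002000200020002100210021002100210021002100210020002000200020002000200020002000210021002100210021002100210021002000200020002000200020002000200021002100210021002100210021002100200020002000200010001000110011001000100011001100100010001100110010001000110011001100110010001000110011001000100011001100100010001100110010001000080008000800080008000800080008000800080008000800080008000800080004000400040004000400040004000400020002000200020001000100000000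
noncomputable def c61 : Node :=
  (Node.st (nat_lit 0) (nat_lit 8) (nat_lit 0) (Node.st (nat_lit 0) (nat_lit 26) (nat_lit 0) (Node.sp (nat_lit 1) (Node.lf (Leaf.pt (nat_lit 7) (nat_lit 1) [nat_lit 8,nat_lit 16])) (Node.sp (nat_lit 2) (Node.lf (Leaf.pt (nat_lit 0) (nat_lit 2) [nat_lit 96])) (Node.st (nat_lit 0) (nat_lit 2) (nat_lit 0) (Node.sp (nat_lit 4) (Node.lf (Leaf.pt (nat_lit 7) (nat_lit 4) [nat_lit 8,nat_lit 16])) (Node.st (nat_lit 0) (nat_lit 4) (nat_lit 0) (Node.sp (nat_lit 12) (Node.lf (Leaf.pt (nat_lit 7) (nat_lit 12) [nat_lit 8,nat_lit 16])) (Node.st (nat_lit 0) (nat_lit 12) (nat_lit 0) (Node.sp (nat_lit 18) (Node.lf (Leaf.pt (nat_lit 7) (nat_lit 18) [nat_lit 146,nat_lit 36])) (Node.st (nat_lit 0) (nat_lit 18) (nat_lit 0) (Node.sp (nat_lit 22) (Node.lf (Leaf.pt (nat_lit 7) (nat_lit 22) [nat_lit 26,nat_lit 38])) (Node.st (nat_lit 0) (nat_lit 22) (nat_lit 0) (Node.sp (nat_lit 30) (Node.lf (Leaf.pt (nat_lit 8) (nat_lit 30) [nat_lit 4,nat_lit 18])) (Node.st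 (nat_lit 0) (nat_lit 30) (nat_lit 0) (Node.sp (nat_lit 128) (Node.lf (Leaf.pt (nat_lit 7) (nat_lit 128) [nat_lit 146,nat_lit 36])) (Node.st (nat_lit 0) (nat_lit 128) (nat_lit 0) (Node.ext [] (nat_lit 26) [Ins.fr [nat_lit 0],Ins.ts (nat_lit 1) [nat_lit 0,nat_lit 0] [],Ins.ts (nat_lit 1) [nat_lit 0,nat_lit 0,nat_lit 0,nat_lit 0] [],Ins.fr [nat_lit 1],Ins.fr [nat_lit 2],Ins.fr [nat_lit 0,nat_lit 0,nat_lit 3],Ins.fr [nat_lit 0,nat_lit 2,nat_lit 2,nat_lit 4],Ins.fr [nat_lit 0,nat_lit 2,nat_lit 5,nat_lit 1],Ins.df [nat_lit 3,nat_lit 3],Ins.df [nat_lit 6,nat_lit 2],Ins.df [nat_lit 1,nat_lit 5,nat_lit 6],Ins.df [nat_lit 2,nat_lit 6,nat_lit 8],Ins.df [nat_lit 0,nat_lit 10,nat_lit 6],Ins.df [nat_lit 3,nat_lit 1,nat_lit 3]] [nat_lit 192,nat_lit 204,nat_lit 200,nat_lit 2,nat_lit 64,nat_lit 256] [nat_lit 5,nat_lit 8,nat_lit 3,nat_lit 2,nat_lit 1,nat_lit 0,nat_lit 7,nat_lit 4,nat_lit 6] (Srch.ex0 [nat_lit 192,nat_lit 34,nat_lit 18,nat_lit 8,nat_lit 4,nat_lit 1] (Srch.rep (nat_lit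 8) [] [nat_lit 16,nat_lit 8,nat_lit 4,nat_lit 2,nat_lit 1] [nat_lit 256,nat_lit 128,nat_lit 64,nat_lit 32] Srch.nil Srch.nil)) Node.done))))))))))))))))))
theorem ok61 : nodeOK DB PT 61 t61 (nat_lit 0xc30f000c00300f00c300f00300c000f00000ff00000f00fc33cf00fccccffff) (nat_lit 0x1100001100002222000000000000110000000000001100000000222200000000110000110000000022220000000000110000000011000000000000002222000000000000000000002222222200000000000000000000222200000000222211000011001111002222000000002222110011001100110044774455445544ff) c61 = true := by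
  decide +kernel
noncomputable def t62 : ℕ := nat_lit 0x1cc01cc01cc01cc0189018901890189018b018b018b018b01ce01ce01ce01ce0101010101010101016e016e016e016e016c016c016c016c0103010301030103018a018a018a018a01ce01ce01ce01ce01cc01cc01cc01cc0188018801880188016c016c016c016c01030103010301030101010101010101016e016e016e016e018a018a018a018a01cc01cc01cc01cc01ce01ce01ce01ce0188018801880188016d016d016d016d01010101010101010103010301030103016f016f016f016f01ce01ce01ce01ce0189018901890189018b018b018b018b01cc01cc01cc01cc0103010301030103016f016f016f016f016d016d016d016d010101010101010101a301a301a301a301e401e401e401e401e601e601e601e601a101a101a101a1016f016f016f016f01030103010301030101010101010101016d016d016d016d01e701e701e701e701a101a101a101a101a301a301a301a301e501e501e501e50101010101010101016d016d016d016d016f016f016f016f010301030103010301e501e501e501e501a101a101a101a101a301a301a301a301e701e701e701e70103010301030103016c016c016c016c016e016e016e016e010101010101010101a301a301a301a301e601e601e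601e601e401e401e401e401a101a101a101a1016e016e016e016e01010101010101010103010301030103016c016c016c016c01a201a201a201a201e501e501e501e501e701e701e701e701a001a001a001a0016e016e016e016e01020102010201020100010001000100016c016c016c016c01e601e601e601e601a001a001a001a001a201a201a201a201e401e401e401e40100010001000100016c016c016c016c016e016e016e016e010201020102010201e401e401e401e401a001a001a001a001a201a201a201a201e601e601e601e60102010201020102016d016d016d016d016f016f016f016f010001000100010001a201a201a201a201e701e701e701e701e501e501e501e501a001a001a001a0016f016f016f016f01000100010001000102010201020102016d016d016d016d01cd01cd01cd01cd0188018801880188018a018a018a018a01cf01cf01cf01cf0100010001000100016f016f016f016f016d016d016d016d0102010201020102018b018b018b018b01cf01cf01cf01cf01cd01cd01cd01cd0189018901890189016d016d016d016d01020102010201020100010001000100016f016f016f016f018b018b018b018b01cd01cd01cd01cd01cf01cf01cf01cf0189018901890189016c016c016c016c010001000100010001020102010201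02016e016e016e016e01cf01cf01cf01cf0188018801880188018a018a018a018a01cd01cd01cd01cd0102010201020102016e016e016e016e016c016c016c016c0100010001000100008200820082008200ab00ab00ab00ab00aa00aa00aa00aa0083008300830083008300830083008300aa00aa00aa00aa00ab00ab00ab00ab008200820082008200aa00aa00aa00aa0082008200820082008300830083008300ab00ab00ab00ab00ab00ab00ab00ab0083008300830083008200820082008200aa00aa00aa00aa00a900a900a900a90081008100810081008000800080008000a800a800a800a800a900a900a900a90081008100810081008000800080008000a800a800a800a8008100810081008100a800a800a800a800a900a900a900a90080008000800080008100810081008100a800a800a800a800a900a900a900a90080008000800080008200820082008200ab00ab00ab00ab00aa00aa00aa00aa0083008300830083008300830083008300aa00aa00aa00aa00ab00ab00ab00ab008200820082008200aa00aa00aa00aa0082008200820082008300830083008300ab00ab00ab00ab00ab00ab00ab00ab0083008300830083008200820082008200aa00aa00aa00aa00a900a900a900a90081008100810081008000800080008000a800a800a800a80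0a900a900a900a90081008100810081008000800080008000a800a800a800a8008100810081008100a800a800a800a800a900a900a900a90080008000800080008100810081008100a800a800a800a800a900a900a900a900800080008000800068006800680068006a006a006a006a006a006a006a006a00680068006800680043004300430043004100410041004100410041004100410043004300430043006a006a006a006a00680068006800680068006800680068006a006a006a006a00400040004000400042004200420042004200420042004200400040004000400068006800680068006a006a006a006a006a006a006a006a00680068006800680043004300430043004100410041004100410041004100410043004300430043006a006a006a006a00680068006800680068006800680068006a006a006a006a004000400040004000420042004200420042004200420042004000400040004000200020002000200021002100210021002100210021002100200020002000200020002000200020002100210021002100210021002100210020002000200020002000200020002000210021002100210021002100210021002000200020002000200020002000200021002100210021002100210021002100200020002000200010001000110011001000100011001100100010001100110010001000110011001100110010001000110011001000100011001100100010001100110010001000080008000800080008000800080008000800080008000800080008000800080004000400040004000400040004000400020002000200020001000100000000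
noncomputable def c62 : Node :=
  (Node.st (nat_lit 0) (nat_lit 8) (nat_lit 0) (Node.st (nat_lit 0) (nat_lit 26) (nat_lit 0) (Node.sp (nat_lit 1) (Node.lf (Leaf.pt (nat_lit 7) (nat_lit 1) [nat_lit 8,nat_lit 16])) (Node.sp (nat_lit 2) (Node.lf (Leaf.pt (nat_lit 0) (nat_lit 2) [nat_lit 96])) (Node.st (nat_lit 0) (nat_lit 2) (nat_lit 0) (Node.sp (nat_lit 4) (Node.lf (Leaf.pt (nat_lit 7) (nat_lit 4) [nat_lit 8,nat_lit 16])) (Node.st (nat_lit 0) (nat_lit 4) (nat_lit 0) (Node.sp (nat_lit 12) (Node.lf (Leaf.pt (nat_lit 7) (nat_lit 12) [nat_lit 8,nat_lit 16])) (Node.st (nat_lit 0) (nat_lit 12) (nat_lit 0) (Node.sp (nat_lit 18) (Node.lf (Leaf.pt (nat_lit 7) (nat_lit 18) [nat_lit 146,nat_lit 36])) (Node.st (nat_lit 0) (nat_lit 18) (nat_lit 0) (Node.sp (nat_lit 22) (Node.lf (Leaf.pt (nat_lit 7) (nat_lit 22) [nat_lit 26,nat_lit 38])) (Node.st (nat_lit 0) (nat_lit 22) (nat_lit 0) (Node.sp (nat_lit 30) (Node.lf (Leaf.pt (nat_lit 8) (nat_lit 30) [nat_lit 4,nat_lit 18])) (Node.st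 (nat_lit 0) (nat_lit 30) (nat_lit 0) (Node.sp (nat_lit 128) (Node.lf (Leaf.pt (nat_lit 7) (nat_lit 128) [nat_lit 146,nat_lit 36])) (Node.st (nat_lit 0) (nat_lit 128) (nat_lit 0) (Node.ext [] (nat_lit 26) [Ins.fr [nat_lit 0],Ins.ts (nat_lit 1) [nat_lit 0,nat_lit 0] [],Ins.ts (nat_lit 1) [nat_lit 0,nat_lit 0,nat_lit 0,nat_lit 0] [],Ins.fr [nat_lit 1],Ins.fr [nat_lit 2],Ins.fr [nat_lit 0,nat_lit 0,nat_lit 3],Ins.fr [nat_lit 0,nat_lit 2,nat_lit 2,nat_lit 4],Ins.fr [nat_lit 0,nat_lit 2,nat_lit 5,nat_lit 1],Ins.df [nat_lit 3,nat_lit 3],Ins.df [nat_lit 6,nat_lit 2],Ins.df [nat_lit 1,nat_lit 5,nat_lit 6],Ins.df [nat_lit 2,nat_lit 6,nat_lit 8],Ins.df [nat_lit 0,nat_lit 10,nat_lit 6],Ins.df [nat_lit 3,nat_lit 1,nat_lit 3]] [nat_lit 192,nat_lit 204,nat_lit 200,nat_lit 2,nat_lit 64,nat_lit 256] [nat_lit 5,nat_lit 8,nat_lit 3,nat_lit 2,nat_lit 1,nat_lit 0,nat_lit 7,nat_lit 4,nat_lit 6] (Srch.ex0 [nat_lit 192,nat_lit 34,nat_lit 18,nat_lit 8,nat_lit 4,nat_lit 1] (Srch.rep (nat_lit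 8) [] [nat_lit 16,nat_lit 8,nat_lit 4,nat_lit 2,nat_lit 1] [nat_lit 256,nat_lit 128,nat_lit 64,nat_lit 32] Srch.nil Srch.nil)) Node.done))))))))))))))))))
theorem ok62 : nodeOK DB PT 62 t62 (nat_lit 0xc30f000c00300f00c300f00300c000f00000ff00000f00fc33cf00fccccffff) (nat_lit 0x1100001100002222000000000000110000000000001100000000222200000000110000110000000022220000000000110000000011000000000000002222000000000000000000002222222200000000000000000000222200000000222211000011001111002222000000002222110011001100110044774455445544ff) c62 = true := by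
  decide +kernel
noncomputable def t63 : ℕ := nat_lit 0x1cd01cd01cd01cd0188018801880188018a018a018a018a01cf01cf01cf01cf0100010001000100016f016f016f016f016d016d016d016d0102010201020102018b018b018b018b01cf01cf01cf01cf01cd01cd01cd01cd0189018901890189016d016d016d016d01020102010201020100010001000100016f016f016f016f018b018b018b018b01cd01cd01cd01cd01cf01cf01cf01cf0189018901890189016c016c016c016c01000100010001000102010201020102016e016e016e016e01cf01cf01cf01cf0188018801880188018a018a018a018a01cd01cd01cd01cd0102010201020102016e016e016e016e016c016c016c016c010001000100010001a201a201a201a201e501e501e501e501e701e701e701e701a001a001a001a0016e016e016e016e01020102010201020100010001000100016c016c016c016c01e601e601e601e601a001a001a001a001a201a201a201a201e401e401e401e40100010001000100016c016c016c016c016e016e016e016e010201020102010201e401e401e401e401a001a001a001a001a201a201a201a201e601e601e601e60102010201020102016d016d016d016d016f016f016f016f010001000100010001a201a201a201a201e701e701e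701e701e501e501e501e501a001a001a001a0016f016f016f016f01000100010001000102010201020102016d016d016d016d01a201a201a201a201e501e501e501e501e701e701e701e701a001a001a001a0016e016e016e016e01020102010201020100010001000100016c016c016c016c01e601e601e601e601a001a001a001a001a201a201a201a201e401e401e401e40100010001000100016c016c016c016c016e016e016e016e010201020102010201e401e401e401e401a001a001a001a001a201a201a201a201e601e601e601e60102010201020102016d016d016d016d016f016f016f016f010001000100010001a201a201a201a201e701e701e701e701e501e501e501e501a001a001a001a0016f016f016f016f01000100010001000102010201020102016d016d016d016d01cd01cd01cd01cd0188018801880188018a018a018a018a01cf01cf01cf01cf0100010001000100016f016f016f016f016d016d016d016d0102010201020102018b018b018b018b01cf01cf01cf01cf01cd01cd01cd01cd0189018901890189016d016d016d016d01020102010201020100010001000100016f016f016f016f018b018b018b018b01cd01cd01cd01cd01cf01cf01cf01cf0189018901890189016c016c016c016c010001000100010001020102010201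02016e016e016e016e01cf01cf01cf01cf0188018801880188018a018a018a018a01cd01cd01cd01cd0102010201020102016e016e016e016e016c016c016c016c0100010001000100008200820082008200ab00ab00ab00ab00aa00aa00aa00aa0083008300830083008300830083008300aa00aa00aa00aa00ab00ab00ab00ab008200820082008200aa00aa00aa00aa0082008200820082008300830083008300ab00ab00ab00ab00ab00ab00ab00ab0083008300830083008200820082008200aa00aa00aa00aa00a900a900a900a90081008100810081008000800080008000a800a800a800a800a900a900a900a90081008100810081008000800080008000a800a800a800a8008100810081008100a800a800a800a800a900a900a900a90080008000800080008100810081008100a800a800a800a800a900a900a900a90080008000800080008200820082008200ab00ab00ab00ab00aa00aa00aa00aa0083008300830083008300830083008300aa00aa00aa00aa00ab00ab00ab00ab008200820082008200aa00aa00aa00aa0082008200820082008300830083008300ab00ab00ab00ab00ab00ab00ab00ab0083008300830083008200820082008200aa00aa00aa00aa00a900a900a900a90081008100810081008000800080008000a800a800a800a80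0a900a900a900a90081008100810081008000800080008000a800a800a800a8008100810081008100a800a800a800a800a900a900a900a90080008000800080008100810081008100a800a800a800a800a900a900a900a900800080008000800068006800680068006a006a006a006a006a006a006a006a00680068006800680043004300430043004100410041004100410041004100410043004300430043006a006a006a006a00680068006800680068006800680068006a006a006a006a00400040004000400042004200420042004200420042004200400040004000400068006800680068006a006a006a006a006a006a006a006a00680068006800680043004300430043004100410041004100410041004100410043004300430043006a006a006a006a00680068006800680068006800680068006a006a006a006a004000400040004000420042004200420042004200420042004000400040004000200020002000200021002100210021002100210021002100200020002000200020002000200020002100210021002100210021002100210020002000200020002000200020002000210021002100210021002100210021002000200020002000200020002000200021002100210021002100210021002100200020002000200010001000110011001000100011001100100010001100110010001000110011001100110010001000110011001000100011001100100010001100110010001000080008000800080008000800080008000800080008000800080008000800080004000400040004000400040004000400020002000200020001000100000000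
noncomputable def c63 : Node :=
  (Node.st (nat_lit 0) (nat_lit 8) (nat_lit 0) (Node.st (nat_lit 0) (nat_lit 26) (nat_lit 0) (Node.sp (nat_lit 1) (Node.lf (Leaf.pt (nat_lit 7) (nat_lit 1) [nat_lit 8,nat_lit 16])) (Node.sp (nat_lit 2) (Node.lf (Leaf.pt (nat_lit 0) (nat_lit 2) [nat_lit 96])) (Node.st (nat_lit 0) (nat_lit 2) (nat_lit 0) (Node.sp (nat_lit 4) (Node.lf (Leaf.pt (nat_lit 7) (nat_lit 4) [nat_lit 8,nat_lit 16])) (Node.st (nat_lit 0) (nat_lit 4) (nat_lit 0) (Node.sp (nat_lit 12) (Node.lf (Leaf.pt (nat_lit 7) (nat_lit 12) [nat_lit 8,nat_lit 16])) (Node.st (nat_lit 0) (nat_lit 12) (nat_lit 0) (Node.sp (nat_lit 18) (Node.lf (Leaf.pt (nat_lit 7) (nat_lit 18) [nat_lit 146,nat_lit 36])) (Node.st (nat_lit 0) (nat_lit 18) (nat_lit 0) (Node.sp (nat_lit 22) (Node.lf (Leaf.pt (nat_lit 7) (nat_lit 22) [nat_lit 26,nat_lit 38])) (Node.st (nat_lit 0) (nat_lit 22) (nat_lit 0) (Node.sp (nat_lit 30) (Node.lf (Leaf.pt (nat_lit 8) (nat_lit 30) [nat_lit 4,nat_lit 18])) (Node.st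 (nat_lit 0) (nat_lit 30) (nat_lit 0) (Node.sp (nat_lit 128) (Node.lf (Leaf.pt (nat_lit 7) (nat_lit 128) [nat_lit 146,nat_lit 36])) (Node.st (nat_lit 0) (nat_lit 128) (nat_lit 0) (Node.sp (nat_lit 264) (Node.lf (Leaf.st (nat_lit 1) (nat_lit 40) (nat_lit 264) (Leaf.pt (nat_lit 7) (nat_lit 264) [nat_lit 265,nat_lit 72]))) (Node.st (nat_lit 0) (nat_lit 264) (nat_lit 0) (Node.ext [] (nat_lit 26) [Ins.fr [nat_lit 0],Ins.ts (nat_lit 1) [nat_lit 0,nat_lit 0] [],Ins.ts (nat_lit 1) [nat_lit 0,nat_lit 0,nat_lit 0,nat_lit 0] [],Ins.fr [nat_lit 1],Ins.fr [nat_lit 2],Ins.fr [nat_lit 0,nat_lit 0,nat_lit 3],Ins.fr [nat_lit 0,nat_lit 2,nat_lit 2,nat_lit 4],Ins.fr [nat_lit 0,nat_lit 2,nat_lit 5,nat_lit 1],Ins.df [nat_lit 3,nat_lit 3],Ins.df [nat_lit 6,nat_lit 2],Ins.df [nat_lit 1,nat_lit 5,nat_lit 6],Ins.df [nat_lit 2,nat_lit 6,nat_lit 8],Ins.df [nat_lit 0,nat_lit 10,nat_lit 6],Ins.df [nat_lit 3,nat_lit 1,nat_lit 3]] [nat_lit 192,nat_lit 204,nat_lit 200,nat_lit 2,nat_lit 64,nat_lit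 256] [nat_lit 5,nat_lit 8,nat_lit 3,nat_lit 2,nat_lit 1,nat_lit 0,nat_lit 7,nat_lit 4,nat_lit 6] (Srch.ex0 [nat_lit 192,nat_lit 34,nat_lit 18,nat_lit 8,nat_lit 4,nat_lit 1] (Srch.rep (nat_lit 8) [] [nat_lit 16,nat_lit 8,nat_lit 4,nat_lit 2,nat_lit 1] [nat_lit 256,nat_lit 128,nat_lit 64,nat_lit 32] Srch.nil Srch.nil)) Node.done))))))))))))))))))))
theorem ok63 : nodeOK DB PT 63 t63 (nat_lit 0xf000000000f000000f000000000f000000f00000f0000000000f00000f000c30f000c00300f00c300f00300c000f00000ff00000f00fc33cf00fccccffff) (nat_lit 0x22220000000000000000000000000000000000002222000000000000000000000000222200000000000000000000000000000000000022220000000000000000000000002222000000000000000000002222000000000000000000000000000000000000000022220000000000000000000022220000000000001100001100002222000000000000110000000000001100000000222200000000110000110000000022220000000000110000000011000000000000002222000000000000000000002222222200000000000000000000222200000000222211000011001111002222000000002222110011001100110044774455445544ff)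 c63 = true := by
  decide +kernel
noncomputable def t64 : ℕ := nat_lit 0x1e801e801e801e80186018601860186018401840184018401ea01ea01ea01ea0100010001000100014501450145014501470147014701470102010201020102018501850185018501eb01eb01eb01eb01e901e901e901e901870187018701870146014601460146010201020102010201000100010001000144014401440144018501850185018501e901e901e901e901eb01eb01eb01eb0187018701870187014701470147014701000100010001000102010201020102014501450145014501ea01ea01ea01ea0186018601860186018401840184018401e801e801e801e8010201020102010201440144014401440146014601460146010001000100010001af01af01af01af01c301c301c301c301c101c101c101c101ad01ad01ad01ad014701470147014701000100010001000102010201020102014501450145014501c101c101c101c101ad01ad01ad01ad01af01af01af01af01c301c301c301c3010201020102010201440144014401440146014601460146010001000100010001c301c301c301c301ad01ad01ad01ad01af01af01af01af01c101c101c101c1010001000100010001450145014501450147014701470147010201020102010201af01af01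af01af01c101c101c101c101c301c301c301c301ad01ad01ad01ad014601460146014601020102010201020100010001000100014401440144014401af01af01af01af01c301c301c301c301c101c101c101c101ad01ad01ad01ad014701470147014701000100010001000102010201020102014501450145014501c101c101c101c101ad01ad01ad01ad01af01af01af01af01c301c301c301c3010201020102010201440144014401440146014601460146010001000100010001c301c301c301c301ad01ad01ad01ad01af01af01af01af01c101c101c101c1010001000100010001450145014501450147014701470147010201020102010201af01af01af01af01c101c101c101c101c301c301c301c301ad01ad01ad01ad014601460146014601020102010201020100010001000100014401440144014401e801e801e801e80186018601860186018401840184018401ea01ea01ea01ea0100010001000100014501450145014501470147014701470102010201020102018501850185018501eb01eb01eb01eb01e901e901e901e901870187018701870146014601460146010201020102010201000100010001000144014401440144018501850185018501e901e901e901e901eb01eb01eb01eb018701870187018701470147014701470100010001000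1000102010201020102014501450145014501ea01ea01ea01ea0186018601860186018401840184018401e801e801e801e80102010201020102014401440144014401460146014601460100010001000100008200820082008200ab00ab00ab00ab00aa00aa00aa00aa0083008300830083008300830083008300aa00aa00aa00aa00ab00ab00ab00ab008200820082008200aa00aa00aa00aa0082008200820082008300830083008300ab00ab00ab00ab00ab00ab00ab00ab0083008300830083008200820082008200aa00aa00aa00aa00a900a900a900a90081008100810081008000800080008000a800a800a800a800a900a900a900a90081008100810081008000800080008000a800a800a800a8008100810081008100a800a800a800a800a900a900a900a90080008000800080008100810081008100a800a800a800a800a900a900a900a90080008000800080008200820082008200ab00ab00ab00ab00aa00aa00aa00aa0083008300830083008300830083008300aa00aa00aa00aa00ab00ab00ab00ab008200820082008200aa00aa00aa00aa0082008200820082008300830083008300ab00ab00ab00ab00ab00ab00ab00ab0083008300830083008200820082008200aa00aa00aa00aa00a900a900a900a900810081008100810080008000800080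00a800a800a800a800a900a900a900a90081008100810081008000800080008000a800a800a800a8008100810081008100a800a800a800a800a900a900a900a90080008000800080008100810081008100a800a800a800a800a900a900a900a900800080008000800068006800680068006a006a006a006a006a006a006a006a00680068006800680043004300430043004100410041004100410041004100410043004300430043006a006a006a006a00680068006800680068006800680068006a006a006a006a00400040004000400042004200420042004200420042004200400040004000400068006800680068006a006a006a006a006a006a006a006a00680068006800680043004300430043004100410041004100410041004100410043004300430043006a006a006a006a00680068006800680068006800680068006a006a006a006a004000400040004000420042004200420042004200420042004000400040004000200020002000200021002100210021002100210021002100200020002000200020002000200020002100210021002100210021002100210020002000200020002000200020002000210021002100210021002100210021002000200020002000200020002000200021002100210021002100210021002100200020002000200010001000110011001000100011001100100010001100110010001000110011001100110010001000110011001000100011001100100010001100110010001000080008000800080008000800080008000800080008000800080008000800080004000400040004000400040004000400020002000200020001000100000000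
noncomputable def c64 : Node :=
  (Node.st (nat_lit 0) (nat_lit 8) (nat_lit 0) (Node.st (nat_lit 0) (nat_lit 26) (nat_lit 0) (Node.sp (nat_lit 1) (Node.lf (Leaf.pt (nat_lit 7) (nat_lit 1) [nat_lit 8,nat_lit 16])) (Node.sp (nat_lit 2) (Node.lf (Leaf.pt (nat_lit 0) (nat_lit 2) [nat_lit 96])) (Node.st (nat_lit 0) (nat_lit 2) (nat_lit 0) (Node.sp (nat_lit 4) (Node.lf (Leaf.pt (nat_lit 7) (nat_lit 4) [nat_lit 8,nat_lit 16])) (Node.st (nat_lit 0) (nat_lit 4) (nat_lit 0) (Node.sp (nat_lit 12) (Node.lf (Leaf.pt (nat_lit 7) (nat_lit 12) [nat_lit 8,nat_lit 16])) (Node.st (nat_lit 0) (nat_lit 12) (nat_lit 0) (Node.sp (nat_lit 18) (Node.lf (Leaf.pt (nat_lit 6) (nat_lit 18) [nat_lit 8])) (Node.st (nat_lit 0) (nat_lit 18) (nat_lit 0) (Node.sp (nat_lit 22) (Node.lf (Leaf.pt (nat_lit 7) (nat_lit 22) [nat_lit 26,nat_lit 38])) (Node.st (nat_lit 0) (nat_lit 22) (nat_lit 0) (Node.sp (nat_lit 30) (Node.lf (Leaf.pt (nat_lit 7) (nat_lit 30) [nat_lit 156,nat_lit 36])) (Node.st (nat_lit 0)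 (nat_lit 30) (nat_lit 0) (Node.sp (nat_lit 128) (Node.lf (Leaf.pt (nat_lit 7) (nat_lit 128) [nat_lit 180,nat_lit 16])) (Node.st (nat_lit 0) (nat_lit 128) (nat_lit 0) (Node.sp (nat_lit 260) (Node.lf (Leaf.st (nat_lit 1) (nat_lit 40) (nat_lit 260) (Leaf.pt (nat_lit 7) (nat_lit 260) [nat_lit 261,nat_lit 72]))) (Node.st (nat_lit 0) (nat_lit 260) (nat_lit 0) (Node.ext [] (nat_lit 26) [Ins.fr [nat_lit 0],Ins.ts (nat_lit 1) [nat_lit 0,nat_lit 0] [],Ins.ts (nat_lit 1) [nat_lit 0,nat_lit 0,nat_lit 0,nat_lit 0] [],Ins.fr [nat_lit 1],Ins.fr [nat_lit 2],Ins.fr [nat_lit 0,nat_lit 0,nat_lit 3],Ins.fr [nat_lit 0,nat_lit 2,nat_lit 2,nat_lit 4],Ins.fr [nat_lit 0,nat_lit 3,nat_lit 2,nat_lit 4,nat_lit 5],Ins.df [nat_lit 3,nat_lit 3],Ins.df [nat_lit 6,nat_lit 2],Ins.df [nat_lit 1,nat_lit 5,nat_lit 6],Ins.df [nat_lit 2,nat_lit 6,nat_lit 8],Ins.df [nat_lit 0,nat_lit 10,nat_lit 6],Ins.df [nat_lit 3,nat_lit 1,nat_lit 3]] [nat_lit 192,nat_lit 204,nat_lit 200,nat_lit 2,nat_lit 64,nat_lit 256]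 [nat_lit 5,nat_lit 8,nat_lit 3,nat_lit 2,nat_lit 1,nat_lit 0,nat_lit 7,nat_lit 4,nat_lit 6] (Srch.ex0 [nat_lit 192,nat_lit 34,nat_lit 18,nat_lit 8,nat_lit 4,nat_lit 1] (Srch.rep (nat_lit 8) [] [nat_lit 16,nat_lit 8,nat_lit 4,nat_lit 2,nat_lit 1] [nat_lit 256,nat_lit 128,nat_lit 64,nat_lit 32] Srch.nil Srch.nil)) Node.done))))))))))))))))))))
theorem ok64 : nodeOK DB PT 64 t64 (nat_lit 0xf000000000f000000f000000000f00000f000000000f0000f000000000f00c30f000c00300f00c300f00300c000f00000ff00000f00fc33cf00fccccffff) (nat_lit 0x22220000000000000000000000000000000000002222000000000000000000000000222200000000000000000000000000000000000022220000000000000000000022220000000000000000000000000000000000002222000000000000000022220000000000000000000000000000000000002222000000001100001100002222000000000000110000000000001100000000222200000000110000110000000022220000000000110000000011000000000000002222000000000000000000002222222200000000000000000000222200000000222211000011001111002222000000002222110011001100110044774455445544ff)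 c64 = true := by
  decide +kernel
noncomputable def t65 : ℕ := nat_lit 0x1e901e901e901e90187018701870187018501850185018501eb01eb01eb01eb0101010101010101014401440144014401460146014601460103010301030103018401840184018401ea01ea01ea01ea01e801e801e801e801860186018601860147014701470147010301030103010301010101010101010145014501450145018401840184018401e801e801e801e801ea01ea01ea01ea0186018601860186014601460146014601010101010101010103010301030103014401440144014401eb01eb01eb01eb0187018701870187018501850185018501e901e901e901e9010301030103010301450145014501450147014701470147010101010101010101ae01ae01ae01ae01c201c201c201c201c001c001c001c001ac01ac01ac01ac014601460146014601010101010101010103010301030103014401440144014401c001c001c001c001ac01ac01ac01ac01ae01ae01ae01ae01c201c201c201c2010301030103010301450145014501450147014701470147010101010101010101c201c201c201c201ac01ac01ac01ac01ae01ae01ae01ae01c001c001c001c0010101010101010101440144014401440146014601460146010301030103010301ae01ae01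ae01ae01c001c001c001c001c201c201c201c201ac01ac01ac01ac014701470147014701030103010301030101010101010101014501450145014501af01af01af01af01c301c301c301c301c101c101c101c101ad01ad01ad01ad014701470147014701000100010001000102010201020102014501450145014501c101c101c101c101ad01ad01ad01ad01af01af01af01af01c301c301c301c3010201020102010201440144014401440146014601460146010001000100010001c301c301c301c301ad01ad01ad01ad01af01af01af01af01c101c101c101c1010001000100010001450145014501450147014701470147010201020102010201af01af01af01af01c101c101c101c101c301c301c301c301ad01ad01ad01ad014601460146014601020102010201020100010001000100014401440144014401e801e801e801e80186018601860186018401840184018401ea01ea01ea01ea0100010001000100014501450145014501470147014701470102010201020102018501850185018501eb01eb01eb01eb01e901e901e901e901870187018701870146014601460146010201020102010201000100010001000144014401440144018501850185018501e901e901e901e901eb01eb01eb01eb018701870187018701470147014701470100010001000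1000102010201020102014501450145014501ea01ea01ea01ea0186018601860186018401840184018401e801e801e801e80102010201020102014401440144014401460146014601460100010001000100008200820082008200ab00ab00ab00ab00aa00aa00aa00aa0083008300830083008300830083008300aa00aa00aa00aa00ab00ab00ab00ab008200820082008200aa00aa00aa00aa0082008200820082008300830083008300ab00ab00ab00ab00ab00ab00ab00ab0083008300830083008200820082008200aa00aa00aa00aa00a900a900a900a90081008100810081008000800080008000a800a800a800a800a900a900a900a90081008100810081008000800080008000a800a800a800a8008100810081008100a800a800a800a800a900a900a900a90080008000800080008100810081008100a800a800a800a800a900a900a900a90080008000800080008200820082008200ab00ab00ab00ab00aa00aa00aa00aa0083008300830083008300830083008300aa00aa00aa00aa00ab00ab00ab00ab008200820082008200aa00aa00aa00aa0082008200820082008300830083008300ab00ab00ab00ab00ab00ab00ab00ab0083008300830083008200820082008200aa00aa00aa00aa00a900a900a900a900810081008100810080008000800080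00a800a800a800a800a900a900a900a90081008100810081008000800080008000a800a800a800a8008100810081008100a800a800a800a800a900a900a900a90080008000800080008100810081008100a800a800a800a800a900a900a900a900800080008000800068006800680068006a006a006a006a006a006a006a006a00680068006800680043004300430043004100410041004100410041004100410043004300430043006a006a006a006a00680068006800680068006800680068006a006a006a006a00400040004000400042004200420042004200420042004200400040004000400068006800680068006a006a006a006a006a006a006a006a00680068006800680043004300430043004100410041004100410041004100410043004300430043006a006a006a006a00680068006800680068006800680068006a006a006a006a004000400040004000420042004200420042004200420042004000400040004000200020002000200021002100210021002100210021002100200020002000200020002000200020002100210021002100210021002100210020002000200020002000200020002000210021002100210021002100210021002000200020002000200020002000200021002100210021002100210021002100200020002000200010001000110011001000100011001100100010001100110010001000110011001100110010001000110011001000100011001100100010001100110010001000080008000800080008000800080008000800080008000800080008000800080004000400040004000400040004000400020002000200020001000100000000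
noncomputable def c65 : Node :=
  (Node.st (nat_lit 0) (nat_lit 8) (nat_lit 0) (Node.st (nat_lit 0) (nat_lit 26) (nat_lit 0) (Node.sp (nat_lit 1) (Node.lf (Leaf.pt (nat_lit 7) (nat_lit 1) [nat_lit 8,nat_lit 16])) (Node.sp (nat_lit 2) (Node.lf (Leaf.pt (nat_lit 0) (nat_lit 2) [nat_lit 96])) (Node.st (nat_lit 0) (nat_lit 2) (nat_lit 0) (Node.sp (nat_lit 4) (Node.lf (Leaf.pt (nat_lit 7) (nat_lit 4) [nat_lit 8,nat_lit 16])) (Node.st (nat_lit 0) (nat_lit 4) (nat_lit 0) (Node.sp (nat_lit 12) (Node.lf (Leaf.pt (nat_lit 7) (nat_lit 12) [nat_lit 8,nat_lit 16])) (Node.st (nat_lit 0) (nat_lit 12) (nat_lit 0) (Node.sp (nat_lit 18) (Node.lf (Leaf.pt (nat_lit 6) (nat_lit 18) [nat_lit 8])) (Node.st (nat_lit 0) (nat_lit 18) (nat_lit 0) (Node.sp (nat_lit 22) (Node.lf (Leaf.pt (nat_lit 7) (nat_lit 22) [nat_lit 26,nat_lit 38])) (Node.st (nat_lit 0) (nat_lit 22) (nat_lit 0) (Node.sp (nat_lit 30) (Node.lf (Leaf.pt (nat_lit 7) (nat_lit 30) [nat_lit 156,nat_lit 36])) (Node.st (nat_lit 0)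 (nat_lit 30) (nat_lit 0) (Node.sp (nat_lit 128) (Node.lf (Leaf.pt (nat_lit 7) (nat_lit 128) [nat_lit 180,nat_lit 16])) (Node.st (nat_lit 0) (nat_lit 128) (nat_lit 0) (Node.ext [] (nat_lit 26) [Ins.fr [nat_lit 0],Ins.ts (nat_lit 1) [nat_lit 0,nat_lit 0] [],Ins.ts (nat_lit 1) [nat_lit 0,nat_lit 0,nat_lit 0,nat_lit 0] [],Ins.fr [nat_lit 1],Ins.fr [nat_lit 2],Ins.fr [nat_lit 0,nat_lit 0,nat_lit 3],Ins.fr [nat_lit 0,nat_lit 2,nat_lit 2,nat_lit 4],Ins.fr [nat_lit 0,nat_lit 3,nat_lit 2,nat_lit 4,nat_lit 5],Ins.df [nat_lit 3,nat_lit 3],Ins.df [nat_lit 6,nat_lit 2],Ins.df [nat_lit 1,nat_lit 5,nat_lit 6],Ins.df [nat_lit 2,nat_lit 6,nat_lit 8],Ins.df [nat_lit 0,nat_lit 10,nat_lit 6],Ins.df [nat_lit 3,nat_lit 1,nat_lit 3]] [nat_lit 192,nat_lit 204,nat_lit 200,nat_lit 2,nat_lit 64,nat_lit 256] [nat_lit 5,nat_lit 8,nat_lit 3,nat_lit 2,nat_lit 1,nat_lit 0,nat_lit 7,nat_lit 4,nat_lit 6] (Srch.ex0 [nat_lit 192,nat_lit 34,nat_lit 18,nat_lit 8,nat_lit 4,nat_lit 1] (Srch.rep (nat_lit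 8) [] [nat_lit 16,nat_lit 8,nat_lit 4,nat_lit 2,nat_lit 1] [nat_lit 256,nat_lit 128,nat_lit 64,nat_lit 32] Srch.nil Srch.nil)) Node.done))))))))))))))))))
theorem ok65 : nodeOK DB PT 65 t65 (nat_lit 0xc30f000c00300f00c300f00300c000f00000ff00000f00fc33cf00fccccffff) (nat_lit 0x1100001100002222000000000000110000000000001100000000222200000000110000110000000022220000000000110000000011000000000000002222000000000000000000002222222200000000000000000000222200000000222211000011001111002222000000002222110011001100110044774455445544ff) c65 = true := by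
  decide +kernel
noncomputable def t66 : ℕ := nat_lit 0x1c201c201c201c20187018701870187018501850185018501c001c001c001c00101010101010101016e016e016e016e016c016c016c016c0103010301030103018401840184018401c001c001c001c001c201c201c201c20186018601860186016c016c016c016c01030103010301030101010101010101016e016e016e016e018401840184018401c201c201c201c201c001c001c001c00186018601860186016d016d016d016d01010101010101010103010301030103016f016f016f016f01c001c001c001c00187018701870187018501850185018501c201c201c201c20103010301030103016f016f016f016f016d016d016d016d010101010101010101ae01ae01ae01ae01e901e901e901e901eb01eb01eb01eb01ac01ac01ac01ac016d016d016d016d01010101010101010103010301030103016f016f016f016f01ea01ea01ea01ea01ac01ac01ac01ac01ae01ae01ae01ae01e801e801e801e80103010301030103016f016f016f016f016d016d016d016d010101010101010101e801e801e801e801ac01ac01ac01ac01ae01ae01ae01ae01ea01ea01ea01ea0101010101010101016e016e016e016e016c016c016c016c010301030103010301ae01ae01ae01ae01eb01eb01e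b01eb01e901e901e901e901ac01ac01ac01ac016c016c016c016c01030103010301030101010101010101016e016e016e016e01af01af01af01af01e801e801e801e801ea01ea01ea01ea01ad01ad01ad01ad016c016c016c016c01000100010001000102010201020102016e016e016e016e01eb01eb01eb01eb01ad01ad01ad01ad01af01af01af01af01e901e901e901e90102010201020102016e016e016e016e016c016c016c016c010001000100010001e901e901e901e901ad01ad01ad01ad01af01af01af01af01eb01eb01eb01eb0100010001000100016f016f016f016f016d016d016d016d010201020102010201af01af01af01af01ea01ea01ea01ea01e801e801e801e801ad01ad01ad01ad016d016d016d016d01020102010201020100010001000100016f016f016f016f01c301c301c301c30186018601860186018401840184018401c101c101c101c10100010001000100016f016f016f016f016d016d016d016d0102010201020102018501850185018501c101c101c101c101c301c301c301c30187018701870187016d016d016d016d01020102010201020100010001000100016f016f016f016f018501850185018501c301c301c301c301c101c101c101c10187018701870187016c016c016c016c010001000100010001020102010201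02016e016e016e016e01c101c101c101c10186018601860186018401840184018401c301c301c301c30102010201020102016e016e016e016e016c016c016c016c0100010001000100008200820082008200ab00ab00ab00ab00aa00aa00aa00aa0083008300830083008300830083008300aa00aa00aa00aa00ab00ab00ab00ab008200820082008200aa00aa00aa00aa0082008200820082008300830083008300ab00ab00ab00ab00ab00ab00ab00ab0083008300830083008200820082008200aa00aa00aa00aa00a900a900a900a90081008100810081008000800080008000a800a800a800a800a900a900a900a90081008100810081008000800080008000a800a800a800a8008100810081008100a800a800a800a800a900a900a900a90080008000800080008100810081008100a800a800a800a800a900a900a900a90080008000800080008200820082008200ab00ab00ab00ab00aa00aa00aa00aa0083008300830083008300830083008300aa00aa00aa00aa00ab00ab00ab00ab008200820082008200aa00aa00aa00aa0082008200820082008300830083008300ab00ab00ab00ab00ab00ab00ab00ab0083008300830083008200820082008200aa00aa00aa00aa00a900a900a900a90081008100810081008000800080008000a800a800a800a80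0a900a900a900a90081008100810081008000800080008000a800a800a800a8008100810081008100a800a800a800a800a900a900a900a90080008000800080008100810081008100a800a800a800a800a900a900a900a900800080008000800068006800680068006a006a006a006a006a006a006a006a00680068006800680043004300430043004100410041004100410041004100410043004300430043006a006a006a006a00680068006800680068006800680068006a006a006a006a00400040004000400042004200420042004200420042004200400040004000400068006800680068006a006a006a006a006a006a006a006a00680068006800680043004300430043004100410041004100410041004100410043004300430043006a006a006a006a00680068006800680068006800680068006a006a006a006a004000400040004000420042004200420042004200420042004000400040004000200020002000200021002100210021002100210021002100200020002000200020002000200020002100210021002100210021002100210020002000200020002000200020002000210021002100210021002100210021002000200020002000200020002000200021002100210021002100210021002100200020002000200010001000110011001000100011001100100010001100110010001000110011001100110010001000110011001000100011001100100010001100110010001000080008000800080008000800080008000800080008000800080008000800080004000400040004000400040004000400020002000200020001000100000000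
noncomputable def c66 : Node :=
  (Node.st (nat_lit 0) (nat_lit 8) (nat_lit 0) (Node.st (nat_lit 0) (nat_lit 26) (nat_lit 0) (Node.sp (nat_lit 1) (Node.lf (Leaf.pt (nat_lit 7) (nat_lit 1) [nat_lit 8,nat_lit 16])) (Node.sp (nat_lit 2) (Node.lf (Leaf.pt (nat_lit 0) (nat_lit 2) [nat_lit 96])) (Node.st (nat_lit 0) (nat_lit 2) (nat_lit 0) (Node.sp (nat_lit 4) (Node.lf (Leaf.pt (nat_lit 7) (nat_lit 4) [nat_lit 8,nat_lit 16])) (Node.st (nat_lit 0) (nat_lit 4) (nat_lit 0) (Node.sp (nat_lit 12) (Node.lf (Leaf.pt (nat_lit 7) (nat_lit 12) [nat_lit 8,nat_lit 16])) (Node.st (nat_lit 0) (nat_lit 12) (nat_lit 0) (Node.sp (nat_lit 18) (Node.lf (Leaf.pt (nat_lit 6) (nat_lit 18) [nat_lit 8])) (Node.st (nat_lit 0) (nat_lit 18) (nat_lit 0) (Node.sp (nat_lit 22) (Node.lf (Leaf.pt (nat_lit 7) (nat_lit 22) [nat_lit 26,nat_lit 38])) (Node.st (nat_lit 0) (nat_lit 22) (nat_lit 0) (Node.sp (nat_lit 30) (Node.lf (Leaf.pt (nat_lit 7) (nat_lit 30) [nat_lit 156,nat_lit 36])) (Node.st (nat_lit 0)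 (nat_lit 30) (nat_lit 0) (Node.sp (nat_lit 128) (Node.lf (Leaf.pt (nat_lit 7) (nat_lit 128) [nat_lit 180,nat_lit 16])) (Node.st (nat_lit 0) (nat_lit 128) (nat_lit 0) (Node.ext [] (nat_lit 26) [Ins.fr [nat_lit 0],Ins.ts (nat_lit 1) [nat_lit 0,nat_lit 0] [],Ins.ts (nat_lit 1) [nat_lit 0,nat_lit 0,nat_lit 0,nat_lit 0] [],Ins.fr [nat_lit 1],Ins.fr [nat_lit 2],Ins.fr [nat_lit 0,nat_lit 0,nat_lit 3],Ins.fr [nat_lit 0,nat_lit 2,nat_lit 2,nat_lit 4],Ins.fr [nat_lit 0,nat_lit 3,nat_lit 2,nat_lit 4,nat_lit 5],Ins.df [nat_lit 3,nat_lit 3],Ins.df [nat_lit 6,nat_lit 2],Ins.df [nat_lit 1,nat_lit 5,nat_lit 6],Ins.df [nat_lit 2,nat_lit 6,nat_lit 8],Ins.df [nat_lit 0,nat_lit 10,nat_lit 6],Ins.df [nat_lit 3,nat_lit 1,nat_lit 3]] [nat_lit 192,nat_lit 204,nat_lit 200,nat_lit 2,nat_lit 64,nat_lit 256] [nat_lit 5,nat_lit 8,nat_lit 3,nat_lit 2,nat_lit 1,nat_lit 0,nat_lit 7,nat_lit 4,nat_lit 6] (Srch.ex0 [nat_lit 192,nat_lit 34,nat_lit 18,nat_lit 8,nat_lit 4,nat_lit 1] (Srch.rep (nat_lit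 8) [] [nat_lit 16,nat_lit 8,nat_lit 4,nat_lit 2,nat_lit 1] [nat_lit 256,nat_lit 128,nat_lit 64,nat_lit 32] Srch.nil Srch.nil)) Node.done))))))))))))))))))
theorem ok66 : nodeOK DB PT 66 t66 (nat_lit 0xc30f000c00300f00c300f00300c000f00000ff00000f00fc33cf00fccccffff) (nat_lit 0x1100001100002222000000000000110000000000001100000000222200000000110000110000000022220000000000110000000011000000000000002222000000000000000000002222222200000000000000000000222200000000222211000011001111002222000000002222110011001100110044774455445544ff) c66 = true := by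
  decide +kernel
noncomputable def t67 : ℕ := nat_lit 0x1c301c301c301c30186018601860186018401840184018401c101c101c101c10100010001000100016f016f016f016f016d016d016d016d0102010201020102018501850185018501c101c101c101c101c301c301c301c30187018701870187016d016d016d016d01020102010201020100010001000100016f016f016f016f018501850185018501c301c301c301c301c101c101c101c10187018701870187016c016c016c016c01000100010001000102010201020102016e016e016e016e01c101c101c101c10186018601860186018401840184018401c301c301c301c30102010201020102016e016e016e016e016c016c016c016c010001000100010001af01af01af01af01e801e801e801e801ea01ea01ea01ea01ad01ad01ad01ad016c016c016c016c01000100010001000102010201020102016e016e016e016e01eb01eb01eb01eb01ad01ad01ad01ad01af01af01af01af01e901e901e901e90102010201020102016e016e016e016e016c016c016c016c010001000100010001e901e901e901e901ad01ad01ad01ad01af01af01af01af01eb01eb01eb01eb0100010001000100016f016f016f016f016d016d016d016d010201020102010201af01af01af01af01ea01ea01e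a01ea01e801e801e801e801ad01ad01ad01ad016d016d016d016d01020102010201020100010001000100016f016f016f016f01af01af01af01af01e801e801e801e801ea01ea01ea01ea01ad01ad01ad01ad016c016c016c016c01000100010001000102010201020102016e016e016e016e01eb01eb01eb01eb01ad01ad01ad01ad01af01af01af01af01e901e901e901e90102010201020102016e016e016e016e016c016c016c016c010001000100010001e901e901e901e901ad01ad01ad01ad01af01af01af01af01eb01eb01eb01eb0100010001000100016f016f016f016f016d016d016d016d010201020102010201af01af01af01af01ea01ea01ea01ea01e801e801e801e801ad01ad01ad01ad016d016d016d016d01020102010201020100010001000100016f016f016f016f01c301c301c301c30186018601860186018401840184018401c101c101c101c10100010001000100016f016f016f016f016d016d016d016d0102010201020102018501850185018501c101c101c101c101c301c301c301c30187018701870187016d016d016d016d01020102010201020100010001000100016f016f016f016f018501850185018501c301c301c301c301c101c101c101c10187018701870187016c016c016c016c010001000100010001020102010201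02016e016e016e016e01c101c101c101c10186018601860186018401840184018401c301c301c301c30102010201020102016e016e016e016e016c016c016c016c0100010001000100008200820082008200ab00ab00ab00ab00aa00aa00aa00aa0083008300830083008300830083008300aa00aa00aa00aa00ab00ab00ab00ab008200820082008200aa00aa00aa00aa0082008200820082008300830083008300ab00ab00ab00ab00ab00ab00ab00ab0083008300830083008200820082008200aa00aa00aa00aa00a900a900a900a90081008100810081008000800080008000a800a800a800a800a900a900a900a90081008100810081008000800080008000a800a800a800a8008100810081008100a800a800a800a800a900a900a900a90080008000800080008100810081008100a800a800a800a800a900a900a900a90080008000800080008200820082008200ab00ab00ab00ab00aa00aa00aa00aa0083008300830083008300830083008300aa00aa00aa00aa00ab00ab00ab00ab008200820082008200aa00aa00aa00aa0082008200820082008300830083008300ab00ab00ab00ab00ab00ab00ab00ab0083008300830083008200820082008200aa00aa00aa00aa00a900a900a900a90081008100810081008000800080008000a800a800a800a80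0a900a900a900a90081008100810081008000800080008000a800a800a800a8008100810081008100a800a800a800a800a900a900a900a90080008000800080008100810081008100a800a800a800a800a900a900a900a900800080008000800068006800680068006a006a006a006a006a006a006a006a00680068006800680043004300430043004100410041004100410041004100410043004300430043006a006a006a006a00680068006800680068006800680068006a006a006a006a00400040004000400042004200420042004200420042004200400040004000400068006800680068006a006a006a006a006a006a006a006a00680068006800680043004300430043004100410041004100410041004100410043004300430043006a006a006a006a00680068006800680068006800680068006a006a006a006a004000400040004000420042004200420042004200420042004000400040004000200020002000200021002100210021002100210021002100200020002000200020002000200020002100210021002100210021002100210020002000200020002000200020002000210021002100210021002100210021002000200020002000200020002000200021002100210021002100210021002100200020002000200010001000110011001000100011001100100010001100110010001000110011001100110010001000110011001000100011001100100010001100110010001000080008000800080008000800080008000800080008000800080008000800080004000400040004000400040004000400020002000200020001000100000000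
noncomputable def c67 : Node :=
  (Node.st (nat_lit 0) (nat_lit 8) (nat_lit 0) (Node.st (nat_lit 0) (nat_lit 26) (nat_lit 0) (Node.sp (nat_lit 1) (Node.lf (Leaf.pt (nat_lit 7) (nat_lit 1) [nat_lit 8,nat_lit 16])) (Node.sp (nat_lit 2) (Node.lf (Leaf.pt (nat_lit 0) (nat_lit 2) [nat_lit 96])) (Node.st (nat_lit 0) (nat_lit 2) (nat_lit 0) (Node.sp (nat_lit 4) (Node.lf (Leaf.pt (nat_lit 7) (nat_lit 4) [nat_lit 8,nat_lit 16])) (Node.st (nat_lit 0) (nat_lit 4) (nat_lit 0) (Node.sp (nat_lit 12) (Node.lf (Leaf.pt (nat_lit 7) (nat_lit 12) [nat_lit 8,nat_lit 16])) (Node.st (nat_lit 0) (nat_lit 12) (nat_lit 0) (Node.sp (nat_lit 18) (Node.lf (Leaf.pt (nat_lit 6) (nat_lit 18) [nat_lit 8])) (Node.st (nat_lit 0) (nat_lit 18) (nat_lit 0) (Node.sp (nat_lit 22) (Node.lf (Leaf.pt (nat_lit 7) (nat_lit 22) [nat_lit 26,nat_lit 38])) (Node.st (nat_lit 0) (nat_lit 22) (nat_lit 0) (Node.sp (nat_lit 30) (Node.lf (Leaf.pt (nat_lit 7) (nat_lit 30) [nat_lit 156,nat_lit 36])) (Node.st (nat_lit 0)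 (nat_lit 30) (nat_lit 0) (Node.sp (nat_lit 128) (Node.lf (Leaf.pt (nat_lit 7) (nat_lit 128) [nat_lit 180,nat_lit 16])) (Node.st (nat_lit 0) (nat_lit 128) (nat_lit 0) (Node.sp (nat_lit 260) (Node.lf (Leaf.st (nat_lit 1) (nat_lit 40) (nat_lit 260) (Leaf.pt (nat_lit 7) (nat_lit 260) [nat_lit 261,nat_lit 72]))) (Node.st (nat_lit 0) (nat_lit 260) (nat_lit 0) (Node.ext [] (nat_lit 26) [Ins.fr [nat_lit 0],Ins.ts (nat_lit 1) [nat_lit 0,nat_lit 0] [],Ins.ts (nat_lit 1) [nat_lit 0,nat_lit 0,nat_lit 0,nat_lit 0] [],Ins.fr [nat_lit 1],Ins.fr [nat_lit 2],Ins.fr [nat_lit 0,nat_lit 0,nat_lit 3],Ins.fr [nat_lit 0,nat_lit 2,nat_lit 2,nat_lit 4],Ins.fr [nat_lit 0,nat_lit 3,nat_lit 2,nat_lit 4,nat_lit 5],Ins.df [nat_lit 3,nat_lit 3],Ins.df [nat_lit 6,nat_lit 2],Ins.df [nat_lit 1,nat_lit 5,nat_lit 6],Ins.df [nat_lit 2,nat_lit 6,nat_lit 8],Ins.df [nat_lit 0,nat_lit 10,nat_lit 6],Ins.df [nat_lit 3,nat_lit 1,nat_lit 3]] [nat_lit 192,nat_lit 204,nat_lit 200,nat_lit 2,nat_lit 64,nat_lit 256]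 [nat_lit 5,nat_lit 8,nat_lit 3,nat_lit 2,nat_lit 1,nat_lit 0,nat_lit 7,nat_lit 4,nat_lit 6] (Srch.ex0 [nat_lit 192,nat_lit 34,nat_lit 18,nat_lit 8,nat_lit 4,nat_lit 1] (Srch.rep (nat_lit 8) [] [nat_lit 16,nat_lit 8,nat_lit 4,nat_lit 2,nat_lit 1] [nat_lit 256,nat_lit 128,nat_lit 64,nat_lit 32] Srch.nil Srch.nil)) Node.done))))))))))))))))))))
theorem ok67 : nodeOK DB PT 67 t67 (nat_lit 0xf000000000f000000f000000000f00000f000000000f0000f000000000f00c30f000c00300f00c300f00300c000f00000ff00000f00fc33cf00fccccffff) (nat_lit 0x22220000000000000000000000000000000000002222000000000000000000000000222200000000000000000000000000000000000022220000000000000000000022220000000000000000000000000000000000002222000000000000000022220000000000000000000000000000000000002222000000001100001100002222000000000000110000000000001100000000222200000000110000110000000022220000000000110000000011000000000000002222000000000000000000002222222200000000000000000000222200000000222211000011001111002222000000002222110011001100110044774455445544ff)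 c67 = true := by
  decide +kernel
noncomputable def t68 : ℕ := nat_lit 0x1a701a701a701a701cb01cb01cb01cb01c901c901c901c901a501a501a501a5010201020102010201450145014501450147014701470147010001000100010001ca01ca01ca01ca01a601a601a601a601a401a401a401a401c801c801c801c8014401440144014401020102010201020100010001000100014601460146014601c801c801c801c801a601a601a601a601a401a401a401a401ca01ca01ca01ca014501450145014501000100010001000102010201020102014701470147014701a701a701a701a701c901c901c901c901cb01cb01cb01cb01a501a501a501a5010001000100010001440144014401440146014601460146010201020102010201a701a701a701a701cb01cb01cb01cb01c901c901c901c901a501a501a501a5010201020102010201450145014501450147014701470147010001000100010001ca01ca01ca01ca01a601a601a601a601a401a401a401a401c801c801c801c8014401440144014401020102010201020100010001000100014601460146014601c801c801c801c801a601a601a601a601a401a401a401a401ca01ca01ca01ca014501450145014501000100010001000102010201020102014701470147014701a701a701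a701a701c901c901c901c901cb01cb01cb01cb01a501a501a501a5010001000100010001440144014401440146014601460146010201020102010201a401a401a401a401c801c801c801c801ca01ca01ca01ca01a601a601a601a6010001000100010001470147014701470145014501450145010201020102010201c901c901c901c901a501a501a501a501a701a701a701a701cb01cb01cb01cb014601460146014601000100010001000102010201020102014401440144014401cb01cb01cb01cb01a501a501a501a501a701a701a701a701c901c901c901c9014701470147014701020102010201020100010001000100014501450145014501a401a401a401a401ca01ca01ca01ca01c801c801c801c801a601a601a601a6010201020102010201460146014601460144014401440144010001000100010001a401a401a401a401c801c801c801c801ca01ca01ca01ca01a601a601a601a6010001000100010001470147014701470145014501450145010201020102010201c901c901c901c901a501a501a501a501a701a701a701a701cb01cb01cb01cb014601460146014601000100010001000102010201020102014401440144014401cb01cb01cb01cb01a501a501a501a501a701a701a701a701c901c901c901c901470147014701470102010201020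1020100010001000100014501450145014501a401a401a401a401ca01ca01ca01ca01c801c801c801c801a601a601a601a60102010201020102014601460146014601440144014401440100010001000100008200820082008200ab00ab00ab00ab00aa00aa00aa00aa0083008300830083008300830083008300aa00aa00aa00aa00ab00ab00ab00ab008200820082008200aa00aa00aa00aa0082008200820082008300830083008300ab00ab00ab00ab00ab00ab00ab00ab0083008300830083008200820082008200aa00aa00aa00aa00a900a900a900a90081008100810081008000800080008000a800a800a800a800a900a900a900a90081008100810081008000800080008000a800a800a800a8008100810081008100a800a800a800a800a900a900a900a90080008000800080008100810081008100a800a800a800a800a900a900a900a90080008000800080008200820082008200ab00ab00ab00ab00aa00aa00aa00aa0083008300830083008300830083008300aa00aa00aa00aa00ab00ab00ab00ab008200820082008200aa00aa00aa00aa0082008200820082008300830083008300ab00ab00ab00ab00ab00ab00ab00ab0083008300830083008200820082008200aa00aa00aa00aa00a900a900a900a900810081008100810080008000800080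00a800a800a800a800a900a900a900a90081008100810081008000800080008000a800a800a800a8008100810081008100a800a800a800a800a900a900a900a90080008000800080008100810081008100a800a800a800a800a900a900a900a900800080008000800068006800680068006a006a006a006a006a006a006a006a00680068006800680043004300430043004100410041004100410041004100410043004300430043006a006a006a006a00680068006800680068006800680068006a006a006a006a00400040004000400042004200420042004200420042004200400040004000400068006800680068006a006a006a006a006a006a006a006a00680068006800680043004300430043004100410041004100410041004100410043004300430043006a006a006a006a00680068006800680068006800680068006a006a006a006a004000400040004000420042004200420042004200420042004000400040004000200020002000200021002100210021002100210021002100200020002000200020002000200020002100210021002100210021002100210020002000200020002000200020002000210021002100210021002100210021002000200020002000200020002000200021002100210021002100210021002100200020002000200010001000110011001000100011001100100010001100110010001000110011001100110010001000110011001000100011001100100010001100110010001000080008000800080008000800080008000800080008000800080008000800080004000400040004000400040004000400020002000200020001000100000000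
noncomputable def c68 : Node :=
  (Node.st (nat_lit 0) (nat_lit 8) (nat_lit 0) (Node.st (nat_lit 0) (nat_lit 26) (nat_lit 0) (Node.sp (nat_lit 1) (Node.lf (Leaf.pt (nat_lit 7) (nat_lit 1) [nat_lit 8,nat_lit 16])) (Node.sp (nat_lit 2) (Node.lf (Leaf.pt (nat_lit 0) (nat_lit 2) [nat_lit 96])) (Node.st (nat_lit 0) (nat_lit 2) (nat_lit 0) (Node.sp (nat_lit 4) (Node.lf (Leaf.pt (nat_lit 7) (nat_lit 4) [nat_lit 8,nat_lit 16])) (Node.st (nat_lit 0) (nat_lit 4) (nat_lit 0) (Node.sp (nat_lit 12) (Node.lf (Leaf.pt (nat_lit 7) (nat_lit 12) [nat_lit 8,nat_lit 16])) (Node.st (nat_lit 0) (nat_lit 12) (nat_lit 0) (Node.sp (nat_lit 18) (Node.lf (Leaf.pt (nat_lit 6) (nat_lit 18) [nat_lit 8])) (Node.st (nat_lit 0) (nat_lit 18) (nat_lit 0) (Node.sp (nat_lit 22) (Node.lf (Leaf.pt (nat_lit 7) (nat_lit 22) [nat_lit 26,nat_lit 38])) (Node.st (nat_lit 0) (nat_lit 22) (nat_lit 0) (Node.sp (nat_lit 30) (Node.lf (Leaf.pt (nat_lit 8) (nat_lit 30) [nat_lit 4,nat_lit 18])) (Node.st (nat_lit 0) (nat_lit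 30) (nat_lit 0) (Node.sp (nat_lit 128) (Node.lf (Leaf.st (nat_lit 1) (nat_lit 12) (nat_lit 128) (Leaf.pt (nat_lit 7) (nat_lit 128) [nat_lit 129,nat_lit 256]))) (Node.st (nat_lit 0) (nat_lit 128) (nat_lit 0) (Node.sp (nat_lit 196) (Node.lf (Leaf.pt (nat_lit 7) (nat_lit 196) [nat_lit 26,nat_lit 38])) (Node.st (nat_lit 0) (nat_lit 196) (nat_lit 0) (Node.sp (nat_lit 268) (Node.lf (Leaf.st (nat_lit 1) (nat_lit 128) (nat_lit 268) (Leaf.pt (nat_lit 7) (nat_lit 268) [nat_lit 269,nat_lit 72]))) (Node.st (nat_lit 0) (nat_lit 268) (nat_lit 0) (Node.ext [] (nat_lit 26) [Ins.fr [nat_lit 0],Ins.ts (nat_lit 1) [nat_lit 0,nat_lit 0] [],Ins.ts (nat_lit 1) [nat_lit 0,nat_lit 0,nat_lit 0,nat_lit 0] [],Ins.fr [nat_lit 1],Ins.fr [nat_lit 2],Ins.fr [nat_lit 0,nat_lit 0,nat_lit 3],Ins.fr [nat_lit 0,nat_lit 2,nat_lit 2,nat_lit 4],Ins.fr [nat_lit 1,nat_lit 2,nat_lit 5],Ins.df [nat_lit 3,nat_lit 3],Ins.df [nat_lit 6,nat_lit 2],Ins.df [nat_lit 1,nat_lit 5,nat_lit 6],Ins.df [nat_lit 2,nat_lit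 6,nat_lit 8],Ins.df [nat_lit 0,nat_lit 10,nat_lit 6],Ins.df [nat_lit 3,nat_lit 1,nat_lit 3]] [nat_lit 192,nat_lit 204,nat_lit 200,nat_lit 2,nat_lit 64,nat_lit 256] [nat_lit 5,nat_lit 8,nat_lit 3,nat_lit 2,nat_lit 1,nat_lit 0,nat_lit 7,nat_lit 4,nat_lit 6] (Srch.ex0 [nat_lit 192,nat_lit 34,nat_lit 18,nat_lit 8,nat_lit 4,nat_lit 1] (Srch.rep (nat_lit 8) [] [nat_lit 16,nat_lit 8,nat_lit 4,nat_lit 2,nat_lit 1] [nat_lit 256,nat_lit 128,nat_lit 64,nat_lit 32] Srch.nil Srch.nil)) Node.done))))))))))))))))))))))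
theorem ok68 : nodeOK DB PT 68 t68 (nat_lit 0xf000000f00000000000000000000000f00000000000000f0000c30f000c00300f00c300f00300c000f00000ff00000f00fc33cf00fccccffff) (nat_lit 0x2222000000000000000000000000222200000000000000000000000000000000000000000000000000000000000000000000000000000000000000000000222200000000000000000000000000000000000000000000000000000000222200000000000000001100001100002222000000000000110000000000001100000000222200000000110000110000000022220000000000110000000011000000000000002222000000000000000000002222222200000000000000000000222200000000222211000011001111002222000000002222110011001100110044774455445544ff) c68 = true := by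
  decide +kernel

end Cfsg.Agent.L33.Dat
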