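import Mathlib
import Cfsg.Agent.L33.DH

/-!
Certificates.
-/

set_option autoImplicit false
set_option maxRecDepth 100000

namespace Cfsg.Agent.L33.Dat

open Cfsg.Agent.L33

noncomputable def c241_0 : Node :=
  Node.ext [[nat_lit 32,nat_lit 16,nat_lit 8,nat_lit 4,nat_lit 2,nat_lit 1]] (nat_lit 10) [Ins.ts (nat_lit 4) [nat_lit 0] [nat_lit 10,nat_lit 0,nat_lit 0],Ins.fr [nat_lit 0],Ins.ts (nat_lit 1) [nat_lit 0,nat_lit 0] [],Ins.ts (nat_lit 1) [nat_lit 0,nat_lit 0,nat_lit 0,nat_lit 0] [],Ins.fr [nat_lit 1],Ins.ts (nat_lit 1) [nat_lit 0,nat_lit 0] [],Ins.ts (nat_lit 0) [nat_lit 0,nat_lit 1,nat_lit 1,nat_lit 0] [],Ins.ts (nat_lit 0) [nat_lit 1,nat_lit 1,nat_lit 1] [nat_lit 0,nat_lit 1,nat_lit 0],Ins.ts (nat_lit 2) [nat_lit 0,nat_lit 0,nat_lit 1,nat_lit 0] [],Ins.fr [nat_lit 2],Ins.ts (nat_lit 1) [nat_lit 0,nat_lit 0] [],Ins.ts (nat_lit 4) [nat_lit 0] [nat_lit 37,nat_lit 0,nat_lit 0],Ins.ts (nat_lit 3) [nat_lit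 1,nat_lit 0,nat_lit 2] [],Ins.ts (nat_lit 2) [nat_lit 1,nat_lit 0] [],Ins.ts (nat_lit 0) [nat_lit 0,nat_lit 2,nat_lit 0,nat_lit 2] [],Ins.fr [nat_lit 0,nat_lit 0,nat_lit 3],Ins.ts (nat_lit 4) [nat_lit 0] [nat_lit 5,nat_lit 0,nat_lit 0],Ins.ts (nat_lit 1) [nat_lit 0,nat_lit 0] [],Ins.ts (nat_lit 2) [nat_lit 4,nat_lit 0] [],Ins.ts (nat_lit 0) [nat_lit 2,nat_lit 0,nat_lit 2] [nat_lit 0],Ins.ts (nat_lit 0) [nat_lit 1,nat_lit 0] [nat_lit 0,nat_lit 1],Ins.fr [nat_lit 0,nat_lit 0,nat_lit 0,nat_lit 1],Ins.ts (nat_lit 0) [nat_lit 4,nat_lit 4] [nat_lit 0,nat_lit 0],Ins.ts (nat_lit 0) [nat_lit 4,nat_lit 0] [nat_lit 0,nat_lit 4],Ins.fr [nat_lit 3,nat_lit 2,nat_lit 4,nat_lit 5],Ins.ts (nat_lit 0) [nat_lit 0,nat_lit 3,nat_lit 0] [nat_lit 1],Ins.ts (nat_lit 0) [nat_lit 0,nat_lit 4,nat_lit 1] [nat_lit 5,nat_lit 0],Ins.df [nat_lit 2,nat_lit 2],Ins.df [nat_lit 2,nat_lit 2],Ins.df [nat_lit 0,nat_lit 1,nat_lit 8],Ins.df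 [nat_lit 1,nat_lit 7,nat_lit 8],Ins.df [nat_lit 3,nat_lit 6,nat_lit 7],Ins.df [nat_lit 0,nat_lit 10]] [nat_lit 96,nat_lit 112,nat_lit 36,nat_lit 4,nat_lit 128,nat_lit 256] [nat_lit 5,nat_lit 4,nat_lit 8,nat_lit 3,nat_lit 2,nat_lit 1,nat_lit 0,nat_lit 7,nat_lit 6] (Srch.ex0 [nat_lit 68,nat_lit 36,nat_lit 16,nat_lit 8,nat_lit 2,nat_lit 1] (Srch.rep (nat_lit 12) [nat_lit 4,nat_lit 16,nat_lit 192] [nat_lit 192,nat_lit 34,nat_lit 16,nat_lit 8,nat_lit 4,nat_lit 1] [nat_lit 256,nat_lit 64,nat_lit 2] (Srch.rep (nat_lit 192) [nat_lit 192] [] [] (Srch.rep (nat_lit 254) [nat_lit 38] [] [] (Srch.rep (nat_lit 8) [nat_lit 12] [] [] (Srch.rep (nat_lit 7) [] [] [] (Srch.rep (nat_lit 132) [] [] [] Srch.nil (Srch.rep (nat_lit 133) [] [] [] (Srch.rep (nat_lit 263) [] [] [] (Srch.fin [nat_lit 256] [nat_lit 0] (((nat_lit 143),(Leaf.au (nat_lit 2) (nat_lit 16) (nat_lit 1) [[nat_lit 32,nat_lit 16,nat_lit 8,nat_lit 4,nat_lit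 2,nat_lit 1]] [nat_lit 64,nat_lit 32,nat_lit 16,nat_lit 8,nat_lit 4,nat_lit 2,nat_lit 1] [nat_lit 1,nat_lit 1756,nat_lit 3] (nat_lit 2) [] (nat_lit 0) [nat_lit 64,nat_lit 32,nat_lit 8,nat_lit 8,nat_lit 4,nat_lit 2,nat_lit 0]))::(((nat_lit 142),(Leaf.au (nat_lit 2) (nat_lit 16) (nat_lit 1) [[nat_lit 32,nat_lit 16,nat_lit 8,nat_lit 4,nat_lit 2,nat_lit 1]] [nat_lit 64,nat_lit 32,nat_lit 16,nat_lit 8,nat_lit 4,nat_lit 2,nat_lit 1] [nat_lit 1,nat_lit 1756,nat_lit 3] (nat_lit 2) [] (nat_lit 0) [nat_lit 64,nat_lit 32,nat_lit 8,nat_lit 8,nat_lit 4,nat_lit 2,nat_lit 0]))::[]))) (Srch.rep (nat_lit 262) [] [] [] (Srch.fin [nat_lit 256] [nat_lit 0] (((nat_lit 143),(Leaf.au (nat_lit 2) (nat_lit 16) (nat_lit 1) [[nat_lit 32,nat_lit 16,nat_lit 8,nat_lit 4,nat_lit 2,nat_lit 1]] [nat_lit 64,nat_lit 32,nat_lit 16,nat_lit 8,nat_lit 4,nat_lit 2,nat_lit 1] [nat_lit 1,nat_lit 1756,nat_lit 3] (nat_lit 2) [] (nat_lit 0) [nat_lit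 64,nat_lit 32,nat_lit 8,nat_lit 8,nat_lit 4,nat_lit 2,nat_lit 0]))::(((nat_lit 142),(Leaf.au (nat_lit 2) (nat_lit 16) (nat_lit 1) [[nat_lit 32,nat_lit 16,nat_lit 8,nat_lit 4,nat_lit 2,nat_lit 1]] [nat_lit 64,nat_lit 32,nat_lit 16,nat_lit 8,nat_lit 4,nat_lit 2,nat_lit 1] [nat_lit 1,nat_lit 1756,nat_lit 3] (nat_lit 2) [] (nat_lit 0) [nat_lit 64,nat_lit 32,nat_lit 8,nat_lit 8,nat_lit 4,nat_lit 2,nat_lit 0]))::[]))) Srch.nil)) Srch.nil)) Srch.nil) (Srch.rep (nat_lit 34) [nat_lit 12] [] [] (Srch.rep (nat_lit 44) [] [] [] (Srch.rep (nat_lit 132) [] [] [] (Srch.rep (nat_lit 447) [] [] [] (Srch.fin [nat_lit 256] [nat_lit 0] (((nat_lit 31),(Leaf.au (nat_lit 3) (nat_lit 16) (nat_lit 0) [[nat_lit 16,nat_lit 11,nat_lit 69,nat_lit 1]] [nat_lit 68,nat_lit 16,nat_lit 8,nat_lit 2,nat_lit 1] [nat_lit 5,nat_lit 1664,nat_lit 5,nat_lit 1728,nat_lit 5] (nat_lit 1) [nat_lit 0,nat_lit 1,nat_lit 69,nat_lit 68,nat_lit 11,nat_lit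 10,nat_lit 78,nat_lit 79,nat_lit 16,nat_lit 17,nat_lit 85,nat_lit 84,nat_lit 27,nat_lit 26,nat_lit 94,nat_lit 95] (nat_lit 0) [nat_lit 0,nat_lit 0,nat_lit 2,nat_lit 2,nat_lit 0]))::(((nat_lit 30),(Leaf.au (nat_lit 3) (nat_lit 16) (nat_lit 0) [[nat_lit 16,nat_lit 11,nat_lit 69,nat_lit 1]] [nat_lit 68,nat_lit 16,nat_lit 8,nat_lit 2,nat_lit 1] [nat_lit 5,nat_lit 1664,nat_lit 5,nat_lit 1728,nat_lit 5] (nat_lit 1) [nat_lit 0,nat_lit 1,nat_lit 69,nat_lit 68,nat_lit 11,nat_lit 10,nat_lit 78,nat_lit 79,nat_lit 16,nat_lit 17,nat_lit 85,nat_lit 84,nat_lit 27,nat_lit 26,nat_lit 94,nat_lit 95] (nat_lit 0) [nat_lit 0,nat_lit 0,nat_lit 2,nat_lit 2,nat_lit 0]))::[]))) (Srch.rep (nat_lit 446) [] [] [] (Srch.fin [nat_lit 256] [nat_lit 0] (((nat_lit 31),(Leaf.au (nat_lit 3) (nat_lit 16) (nat_lit 0) [[nat_lit 16,nat_lit 11,nat_lit 69,nat_lit 1]] [nat_lit 68,nat_lit 16,nat_lit 8,nat_lit 2,nat_lit 1] [nat_lit 5,nat_lit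 1664,nat_lit 5,nat_lit 1728,nat_lit 5] (nat_lit 1) [nat_lit 0,nat_lit 1,nat_lit 69,nat_lit 68,nat_lit 11,nat_lit 10,nat_lit 78,nat_lit 79,nat_lit 16,nat_lit 17,nat_lit 85,nat_lit 84,nat_lit 27,nat_lit 26,nat_lit 94,nat_lit 95] (nat_lit 0) [nat_lit 0,nat_lit 0,nat_lit 2,nat_lit 2,nat_lit 0]))::(((nat_lit 30),(Leaf.au (nat_lit 3) (nat_lit 16) (nat_lit 0) [[nat_lit 16,nat_lit 11,nat_lit 69,nat_lit 1]] [nat_lit 68,nat_lit 16,nat_lit 8,nat_lit 2,nat_lit 1] [nat_lit 5,nat_lit 1664,nat_lit 5,nat_lit 1728,nat_lit 5] (nat_lit 1) [nat_lit 0,nat_lit 1,nat_lit 69,nat_lit 68,nat_lit 11,nat_lit 10,nat_lit 78,nat_lit 79,nat_lit 16,nat_lit 17,nat_lit 85,nat_lit 84,nat_lit 27,nat_lit 26,nat_lit 94,nat_lit 95] (nat_lit 0) [nat_lit 0,nat_lit 0,nat_lit 2,nat_lit 2,nat_lit 0]))::[]))) Srch.nil)) (Srch.rep (nat_lit 133) [] [] [] Srch.nil Srch.nil)) Srch.nil) Srch.nil)) Srch.nil) (Srch.rep (nat_lit 204) [nat_lit 192] [] []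 (Srch.rep (nat_lit 242) [] [] [] Srch.nil Srch.nil) (Srch.rep (nat_lit 212) [nat_lit 212] [] [] (Srch.rep (nat_lit 234) [] [] [] Srch.nil Srch.nil) (Srch.rep (nat_lit 216) [nat_lit 212] [] [] (Srch.rep (nat_lit 230) [nat_lit 38] [] [] (Srch.rep (nat_lit 8) [nat_lit 12] [] [] (Srch.rep (nat_lit 7) [] [] [] (Srch.rep (nat_lit 132) [] [] [] (Srch.rep (nat_lit 310) [] [] [] (Srch.fin [nat_lit 256] [nat_lit 0] (((nat_lit 150),(Leaf.pt (nat_lit 12) (nat_lit 76) [nat_lit 40,nat_lit 772]))::(((nat_lit 151),(Leaf.pt (nat_lit 12) (nat_lit 76) [nat_lit 40,nat_lit 772]))::[]))) (Srch.rep (nat_lit 311) [] [] [] (Srch.fin [nat_lit 256] [nat_lit 0] (((nat_lit 150),(Leaf.pt (nat_lit 12) (nat_lit 76) [nat_lit 40,nat_lit 772]))::(((nat_lit 151),(Leaf.pt (nat_lit 12) (nat_lit 76) [nat_lit 40,nat_lit 772]))::[]))) Srch.nil)) (Srch.rep (nat_lit 133) [] [] [] Srch.nil Srch.nil)) Srch.nil) (Srch.rep (nat_lit 34) [nat_lit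 12] [] [] (Srch.rep (nat_lit 44) [] [] [] (Srch.rep (nat_lit 132) [] [] [] Srch.nil (Srch.rep (nat_lit 133) [] [] [] (Srch.rep (nat_lit 399) [] [] [] (Srch.fin [nat_lit 256] [nat_lit 0] (((nat_lit 7),(Leaf.pt (nat_lit 12) (nat_lit 76) [nat_lit 26,nat_lit 770]))::(((nat_lit 6),(Leaf.pt (nat_lit 12) (nat_lit 76) [nat_lit 26,nat_lit 770]))::[]))) (Srch.rep (nat_lit 398) [] [] [] (Srch.fin [nat_lit 256] [nat_lit 0] (((nat_lit 7),(Leaf.pt (nat_lit 12) (nat_lit 76) [nat_lit 26,nat_lit 770]))::(((nat_lit 6),(Leaf.pt (nat_lit 12) (nat_lit 76) [nat_lit 26,nat_lit 770]))::[]))) Srch.nil)) Srch.nil)) Srch.nil) Srch.nil)) Srch.nil) Srch.nil)))) Srch.nil)) (Node.lf (Leaf.au (nat_lit 1) (nat_lit 0) (nat_lit 0) [] [] [nat_lit 3,nat_lit 1] (nat_lit 0) [] (nat_lit 42) [nat_lit 0,nat_lit 2,nat_lit 46,nat_lit 10,nat_lit 10,nat_lit 34,nat_lit 106,nat_lit 130,nat_lit 394]))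
noncomputable def t241 : ℕ := nat_lit 0x11f011f01370137011c011c01350135010101010129012901030103012a012a010001000129012901020102012a012a011f011f01360136011c011c01340134010101010129012901030103012a012a011e011e01360136011d011d01340134011e011e01370137011d011d01350135010001000129012901020102012a012a01bb01bb0193019301b901b90190019001a401a4018c018c01a701a7018e018e01a501a5018c018c01a601a6018e018e01bb01bb0192019201b901b90191019101a401a4018c018c01a701a7018e018e01ba01ba0192019201b801b80191019101ba01ba0193019301b801b80190019001a501a5018c018c01a601a6018e018e010001000128012801020102012b012b011f011f01370137011c011c01350135011f011f01360136011c011c01340134010101010128012801030103012b012b011e011e01360136011d011d01340134010001000128012801020102012b012b010101010128012801030103012b012b011e011e01370137011d011d01350135018d018d01a501a5018e018e01a701a70193019301bb01bb0191019101b801b80192019201bb01bb0190019001b801b8018d018d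01a401a4018e018e01a601a60192019201ba01ba0190019001b901b9018d018d01a501a5018e018e01a701a7018d018d01a401a4018e018e01a601a60193019301ba01ba0191019101b901b901a601a6018f018f01a501a5018d018d01b801b80191019101ba01ba0192019201b801b80190019001ba01ba0193019301a701a7018f018f01a401a4018d018d01b901b90190019001bb01bb0193019301a601a6018f018f01a501a5018d018d01a701a7018f018f01a401a4018d018d01b901b90191019101bb01bb01920192012a012a01030103012801280100010001350135011c011c01360136011e011e01340134011c011c01370137011e011e012a012a01020102012801280101010101340134011d011d01370137011f011f012a012a010301030128012801000100012a012a01020102012801280101010101350135011d011d01360136011f011f0190019001b901b90192019201ba01ba018f018f01a601a6018c018c01a401a4018f018f01a701a7018c018c01a501a50191019101b901b90193019301ba01ba018f018f01a601a6018c018c01a401a40191019101b801b80193019301bb01bb0190019001b801b80192019201bb01bb018f018f01a701a7018c018c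01a501a501350135011c011c01360136011e011e012b012b010201020129012901010101012b012b01030103012901290100010001340134011c011c01370137011e011e012b012b01020102012901290101010101340134011d011d01370137011f011f01350135011d011d01360136011f011f012b012b01030103012901290100010000aa00aa00ab00ab0083008300820082008100810081008100a900a900a900a9008100810081008100a800a800a800a800ab00ab00aa00aa0083008300820082008000800080008000a800a800a800a800ab00ab00aa00aa008200820083008300aa00aa00ab00ab0082008200830083008000800080008000a900a900a900a9008000800080008000a800a800a800a800ab00ab00aa00aa008200820083008300aa00aa00ab00ab0082008200830083008000800080008000a900a900a900a900aa00aa00ab00ab0083008300820082008100810081008100a900a900a900a9008100810081008100a800a800a800a800ab00ab00aa00aa008300830082008200a800a800a800a80080008000800080008200820083008300ab00ab00aa00aa008200820083008300aa00aa00ab00ab00a900a900a900a9008000800080008000830083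0082008200aa00aa00ab00ab00a900a900a900a9008100810081008100a800a800a800a80081008100810081008300830082008200ab00ab00aa00aa008300830082008200aa00aa00ab00ab00a900a900a900a9008100810081008100a800a800a800a80081008100810081008300830082008200ab00ab00aa00aa00a800a800a800a80080008000800080008200820083008300ab00ab00aa00aa008200820083008300aa00aa00ab00ab00a900a900a900a9008000800080008000400040004000400042004200430043004100410041004100430043004200420040004000400040004200420043004300410041004100410043004300420042004000400040004000420042004300430041004100410041004300430042004200400040004000400042004200430043004100410041004100430043004200420043004300420042004100410041004100420042004300430040004000400040004300430042004200410041004100410042004200430043004000400040004000430043004200420041004100410041004200420043004300400040004000400043004300420042004100410041004100420042004300430040004000400040002000200020002000200020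00200020002100210021002100210021002100210021002100210021002100210021002100200020002000200020002000200020002000200020002000200020002000200021002100210021002100210021002100210021002100210021002100210021002000200020002000200020002000200010001000100010001000100010001000100010001000100010001000100010001000100010001000100010001000100010001000100010001000100010001000090009000900090009000900090009000800080008000800080008000800080004000400050005000500050004000400030003000200020001000100000000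
noncomputable def c241 : Node :=
  (Node.st (nat_lit 0) (nat_lit 10) (nat_lit 0) (Node.st (nat_lit 2) (nat_lit 0) (nat_lit 10) (Node.st (nat_lit 0) (nat_lit 14) (nat_lit 0) (Node.st (nat_lit 2) (nat_lit 2) (nat_lit 5) (Node.st (nat_lit 0) (nat_lit 78) (nat_lit 0) (Node.st (nat_lit 2) (nat_lit 2) (nat_lit 9) (Node.st (nat_lit 0) (nat_lit 85) (nat_lit 0) (Node.sp (nat_lit 1) (Node.lf (Leaf.pt (nat_lit 9) (nat_lit 1) [nat_lit 10])) (Node.sp (nat_lit 26) (Node.lf (Leaf.pt (nat_lit 9) (nat_lit 26) [nat_lit 10])) (Node.st (nat_lit 0) (nat_lit 26) (nat_lit 0) (Node.sp (nat_lit 28) (Node.lf (Leaf.pt (nat_lit 9) (nat_lit 28) [nat_lit 12])) (Node.st (nat_lit 0) (nat_lit 28) (nat_lit 0) (Node.sp (nat_lit 40) (Node.lf (Leaf.pt (nat_lit 9) (nat_lit 40) [nat_lit 76])) (Node.st (nat_lit 0) (nat_lit 40) (nat_lit 0) (Node.sp (nat_lit 68) (Node.lf (Leaf.pt (nat_lit 9) (nat_lit 68) [nat_lit 10])) (Node.st (nat_lit 0)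 (nat_lit 68) (nat_lit 0) (Node.sp (nat_lit 92) (Node.lf (Leaf.pt (nat_lit 9) (nat_lit 92) [nat_lit 10])) (Node.st (nat_lit 0) (nat_lit 92) (nat_lit 0) (Node.sp (nat_lit 148) (Node.lf (Leaf.pt (nat_lit 12) (nat_lit 148) [nat_lit 70,nat_lit 328])) (Node.st (nat_lit 0) (nat_lit 148) (nat_lit 0) (Node.sp (nat_lit 330) (Node.lf (Leaf.pt (nat_lit 23) (nat_lit 330) [nat_lit 28,nat_lit 4,nat_lit 40])) (Node.st (nat_lit 0) (nat_lit 330) (nat_lit 0) c241_0))))))))))))))))))))))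
theorem ok241 : nodeOK DB PT 241 t241 (nat_lit 0x3c000030000c00000000000000000c000000c00c00c0000000000000000000cf0f00cf00303f0f000000000f00000f00000f0f0f0f0f0fcfc0303fc03fc03) (nat_lit 0x1111000000000000000000001100000000000000001100000000000000000000000000000000000000000000000000000000000000000000001100000000000000000000000000110000000000110000000000110000000000000000000000000000000000000000000000000000000000000000000000000000002200111100001111000000002200111100000000002200000022111100001111000000000000000000000000000000000000111100000000000000000000111100000000000000000000111100001111000011110000111100001111000011112200111122000000003300000033111122000000005511112200000000ff) c241 = true := by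
  decide +kernel
noncomputable def c242_0 : Srch :=
  Srch.rep (nat_lit 16) [nat_lit 4,nat_lit 8,nat_lit 64] [nat_lit 64,nat_lit 16,nat_lit 8,nat_lit 4,nat_lit 2,nat_lit 1] [nat_lit 128,nat_lit 32] (Srch.rep (nat_lit 64) [nat_lit 64] [] [] (Srch.rep (nat_lit 74) [] [] [] Srch.nil Srch.nil) (Srch.rep (nat_lit 72) [nat_lit 72] [] [] (Srch.rep (nat_lit 66) [nat_lit 2] [] [] (Srch.rep (nat_lit 20) [nat_lit 16] [] [] (Srch.rep (nat_lit 46) [] [] [] (Srch.rep (nat_lit 176) [] [] [] (Srch.fin [nat_lit 128,nat_lit 4] [nat_lit 0] (((nat_lit 48),(Leaf.pt (nat_lit 12) (nat_lit 76) [nat_lit 40,nat_lit 260]))::(((nat_lit 49),(Leaf.pt (nat_lit 12) (nat_lit 76) [nat_lit 40,nat_lit 260]))::[]))) (Srch.rep (nat_lit 177) [] [] [] (Srch.fin [nat_lit 128,nat_lit 4] [nat_lit 0] (((nat_lit 48),(Leaf.pt (nat_lit 12) (nat_lit 76) [nat_lit 40,nat_lit 260]))::(((nat_lit 49),(Leaf.pt (nat_lit 12) (nat_lit 76) [nat_lit 40,nat_lit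 260]))::[]))) Srch.nil)) Srch.nil) (Srch.rep (nat_lit 22) [nat_lit 16] [] [] (Srch.rep (nat_lit 44) [] [] [] (Srch.rep (nat_lit 154) [] [] [] (Srch.fin [nat_lit 128,nat_lit 4] [nat_lit 0] (((nat_lit 40),(Leaf.pt (nat_lit 12) (nat_lit 76) [nat_lit 26,nat_lit 256]))::(((nat_lit 41),(Leaf.pt (nat_lit 12) (nat_lit 76) [nat_lit 26,nat_lit 256]))::[]))) (Srch.rep (nat_lit 155) [] [] [] (Srch.fin [nat_lit 128,nat_lit 4] [nat_lit 0] (((nat_lit 40),(Leaf.pt (nat_lit 12) (nat_lit 76) [nat_lit 26,nat_lit 256]))::(((nat_lit 41),(Leaf.pt (nat_lit 12) (nat_lit 76) [nat_lit 26,nat_lit 256]))::[]))) Srch.nil)) Srch.nil) Srch.nil)) Srch.nil) (Srch.rep (nat_lit 80) [nat_lit 64] [] [] (Srch.rep (nat_lit 90) [nat_lit 2] [] [] (Srch.rep (nat_lit 20) [nat_lit 16] [] [] (Srch.rep (nat_lit 46) [] [] [] (Srch.rep (nat_lit 176) [] [] [] (Srch.fin [nat_lit 128,nat_lit 4,nat_lit 64] [nat_lit 0] (((nat_lit 0),(Leaf.au (nat_lit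 2) (nat_lit 16) (nat_lit 1) [[nat_lit 32,nat_lit 16,nat_lit 8,nat_lit 4,nat_lit 2,nat_lit 1]] [nat_lit 64,nat_lit 32,nat_lit 16,nat_lit 8,nat_lit 4,nat_lit 2,nat_lit 1] [nat_lit 1,nat_lit 532,nat_lit 3] (nat_lit 2) [] (nat_lit 0) [nat_lit 64,nat_lit 32,nat_lit 8,nat_lit 8,nat_lit 4,nat_lit 2,nat_lit 0]))::(((nat_lit 1),(Leaf.au (nat_lit 2) (nat_lit 16) (nat_lit 1) [[nat_lit 32,nat_lit 16,nat_lit 8,nat_lit 4,nat_lit 2,nat_lit 1]] [nat_lit 64,nat_lit 32,nat_lit 16,nat_lit 8,nat_lit 4,nat_lit 2,nat_lit 1] [nat_lit 1,nat_lit 532,nat_lit 3] (nat_lit 2) [] (nat_lit 0) [nat_lit 64,nat_lit 32,nat_lit 8,nat_lit 8,nat_lit 4,nat_lit 2,nat_lit 0]))::[]))) (Srch.rep (nat_lit 177) [] [] [] (Srch.fin [nat_lit 128,nat_lit 4,nat_lit 64] [nat_lit 0] (((nat_lit 0),(Leaf.au (nat_lit 2) (nat_lit 16) (nat_lit 1) [[nat_lit 32,nat_lit 16,nat_lit 8,nat_lit 4,nat_lit 2,nat_lit 1]] [nat_lit 64,nat_lit 32,nat_lit 16,nat_lit 8,nat_lit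 4,nat_lit 2,nat_lit 1] [nat_lit 1,nat_lit 532,nat_lit 3] (nat_lit 2) [] (nat_lit 0) [nat_lit 64,nat_lit 32,nat_lit 8,nat_lit 8,nat_lit 4,nat_lit 2,nat_lit 0]))::(((nat_lit 1),(Leaf.au (nat_lit 2) (nat_lit 16) (nat_lit 1) [[nat_lit 32,nat_lit 16,nat_lit 8,nat_lit 4,nat_lit 2,nat_lit 1]] [nat_lit 64,nat_lit 32,nat_lit 16,nat_lit 8,nat_lit 4,nat_lit 2,nat_lit 1] [nat_lit 1,nat_lit 532,nat_lit 3] (nat_lit 2) [] (nat_lit 0) [nat_lit 64,nat_lit 32,nat_lit 8,nat_lit 8,nat_lit 4,nat_lit 2,nat_lit 0]))::[]))) Srch.nil)) Srch.nil) (Srch.rep (nat_lit 22) [nat_lit 16] [] [] (Srch.rep (nat_lit 44) [] [] [] (Srch.rep (nat_lit 154) [] [] [] (Srch.fin [nat_lit 128,nat_lit 4,nat_lit 64] [nat_lit 0] (((nat_lit 24),(Leaf.au (nat_lit 3) (nat_lit 16) (nat_lit 0) [[nat_lit 16,nat_lit 11,nat_lit 69,nat_lit 1]] [nat_lit 68,nat_lit 16,nat_lit 8,nat_lit 2,nat_lit 1] [nat_lit 5,nat_lit 704,nat_lit 5,nat_lit 640,nat_lit 5] (nat_lit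 1) [nat_lit 0,nat_lit 1,nat_lit 69,nat_lit 68,nat_lit 11,nat_lit 10,nat_lit 78,nat_lit 79,nat_lit 16,nat_lit 17,nat_lit 85,nat_lit 84,nat_lit 27,nat_lit 26,nat_lit 94,nat_lit 95] (nat_lit 0) [nat_lit 0,nat_lit 0,nat_lit 2,nat_lit 2,nat_lit 0]))::(((nat_lit 25),(Leaf.au (nat_lit 3) (nat_lit 16) (nat_lit 0) [[nat_lit 16,nat_lit 11,nat_lit 69,nat_lit 1]] [nat_lit 68,nat_lit 16,nat_lit 8,nat_lit 2,nat_lit 1] [nat_lit 5,nat_lit 704,nat_lit 5,nat_lit 640,nat_lit 5] (nat_lit 1) [nat_lit 0,nat_lit 1,nat_lit 69,nat_lit 68,nat_lit 11,nat_lit 10,nat_lit 78,nat_lit 79,nat_lit 16,nat_lit 17,nat_lit 85,nat_lit 84,nat_lit 27,nat_lit 26,nat_lit 94,nat_lit 95] (nat_lit 0) [nat_lit 0,nat_lit 0,nat_lit 2,nat_lit 2,nat_lit 0]))::[]))) (Srch.rep (nat_lit 155) [] [] [] (Srch.fin [nat_lit 128,nat_lit 4,nat_lit 64] [nat_lit 0] (((nat_lit 24),(Leaf.au (nat_lit 3) (nat_lit 16) (nat_lit 0) [[nat_lit 16,nat_lit 11,nat_lit 69,nat_lit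 1]] [nat_lit 68,nat_lit 16,nat_lit 8,nat_lit 2,nat_lit 1] [nat_lit 5,nat_lit 704,nat_lit 5,nat_lit 640,nat_lit 5] (nat_lit 1) [nat_lit 0,nat_lit 1,nat_lit 69,nat_lit 68,nat_lit 11,nat_lit 10,nat_lit 78,nat_lit 79,nat_lit 16,nat_lit 17,nat_lit 85,nat_lit 84,nat_lit 27,nat_lit 26,nat_lit 94,nat_lit 95] (nat_lit 0) [nat_lit 0,nat_lit 0,nat_lit 2,nat_lit 2,nat_lit 0]))::(((nat_lit 25),(Leaf.au (nat_lit 3) (nat_lit 16) (nat_lit 0) [[nat_lit 16,nat_lit 11,nat_lit 69,nat_lit 1]] [nat_lit 68,nat_lit 16,nat_lit 8,nat_lit 2,nat_lit 1] [nat_lit 5,nat_lit 704,nat_lit 5,nat_lit 640,nat_lit 5] (nat_lit 1) [nat_lit 0,nat_lit 1,nat_lit 69,nat_lit 68,nat_lit 11,nat_lit 10,nat_lit 78,nat_lit 79,nat_lit 16,nat_lit 17,nat_lit 85,nat_lit 84,nat_lit 27,nat_lit 26,nat_lit 94,nat_lit 95] (nat_lit 0) [nat_lit 0,nat_lit 0,nat_lit 2,nat_lit 2,nat_lit 0]))::[]))) Srch.nil)) Srch.nil) Srch.nil)) Srch.nil) (Srch.rep (nat_lit 88)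 [nat_lit 72] [] [] (Srch.rep (nat_lit 82) [] [] [] Srch.nil Srch.nil) Srch.nil)))) (Srch.rep (nat_lit 60) [nat_lit 4,nat_lit 10,nat_lit 194] [nat_lit 194,nat_lit 32,nat_lit 18,nat_lit 10,nat_lit 4,nat_lit 1] [nat_lit 64,nat_lit 2] (Srch.rep (nat_lit 194) [nat_lit 194] [] [] (Srch.rep (nat_lit 204) [nat_lit 22] [] [] (Srch.rep (nat_lit 18) [nat_lit 60] [] [] (Srch.rep (nat_lit 44) [] [] [] (Srch.rep (nat_lit 157) [] [] [] (Srch.fin [nat_lit 64,nat_lit 128] [nat_lit 0] (((nat_lit 46),(Leaf.mp (nat_lit 238) [nat_lit 1,nat_lit 2,nat_lit 4,nat_lit 8,nat_lit 16,nat_lit 32,nat_lit 64,nat_lit 128,nat_lit 256] [[nat_lit 1],[nat_lit 3],[nat_lit 5]]))::(((nat_lit 47),(Leaf.mp (nat_lit 238) [nat_lit 1,nat_lit 2,nat_lit 4,nat_lit 8,nat_lit 16,nat_lit 32,nat_lit 64,nat_lit 129,nat_lit 280] [[nat_lit 1],[nat_lit 3],[nat_lit 5]]))::[]))) (Srch.rep (nat_lit 156) [] [] [] (Srch.fin [nat_lit 64,nat_lit 128] [nat_lit 0]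 (((nat_lit 54),(Leaf.mp (nat_lit 239) [nat_lit 1,nat_lit 2,nat_lit 4,nat_lit 8,nat_lit 16,nat_lit 32,nat_lit 64,nat_lit 128,nat_lit 256] [[nat_lit 1],[nat_lit 3],[nat_lit 5]]))::(((nat_lit 55),(Leaf.mp (nat_lit 239) [nat_lit 1,nat_lit 2,nat_lit 4,nat_lit 8,nat_lit 16,nat_lit 32,nat_lit 64,nat_lit 129,nat_lit 280] [[nat_lit 1],[nat_lit 3],[nat_lit 5]]))::[]))) Srch.nil)) Srch.nil) (Srch.rep (nat_lit 56) [nat_lit 60] [] [] (Srch.rep (nat_lit 7) [] [] [] (Srch.rep (nat_lit 158) [] [] [] (Srch.fin [nat_lit 64,nat_lit 128] [nat_lit 0] (((nat_lit 161),(Leaf.au (nat_lit 2) (nat_lit 16) (nat_lit 1) [[nat_lit 32,nat_lit 16,nat_lit 8,nat_lit 4,nat_lit 2,nat_lit 1]] [nat_lit 64,nat_lit 32,nat_lit 16,nat_lit 8,nat_lit 4,nat_lit 2,nat_lit 1] [nat_lit 3,nat_lit 668,nat_lit 1] (nat_lit 2) [] (nat_lit 2) [nat_lit 64,nat_lit 32,nat_lit 8,nat_lit 8,nat_lit 6,nat_lit 2,nat_lit 0]))::(((nat_lit 160),(Leaf.au (nat_lit 2)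 (nat_lit 16) (nat_lit 1) [[nat_lit 32,nat_lit 16,nat_lit 8,nat_lit 4,nat_lit 2,nat_lit 1]] [nat_lit 64,nat_lit 32,nat_lit 16,nat_lit 8,nat_lit 4,nat_lit 2,nat_lit 1] [nat_lit 3,nat_lit 668,nat_lit 1] (nat_lit 2) [] (nat_lit 2) [nat_lit 64,nat_lit 32,nat_lit 8,nat_lit 8,nat_lit 6,nat_lit 2,nat_lit 0]))::[]))) (Srch.rep (nat_lit 159) [] [] [] (Srch.fin [nat_lit 64,nat_lit 128] [] []) Srch.nil)) Srch.nil) Srch.nil)) Srch.nil) (Srch.rep (nat_lit 204) [nat_lit 204] [] [] (Srch.rep (nat_lit 194) [nat_lit 22] [] [] (Srch.rep (nat_lit 18) [] [] [] Srch.nil (Srch.rep (nat_lit 56) [] [] [] Srch.nil Srch.nil)) Srch.nil) (Srch.rep (nat_lit 212) [nat_lit 194] [] [] (Srch.rep (nat_lit 218) [nat_lit 22] [] [] (Srch.rep (nat_lit 18) [] [] [] Srch.nil (Srch.rep (nat_lit 56) [] [] [] Srch.nil Srch.nil)) Srch.nil) (Srch.rep (nat_lit 218) [nat_lit 204] [] [] (Srch.rep (nat_lit 212) [nat_lit 22] [] [] (Srch.rep (nat_lit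 18) [nat_lit 60] [] [] (Srch.rep (nat_lit 44) [] [] [] (Srch.rep (nat_lit 157) [] [] [] (Srch.fin [nat_lit 64,nat_lit 128] [] []) (Srch.rep (nat_lit 156) [] [] [] (Srch.fin [nat_lit 64,nat_lit 128] [nat_lit 0] (((nat_lit 31),(Leaf.au (nat_lit 2) (nat_lit 16) (nat_lit 1) [[nat_lit 32,nat_lit 16,nat_lit 8,nat_lit 4,nat_lit 2,nat_lit 1]] [nat_lit 64,nat_lit 32,nat_lit 16,nat_lit 8,nat_lit 4,nat_lit 2,nat_lit 1] [nat_lit 3,nat_lit 848,nat_lit 1] (nat_lit 2) [] (nat_lit 2) [nat_lit 64,nat_lit 32,nat_lit 8,nat_lit 8,nat_lit 6,nat_lit 2,nat_lit 0]))::(((nat_lit 30),(Leaf.au (nat_lit 2) (nat_lit 16) (nat_lit 1) [[nat_lit 32,nat_lit 16,nat_lit 8,nat_lit 4,nat_lit 2,nat_lit 1]] [nat_lit 64,nat_lit 32,nat_lit 16,nat_lit 8,nat_lit 4,nat_lit 2,nat_lit 1] [nat_lit 3,nat_lit 848,nat_lit 1] (nat_lit 2) [] (nat_lit 2) [nat_lit 64,nat_lit 32,nat_lit 8,nat_lit 8,nat_lit 6,nat_lit 2,nat_lit 0]))::[]))) Srch.nil)) Srch.nil)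 (Srch.rep (nat_lit 56) [nat_lit 60] [] [] (Srch.rep (nat_lit 7) [] [] [] (Srch.rep (nat_lit 158) [] [] [] (Srch.fin [nat_lit 64,nat_lit 128] [nat_lit 0] (((nat_lit 136),(Leaf.mp (nat_lit 240) [nat_lit 1,nat_lit 2,nat_lit 4,nat_lit 8,nat_lit 16,nat_lit 32,nat_lit 64,nat_lit 128,nat_lit 256] [[nat_lit 1],[nat_lit 3],[nat_lit 5]]))::(((nat_lit 137),(Leaf.mp (nat_lit 240) [nat_lit 1,nat_lit 2,nat_lit 4,nat_lit 8,nat_lit 16,nat_lit 32,nat_lit 64,nat_lit 129,nat_lit 280] [[nat_lit 1],[nat_lit 3],[nat_lit 5]]))::[]))) (Srch.rep (nat_lit 159) [] [] [] (Srch.fin [nat_lit 64,nat_lit 128] [nat_lit 0] (((nat_lit 145),(Leaf.mp (nat_lit 241) [nat_lit 1,nat_lit 2,nat_lit 4,nat_lit 8,nat_lit 16,nat_lit 32,nat_lit 64,nat_lit 128,nat_lit 256] [[nat_lit 1],[nat_lit 3],[nat_lit 5]]))::(((nat_lit 144),(Leaf.mp (nat_lit 241) [nat_lit 1,nat_lit 2,nat_lit 4,nat_lit 8,nat_lit 16,nat_lit 32,nat_lit 64,nat_lit 129,nat_lit 280]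 [[nat_lit 1],[nat_lit 3],[nat_lit 5]]))::[]))) Srch.nil)) Srch.nil) Srch.nil)) Srch.nil) Srch.nil)))) Srch.nil)
noncomputable def c242_1 : Node :=
  Node.ext [[nat_lit 32,nat_lit 16,nat_lit 8,nat_lit 4,nat_lit 2,nat_lit 1]] (nat_lit 10) [Ins.ts (nat_lit 4) [nat_lit 0] [nat_lit 10,nat_lit 0,nat_lit 0],Ins.fr [nat_lit 0],Ins.ts (nat_lit 1) [nat_lit 0,nat_lit 0] [],Ins.ts (nat_lit 1) [nat_lit 0,nat_lit 0,nat_lit 0,nat_lit 0] [],Ins.fr [nat_lit 1],Ins.ts (nat_lit 1) [nat_lit 0,nat_lit 0] [],Ins.ts (nat_lit 0) [nat_lit 0,nat_lit 1,nat_lit 1,nat_lit 0] [],Ins.ts (nat_lit 0) [nat_lit 1,nat_lit 1,nat_lit 1] [nat_lit 0,nat_lit 1,nat_lit 0],Ins.ts (nat_lit 2) [nat_lit 0,nat_lit 0,nat_lit 1,nat_lit 0] [],Ins.fr [nat_lit 2],Ins.ts (nat_lit 4) [nat_lit 0] [nat_lit 37,nat_lit 0,nat_lit 0],Ins.ts (nat_lit 1) [nat_lit 0,nat_lit 0] [],Ins.ts (nat_lit 3) [nat_lit 1,nat_lit 0,nat_lit 2] [],Ins.ts (nat_lit 0) [nat_lit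 0,nat_lit 2,nat_lit 0,nat_lit 2] [],Ins.ts (nat_lit 2) [nat_lit 1,nat_lit 0] [],Ins.fr [nat_lit 0,nat_lit 0,nat_lit 3],Ins.ts (nat_lit 4) [nat_lit 0] [nat_lit 5,nat_lit 0,nat_lit 0],Ins.ts (nat_lit 1) [nat_lit 0,nat_lit 0] [],Ins.ts (nat_lit 2) [nat_lit 4,nat_lit 0] [],Ins.ts (nat_lit 0) [nat_lit 2,nat_lit 0,nat_lit 2] [nat_lit 0],Ins.ts (nat_lit 0) [nat_lit 1,nat_lit 0] [nat_lit 0,nat_lit 1],Ins.fr [nat_lit 0,nat_lit 0,nat_lit 0,nat_lit 1],Ins.ts (nat_lit 0) [nat_lit 4,nat_lit 4] [nat_lit 0,nat_lit 0],Ins.ts (nat_lit 0) [nat_lit 4,nat_lit 0] [nat_lit 0,nat_lit 4],Ins.df [nat_lit 1,nat_lit 1],Ins.df [nat_lit 1,nat_lit 1],Ins.df [nat_lit 0,nat_lit 1,nat_lit 7],Ins.df [nat_lit 1,nat_lit 6,nat_lit 7],Ins.df [nat_lit 3,nat_lit 5,nat_lit 6],Ins.df [nat_lit 0,nat_lit 9]] [nat_lit 96,nat_lit 112,nat_lit 36,nat_lit 4,nat_lit 128] [nat_lit 5,nat_lit 4,nat_lit 7,nat_lit 3,nat_lit 2,nat_lit 1,nat_lit 0,nat_lit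 6] (Srch.ex0 [nat_lit 68,nat_lit 36,nat_lit 16,nat_lit 8,nat_lit 2,nat_lit 1] (Srch.rep (nat_lit 12) [nat_lit 4,nat_lit 16,nat_lit 192] [nat_lit 192,nat_lit 34,nat_lit 16,nat_lit 8,nat_lit 4,nat_lit 1] [nat_lit 64,nat_lit 2] (Srch.rep (nat_lit 192) [nat_lit 192] [] [] (Srch.rep (nat_lit 254) [nat_lit 38] [] [] (Srch.rep (nat_lit 8) [nat_lit 12] [] [] (Srch.rep (nat_lit 7) [] [] [] (Srch.rep (nat_lit 132) [] [] [] (Srch.fin [nat_lit 64,nat_lit 128] [] []) (Srch.rep (nat_lit 133) [] [] [] (Srch.fin [nat_lit 64,nat_lit 128] [nat_lit 0] (((nat_lit 143),(Leaf.au (nat_lit 2) (nat_lit 16) (nat_lit 1) [[nat_lit 32,nat_lit 16,nat_lit 8,nat_lit 4,nat_lit 2,nat_lit 1]] [nat_lit 64,nat_lit 32,nat_lit 16,nat_lit 8,nat_lit 4,nat_lit 2,nat_lit 1] [nat_lit 3,nat_lit 3,nat_lit 968] (nat_lit 2) [] (nat_lit 0) [nat_lit 64,nat_lit 32,nat_lit 8,nat_lit 8,nat_lit 4,nat_lit 2,nat_lit 0]))::(((nat_lit 142),(Leaf.au (nat_lit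 2) (nat_lit 16) (nat_lit 1) [[nat_lit 32,nat_lit 16,nat_lit 8,nat_lit 4,nat_lit 2,nat_lit 1]] [nat_lit 64,nat_lit 32,nat_lit 16,nat_lit 8,nat_lit 4,nat_lit 2,nat_lit 1] [nat_lit 3,nat_lit 3,nat_lit 968] (nat_lit 2) [] (nat_lit 0) [nat_lit 64,nat_lit 32,nat_lit 8,nat_lit 8,nat_lit 4,nat_lit 2,nat_lit 0]))::[]))) Srch.nil)) Srch.nil) (Srch.rep (nat_lit 34) [nat_lit 12] [] [] (Srch.rep (nat_lit 44) [] [] [] (Srch.rep (nat_lit 132) [] [] [] (Srch.fin [nat_lit 64,nat_lit 128] [nat_lit 0] (((nat_lit 31),(Leaf.mp (nat_lit 234) [nat_lit 1,nat_lit 2,nat_lit 4,nat_lit 8,nat_lit 16,nat_lit 32,nat_lit 64,nat_lit 128,nat_lit 256] [[nat_lit 1],[nat_lit 3],[nat_lit 5]]))::(((nat_lit 30),(Leaf.mp (nat_lit 234) [nat_lit 1,nat_lit 2,nat_lit 4,nat_lit 8,nat_lit 16,nat_lit 32,nat_lit 64,nat_lit 129,nat_lit 280] [[nat_lit 1],[nat_lit 3],[nat_lit 5]]))::[]))) (Srch.rep (nat_lit 133) [] [] [] (Srch.fin [nat_lit 64,nat_lit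 128] [nat_lit 0] (((nat_lit 7),(Leaf.mp (nat_lit 235) [nat_lit 1,nat_lit 2,nat_lit 4,nat_lit 8,nat_lit 16,nat_lit 32,nat_lit 64,nat_lit 128,nat_lit 256] [[nat_lit 1],[nat_lit 3],[nat_lit 5]]))::(((nat_lit 6),(Leaf.mp (nat_lit 235) [nat_lit 1,nat_lit 2,nat_lit 4,nat_lit 8,nat_lit 16,nat_lit 32,nat_lit 64,nat_lit 129,nat_lit 280] [[nat_lit 1],[nat_lit 3],[nat_lit 5]]))::[]))) Srch.nil)) Srch.nil) Srch.nil)) Srch.nil) (Srch.rep (nat_lit 204) [nat_lit 192] [] [] (Srch.rep (nat_lit 242) [nat_lit 38] [] [] (Srch.rep (nat_lit 8) [] [] [] Srch.nil (Srch.rep (nat_lit 34) [] [] [] Srch.nil Srch.nil)) Srch.nil) (Srch.rep (nat_lit 212) [nat_lit 212] [] [] (Srch.rep (nat_lit 234) [nat_lit 38] [] [] (Srch.rep (nat_lit 8) [] [] [] Srch.nil (Srch.rep (nat_lit 34) [] [] [] Srch.nil Srch.nil)) Srch.nil) (Srch.rep (nat_lit 216) [nat_lit 212] [] [] (Srch.rep (nat_lit 230) [nat_lit 38] [] [] (Srch.rep (nat_lit 8) [nat_lit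 12] [] [] (Srch.rep (nat_lit 7) [] [] [] (Srch.rep (nat_lit 132) [] [] [] (Srch.fin [nat_lit 64,nat_lit 128] [nat_lit 0] (((nat_lit 150),(Leaf.mp (nat_lit 236) [nat_lit 1,nat_lit 2,nat_lit 4,nat_lit 8,nat_lit 16,nat_lit 32,nat_lit 64,nat_lit 128,nat_lit 256] [[nat_lit 1],[nat_lit 3],[nat_lit 5]]))::(((nat_lit 151),(Leaf.mp (nat_lit 236) [nat_lit 1,nat_lit 2,nat_lit 4,nat_lit 8,nat_lit 16,nat_lit 32,nat_lit 64,nat_lit 129,nat_lit 280] [[nat_lit 1],[nat_lit 3],[nat_lit 5]]))::[]))) (Srch.rep (nat_lit 133) [] [] [] (Srch.fin [nat_lit 64,nat_lit 128] [nat_lit 0] (((nat_lit 143),(Leaf.mp (nat_lit 237) [nat_lit 1,nat_lit 2,nat_lit 4,nat_lit 8,nat_lit 16,nat_lit 32,nat_lit 64,nat_lit 128,nat_lit 256] [[nat_lit 1],[nat_lit 3],[nat_lit 5]]))::(((nat_lit 142),(Leaf.mp (nat_lit 237) [nat_lit 1,nat_lit 2,nat_lit 4,nat_lit 8,nat_lit 16,nat_lit 32,nat_lit 64,nat_lit 129,nat_lit 280] [[nat_lit 1],[nat_lit 3],[nat_lit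 5]]))::[]))) Srch.nil)) Srch.nil) (Srch.rep (nat_lit 34) [nat_lit 12] [] [] (Srch.rep (nat_lit 44) [] [] [] (Srch.rep (nat_lit 132) [] [] [] (Srch.fin [nat_lit 64,nat_lit 128] [] []) (Srch.rep (nat_lit 133) [] [] [] (Srch.fin [nat_lit 64,nat_lit 128] [nat_lit 0] (((nat_lit 7),(Leaf.au (nat_lit 2) (nat_lit 16) (nat_lit 1) [[nat_lit 32,nat_lit 16,nat_lit 8,nat_lit 4,nat_lit 2,nat_lit 1]] [nat_lit 64,nat_lit 32,nat_lit 16,nat_lit 8,nat_lit 4,nat_lit 2,nat_lit 1] [nat_lit 3,nat_lit 3,nat_lit 540] (nat_lit 2) [] (nat_lit 0) [nat_lit 64,nat_lit 32,nat_lit 8,nat_lit 8,nat_lit 4,nat_lit 2,nat_lit 0]))::(((nat_lit 6),(Leaf.au (nat_lit 2) (nat_lit 16) (nat_lit 1) [[nat_lit 32,nat_lit 16,nat_lit 8,nat_lit 4,nat_lit 2,nat_lit 1]] [nat_lit 64,nat_lit 32,nat_lit 16,nat_lit 8,nat_lit 4,nat_lit 2,nat_lit 1] [nat_lit 3,nat_lit 3,nat_lit 540] (nat_lit 2) [] (nat_lit 0) [nat_lit 64,nat_lit 32,nat_lit 8,nat_lit 8,nat_lit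 4,nat_lit 2,nat_lit 0]))::[]))) Srch.nil)) Srch.nil) Srch.nil)) Srch.nil) Srch.nil)))) c242_0)) (Node.lf (Leaf.au (nat_lit 1) (nat_lit 0) (nat_lit 0) [] [] [nat_lit 3,nat_lit 1] (nat_lit 0) [] (nat_lit 42) [nat_lit 0,nat_lit 2,nat_lit 46,nat_lit 10,nat_lit 10,nat_lit 34,nat_lit 106,nat_lit 130]))
noncomputable def t242 : ℕ := nat_lit 0xaa00aa00ab00ab0083008300820082008100810081008100a900a900a900a9008100810081008100a800a800a800a800ab00ab00aa00aa0083008300820082008000800080008000a800a800a800a800ab00ab00aa00aa008200820083008300aa00aa00ab00ab0082008200830083008000800080008000a900a900a900a9008000800080008000a800a800a800a800ab00ab00aa00aa008200820083008300aa00aa00ab00ab0082008200830083008000800080008000a900a900a900a900aa00aa00ab00ab0083008300820082008100810081008100a900a900a900a9008100810081008100a800a800a800a800ab00ab00aa00aa008300830082008200a800a800a800a80080008000800080008200820083008300ab00ab00aa00a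a008200820083008300aa00aa00ab00ab00a900a900a900a90080008000800080008300830082008200aa00aa00ab00ab00a900a900a900a9008100810081008100a800a800a800a80081008100810081008300830082008200ab00ab00aa00aa008300830082008200aa00aa00ab00ab00a900a900a900a9008100810081008100a800a800a800a80081008100810081008300830082008200ab00ab00aa00aa00a800a800a800a80080008000800080008200820083008300ab00ab00aa00aa008200820083008300aa00aa00ab00ab00a900a900a900a900800080008000800040004000400040004200420043004300410041004100410043004300420042004000400040004000420042004300430041004100410041004300430042004200400040004000400042004200430043004100410041004100430043004200420040004000400040004200420043004300410041004100410043004300420042004300430042004200410041004100410042004200430043004000400040004000430043004200420041004100410041004200420043004300400040004000400043004300420042004100410041004100420042004300430040004000400040004300430042004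200410041004100410042004200430043004000400040004000200020002000200020002000200020002100210021002100210021002100210021002100210021002100210021002100200020002000200020002000200020002000200020002000200020002000200021002100210021002100210021002100210021002100210021002100210021002000200020002000200020002000200010001000100010001000100010001000100010001000100010001000100010001000100010001000100010001000100010001000100010001000100010001000090009000900090009000900090009000800080008000800080008000800080004000400050005000500050004000400030003000200020001000100000000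
noncomputable def c242 : Node :=
  (Node.st (nat_lit 0) (nat_lit 10) (nat_lit 0) (Node.st (nat_lit 2) (nat_lit 0) (nat_lit 10) (Node.st (nat_lit 0) (nat_lit 14) (nat_lit 0) (Node.st (nat_lit 2) (nat_lit 1) (nat_lit 10) (Node.st (nat_lit 0) (nat_lit 17) (nat_lit 0) (Node.st (nat_lit 2) (nat_lit 1) (nat_lit 12) (Node.st (nat_lit 0) (nat_lit 63) (nat_lit 0) (Node.st (nat_lit 2) (nat_lit 2) (nat_lit 5) (Node.st (nat_lit 0) (nat_lit 78) (nat_lit 0) (Node.st (nat_lit 2) (nat_lit 2) (nat_lit 9) (Node.st (nat_lit 0) (nat_lit 85) (nat_lit 0) (Node.sp (nat_lit 1) (Node.lf (Leaf.pt (nat_lit 9) (nat_lit 1) [nat_lit 10])) (Node.sp (nat_lit 26) (Node.lf (Leaf.pt (nat_lit 9) (nat_lit 26) [nat_lit 10])) (Node.st (nat_lit 0) (nat_lit 26) (nat_lit 0) (Node.sp (nat_lit 28) (Node.lf (Leaf.pt (nat_lit 9) (nat_lit 28) [nat_lit 12])) (Node.st (nat_lit 0) (nat_lit 28) (nat_lit 0) (Node.sp (nat_lit 40) (Node.lf (Leaf.pt (nat_lit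 9) (nat_lit 40) [nat_lit 76])) (Node.st (nat_lit 0) (nat_lit 40) (nat_lit 0) (Node.sp (nat_lit 50) (Node.lf (Leaf.pt (nat_lit 9) (nat_lit 50) [nat_lit 12])) (Node.st (nat_lit 0) (nat_lit 50) (nat_lit 0) (Node.sp (nat_lit 68) (Node.lf (Leaf.pt (nat_lit 9) (nat_lit 68) [nat_lit 10])) (Node.st (nat_lit 0) (nat_lit 68) (nat_lit 0) (Node.sp (nat_lit 92) (Node.lf (Leaf.pt (nat_lit 9) (nat_lit 92) [nat_lit 10])) (Node.st (nat_lit 0) (nat_lit 92) (nat_lit 0) c242_1))))))))))))))))))))))))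
theorem ok242 : nodeOK DB PT 242 t242 (nat_lit 0xcf0f00cf00303f0f000000000f00000f00000f0f0f0f0f0fcfc0303fc03fc03) (nat_lit 0x2200111100001111000000002200111100000000002200000022111100001111000000000000000000000000000000000000111100000000000000000000111100000000000000000000111100001111000011110000111100001111000011112200111122000000003300000033111122000000005511112200000000ff) c242 = true := by
  decide +kernel
noncomputable def c243_0 : Srch :=
  Srch.rep (nat_lit 16) [nat_lit 4,nat_lit 8,nat_lit 64] [nat_lit 64,nat_lit 16,nat_lit 8,nat_lit 4,nat_lit 2,nat_lit 1] [nat_lit 128,nat_lit 32] (Srch.rep (nat_lit 64) [nat_lit 64] [] [] (Srch.rep (nat_lit 74) [] [] [] Srch.nil Srch.nil) (Srch.rep (nat_lit 72) [nat_lit 72] [] [] (Srch.rep (nat_lit 66) [nat_lit 2] [] [] (Srch.rep (nat_lit 20) [nat_lit 16] [] [] (Srch.rep (nat_lit 46) [] [] [] (Srch.rep (nat_lit 154) [] [] [] (Srch.fin [nat_lit 128,nat_lit 68]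 [nat_lit 0] (((nat_lit 48),(Leaf.pt (nat_lit 12) (nat_lit 76) [nat_lit 40,nat_lit 260]))::(((nat_lit 49),(Leaf.pt (nat_lit 12) (nat_lit 76) [nat_lit 40,nat_lit 260]))::[]))) (Srch.rep (nat_lit 155) [] [] [] (Srch.fin [nat_lit 128,nat_lit 68] [nat_lit 0] (((nat_lit 48),(Leaf.pt (nat_lit 12) (nat_lit 76) [nat_lit 40,nat_lit 260]))::(((nat_lit 49),(Leaf.pt (nat_lit 12) (nat_lit 76) [nat_lit 40,nat_lit 260]))::[]))) Srch.nil)) Srch.nil) (Srch.rep (nat_lit 22) [nat_lit 16] [] [] (Srch.rep (nat_lit 44) [] [] [] (Srch.rep (nat_lit 176) [] [] [] (Srch.fin [nat_lit 128,nat_lit 68] [nat_lit 0] (((nat_lit 40),(Leaf.pt (nat_lit 12) (nat_lit 76) [nat_lit 26,nat_lit 256]))::(((nat_lit 41),(Leaf.pt (nat_lit 12) (nat_lit 76) [nat_lit 26,nat_lit 256]))::[]))) (Srch.rep (nat_lit 177) [] [] [] (Srch.fin [nat_lit 128,nat_lit 68] [nat_lit 0] (((nat_lit 40),(Leaf.pt (nat_lit 12) (nat_lit 76) [nat_lit 26,nat_lit 256]))::(((nat_lit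 41),(Leaf.pt (nat_lit 12) (nat_lit 76) [nat_lit 26,nat_lit 256]))::[]))) Srch.nil)) Srch.nil) Srch.nil)) Srch.nil) (Srch.rep (nat_lit 80) [nat_lit 64] [] [] (Srch.rep (nat_lit 90) [nat_lit 2] [] [] (Srch.rep (nat_lit 20) [nat_lit 16] [] [] (Srch.rep (nat_lit 46) [] [] [] (Srch.rep (nat_lit 154) [] [] [] (Srch.fin [nat_lit 128,nat_lit 68] [nat_lit 0] (((nat_lit 0),(Leaf.au (nat_lit 2) (nat_lit 16) (nat_lit 1) [[nat_lit 32,nat_lit 16,nat_lit 8,nat_lit 4,nat_lit 2,nat_lit 1]] [nat_lit 64,nat_lit 32,nat_lit 16,nat_lit 8,nat_lit 4,nat_lit 2,nat_lit 1] [nat_lit 1,nat_lit 532,nat_lit 3] (nat_lit 2) [] (nat_lit 0) [nat_lit 64,nat_lit 32,nat_lit 8,nat_lit 8,nat_lit 4,nat_lit 2,nat_lit 0]))::(((nat_lit 1),(Leaf.sp (nat_lit 132) (Leaf.pt (nat_lit 12) (nat_lit 132) [nat_lit 26,nat_lit 322]) (Leaf.sp (nat_lit 137) (Leaf.sp (nat_lit 258) (Leaf.pt (nat_lit 17) (nat_lit 258) [nat_lit 228,nat_lit 110]) (Leaf.sp (nat_lit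 395) (Leaf.sp (nat_lit 407) (Leaf.pt (nat_lit 12) (nat_lit 407) [nat_lit 26,nat_lit 198]) (Leaf.pt (nat_lit 13) (nat_lit 395) [nat_lit 28])) (Leaf.pt (nat_lit 13) (nat_lit 137) [nat_lit 258]))) (Leaf.pt (nat_lit 13) (nat_lit 12) [nat_lit 132]))))::[]))) (Srch.rep (nat_lit 155) [] [] [] (Srch.fin [nat_lit 128,nat_lit 68] [nat_lit 0] (((nat_lit 0),(Leaf.au (nat_lit 2) (nat_lit 16) (nat_lit 1) [[nat_lit 32,nat_lit 16,nat_lit 8,nat_lit 4,nat_lit 2,nat_lit 1]] [nat_lit 64,nat_lit 32,nat_lit 16,nat_lit 8,nat_lit 4,nat_lit 2,nat_lit 1] [nat_lit 1,nat_lit 532,nat_lit 3] (nat_lit 2) [] (nat_lit 0) [nat_lit 64,nat_lit 32,nat_lit 8,nat_lit 8,nat_lit 4,nat_lit 2,nat_lit 0]))::(((nat_lit 1),(Leaf.sp (nat_lit 132) (Leaf.pt (nat_lit 12) (nat_lit 132) [nat_lit 26,nat_lit 320]) (Leaf.sp (nat_lit 137) (Leaf.sp (nat_lit 280) (Leaf.pt (nat_lit 17) (nat_lit 280) [nat_lit 228,nat_lit 110]) (Leaf.sp (nat_lit 401) (Leaf.pt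 (nat_lit 17) (nat_lit 401) [nat_lit 140,nat_lit 6]) (Leaf.pt (nat_lit 13) (nat_lit 137) [nat_lit 280]))) (Leaf.pt (nat_lit 13) (nat_lit 12) [nat_lit 132]))))::[]))) Srch.nil)) Srch.nil) (Srch.rep (nat_lit 22) [nat_lit 16] [] [] (Srch.rep (nat_lit 44) [] [] [] (Srch.rep (nat_lit 176) [] [] [] (Srch.fin [nat_lit 128,nat_lit 68] [nat_lit 0] (((nat_lit 24),(Leaf.au (nat_lit 3) (nat_lit 16) (nat_lit 0) [[nat_lit 16,nat_lit 11,nat_lit 69,nat_lit 1]] [nat_lit 68,nat_lit 16,nat_lit 8,nat_lit 2,nat_lit 1] [nat_lit 5,nat_lit 704,nat_lit 5,nat_lit 640,nat_lit 5] (nat_lit 1) [nat_lit 0,nat_lit 1,nat_lit 69,nat_lit 68,nat_lit 11,nat_lit 10,nat_lit 78,nat_lit 79,nat_lit 16,nat_lit 17,nat_lit 85,nat_lit 84,nat_lit 27,nat_lit 26,nat_lit 94,nat_lit 95] (nat_lit 0) [nat_lit 0,nat_lit 0,nat_lit 2,nat_lit 2,nat_lit 0]))::(((nat_lit 25),(Leaf.au (nat_lit 3) (nat_lit 16) (nat_lit 0) [[nat_lit 16,nat_lit 11,nat_lit 69,nat_lit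 1]] [nat_lit 68,nat_lit 16,nat_lit 8,nat_lit 2,nat_lit 1] [nat_lit 5,nat_lit 704,nat_lit 5,nat_lit 640,nat_lit 5] (nat_lit 1) [nat_lit 0,nat_lit 1,nat_lit 69,nat_lit 68,nat_lit 11,nat_lit 10,nat_lit 78,nat_lit 79,nat_lit 16,nat_lit 17,nat_lit 85,nat_lit 84,nat_lit 27,nat_lit 26,nat_lit 94,nat_lit 95] (nat_lit 0) [nat_lit 0,nat_lit 0,nat_lit 2,nat_lit 2,nat_lit 0]))::[]))) (Srch.rep (nat_lit 177) [] [] [] (Srch.fin [nat_lit 128,nat_lit 68] [nat_lit 0] (((nat_lit 24),(Leaf.au (nat_lit 3) (nat_lit 16) (nat_lit 0) [[nat_lit 16,nat_lit 11,nat_lit 69,nat_lit 1]] [nat_lit 68,nat_lit 16,nat_lit 8,nat_lit 2,nat_lit 1] [nat_lit 5,nat_lit 704,nat_lit 5,nat_lit 640,nat_lit 5] (nat_lit 1) [nat_lit 0,nat_lit 1,nat_lit 69,nat_lit 68,nat_lit 11,nat_lit 10,nat_lit 78,nat_lit 79,nat_lit 16,nat_lit 17,nat_lit 85,nat_lit 84,nat_lit 27,nat_lit 26,nat_lit 94,nat_lit 95] (nat_lit 0) [nat_lit 0,nat_lit 0,nat_lit 2,nat_lit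 2,nat_lit 0]))::(((nat_lit 25),(Leaf.au (nat_lit 3) (nat_lit 16) (nat_lit 0) [[nat_lit 16,nat_lit 11,nat_lit 69,nat_lit 1]] [nat_lit 68,nat_lit 16,nat_lit 8,nat_lit 2,nat_lit 1] [nat_lit 5,nat_lit 704,nat_lit 5,nat_lit 640,nat_lit 5] (nat_lit 1) [nat_lit 0,nat_lit 1,nat_lit 69,nat_lit 68,nat_lit 11,nat_lit 10,nat_lit 78,nat_lit 79,nat_lit 16,nat_lit 17,nat_lit 85,nat_lit 84,nat_lit 27,nat_lit 26,nat_lit 94,nat_lit 95] (nat_lit 0) [nat_lit 0,nat_lit 0,nat_lit 2,nat_lit 2,nat_lit 0]))::[]))) Srch.nil)) Srch.nil) Srch.nil)) Srch.nil) (Srch.rep (nat_lit 88) [nat_lit 72] [] [] (Srch.rep (nat_lit 82) [] [] [] Srch.nil Srch.nil) Srch.nil)))) (Srch.rep (nat_lit 60) [nat_lit 4,nat_lit 10,nat_lit 130] [nat_lit 130,nat_lit 32,nat_lit 18,nat_lit 10,nat_lit 4,nat_lit 1] [nat_lit 64,nat_lit 2] (Srch.rep (nat_lit 130) [nat_lit 130] [] [] (Srch.rep (nat_lit 140) [nat_lit 22] [] [] (Srch.rep (nat_lit 18) [nat_lit 60]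 [] [] (Srch.rep (nat_lit 44) [] [] [] (Srch.rep (nat_lit 81) [] [] [] (Srch.fin [nat_lit 64] [] []) (Srch.rep (nat_lit 80) [] [] [] (Srch.fin [nat_lit 64] [] []) Srch.nil)) Srch.nil) (Srch.rep (nat_lit 56) [nat_lit 60] [] [] (Srch.rep (nat_lit 7) [] [] [] (Srch.rep (nat_lit 82) [] [] [] (Srch.fin [nat_lit 64,nat_lit 128] [] []) (Srch.rep (nat_lit 83) [] [] [] (Srch.fin [nat_lit 64,nat_lit 128] [nat_lit 0] (((nat_lit 226),(Leaf.au (nat_lit 2) (nat_lit 16) (nat_lit 1) [[nat_lit 32,nat_lit 16,nat_lit 8,nat_lit 4,nat_lit 2,nat_lit 1]] [nat_lit 64,nat_lit 32,nat_lit 16,nat_lit 8,nat_lit 4,nat_lit 2,nat_lit 1] [nat_lit 3,nat_lit 668,nat_lit 1] (nat_lit 2) [] (nat_lit 2) [nat_lit 64,nat_lit 32,nat_lit 8,nat_lit 8,nat_lit 6,nat_lit 2,nat_lit 0]))::(((nat_lit 227),(Leaf.au (nat_lit 2) (nat_lit 16) (nat_lit 1) [[nat_lit 32,nat_lit 16,nat_lit 8,nat_lit 4,nat_lit 2,nat_lit 1]] [nat_lit 64,nat_lit 32,nat_lit 16,nat_lit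 8,nat_lit 4,nat_lit 2,nat_lit 1] [nat_lit 3,nat_lit 668,nat_lit 1] (nat_lit 2) [] (nat_lit 2) [nat_lit 64,nat_lit 32,nat_lit 8,nat_lit 8,nat_lit 6,nat_lit 2,nat_lit 0]))::[]))) Srch.nil)) Srch.nil) Srch.nil)) Srch.nil) (Srch.rep (nat_lit 140) [nat_lit 140] [] [] (Srch.rep (nat_lit 130) [nat_lit 22] [] [] (Srch.rep (nat_lit 18) [] [] [] Srch.nil (Srch.rep (nat_lit 56) [] [] [] Srch.nil Srch.nil)) Srch.nil) (Srch.rep (nat_lit 148) [nat_lit 130] [] [] (Srch.rep (nat_lit 154) [nat_lit 22] [] [] (Srch.rep (nat_lit 18) [] [] [] Srch.nil (Srch.rep (nat_lit 56) [] [] [] Srch.nil Srch.nil)) Srch.nil) (Srch.rep (nat_lit 154) [nat_lit 140] [] [] (Srch.rep (nat_lit 148) [nat_lit 22] [] [] (Srch.rep (nat_lit 18) [nat_lit 60] [] [] (Srch.rep (nat_lit 44) [] [] [] (Srch.rep (nat_lit 81) [] [] [] (Srch.fin [nat_lit 64,nat_lit 128] [nat_lit 0] (((nat_lit 31),(Leaf.au (nat_lit 2) (nat_lit 16) (nat_lit 1) [[nat_lit 32,nat_lit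 16,nat_lit 8,nat_lit 4,nat_lit 2,nat_lit 1]] [nat_lit 64,nat_lit 32,nat_lit 16,nat_lit 8,nat_lit 4,nat_lit 2,nat_lit 1] [nat_lit 3,nat_lit 980,nat_lit 1] (nat_lit 2) [] (nat_lit 2) [nat_lit 64,nat_lit 32,nat_lit 8,nat_lit 8,nat_lit 6,nat_lit 2,nat_lit 0]))::(((nat_lit 30),(Leaf.au (nat_lit 2) (nat_lit 16) (nat_lit 1) [[nat_lit 32,nat_lit 16,nat_lit 8,nat_lit 4,nat_lit 2,nat_lit 1]] [nat_lit 64,nat_lit 32,nat_lit 16,nat_lit 8,nat_lit 4,nat_lit 2,nat_lit 1] [nat_lit 3,nat_lit 980,nat_lit 1] (nat_lit 2) [] (nat_lit 2) [nat_lit 64,nat_lit 32,nat_lit 8,nat_lit 8,nat_lit 6,nat_lit 2,nat_lit 0]))::[]))) (Srch.rep (nat_lit 80) [] [] [] (Srch.fin [nat_lit 64,nat_lit 128] [] []) Srch.nil)) Srch.nil) (Srch.rep (nat_lit 56) [nat_lit 60] [] [] (Srch.rep (nat_lit 7) [] [] [] (Srch.rep (nat_lit 82) [] [] [] (Srch.fin [nat_lit 64] [] []) (Srch.rep (nat_lit 83) [] [] [] (Srch.fin [nat_lit 64] [] []) Srch.nil)) Srch.nil)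 Srch.nil)) Srch.nil) Srch.nil)))) Srch.nil)
noncomputable def c243_1 : Node :=
  Node.st (nat_lit 2) (nat_lit 1) (nat_lit 12) (Node.st (nat_lit 0) (nat_lit 63) (nat_lit 0) (Node.st (nat_lit 2) (nat_lit 2) (nat_lit 5) (Node.st (nat_lit 0) (nat_lit 78) (nat_lit 0) (Node.st (nat_lit 2) (nat_lit 2) (nat_lit 9) (Node.st (nat_lit 0) (nat_lit 85) (nat_lit 0) (Node.sp (nat_lit 1) (Node.lf (Leaf.pt (nat_lit 9) (nat_lit 1) [nat_lit 10])) (Node.sp (nat_lit 26) (Node.lf (Leaf.pt (nat_lit 9) (nat_lit 26) [nat_lit 10])) (Node.st (nat_lit 0) (nat_lit 26) (nat_lit 0) (Node.sp (nat_lit 28) (Node.lf (Leaf.pt (nat_lit 9) (nat_lit 28) [nat_lit 12])) (Node.st (nat_lit 0) (nat_lit 28) (nat_lit 0) (Node.sp (nat_lit 40) (Node.lf (Leaf.pt (nat_lit 9) (nat_lit 40) [nat_lit 76])) (Node.st (nat_lit 0) (nat_lit 40) (nat_lit 0) (Node.sp (nat_lit 50) (Node.lf (Leaf.pt (nat_lit 9) (nat_lit 50) [nat_lit 12])) (Node.st (nat_lit 0) (nat_lit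 50) (nat_lit 0) (Node.sp (nat_lit 68) (Node.lf (Leaf.pt (nat_lit 9) (nat_lit 68) [nat_lit 10])) (Node.st (nat_lit 0) (nat_lit 68) (nat_lit 0) (Node.ext [[nat_lit 32,nat_lit 16,nat_lit 8,nat_lit 4,nat_lit 2,nat_lit 1]] (nat_lit 10) [Ins.ts (nat_lit 4) [nat_lit 0] [nat_lit 10,nat_lit 0,nat_lit 0],Ins.fr [nat_lit 0],Ins.ts (nat_lit 1) [nat_lit 0,nat_lit 0] [],Ins.ts (nat_lit 1) [nat_lit 0,nat_lit 0,nat_lit 0,nat_lit 0] [],Ins.fr [nat_lit 1],Ins.ts (nat_lit 1) [nat_lit 0,nat_lit 0] [],Ins.ts (nat_lit 0) [nat_lit 0,nat_lit 1,nat_lit 1,nat_lit 0] [],Ins.ts (nat_lit 0) [nat_lit 1,nat_lit 1,nat_lit 1] [nat_lit 0,nat_lit 1,nat_lit 0],Ins.ts (nat_lit 2) [nat_lit 0,nat_lit 0,nat_lit 1,nat_lit 0] [],Ins.fr [nat_lit 2],Ins.ts (nat_lit 4) [nat_lit 0] [nat_lit 37,nat_lit 0,nat_lit 0],Ins.ts (nat_lit 1) [nat_lit 0,nat_lit 0] [],Ins.ts (nat_lit 3) [nat_lit 1,nat_lit 0,nat_lit 2] [],Ins.ts (nat_lit 0) [nat_lit 0,nat_lit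 2,nat_lit 0,nat_lit 2] [],Ins.ts (nat_lit 2) [nat_lit 1,nat_lit 0] [],Ins.fr [nat_lit 0,nat_lit 0,nat_lit 3],Ins.ts (nat_lit 4) [nat_lit 0] [nat_lit 5,nat_lit 0,nat_lit 0],Ins.ts (nat_lit 1) [nat_lit 0,nat_lit 0] [],Ins.ts (nat_lit 2) [nat_lit 4,nat_lit 0] [],Ins.ts (nat_lit 0) [nat_lit 2,nat_lit 0,nat_lit 2] [nat_lit 0],Ins.ts (nat_lit 0) [nat_lit 1,nat_lit 0] [nat_lit 0,nat_lit 1],Ins.fr [nat_lit 0,nat_lit 1],Ins.ts (nat_lit 0) [nat_lit 2,nat_lit 0] [nat_lit 0,nat_lit 2],Ins.ts (nat_lit 0) [nat_lit 0,nat_lit 3,nat_lit 0,nat_lit 4] [nat_lit 5],Ins.df [nat_lit 1,nat_lit 1],Ins.df [nat_lit 5,nat_lit 5],Ins.df [nat_lit 0,nat_lit 1,nat_lit 7],Ins.df [nat_lit 1,nat_lit 6,nat_lit 7],Ins.df [nat_lit 3,nat_lit 5,nat_lit 6],Ins.df [nat_lit 0,nat_lit 9]] [nat_lit 96,nat_lit 112,nat_lit 36,nat_lit 4,nat_lit 128] [nat_lit 5,nat_lit 4,nat_lit 7,nat_lit 3,nat_lit 2,nat_lit 1,nat_lit 0,nat_lit 6] (Srch.ex0 [nat_lit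 68,nat_lit 36,nat_lit 16,nat_lit 8,nat_lit 2,nat_lit 1] (Srch.rep (nat_lit 12) [nat_lit 4,nat_lit 16,nat_lit 128] [nat_lit 128,nat_lit 34,nat_lit 16,nat_lit 8,nat_lit 4,nat_lit 1] [nat_lit 64,nat_lit 2] (Srch.rep (nat_lit 128) [nat_lit 128] [] [] (Srch.rep (nat_lit 190) [nat_lit 38] [] [] (Srch.rep (nat_lit 8) [nat_lit 12] [] [] (Srch.rep (nat_lit 7) [] [] [] (Srch.rep (nat_lit 122) [] [] [] (Srch.fin [nat_lit 64,nat_lit 128] [nat_lit 0] (((nat_lit 205),(Leaf.au (nat_lit 2) (nat_lit 16) (nat_lit 1) [[nat_lit 32,nat_lit 16,nat_lit 8,nat_lit 4,nat_lit 2,nat_lit 1]] [nat_lit 64,nat_lit 32,nat_lit 16,nat_lit 8,nat_lit 4,nat_lit 2,nat_lit 1] [nat_lit 3,nat_lit 3,nat_lit 840] (nat_lit 2) [] (nat_lit 0) [nat_lit 64,nat_lit 32,nat_lit 8,nat_lit 8,nat_lit 4,nat_lit 2,nat_lit 0]))::(((nat_lit 204),(Leaf.au (nat_lit 2) (nat_lit 16) (nat_lit 1) [[nat_lit 32,nat_lit 16,nat_lit 8,nat_lit 4,nat_lit 2,nat_lit 1]] [nat_lit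 64,nat_lit 32,nat_lit 16,nat_lit 8,nat_lit 4,nat_lit 2,nat_lit 1] [nat_lit 3,nat_lit 3,nat_lit 840] (nat_lit 2) [] (nat_lit 0) [nat_lit 64,nat_lit 32,nat_lit 8,nat_lit 8,nat_lit 4,nat_lit 2,nat_lit 0]))::[]))) (Srch.rep (nat_lit 123) [] [] [] (Srch.fin [nat_lit 64,nat_lit 128] [] []) Srch.nil)) Srch.nil) (Srch.rep (nat_lit 34) [nat_lit 12] [] [] (Srch.rep (nat_lit 44) [] [] [] (Srch.rep (nat_lit 122) [] [] [] (Srch.fin [nat_lit 64] [] []) (Srch.rep (nat_lit 123) [] [] [] (Srch.fin [nat_lit 64] [] []) Srch.nil)) Srch.nil) Srch.nil)) Srch.nil) (Srch.rep (nat_lit 140) [nat_lit 128] [] [] (Srch.rep (nat_lit 178) [nat_lit 38] [] [] (Srch.rep (nat_lit 8) [] [] [] Srch.nil (Srch.rep (nat_lit 34) [] [] [] Srch.nil Srch.nil)) Srch.nil) (Srch.rep (nat_lit 148) [nat_lit 148] [] [] (Srch.rep (nat_lit 170) [nat_lit 38] [] [] (Srch.rep (nat_lit 8) [] [] [] Srch.nil (Srch.rep (nat_lit 34) [] [] [] Srch.nil Srch.nil))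 Srch.nil) (Srch.rep (nat_lit 152) [nat_lit 148] [] [] (Srch.rep (nat_lit 166) [nat_lit 38] [] [] (Srch.rep (nat_lit 8) [nat_lit 12] [] [] (Srch.rep (nat_lit 7) [] [] [] (Srch.rep (nat_lit 122) [] [] [] (Srch.fin [nat_lit 64] [] []) (Srch.rep (nat_lit 123) [] [] [] (Srch.fin [nat_lit 64] [] []) Srch.nil)) Srch.nil) (Srch.rep (nat_lit 34) [nat_lit 12] [] [] (Srch.rep (nat_lit 44) [] [] [] (Srch.rep (nat_lit 122) [] [] [] (Srch.fin [nat_lit 64,nat_lit 128] [nat_lit 0] (((nat_lit 7),(Leaf.au (nat_lit 2) (nat_lit 16) (nat_lit 1) [[nat_lit 32,nat_lit 16,nat_lit 8,nat_lit 4,nat_lit 2,nat_lit 1]] [nat_lit 64,nat_lit 32,nat_lit 16,nat_lit 8,nat_lit 4,nat_lit 2,nat_lit 1] [nat_lit 3,nat_lit 3,nat_lit 540] (nat_lit 2) [] (nat_lit 0) [nat_lit 64,nat_lit 32,nat_lit 8,nat_lit 8,nat_lit 4,nat_lit 2,nat_lit 0]))::(((nat_lit 6),(Leaf.au (nat_lit 2) (nat_lit 16) (nat_lit 1) [[nat_lit 32,nat_lit 16,nat_lit 8,nat_lit 4,nat_lit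 2,nat_lit 1]] [nat_lit 64,nat_lit 32,nat_lit 16,nat_lit 8,nat_lit 4,nat_lit 2,nat_lit 1] [nat_lit 3,nat_lit 3,nat_lit 540] (nat_lit 2) [] (nat_lit 0) [nat_lit 64,nat_lit 32,nat_lit 8,nat_lit 8,nat_lit 4,nat_lit 2,nat_lit 0]))::[]))) (Srch.rep (nat_lit 123) [] [] [] (Srch.fin [nat_lit 64,nat_lit 128] [] []) Srch.nil)) Srch.nil) Srch.nil)) Srch.nil) Srch.nil)))) c243_0)) (Node.lf (Leaf.au (nat_lit 1) (nat_lit 0) (nat_lit 0) [] [] [nat_lit 3,nat_lit 1] (nat_lit 0) [] (nat_lit 42) [nat_lit 0,nat_lit 2,nat_lit 46,nat_lit 10,nat_lit 10,nat_lit 34,nat_lit 106,nat_lit 168])))))))))))))))))))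
noncomputable def t243 : ℕ := nat_lit 0x9900990099009900b300b300b200b200b200b200b300b3009800980098009800b300b300b200b20098009800980098009900990099009900b200b200b300b300b300b300b200b20099009900990099009800980098009800b200b200b300b3009800980098009800b300b300b200b200b200b200b300b3009900990099009900ab00ab00aa00aa0080008000800080008000800080008000ab00ab00aa00aa008100810081008100ab00ab00aa00aa00ab00ab00aa00aa0081008100810081008000800080008000ab00ab00aa00aa00ab00ab00aa00aa008000800080008000ab00ab00aa00aa0081008100810081008100810081008100ab00ab00aa00aa00b200b200b300b30098009800980098009900990099009900b300b300b200b2009900990099009900b200b200b300b300b300b300b200b20098009800980098009800980098009800b200b200b300b300b300b300b200b2009900990099009900b200b200b300b30099009900990099009800980098009800b300b300b200b2008100810081008100aa00aa00ab00ab00aa00aa00ab00ab008100810081008100aa00aa00ab00ab0080008000800080008000800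080008000aa00aa00ab00ab00aa00aa00ab00ab0081008100810081008100810081008100aa00aa00ab00ab008000800080008000aa00aa00ab00ab00aa00aa00ab00ab00800080008000800040004000400040004200420043004300410041004100410043004300420042004000400040004000420042004300430041004100410041004300430042004200400040004000400042004200430043004100410041004100430043004200420040004000400040004200420043004300410041004100410043004300420042004300430042004200410041004100410042004200430043004000400040004000430043004200420041004100410041004200420043004300400040004000400043004300420042004100410041004100420042004300430040004000400040004300430042004200410041004100410042004200430043004000400040004000200020002000200020002000200020002100210021002100210021002100210021002100210021002100210021002100200020002000200020002000200020002000200020002000200020002000200021002100210021002100210021002100210021002100210021002100210021002000200020002000200020002000200010001000100010001000100010001000100010001000100010001000100010001000100010001000100010001000100010001000100010001000100010001000090009000900090009000900090009000800080008000800080008000800080004000400050005000500050004000400030003000200020001000100000000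
noncomputable def c243 : Node :=
  (Node.st (nat_lit 0) (nat_lit 10) (nat_lit 0) (Node.st (nat_lit 2) (nat_lit 0) (nat_lit 10) (Node.st (nat_lit 0) (nat_lit 14) (nat_lit 0) (Node.st (nat_lit 2) (nat_lit 1) (nat_lit 10) (Node.st (nat_lit 0) (nat_lit 17) (nat_lit 0) c243_1)))))
theorem ok243 : nodeOK DB PT 243 t243 (nat_lit 0xcf0f00cf00303f0f00000f0f0f0f0f0fcfc0303fc03fc03) (nat_lit 0x220011110000111100000000220011110000000000220000002211110000111100000000000000000000111100001111000011110000111100001111000011112200111122000000003300000033111122000000005511112200000000ff) c243 = true := by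
  decide +kernel
noncomputable def c244_0 : Node :=
  Node.sp (nat_lit 52) (Node.lf (Leaf.pt (nat_lit 9) (nat_lit 52) [nat_lit 10])) (Node.st (nat_lit 0) (nat_lit 52) (nat_lit 0) (Node.sp (nat_lit 68) (Node.lf (Leaf.pt (nat_lit 9) (nat_lit 68) [nat_lit 10])) (Node.st (nat_lit 0) (nat_lit 68) (nat_lit 0) (Node.ext [[nat_lit 32,nat_lit 16,nat_lit 8,nat_lit 4,nat_lit 2,nat_lit 1]] (nat_lit 10) [Ins.ts (nat_lit 4) [nat_lit 0] [nat_lit 10,nat_lit 0,nat_lit 0],Ins.fr [nat_lit 0],Ins.ts (nat_lit 1) [nat_lit 0,nat_lit 0] [],Ins.ts (nat_lit 1) [nat_lit 0,nat_lit 0,nat_lit 0,nat_lit 0] [],Ins.fr [nat_lit 1],Ins.ts (nat_lit 1) [nat_lit 0,nat_lit 0] [],Ins.ts (nat_lit 0) [nat_lit 0,nat_lit 1,nat_lit 1,nat_lit 0] [],Ins.ts (nat_lit 0) [nat_lit 1,nat_lit 1,nat_lit 1] [nat_lit 0,nat_lit 1,nat_lit 0],Ins.ts (nat_lit 2) [nat_lit 0,nat_lit 0,nat_lit 1,nat_lit 0] [],Ins.fr [nat_lit 2],Ins.ts (nat_lit 1) [nat_lit 0,nat_lit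 0] [],Ins.ts (nat_lit 4) [nat_lit 0] [nat_lit 37,nat_lit 0,nat_lit 0],Ins.ts (nat_lit 3) [nat_lit 1,nat_lit 0,nat_lit 2] [],Ins.ts (nat_lit 2) [nat_lit 1,nat_lit 0] [],Ins.ts (nat_lit 0) [nat_lit 0,nat_lit 2,nat_lit 0,nat_lit 2] [],Ins.fr [nat_lit 0,nat_lit 0,nat_lit 3],Ins.ts (nat_lit 4) [nat_lit 0] [nat_lit 5,nat_lit 0,nat_lit 0],Ins.ts (nat_lit 1) [nat_lit 0,nat_lit 0] [],Ins.ts (nat_lit 2) [nat_lit 4,nat_lit 0] [],Ins.ts (nat_lit 0) [nat_lit 2,nat_lit 0,nat_lit 2] [nat_lit 0],Ins.ts (nat_lit 0) [nat_lit 1,nat_lit 0] [nat_lit 0,nat_lit 1],Ins.fr [nat_lit 1,nat_lit 2,nat_lit 0,nat_lit 3,nat_lit 4],Ins.ts (nat_lit 0) [nat_lit 4,nat_lit 0,nat_lit 3] [nat_lit 5,nat_lit 0],Ins.ts (nat_lit 0) [nat_lit 4,nat_lit 5,nat_lit 4] [nat_lit 0,nat_lit 5,nat_lit 0],Ins.df [nat_lit 1,nat_lit 1],Ins.df [nat_lit 5,nat_lit 5],Ins.df [nat_lit 0,nat_lit 1,nat_lit 7],Ins.df [nat_lit 1,nat_lit 6,nat_lit 7],Ins.df [nat_lit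 3,nat_lit 5,nat_lit 6],Ins.df [nat_lit 0,nat_lit 9]] [nat_lit 96,nat_lit 112,nat_lit 36,nat_lit 4,nat_lit 128] [nat_lit 5,nat_lit 4,nat_lit 7,nat_lit 3,nat_lit 2,nat_lit 1,nat_lit 0,nat_lit 6] (Srch.ex0 [nat_lit 68,nat_lit 36,nat_lit 16,nat_lit 8,nat_lit 2,nat_lit 1] (Srch.rep (nat_lit 12) [] [nat_lit 34,nat_lit 16,nat_lit 8,nat_lit 4,nat_lit 1] [nat_lit 128,nat_lit 64,nat_lit 2] Srch.nil (Srch.rep (nat_lit 16) [nat_lit 4,nat_lit 8,nat_lit 64] [nat_lit 64,nat_lit 16,nat_lit 8,nat_lit 4,nat_lit 2,nat_lit 1] [nat_lit 128,nat_lit 32] (Srch.rep (nat_lit 64) [nat_lit 64] [] [] (Srch.rep (nat_lit 74) [] [] [] Srch.nil Srch.nil) (Srch.rep (nat_lit 72) [nat_lit 72] [] [] (Srch.rep (nat_lit 66) [nat_lit 2] [] [] (Srch.rep (nat_lit 20) [nat_lit 16] [] [] (Srch.rep (nat_lit 46) [] [] [] (Srch.rep (nat_lit 170) [] [] [] (Srch.fin [nat_lit 128,nat_lit 4] [nat_lit 0] (((nat_lit 48),(Leaf.pt (nat_lit 12) (nat_lit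 76) [nat_lit 40,nat_lit 260]))::(((nat_lit 49),(Leaf.pt (nat_lit 17) (nat_lit 12) [nat_lit 452,nat_lit 4]))::[]))) (Srch.rep (nat_lit 171) [] [] [] (Srch.fin [nat_lit 128,nat_lit 4] [nat_lit 0] (((nat_lit 48),(Leaf.pt (nat_lit 17) (nat_lit 12) [nat_lit 452,nat_lit 4]))::(((nat_lit 49),(Leaf.pt (nat_lit 12) (nat_lit 76) [nat_lit 40,nat_lit 260]))::[]))) Srch.nil)) Srch.nil) (Srch.rep (nat_lit 22) [nat_lit 16] [] [] (Srch.rep (nat_lit 44) [] [] [] (Srch.rep (nat_lit 154) [] [] [] (Srch.fin [nat_lit 128,nat_lit 4] [nat_lit 0] (((nat_lit 40),(Leaf.pt (nat_lit 17) (nat_lit 12) [nat_lit 402,nat_lit 4]))::(((nat_lit 41),(Leaf.pt (nat_lit 17) (nat_lit 12) [nat_lit 390,nat_lit 4]))::[]))) (Srch.rep (nat_lit 155) [] [] [] (Srch.fin [nat_lit 128,nat_lit 4] [nat_lit 0] (((nat_lit 40),(Leaf.pt (nat_lit 17) (nat_lit 12) [nat_lit 390,nat_lit 4]))::(((nat_lit 41),(Leaf.pt (nat_lit 17) (nat_lit 12) [nat_lit 402,nat_lit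 4]))::[]))) Srch.nil)) Srch.nil) Srch.nil)) Srch.nil) (Srch.rep (nat_lit 80) [nat_lit 64] [] [] (Srch.rep (nat_lit 90) [nat_lit 2] [] [] (Srch.rep (nat_lit 20) [nat_lit 16] [] [] (Srch.rep (nat_lit 46) [] [] [] (Srch.rep (nat_lit 154) [] [] [] (Srch.fin [nat_lit 128,nat_lit 4] [nat_lit 0] (((nat_lit 0),(Leaf.pt (nat_lit 12) (nat_lit 12) [nat_lit 28,nat_lit 452]))::(((nat_lit 1),(Leaf.pt (nat_lit 12) (nat_lit 12) [nat_lit 28,nat_lit 452]))::[]))) (Srch.rep (nat_lit 155) [] [] [] (Srch.fin [nat_lit 128,nat_lit 4] [nat_lit 0] (((nat_lit 0),(Leaf.pt (nat_lit 12) (nat_lit 12) [nat_lit 28,nat_lit 452]))::(((nat_lit 1),(Leaf.pt (nat_lit 12) (nat_lit 12) [nat_lit 28,nat_lit 452]))::[]))) Srch.nil)) Srch.nil) (Srch.rep (nat_lit 22) [nat_lit 16] [] [] (Srch.rep (nat_lit 44) [] [] [] (Srch.rep (nat_lit 170) [] [] [] (Srch.fin [nat_lit 128,nat_lit 4] [nat_lit 0] (((nat_lit 24),(Leaf.pt (nat_lit 17) (nat_lit 12)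 [nat_lit 390,nat_lit 4]))::(((nat_lit 25),(Leaf.au (nat_lit 3) (nat_lit 16) (nat_lit 0) [[nat_lit 16,nat_lit 11,nat_lit 69,nat_lit 1]] [nat_lit 68,nat_lit 16,nat_lit 8,nat_lit 2,nat_lit 1] [nat_lit 5,nat_lit 704,nat_lit 5,nat_lit 640,nat_lit 5] (nat_lit 1) [nat_lit 0,nat_lit 1,nat_lit 69,nat_lit 68,nat_lit 11,nat_lit 10,nat_lit 78,nat_lit 79,nat_lit 16,nat_lit 17,nat_lit 85,nat_lit 84,nat_lit 27,nat_lit 26,nat_lit 94,nat_lit 95] (nat_lit 0) [nat_lit 0,nat_lit 0,nat_lit 2,nat_lit 2,nat_lit 0]))::[]))) (Srch.rep (nat_lit 171) [] [] [] (Srch.fin [nat_lit 128,nat_lit 4] [nat_lit 0] (((nat_lit 24),(Leaf.au (nat_lit 3) (nat_lit 16) (nat_lit 0) [[nat_lit 16,nat_lit 11,nat_lit 69,nat_lit 1]] [nat_lit 68,nat_lit 16,nat_lit 8,nat_lit 2,nat_lit 1] [nat_lit 5,nat_lit 704,nat_lit 5,nat_lit 640,nat_lit 5] (nat_lit 1) [nat_lit 0,nat_lit 1,nat_lit 69,nat_lit 68,nat_lit 11,nat_lit 10,nat_lit 78,nat_lit 79,nat_lit 16,nat_lit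 17,nat_lit 85,nat_lit 84,nat_lit 27,nat_lit 26,nat_lit 94,nat_lit 95] (nat_lit 0) [nat_lit 0,nat_lit 0,nat_lit 2,nat_lit 2,nat_lit 0]))::(((nat_lit 25),(Leaf.pt (nat_lit 17) (nat_lit 12) [nat_lit 390,nat_lit 4]))::[]))) Srch.nil)) Srch.nil) Srch.nil)) Srch.nil) (Srch.rep (nat_lit 88) [nat_lit 72] [] [] (Srch.rep (nat_lit 82) [] [] [] Srch.nil Srch.nil) Srch.nil)))) Srch.nil))) (Node.lf (Leaf.au (nat_lit 1) (nat_lit 0) (nat_lit 0) [] [] [nat_lit 3,nat_lit 1] (nat_lit 0) [] (nat_lit 42) [nat_lit 0,nat_lit 2,nat_lit 46,nat_lit 10,nat_lit 10,nat_lit 34,nat_lit 106,nat_lit 130]))))))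
noncomputable def t244 : ℕ := nat_lit 0x99009900990099009a009a009b009b00a800a800a800a800ab00ab00aa00aa00a800a800a800a800ab00ab00aa00aa0099009900990099009a009a009b009b00a900a900a900a900aa00aa00ab00ab0099009900990099009a009a009b009b0099009900990099009a009a009b009b00a900a900a900a900aa00aa00ab00ab0080008000800080008300830082008200b000b000b000b000b300b300b200b200b100b100b100b100b200b200b300b30081008100810081008200820083008300b000b000b000b000b300b300b200b2008100810081008100820082008300830080008000800080008300830082008200b100b100b100b100b200b200b300b300ab00ab00aa00aa00a800a800a800a8009b009b009a009a0098009800980098009b009b009a009a009800980098009800ab00ab00aa00aa00a800a800a800a8009b009b009a009a009800980098009800aa00aa00ab00ab00a900a900a900a900aa00aa00ab00ab00a900a900a900a9009b009b009a009a009800980098009800b200b200b300b300b100b100b100b1008300830082008200800080008000800082008200830083008100810081008100b300b30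0b200b200b000b000b000b00082008200830083008100810081008100b200b200b300b300b100b100b100b100b300b300b200b200b000b000b000b0008300830082008200800080008000800040004000400040004200420043004300410041004100410043004300420042004000400040004000420042004300430041004100410041004300430042004200400040004000400042004200430043004100410041004100430043004200420040004000400040004200420043004300410041004100410043004300420042004300430042004200410041004100410042004200430043004000400040004000430043004200420041004100410041004200420043004300400040004000400043004300420042004100410041004100420042004300430040004000400040004300430042004200410041004100410042004200430043004000400040004000200020002000200020002000200020002100210021002100210021002100210021002100210021002100210021002100200020002000200020002000200020002000200020002000200020002000200021002100210021002100210021002100210021002100210021002100210021002000200020002000200020002000200010001000100010001000100010001000100010001000100010001000100010001000100010001000100010001000100010001000100010001000100010001000090009000900090009000900090009000800080008000800080008000800080004000400050005000500050004000400030003000200020001000100000000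
noncomputable def c244 : Node :=
  (Node.st (nat_lit 0) (nat_lit 10) (nat_lit 0) (Node.st (nat_lit 2) (nat_lit 0) (nat_lit 10) (Node.st (nat_lit 0) (nat_lit 14) (nat_lit 0) (Node.st (nat_lit 2) (nat_lit 1) (nat_lit 10) (Node.st (nat_lit 0) (nat_lit 17) (nat_lit 0) (Node.st (nat_lit 2) (nat_lit 2) (nat_lit 5) (Node.st (nat_lit 0) (nat_lit 78) (nat_lit 0) (Node.st (nat_lit 2) (nat_lit 2) (nat_lit 9) (Node.st (nat_lit 0) (nat_lit 85) (nat_lit 0) (Node.sp (nat_lit 1) (Node.lf (Leaf.pt (nat_lit 9) (nat_lit 1) [nat_lit 10])) (Node.sp (nat_lit 26) (Node.lf (Leaf.pt (nat_lit 9) (nat_lit 26) [nat_lit 10])) (Node.st (nat_lit 0) (nat_lit 26) (nat_lit 0) (Node.sp (nat_lit 28) (Node.lf (Leaf.pt (nat_lit 9) (nat_lit 28) [nat_lit 12])) (Node.st (nat_lit 0) (nat_lit 28) (nat_lit 0) (Node.sp (nat_lit 40) (Node.lf (Leaf.pt (nat_lit 9) (nat_lit 40) [nat_lit 76])) (Node.st (nat_lit 0) (nat_lit 40) (nat_lit 0) (Node.sp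 (nat_lit 50) (Node.lf (Leaf.pt (nat_lit 9) (nat_lit 50) [nat_lit 12])) (Node.st (nat_lit 0) (nat_lit 50) (nat_lit 0) c244_0))))))))))))))))))
theorem ok244 : nodeOK DB PT 244 t244 (nat_lit 0xf00000f000f0f000f00000f0f0f0f0f0fcfc0303fc03fc03) (nat_lit 0x1111000000000000000000001111000000000000111100001111000000000000111100000000000000000000111100001111000011110000111100001111000011112200111122000000003300000033111122000000005511112200000000ff) c244 = true := by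
  decide +kernel
noncomputable def c245_0 : Node :=
  Node.sp (nat_lit 52) (Node.lf (Leaf.pt (nat_lit 9) (nat_lit 52) [nat_lit 10])) (Node.st (nat_lit 0) (nat_lit 52) (nat_lit 0) (Node.sp (nat_lit 68) (Node.lf (Leaf.pt (nat_lit 9) (nat_lit 68) [nat_lit 10])) (Node.st (nat_lit 0) (nat_lit 68) (nat_lit 0) (Node.ext [[nat_lit 32,nat_lit 16,nat_lit 8,nat_lit 4,nat_lit 2,nat_lit 1]] (nat_lit 10) [Ins.ts (nat_lit 4) [nat_lit 0] [nat_lit 10,nat_lit 0,nat_lit 0],Ins.fr [nat_lit 0],Ins.ts (nat_lit 1) [nat_lit 0,nat_lit 0] [],Ins.ts (nat_lit 1) [nat_lit 0,nat_lit 0,nat_lit 0,nat_lit 0] [],Ins.fr [nat_lit 1],Ins.ts (nat_lit 1) [nat_lit 0,nat_lit 0] [],Ins.ts (nat_lit 0) [nat_lit 0,nat_lit 1,nat_lit 1,nat_lit 0] [],Ins.ts (nat_lit 0) [nat_lit 1,nat_lit 1,nat_lit 1] [nat_lit 0,nat_lit 1,nat_lit 0],Ins.ts (nat_lit 2) [nat_lit 0,nat_lit 0,nat_lit 1,nat_lit 0] [],Ins.fr [nat_lit 2],Ins.ts (nat_lit 1) [nat_lit 0,nat_lit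 0] [],Ins.ts (nat_lit 4) [nat_lit 0] [nat_lit 37,nat_lit 0,nat_lit 0],Ins.ts (nat_lit 3) [nat_lit 1,nat_lit 0,nat_lit 2] [],Ins.ts (nat_lit 2) [nat_lit 1,nat_lit 0] [],Ins.ts (nat_lit 0) [nat_lit 0,nat_lit 2,nat_lit 0,nat_lit 2] [],Ins.fr [nat_lit 0,nat_lit 0,nat_lit 3],Ins.ts (nat_lit 4) [nat_lit 0] [nat_lit 5,nat_lit 0,nat_lit 0],Ins.ts (nat_lit 1) [nat_lit 0,nat_lit 0] [],Ins.ts (nat_lit 2) [nat_lit 4,nat_lit 0] [],Ins.ts (nat_lit 0) [nat_lit 2,nat_lit 0,nat_lit 2] [nat_lit 0],Ins.ts (nat_lit 0) [nat_lit 1,nat_lit 0] [nat_lit 0,nat_lit 1],Ins.fr [nat_lit 1,nat_lit 2,nat_lit 0,nat_lit 3,nat_lit 4],Ins.ts (nat_lit 0) [nat_lit 0,nat_lit 2,nat_lit 0] [nat_lit 2],Ins.ts (nat_lit 0) [nat_lit 4,nat_lit 0,nat_lit 3] [nat_lit 5,nat_lit 0],Ins.ts (nat_lit 0) [nat_lit 0,nat_lit 4,nat_lit 0] [nat_lit 3,nat_lit 5],Ins.df [nat_lit 1,nat_lit 1],Ins.df [nat_lit 5,nat_lit 5],Ins.df [nat_lit 0,nat_lit 1,nat_lit 7],Ins.df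 [nat_lit 1,nat_lit 6,nat_lit 7],Ins.df [nat_lit 3,nat_lit 5,nat_lit 6],Ins.df [nat_lit 0,nat_lit 9]] [nat_lit 96,nat_lit 112,nat_lit 36,nat_lit 4,nat_lit 128] [nat_lit 5,nat_lit 4,nat_lit 7,nat_lit 3,nat_lit 2,nat_lit 1,nat_lit 0,nat_lit 6] (Srch.ex0 [nat_lit 68,nat_lit 36,nat_lit 16,nat_lit 8,nat_lit 2,nat_lit 1] (Srch.rep (nat_lit 12) [] [nat_lit 34,nat_lit 16,nat_lit 8,nat_lit 4,nat_lit 1] [nat_lit 128,nat_lit 64,nat_lit 2] Srch.nil (Srch.rep (nat_lit 16) [nat_lit 4,nat_lit 8,nat_lit 64] [nat_lit 64,nat_lit 16,nat_lit 8,nat_lit 4,nat_lit 2,nat_lit 1] [nat_lit 128,nat_lit 32] (Srch.rep (nat_lit 64) [nat_lit 64] [] [] (Srch.rep (nat_lit 74) [] [] [] Srch.nil Srch.nil) (Srch.rep (nat_lit 72) [nat_lit 72] [] [] (Srch.rep (nat_lit 66) [nat_lit 2] [] [] (Srch.rep (nat_lit 20) [nat_lit 16] [] [] (Srch.rep (nat_lit 46) [] [] [] (Srch.rep (nat_lit 170) [] [] [] (Srch.fin [nat_lit 128,nat_lit 4] [nat_lit 0]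 (((nat_lit 48),(Leaf.pt (nat_lit 17) (nat_lit 12) [nat_lit 452,nat_lit 4]))::(((nat_lit 49),(Leaf.pt (nat_lit 12) (nat_lit 76) [nat_lit 40,nat_lit 260]))::[]))) (Srch.rep (nat_lit 171) [] [] [] (Srch.fin [nat_lit 128,nat_lit 4] [nat_lit 0] (((nat_lit 48),(Leaf.pt (nat_lit 12) (nat_lit 76) [nat_lit 40,nat_lit 260]))::(((nat_lit 49),(Leaf.pt (nat_lit 17) (nat_lit 12) [nat_lit 452,nat_lit 4]))::[]))) Srch.nil)) Srch.nil) (Srch.rep (nat_lit 22) [nat_lit 16] [] [] (Srch.rep (nat_lit 44) [] [] [] (Srch.rep (nat_lit 154) [] [] [] (Srch.fin [nat_lit 128,nat_lit 4] [nat_lit 0] (((nat_lit 40),(Leaf.pt (nat_lit 17) (nat_lit 12) [nat_lit 390,nat_lit 4]))::(((nat_lit 41),(Leaf.pt (nat_lit 17) (nat_lit 12) [nat_lit 402,nat_lit 4]))::[]))) (Srch.rep (nat_lit 155) [] [] [] (Srch.fin [nat_lit 128,nat_lit 4] [nat_lit 0] (((nat_lit 40),(Leaf.pt (nat_lit 17) (nat_lit 12) [nat_lit 402,nat_lit 4]))::(((nat_lit 41),(Leaf.pt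 (nat_lit 17) (nat_lit 12) [nat_lit 390,nat_lit 4]))::[]))) Srch.nil)) Srch.nil) Srch.nil)) Srch.nil) (Srch.rep (nat_lit 80) [nat_lit 64] [] [] (Srch.rep (nat_lit 90) [nat_lit 2] [] [] (Srch.rep (nat_lit 20) [nat_lit 16] [] [] (Srch.rep (nat_lit 46) [] [] [] (Srch.rep (nat_lit 154) [] [] [] (Srch.fin [nat_lit 128,nat_lit 4] [nat_lit 0] (((nat_lit 0),(Leaf.pt (nat_lit 12) (nat_lit 12) [nat_lit 28,nat_lit 452]))::(((nat_lit 1),(Leaf.pt (nat_lit 12) (nat_lit 12) [nat_lit 28,nat_lit 452]))::[]))) (Srch.rep (nat_lit 155) [] [] [] (Srch.fin [nat_lit 128,nat_lit 4] [nat_lit 0] (((nat_lit 0),(Leaf.pt (nat_lit 12) (nat_lit 12) [nat_lit 28,nat_lit 452]))::(((nat_lit 1),(Leaf.pt (nat_lit 12) (nat_lit 12) [nat_lit 28,nat_lit 452]))::[]))) Srch.nil)) Srch.nil) (Srch.rep (nat_lit 22) [nat_lit 16] [] [] (Srch.rep (nat_lit 44) [] [] [] (Srch.rep (nat_lit 170) [] [] [] (Srch.fin [nat_lit 128,nat_lit 4] [nat_lit 0] (((nat_lit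 24),(Leaf.au (nat_lit 3) (nat_lit 16) (nat_lit 0) [[nat_lit 16,nat_lit 11,nat_lit 69,nat_lit 1]] [nat_lit 68,nat_lit 16,nat_lit 8,nat_lit 2,nat_lit 1] [nat_lit 5,nat_lit 704,nat_lit 5,nat_lit 640,nat_lit 5] (nat_lit 1) [nat_lit 0,nat_lit 1,nat_lit 69,nat_lit 68,nat_lit 11,nat_lit 10,nat_lit 78,nat_lit 79,nat_lit 16,nat_lit 17,nat_lit 85,nat_lit 84,nat_lit 27,nat_lit 26,nat_lit 94,nat_lit 95] (nat_lit 0) [nat_lit 0,nat_lit 0,nat_lit 2,nat_lit 2,nat_lit 0]))::(((nat_lit 25),(Leaf.pt (nat_lit 17) (nat_lit 12) [nat_lit 390,nat_lit 4]))::[]))) (Srch.rep (nat_lit 171) [] [] [] (Srch.fin [nat_lit 128,nat_lit 4] [nat_lit 0] (((nat_lit 24),(Leaf.pt (nat_lit 17) (nat_lit 12) [nat_lit 390,nat_lit 4]))::(((nat_lit 25),(Leaf.au (nat_lit 3) (nat_lit 16) (nat_lit 0) [[nat_lit 16,nat_lit 11,nat_lit 69,nat_lit 1]] [nat_lit 68,nat_lit 16,nat_lit 8,nat_lit 2,nat_lit 1] [nat_lit 5,nat_lit 704,nat_lit 5,nat_lit 640,nat_lit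 5] (nat_lit 1) [nat_lit 0,nat_lit 1,nat_lit 69,nat_lit 68,nat_lit 11,nat_lit 10,nat_lit 78,nat_lit 79,nat_lit 16,nat_lit 17,nat_lit 85,nat_lit 84,nat_lit 27,nat_lit 26,nat_lit 94,nat_lit 95] (nat_lit 0) [nat_lit 0,nat_lit 0,nat_lit 2,nat_lit 2,nat_lit 0]))::[]))) Srch.nil)) Srch.nil) Srch.nil)) Srch.nil) (Srch.rep (nat_lit 88) [nat_lit 72] [] [] (Srch.rep (nat_lit 82) [] [] [] Srch.nil Srch.nil) Srch.nil)))) Srch.nil))) (Node.lf (Leaf.au (nat_lit 1) (nat_lit 0) (nat_lit 0) [] [] [nat_lit 3,nat_lit 1] (nat_lit 0) [] (nat_lit 42) [nat_lit 0,nat_lit 2,nat_lit 46,nat_lit 10,nat_lit 10,nat_lit 34,nat_lit 106,nat_lit 130]))))))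
noncomputable def t245 : ℕ := nat_lit 0x98009800980098009b009b009a009a00a900a900a900a900aa00aa00ab00ab00a900a900a900a900aa00aa00ab00ab0098009800980098009b009b009a009a00a800a800a800a800ab00ab00aa00aa0098009800980098009b009b009a009a0098009800980098009b009b009a009a00a800a800a800a800ab00ab00aa00aa0081008100810081008200820083008300b100b100b100b100b200b200b300b300b000b000b000b000b300b300b200b20080008000800080008300830082008200b100b100b100b100b200b200b300b3008000800080008000830083008200820081008100810081008200820083008300b000b000b000b000b300b300b200b200ab00ab00aa00aa00a800a800a800a8009b009b009a009a0098009800980098009b009b009a009a009800980098009800ab00ab00aa00aa00a800a800a800a8009b009b009a009a009800980098009800aa00aa00ab00ab00a900a900a900a900aa00aa00ab00ab00a900a900a900a9009b009b009a009a009800980098009800b200b200b300b300b100b100b100b1008300830082008200800080008000800082008200830083008100810081008100b300b30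0b200b200b000b000b000b00082008200830083008100810081008100b200b200b300b300b100b100b100b100b300b300b200b200b000b000b000b0008300830082008200800080008000800040004000400040004200420043004300410041004100410043004300420042004000400040004000420042004300430041004100410041004300430042004200400040004000400042004200430043004100410041004100430043004200420040004000400040004200420043004300410041004100410043004300420042004300430042004200410041004100410042004200430043004000400040004000430043004200420041004100410041004200420043004300400040004000400043004300420042004100410041004100420042004300430040004000400040004300430042004200410041004100410042004200430043004000400040004000200020002000200020002000200020002100210021002100210021002100210021002100210021002100210021002100200020002000200020002000200020002000200020002000200020002000200021002100210021002100210021002100210021002100210021002100210021002000200020002000200020002000200010001000100010001000100010001000100010001000100010001000100010001000100010001000100010001000100010001000100010001000100010001000090009000900090009000900090009000800080008000800080008000800080004000400050005000500050004000400030003000200020001000100000000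
noncomputable def c245 : Node :=
  (Node.st (nat_lit 0) (nat_lit 10) (nat_lit 0) (Node.st (nat_lit 2) (nat_lit 0) (nat_lit 10) (Node.st (nat_lit 0) (nat_lit 14) (nat_lit 0) (Node.st (nat_lit 2) (nat_lit 1) (nat_lit 10) (Node.st (nat_lit 0) (nat_lit 17) (nat_lit 0) (Node.st (nat_lit 2) (nat_lit 2) (nat_lit 5) (Node.st (nat_lit 0) (nat_lit 78) (nat_lit 0) (Node.st (nat_lit 2) (nat_lit 2) (nat_lit 9) (Node.st (nat_lit 0) (nat_lit 85) (nat_lit 0) (Node.sp (nat_lit 1) (Node.lf (Leaf.pt (nat_lit 9) (nat_lit 1) [nat_lit 10])) (Node.sp (nat_lit 26) (Node.lf (Leaf.pt (nat_lit 9) (nat_lit 26) [nat_lit 10])) (Node.st (nat_lit 0) (nat_lit 26) (nat_lit 0) (Node.sp (nat_lit 28) (Node.lf (Leaf.pt (nat_lit 9) (nat_lit 28) [nat_lit 12])) (Node.st (nat_lit 0) (nat_lit 28) (nat_lit 0) (Node.sp (nat_lit 40) (Node.lf (Leaf.pt (nat_lit 9) (nat_lit 40) [nat_lit 76])) (Node.st (nat_lit 0) (nat_lit 40) (nat_lit 0) (Node.sp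 (nat_lit 50) (Node.lf (Leaf.pt (nat_lit 9) (nat_lit 50) [nat_lit 12])) (Node.st (nat_lit 0) (nat_lit 50) (nat_lit 0) c245_0))))))))))))))))))
theorem ok245 : nodeOK DB PT 245 t245 (nat_lit 0xf00000f0f0f0f0f0fcfc0303fc03fc03) (nat_lit 0x111100000000000000000000111100001111000011110000111100001111000011112200111122000000003300000033111122000000005511112200000000ff) c245 = true := by
  decide +kernel
noncomputable def c246_0 : Node :=
  Node.sp (nat_lit 68) (Node.lf (Leaf.pt (nat_lit 9) (nat_lit 68) [nat_lit 10])) (Node.st (nat_lit 0) (nat_lit 68) (nat_lit 0) (Node.sp (nat_lit 92) (Node.lf (Leaf.pt (nat_lit 9) (nat_lit 92) [nat_lit 10])) (Node.st (nat_lit 0) (nat_lit 92) (nat_lit 0) (Node.ext [[nat_lit 32,nat_lit 16,nat_lit 8,nat_lit 4,nat_lit 2,nat_lit 1]] (nat_lit 10) [Ins.ts (nat_lit 4) [nat_lit 0] [nat_lit 10,nat_lit 0,nat_lit 0],Ins.fr [nat_lit 0],Ins.ts (nat_lit 1) [nat_lit 0,nat_lit 0] [],Ins.ts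 (nat_lit 1) [nat_lit 0,nat_lit 0,nat_lit 0,nat_lit 0] [],Ins.fr [nat_lit 1],Ins.ts (nat_lit 1) [nat_lit 0,nat_lit 0] [],Ins.ts (nat_lit 0) [nat_lit 0,nat_lit 1,nat_lit 1,nat_lit 0] [],Ins.ts (nat_lit 0) [nat_lit 1,nat_lit 1,nat_lit 1] [nat_lit 0,nat_lit 1,nat_lit 0],Ins.ts (nat_lit 2) [nat_lit 0,nat_lit 0,nat_lit 1,nat_lit 0] [],Ins.fr [nat_lit 2],Ins.ts (nat_lit 1) [nat_lit 0,nat_lit 0] [],Ins.ts (nat_lit 4) [nat_lit 0] [nat_lit 37,nat_lit 0,nat_lit 0],Ins.ts (nat_lit 3) [nat_lit 1,nat_lit 0,nat_lit 2] [],Ins.ts (nat_lit 2) [nat_lit 1,nat_lit 0] [],Ins.ts (nat_lit 0) [nat_lit 0,nat_lit 2,nat_lit 0,nat_lit 2] [],Ins.fr [nat_lit 0,nat_lit 0,nat_lit 3],Ins.ts (nat_lit 4) [nat_lit 0] [nat_lit 5,nat_lit 0,nat_lit 0],Ins.ts (nat_lit 1) [nat_lit 0,nat_lit 0] [],Ins.ts (nat_lit 2) [nat_lit 4,nat_lit 0] [],Ins.ts (nat_lit 0) [nat_lit 2,nat_lit 0,nat_lit 2] [nat_lit 0],Ins.ts (nat_lit 0) [nat_lit 1,nat_lit 0]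 [nat_lit 0,nat_lit 1],Ins.fr [nat_lit 1,nat_lit 2,nat_lit 0,nat_lit 3,nat_lit 4],Ins.ts (nat_lit 0) [nat_lit 3,nat_lit 0] [nat_lit 0,nat_lit 3],Ins.ts (nat_lit 0) [nat_lit 4,nat_lit 5,nat_lit 4] [nat_lit 0,nat_lit 5,nat_lit 0],Ins.df [nat_lit 1,nat_lit 1],Ins.df [nat_lit 5,nat_lit 5],Ins.df [nat_lit 0,nat_lit 1,nat_lit 7],Ins.df [nat_lit 1,nat_lit 6,nat_lit 7],Ins.df [nat_lit 3,nat_lit 5,nat_lit 6],Ins.df [nat_lit 0,nat_lit 9]] [nat_lit 96,nat_lit 112,nat_lit 36,nat_lit 4,nat_lit 128] [nat_lit 5,nat_lit 4,nat_lit 7,nat_lit 3,nat_lit 2,nat_lit 1,nat_lit 0,nat_lit 6] (Srch.ex0 [nat_lit 68,nat_lit 36,nat_lit 16,nat_lit 8,nat_lit 2,nat_lit 1] (Srch.rep (nat_lit 12) [] [nat_lit 34,nat_lit 16,nat_lit 8,nat_lit 4,nat_lit 1] [nat_lit 128,nat_lit 64,nat_lit 2] Srch.nil (Srch.rep (nat_lit 16) [nat_lit 4,nat_lit 8,nat_lit 64] [nat_lit 64,nat_lit 16,nat_lit 8,nat_lit 4,nat_lit 2,nat_lit 1] [nat_lit 128,nat_lit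 32] (Srch.rep (nat_lit 64) [nat_lit 64] [] [] (Srch.rep (nat_lit 74) [] [] [] Srch.nil Srch.nil) (Srch.rep (nat_lit 72) [nat_lit 72] [] [] (Srch.rep (nat_lit 66) [nat_lit 2] [] [] (Srch.rep (nat_lit 20) [nat_lit 16] [] [] (Srch.rep (nat_lit 46) [] [] [] (Srch.rep (nat_lit 178) [] [] [] (Srch.fin [nat_lit 128,nat_lit 4] [nat_lit 0] (((nat_lit 48),(Leaf.pt (nat_lit 17) (nat_lit 12) [nat_lit 452,nat_lit 4]))::(((nat_lit 49),(Leaf.pt (nat_lit 12) (nat_lit 76) [nat_lit 40,nat_lit 260]))::[]))) (Srch.rep (nat_lit 179) [] [] [] (Srch.fin [nat_lit 128,nat_lit 4] [nat_lit 0] (((nat_lit 48),(Leaf.pt (nat_lit 12) (nat_lit 76) [nat_lit 40,nat_lit 260]))::(((nat_lit 49),(Leaf.pt (nat_lit 17) (nat_lit 12) [nat_lit 452,nat_lit 4]))::[]))) Srch.nil)) Srch.nil) (Srch.rep (nat_lit 22) [nat_lit 16] [] [] (Srch.rep (nat_lit 44) [] [] [] (Srch.rep (nat_lit 130) [] [] [] (Srch.fin [nat_lit 128,nat_lit 4] [nat_lit 0] (((nat_lit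 40),(Leaf.pt (nat_lit 12) (nat_lit 12) [nat_lit 28,nat_lit 390]))::(((nat_lit 41),(Leaf.pt (nat_lit 12) (nat_lit 12) [nat_lit 28,nat_lit 390]))::[]))) (Srch.rep (nat_lit 131) [] [] [] (Srch.fin [nat_lit 128,nat_lit 4] [nat_lit 0] (((nat_lit 40),(Leaf.pt (nat_lit 12) (nat_lit 12) [nat_lit 28,nat_lit 390]))::(((nat_lit 41),(Leaf.pt (nat_lit 12) (nat_lit 12) [nat_lit 28,nat_lit 390]))::[]))) Srch.nil)) Srch.nil) Srch.nil)) Srch.nil) (Srch.rep (nat_lit 80) [nat_lit 64] [] [] (Srch.rep (nat_lit 90) [nat_lit 2] [] [] (Srch.rep (nat_lit 20) [nat_lit 16] [] [] (Srch.rep (nat_lit 46) [] [] [] (Srch.rep (nat_lit 154) [] [] [] (Srch.fin [nat_lit 128,nat_lit 4] [nat_lit 0] (((nat_lit 0),(Leaf.pt (nat_lit 17) (nat_lit 12) [nat_lit 464,nat_lit 4]))::(((nat_lit 1),(Leaf.pt (nat_lit 17) (nat_lit 12) [nat_lit 452,nat_lit 4]))::[]))) (Srch.rep (nat_lit 155) [] [] [] (Srch.fin [nat_lit 128,nat_lit 4] [nat_lit 0] (((nat_lit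 0),(Leaf.pt (nat_lit 17) (nat_lit 12) [nat_lit 452,nat_lit 4]))::(((nat_lit 1),(Leaf.pt (nat_lit 17) (nat_lit 12) [nat_lit 464,nat_lit 4]))::[]))) Srch.nil)) Srch.nil) (Srch.rep (nat_lit 22) [nat_lit 16] [] [] (Srch.rep (nat_lit 44) [] [] [] (Srch.rep (nat_lit 170) [] [] [] (Srch.fin [nat_lit 128,nat_lit 4] [nat_lit 0] (((nat_lit 24),(Leaf.pt (nat_lit 17) (nat_lit 12) [nat_lit 390,nat_lit 4]))::(((nat_lit 25),(Leaf.au (nat_lit 3) (nat_lit 16) (nat_lit 0) [[nat_lit 16,nat_lit 11,nat_lit 69,nat_lit 1]] [nat_lit 68,nat_lit 16,nat_lit 8,nat_lit 2,nat_lit 1] [nat_lit 5,nat_lit 704,nat_lit 5,nat_lit 640,nat_lit 5] (nat_lit 1) [nat_lit 0,nat_lit 1,nat_lit 69,nat_lit 68,nat_lit 11,nat_lit 10,nat_lit 78,nat_lit 79,nat_lit 16,nat_lit 17,nat_lit 85,nat_lit 84,nat_lit 27,nat_lit 26,nat_lit 94,nat_lit 95] (nat_lit 0) [nat_lit 0,nat_lit 0,nat_lit 2,nat_lit 2,nat_lit 0]))::[]))) (Srch.rep (nat_lit 171) [] [] [] (Srch.fin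 [nat_lit 128,nat_lit 4] [nat_lit 0] (((nat_lit 24),(Leaf.au (nat_lit 3) (nat_lit 16) (nat_lit 0) [[nat_lit 16,nat_lit 11,nat_lit 69,nat_lit 1]] [nat_lit 68,nat_lit 16,nat_lit 8,nat_lit 2,nat_lit 1] [nat_lit 5,nat_lit 704,nat_lit 5,nat_lit 640,nat_lit 5] (nat_lit 1) [nat_lit 0,nat_lit 1,nat_lit 69,nat_lit 68,nat_lit 11,nat_lit 10,nat_lit 78,nat_lit 79,nat_lit 16,nat_lit 17,nat_lit 85,nat_lit 84,nat_lit 27,nat_lit 26,nat_lit 94,nat_lit 95] (nat_lit 0) [nat_lit 0,nat_lit 0,nat_lit 2,nat_lit 2,nat_lit 0]))::(((nat_lit 25),(Leaf.pt (nat_lit 17) (nat_lit 12) [nat_lit 390,nat_lit 4]))::[]))) Srch.nil)) Srch.nil) Srch.nil)) Srch.nil) (Srch.rep (nat_lit 88) [nat_lit 72] [] [] (Srch.rep (nat_lit 82) [] [] [] Srch.nil Srch.nil) Srch.nil)))) Srch.nil))) (Node.lf (Leaf.au (nat_lit 1) (nat_lit 0) (nat_lit 0) [] [] [nat_lit 3,nat_lit 1] (nat_lit 0) [] (nat_lit 42) [nat_lit 0,nat_lit 2,nat_lit 46,nat_lit 10,nat_lit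 10,nat_lit 34,nat_lit 106,nat_lit 130]))))))
noncomputable def t246 : ℕ := nat_lit 0x80008000800080008300830082008200b000b000b000b000b300b300b200b200b100b100b100b100b200b200b300b30081008100810081008200820083008300b000b000b000b000b300b300b200b2008100810081008100820082008300830080008000800080008300830082008200b100b100b100b100b200b200b300b30080008000800080008300830082008200b000b000b000b000b300b300b200b200b100b100b100b100b200b200b300b30081008100810081008200820083008300b000b000b000b000b300b300b200b2008100810081008100820082008300830080008000800080008300830082008200b100b100b100b100b200b200b300b300b200b200b300b300b100b100b100b1008300830082008200800080008000800082008200830083008100810081008100b300b300b200b200b000b000b000b00082008200830083008100810081008100b200b200b300b300b100b100b100b100b300b300b200b200b000b000b000b00083008300820082008000800080008000b200b200b300b300b100b100b100b10083008300820082008000800080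00800082008200830083008100810081008100b300b300b200b200b000b000b000b00082008200830083008100810081008100b200b200b300b300b100b100b100b100b300b300b200b200b000b000b000b0008300830082008200800080008000800040004000400040004200420043004300410041004100410043004300420042004000400040004000420042004300430041004100410041004300430042004200400040004000400042004200430043004100410041004100430043004200420040004000400040004200420043004300410041004100410043004300420042004300430042004200410041004100410042004200430043004000400040004000430043004200420041004100410041004200420043004300400040004000400043004300420042004100410041004100420042004300430040004000400040004300430042004200410041004100410042004200430043004000400040004000200020002000200020002000200020002100210021002100210021002100210021002100210021002100210021002100200020002000200020002000200020002000200020002000200020002000200021002100210021002100210021002100210021002100210021002100210021002000200020002000200020002000200010001000100010001000100010001000100010001000100010001000100010001000100010001000100010001000100010001000100010001000100010001000090009000900090009000900090009000800080008000800080008000800080004000400050005000500050004000400030003000200020001000100000000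
noncomputable def c246 : Node :=
  (Node.st (nat_lit 0) (nat_lit 10) (nat_lit 0) (Node.st (nat_lit 2) (nat_lit 0) (nat_lit 10) (Node.st (nat_lit 0) (nat_lit 14) (nat_lit 0) (Node.st (nat_lit 2) (nat_lit 1) (nat_lit 10) (Node.st (nat_lit 0) (nat_lit 17) (nat_lit 0) (Node.st (nat_lit 2) (nat_lit 2) (nat_lit 5) (Node.st (nat_lit 0) (nat_lit 78) (nat_lit 0) (Node.st (nat_lit 2) (nat_lit 2) (nat_lit 9) (Node.st (nat_lit 0) (nat_lit 85) (nat_lit 0) (Node.sp (nat_lit 1) (Node.lf (Leaf.pt (nat_lit 9) (nat_lit 1) [nat_lit 10])) (Node.sp (nat_lit 26) (Node.lf (Leaf.pt (nat_lit 9) (nat_lit 26) [nat_lit 10])) (Node.st (nat_lit 0) (nat_lit 26) (nat_lit 0) (Node.sp (nat_lit 28) (Node.lf (Leaf.pt (nat_lit 9) (nat_lit 28) [nat_lit 12])) (Node.st (nat_lit 0) (nat_lit 28) (nat_lit 0) (Node.sp (nat_lit 40) (Node.lf (Leaf.pt (nat_lit 9) (nat_lit 40) [nat_lit 76])) (Node.st (nat_lit 0) (nat_lit 40) (nat_lit 0) (Node.sp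 (nat_lit 50) (Node.lf (Leaf.pt (nat_lit 9) (nat_lit 50) [nat_lit 12])) (Node.st (nat_lit 0) (nat_lit 50) (nat_lit 0) (Node.sp (nat_lit 52) (Node.lf (Leaf.pt (nat_lit 9) (nat_lit 52) [nat_lit 10])) (Node.st (nat_lit 0) (nat_lit 52) (nat_lit 0) c246_0))))))))))))))))))))
theorem ok246 : nodeOK DB PT 246 t246 (nat_lit 0xfc0000030003fc00f00000f000f0f000f00000f0f0f0f0f0fcfc0303fc03fc03) (nat_lit 0x11112200000000000000000000000033000000000000003311112200000000001111000000000000000000001111000000000000111100001111000000000000111100000000000000000000111100001111000011110000111100001111000011112200111122000000003300000033111122000000005511112200000000ff) c246 = true := by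
  decide +kernel
noncomputable def c247_0 : Node :=
  Node.st (nat_lit 0) (nat_lit 210) (nat_lit 0) (Node.sp (nat_lit 212) (Node.lf (Leaf.pt (nat_lit 13) (nat_lit 212) [nat_lit 28])) (Node.st (nat_lit 0) (nat_lit 212) (nat_lit 0) (Node.ext [[nat_lit 32,nat_lit 16,nat_lit 8,nat_lit 4,nat_lit 2,nat_lit 1]] (nat_lit 10) [Ins.ts (nat_lit 4) [nat_lit 0] [nat_lit 10,nat_lit 0,nat_lit 0],Ins.fr [nat_lit 0],Ins.ts (nat_lit 1) [nat_lit 0,nat_lit 0] [],Ins.ts (nat_lit 1) [nat_lit 0,nat_lit 0,nat_lit 0,nat_lit 0] [],Ins.fr [nat_lit 1],Ins.ts (nat_lit 1) [nat_lit 0,nat_lit 0] [],Ins.ts (nat_lit 0) [nat_lit 0,nat_lit 1,nat_lit 1,nat_lit 0] [],Ins.ts (nat_lit 0) [nat_lit 1,nat_lit 1,nat_lit 1] [nat_lit 0,nat_lit 1,nat_lit 0],Ins.ts (nat_lit 2) [nat_lit 0,nat_lit 0,nat_lit 1,nat_lit 0] [],Ins.fr [nat_lit 2],Ins.ts (nat_lit 1) [nat_lit 0,nat_lit 0] [],Ins.ts (nat_lit 4) [nat_lit 0] [nat_lit 37,nat_lit 0,nat_lit 0],Ins.ts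 (nat_lit 3) [nat_lit 1,nat_lit 0,nat_lit 2] [],Ins.ts (nat_lit 2) [nat_lit 1,nat_lit 0] [],Ins.ts (nat_lit 0) [nat_lit 0,nat_lit 2,nat_lit 0,nat_lit 2] [],Ins.fr [nat_lit 0,nat_lit 0,nat_lit 3],Ins.ts (nat_lit 4) [nat_lit 0] [nat_lit 5,nat_lit 0,nat_lit 0],Ins.ts (nat_lit 1) [nat_lit 0,nat_lit 0] [],Ins.ts (nat_lit 2) [nat_lit 4,nat_lit 0] [],Ins.ts (nat_lit 0) [nat_lit 2,nat_lit 0,nat_lit 2] [nat_lit 0],Ins.ts (nat_lit 0) [nat_lit 1,nat_lit 0] [nat_lit 0,nat_lit 1],Ins.fr [nat_lit 1,nat_lit 2,nat_lit 0,nat_lit 3,nat_lit 4],Ins.ts (nat_lit 0) [nat_lit 3,nat_lit 0] [nat_lit 0,nat_lit 3],Ins.ts (nat_lit 0) [nat_lit 0,nat_lit 2,nat_lit 0] [nat_lit 2],Ins.ts (nat_lit 0) [nat_lit 4,nat_lit 4,nat_lit 4] [nat_lit 0,nat_lit 4,nat_lit 0],Ins.df [nat_lit 1,nat_lit 1],Ins.df [nat_lit 5,nat_lit 5],Ins.df [nat_lit 0,nat_lit 1,nat_lit 7],Ins.df [nat_lit 1,nat_lit 6,nat_lit 7],Ins.df [nat_lit 3,nat_lit 5,nat_lit 6],Ins.df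 [nat_lit 0,nat_lit 9]] [nat_lit 96,nat_lit 112,nat_lit 36,nat_lit 4,nat_lit 128] [nat_lit 5,nat_lit 4,nat_lit 7,nat_lit 3,nat_lit 2,nat_lit 1,nat_lit 0,nat_lit 6] (Srch.ex0 [nat_lit 68,nat_lit 36,nat_lit 16,nat_lit 8,nat_lit 2,nat_lit 1] (Srch.rep (nat_lit 12) [] [nat_lit 34,nat_lit 16,nat_lit 8,nat_lit 4,nat_lit 1] [nat_lit 128,nat_lit 64,nat_lit 2] Srch.nil (Srch.rep (nat_lit 16) [nat_lit 4,nat_lit 8,nat_lit 64] [nat_lit 64,nat_lit 16,nat_lit 8,nat_lit 4,nat_lit 2,nat_lit 1] [nat_lit 128,nat_lit 32] (Srch.rep (nat_lit 64) [nat_lit 64] [] [] (Srch.rep (nat_lit 74) [] [] [] Srch.nil Srch.nil) (Srch.rep (nat_lit 72) [nat_lit 72] [] [] (Srch.rep (nat_lit 66) [nat_lit 2] [] [] (Srch.rep (nat_lit 20) [nat_lit 16] [] [] (Srch.rep (nat_lit 46) [] [] [] (Srch.rep (nat_lit 178) [] [] [] (Srch.fin [nat_lit 128,nat_lit 4] [nat_lit 0] (((nat_lit 48),(Leaf.pt (nat_lit 12) (nat_lit 76) [nat_lit 40,nat_lit 260]))::(((nat_lit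 49),(Leaf.pt (nat_lit 17) (nat_lit 12) [nat_lit 452,nat_lit 4]))::[]))) (Srch.rep (nat_lit 179) [] [] [] (Srch.fin [nat_lit 128,nat_lit 4] [nat_lit 0] (((nat_lit 48),(Leaf.pt (nat_lit 17) (nat_lit 12) [nat_lit 452,nat_lit 4]))::(((nat_lit 49),(Leaf.pt (nat_lit 12) (nat_lit 76) [nat_lit 40,nat_lit 260]))::[]))) Srch.nil)) Srch.nil) (Srch.rep (nat_lit 22) [nat_lit 16] [] [] (Srch.rep (nat_lit 44) [] [] [] (Srch.rep (nat_lit 130) [] [] [] (Srch.fin [nat_lit 128,nat_lit 4] [nat_lit 0] (((nat_lit 40),(Leaf.pt (nat_lit 12) (nat_lit 12) [nat_lit 28,nat_lit 390]))::(((nat_lit 41),(Leaf.pt (nat_lit 12) (nat_lit 12) [nat_lit 28,nat_lit 390]))::[]))) (Srch.rep (nat_lit 131) [] [] [] (Srch.fin [nat_lit 128,nat_lit 4] [nat_lit 0] (((nat_lit 40),(Leaf.pt (nat_lit 12) (nat_lit 12) [nat_lit 28,nat_lit 390]))::(((nat_lit 41),(Leaf.pt (nat_lit 12) (nat_lit 12) [nat_lit 28,nat_lit 390]))::[]))) Srch.nil)) Srch.nil) Srch.nil))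 Srch.nil) (Srch.rep (nat_lit 80) [nat_lit 64] [] [] (Srch.rep (nat_lit 90) [nat_lit 2] [] [] (Srch.rep (nat_lit 20) [nat_lit 16] [] [] (Srch.rep (nat_lit 46) [] [] [] (Srch.rep (nat_lit 154) [] [] [] (Srch.fin [nat_lit 128,nat_lit 4] [nat_lit 0] (((nat_lit 0),(Leaf.pt (nat_lit 17) (nat_lit 12) [nat_lit 452,nat_lit 4]))::(((nat_lit 1),(Leaf.pt (nat_lit 17) (nat_lit 12) [nat_lit 464,nat_lit 4]))::[]))) (Srch.rep (nat_lit 155) [] [] [] (Srch.fin [nat_lit 128,nat_lit 4] [nat_lit 0] (((nat_lit 0),(Leaf.pt (nat_lit 17) (nat_lit 12) [nat_lit 464,nat_lit 4]))::(((nat_lit 1),(Leaf.pt (nat_lit 17) (nat_lit 12) [nat_lit 452,nat_lit 4]))::[]))) Srch.nil)) Srch.nil) (Srch.rep (nat_lit 22) [nat_lit 16] [] [] (Srch.rep (nat_lit 44) [] [] [] (Srch.rep (nat_lit 170) [] [] [] (Srch.fin [nat_lit 128,nat_lit 4] [nat_lit 0] (((nat_lit 24),(Leaf.au (nat_lit 3) (nat_lit 16) (nat_lit 0) [[nat_lit 16,nat_lit 11,nat_lit 69,nat_lit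 1]] [nat_lit 68,nat_lit 16,nat_lit 8,nat_lit 2,nat_lit 1] [nat_lit 5,nat_lit 704,nat_lit 5,nat_lit 640,nat_lit 5] (nat_lit 1) [nat_lit 0,nat_lit 1,nat_lit 69,nat_lit 68,nat_lit 11,nat_lit 10,nat_lit 78,nat_lit 79,nat_lit 16,nat_lit 17,nat_lit 85,nat_lit 84,nat_lit 27,nat_lit 26,nat_lit 94,nat_lit 95] (nat_lit 0) [nat_lit 0,nat_lit 0,nat_lit 2,nat_lit 2,nat_lit 0]))::(((nat_lit 25),(Leaf.pt (nat_lit 17) (nat_lit 12) [nat_lit 390,nat_lit 4]))::[]))) (Srch.rep (nat_lit 171) [] [] [] (Srch.fin [nat_lit 128,nat_lit 4] [nat_lit 0] (((nat_lit 24),(Leaf.pt (nat_lit 17) (nat_lit 12) [nat_lit 390,nat_lit 4]))::(((nat_lit 25),(Leaf.au (nat_lit 3) (nat_lit 16) (nat_lit 0) [[nat_lit 16,nat_lit 11,nat_lit 69,nat_lit 1]] [nat_lit 68,nat_lit 16,nat_lit 8,nat_lit 2,nat_lit 1] [nat_lit 5,nat_lit 704,nat_lit 5,nat_lit 640,nat_lit 5] (nat_lit 1) [nat_lit 0,nat_lit 1,nat_lit 69,nat_lit 68,nat_lit 11,nat_lit 10,nat_lit 78,nat_lit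 79,nat_lit 16,nat_lit 17,nat_lit 85,nat_lit 84,nat_lit 27,nat_lit 26,nat_lit 94,nat_lit 95] (nat_lit 0) [nat_lit 0,nat_lit 0,nat_lit 2,nat_lit 2,nat_lit 0]))::[]))) Srch.nil)) Srch.nil) Srch.nil)) Srch.nil) (Srch.rep (nat_lit 88) [nat_lit 72] [] [] (Srch.rep (nat_lit 82) [] [] [] Srch.nil Srch.nil) Srch.nil)))) Srch.nil))) (Node.lf (Leaf.au (nat_lit 1) (nat_lit 0) (nat_lit 0) [] [] [nat_lit 3,nat_lit 1] (nat_lit 0) [] (nat_lit 42) [nat_lit 0,nat_lit 2,nat_lit 46,nat_lit 10,nat_lit 10,nat_lit 34,nat_lit 106,nat_lit 130])))))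
noncomputable def t247 : ℕ := nat_lit 0x81008100810081008200820083008300b100b100b100b100b200b200b300b300b000b000b000b000b300b300b200b20080008000800080008300830082008200b100b100b100b100b200b200b300b3008000800080008000830083008200820081008100810081008200820083008300b000b000b000b000b300b300b200b20081008100810081008200820083008300b100b100b100b100b200b200b300b300b000b000b000b000b300b300b200b20080008000800080008300830082008200b100b100b100b100b200b200b300b3008000800080008000830083008200820081008100810081008200820083008300b000b000b000b000b300b300b200b200b200b200b300b300b100b100b100b1008300830082008200800080008000800082008200830083008100810081008100b300b300b200b200b000b000b000b00082008200830083008100810081008100b200b200b300b300b100b100b100b100b300b300b200b200b000b000b000b00083008300820082008000800080008000b200b200b300b300b100b100b100b1008300830082008200800080008000800082008200830083008100810081008100b300b30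0b200b200b000b000b000b00082008200830083008100810081008100b200b200b300b300b100b100b100b100b300b300b200b200b000b000b000b0008300830082008200800080008000800040004000400040004200420043004300410041004100410043004300420042004000400040004000420042004300430041004100410041004300430042004200400040004000400042004200430043004100410041004100430043004200420040004000400040004200420043004300410041004100410043004300420042004300430042004200410041004100410042004200430043004000400040004000430043004200420041004100410041004200420043004300400040004000400043004300420042004100410041004100420042004300430040004000400040004300430042004200410041004100410042004200430043004000400040004000200020002000200020002000200020002100210021002100210021002100210021002100210021002100210021002100200020002000200020002000200020002000200020002000200020002000200021002100210021002100210021002100210021002100210021002100210021002000200020002000200020002000200010001000100010001000100010001000100010001000100010001000100010001000100010001000100010001000100010001000100010001000100010001000090009000900090009000900090009000800080008000800080008000800080004000400050005000500050004000400030003000200020001000100000000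
noncomputable def c247 : Node :=
  (Node.st (nat_lit 0) (nat_lit 10) (nat_lit 0) (Node.st (nat_lit 2) (nat_lit 0) (nat_lit 10) (Node.st (nat_lit 0) (nat_lit 14) (nat_lit 0) (Node.st (nat_lit 2) (nat_lit 1) (nat_lit 10) (Node.st (nat_lit 0) (nat_lit 17) (nat_lit 0) (Node.st (nat_lit 2) (nat_lit 2) (nat_lit 5) (Node.st (nat_lit 0) (nat_lit 78) (nat_lit 0) (Node.st (nat_lit 2) (nat_lit 2) (nat_lit 9) (Node.st (nat_lit 0) (nat_lit 85) (nat_lit 0) (Node.sp (nat_lit 1) (Node.lf (Leaf.pt (nat_lit 9) (nat_lit 1) [nat_lit 10])) (Node.sp (nat_lit 26) (Node.lf (Leaf.pt (nat_lit 9) (nat_lit 26) [nat_lit 10])) (Node.st (nat_lit 0) (nat_lit 26) (nat_lit 0) (Node.sp (nat_lit 28) (Node.lf (Leaf.pt (nat_lit 9) (nat_lit 28) [nat_lit 12])) (Node.st (nat_lit 0) (nat_lit 28) (nat_lit 0) (Node.sp (nat_lit 40) (Node.lf (Leaf.pt (nat_lit 9) (nat_lit 40) [nat_lit 76])) (Node.st (nat_lit 0) (nat_lit 40) (nat_lit 0) (Node.sp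 (nat_lit 50) (Node.lf (Leaf.pt (nat_lit 9) (nat_lit 50) [nat_lit 12])) (Node.st (nat_lit 0) (nat_lit 50) (nat_lit 0) (Node.sp (nat_lit 52) (Node.lf (Leaf.pt (nat_lit 9) (nat_lit 52) [nat_lit 10])) (Node.st (nat_lit 0) (nat_lit 52) (nat_lit 0) (Node.sp (nat_lit 68) (Node.lf (Leaf.pt (nat_lit 9) (nat_lit 68) [nat_lit 10])) (Node.st (nat_lit 0) (nat_lit 68) (nat_lit 0) (Node.sp (nat_lit 92) (Node.lf (Leaf.pt (nat_lit 9) (nat_lit 92) [nat_lit 10])) (Node.st (nat_lit 0) (nat_lit 92) (nat_lit 0) (Node.sp (nat_lit 200) (Node.lf (Leaf.pt (nat_lit 17) (nat_lit 200) [nat_lit 104,nat_lit 4])) (Node.st (nat_lit 0) (nat_lit 200) (nat_lit 0) (Node.sp (nat_lit 210) (Node.lf (Leaf.pt (nat_lit 17) (nat_lit 210) [nat_lit 64,nat_lit 44])) c247_0)))))))))))))))))))))))))))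
theorem ok247 : nodeOK DB PT 247 t247 (nat_lit 0x30000fc00fc03000000000000000000f00000f0f0f0f0f0fcfc0303fc03fc03) (nat_lit 0x33000000000000000011112200000000001111220000000033000000000000000000000000000000000000000000000000000000000000000000000000111100000000000000000000111100001111000011110000111100001111000011112200111122000000003300000033111122000000005511112200000000ff) c247 = true := by
  decide +kernel
noncomputable def c248_0 : Srch :=
  Srch.rep (nat_lit 16) [nat_lit 4,nat_lit 8,nat_lit 64] [nat_lit 64,nat_lit 16,nat_lit 8,nat_lit 4,nat_lit 2,nat_lit 1] [nat_lit 32] (Srch.rep (nat_lit 64) [nat_lit 64] [] [] (Srch.rep (nat_lit 74) [] [] [] Srch.nil Srch.nil) (Srch.rep (nat_lit 72) [nat_lit 72] [] [] (Srch.rep (nat_lit 66) [nat_lit 2] [] [] (Srch.rep (nat_lit 20) [nat_lit 16] [] [] (Srch.rep (nat_lit 46) [] [] [] (Srch.fin [nat_lit 4,nat_lit 64] [nat_lit 0] (((nat_lit 48),(Leaf.pt (nat_lit 12)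 (nat_lit 76) [nat_lit 40,nat_lit 132]))::(((nat_lit 49),(Leaf.pt (nat_lit 12) (nat_lit 76) [nat_lit 40,nat_lit 132]))::[]))) Srch.nil) (Srch.rep (nat_lit 22) [nat_lit 16] [] [] (Srch.rep (nat_lit 44) [] [] [] (Srch.fin [nat_lit 4,nat_lit 64] [nat_lit 0] (((nat_lit 40),(Leaf.pt (nat_lit 12) (nat_lit 76) [nat_lit 26,nat_lit 128]))::(((nat_lit 41),(Leaf.pt (nat_lit 12) (nat_lit 76) [nat_lit 26,nat_lit 128]))::[]))) Srch.nil) Srch.nil)) Srch.nil) (Srch.rep (nat_lit 80) [nat_lit 64] [] [] (Srch.rep (nat_lit 90) [nat_lit 2] [] [] (Srch.rep (nat_lit 20) [nat_lit 16] [] [] (Srch.rep (nat_lit 46) [] [] [] (Srch.fin [nat_lit 4,nat_lit 64] [nat_lit 0] (((nat_lit 0),(Leaf.au (nat_lit 2) (nat_lit 16) (nat_lit 1) [[nat_lit 32,nat_lit 16,nat_lit 8,nat_lit 4,nat_lit 2,nat_lit 1]] [nat_lit 64,nat_lit 32,nat_lit 16,nat_lit 8,nat_lit 4,nat_lit 2,nat_lit 1] [nat_lit 1,nat_lit 276,nat_lit 3] (nat_lit 2) [] (nat_lit 0) [nat_lit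 64,nat_lit 32,nat_lit 8,nat_lit 8,nat_lit 4,nat_lit 2,nat_lit 0]))::(((nat_lit 1),(Leaf.au (nat_lit 2) (nat_lit 16) (nat_lit 1) [[nat_lit 32,nat_lit 16,nat_lit 8,nat_lit 4,nat_lit 2,nat_lit 1]] [nat_lit 64,nat_lit 32,nat_lit 16,nat_lit 8,nat_lit 4,nat_lit 2,nat_lit 1] [nat_lit 1,nat_lit 276,nat_lit 3] (nat_lit 2) [] (nat_lit 0) [nat_lit 64,nat_lit 32,nat_lit 8,nat_lit 8,nat_lit 4,nat_lit 2,nat_lit 0]))::[]))) Srch.nil) (Srch.rep (nat_lit 22) [nat_lit 16] [] [] (Srch.rep (nat_lit 44) [] [] [] (Srch.fin [nat_lit 4,nat_lit 64] [nat_lit 0] (((nat_lit 24),(Leaf.au (nat_lit 3) (nat_lit 16) (nat_lit 0) [[nat_lit 16,nat_lit 11,nat_lit 69,nat_lit 1]] [nat_lit 68,nat_lit 16,nat_lit 8,nat_lit 2,nat_lit 1] [nat_lit 5,nat_lit 448,nat_lit 5,nat_lit 384,nat_lit 5] (nat_lit 1) [nat_lit 0,nat_lit 1,nat_lit 69,nat_lit 68,nat_lit 11,nat_lit 10,nat_lit 78,nat_lit 79,nat_lit 16,nat_lit 17,nat_lit 85,nat_lit 84,nat_lit 27,nat_lit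 26,nat_lit 94,nat_lit 95] (nat_lit 0) [nat_lit 0,nat_lit 0,nat_lit 2,nat_lit 2,nat_lit 0]))::(((nat_lit 25),(Leaf.au (nat_lit 3) (nat_lit 16) (nat_lit 0) [[nat_lit 16,nat_lit 11,nat_lit 69,nat_lit 1]] [nat_lit 68,nat_lit 16,nat_lit 8,nat_lit 2,nat_lit 1] [nat_lit 5,nat_lit 448,nat_lit 5,nat_lit 384,nat_lit 5] (nat_lit 1) [nat_lit 0,nat_lit 1,nat_lit 69,nat_lit 68,nat_lit 11,nat_lit 10,nat_lit 78,nat_lit 79,nat_lit 16,nat_lit 17,nat_lit 85,nat_lit 84,nat_lit 27,nat_lit 26,nat_lit 94,nat_lit 95] (nat_lit 0) [nat_lit 0,nat_lit 0,nat_lit 2,nat_lit 2,nat_lit 0]))::[]))) Srch.nil) Srch.nil)) Srch.nil) (Srch.rep (nat_lit 88) [nat_lit 72] [] [] (Srch.rep (nat_lit 82) [] [] [] Srch.nil Srch.nil) Srch.nil)))) (Srch.rep (nat_lit 32) [nat_lit 4,nat_lit 24,nat_lit 64] [nat_lit 64,nat_lit 32,nat_lit 24,nat_lit 4,nat_lit 2,nat_lit 1] [nat_lit 8] (Srch.rep (nat_lit 64) [nat_lit 64] [] [] (Srch.rep (nat_lit 122) []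 [] [] Srch.nil Srch.nil) (Srch.rep (nat_lit 88) [nat_lit 88] [] [] (Srch.rep (nat_lit 98) [] [] [] Srch.nil Srch.nil) (Srch.rep (nat_lit 96) [nat_lit 64] [] [] (Srch.rep (nat_lit 90) [nat_lit 2] [] [] (Srch.rep (nat_lit 36) [nat_lit 32] [] [] (Srch.rep (nat_lit 47) [] [] [] (Srch.fin [nat_lit 4,nat_lit 64] [nat_lit 0] (((nat_lit 43),(Leaf.pt (nat_lit 17) (nat_lit 12) [nat_lit 148,nat_lit 4]))::(((nat_lit 42),(Leaf.pt (nat_lit 17) (nat_lit 12) [nat_lit 128,nat_lit 4]))::[]))) Srch.nil) (Srch.rep (nat_lit 38) [nat_lit 32] [] [] (Srch.rep (nat_lit 45) [] [] [] (Srch.fin [nat_lit 4,nat_lit 64] [nat_lit 0] (((nat_lit 2),(Leaf.pt (nat_lit 17) (nat_lit 12) [nat_lit 192,nat_lit 4]))::(((nat_lit 3),(Leaf.mp (nat_lit 242) [nat_lit 1,nat_lit 2,nat_lit 4,nat_lit 8,nat_lit 16,nat_lit 32,nat_lit 64,nat_lit 128] [[nat_lit 1],[nat_lit 3],[nat_lit 5]]))::[]))) Srch.nil) Srch.nil)) Srch.nil) (Srch.rep (nat_lit 120) [nat_lit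 88] [] [] (Srch.rep (nat_lit 66) [nat_lit 2] [] [] (Srch.rep (nat_lit 36) [nat_lit 32] [] [] (Srch.rep (nat_lit 47) [] [] [] (Srch.fin [nat_lit 4,nat_lit 64] [nat_lit 0] (((nat_lit 43),(Leaf.mp (nat_lit 243) [nat_lit 1,nat_lit 2,nat_lit 4,nat_lit 8,nat_lit 16,nat_lit 32,nat_lit 64,nat_lit 128] [[nat_lit 1],[nat_lit 3],[nat_lit 5]]))::(((nat_lit 42),(Leaf.pt (nat_lit 17) (nat_lit 12) [nat_lit 128,nat_lit 4]))::[]))) Srch.nil) (Srch.rep (nat_lit 38) [nat_lit 32] [] [] (Srch.rep (nat_lit 45) [] [] [] (Srch.fin [nat_lit 4,nat_lit 64] [nat_lit 0] (((nat_lit 2),(Leaf.pt (nat_lit 12) (nat_lit 12) [nat_lit 28,nat_lit 192]))::(((nat_lit 3),(Leaf.pt (nat_lit 12) (nat_lit 12) [nat_lit 28,nat_lit 192]))::[]))) Srch.nil) Srch.nil)) Srch.nil) Srch.nil)))) (Srch.rep (nat_lit 58) [nat_lit 12,nat_lit 20,nat_lit 68] [nat_lit 68,nat_lit 32,nat_lit 20,nat_lit 12,nat_lit 2,nat_lit 1] [nat_lit 4] (Srch.rep (nat_lit 72) [nat_lit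 72] [] [] (Srch.rep (nat_lit 104) [nat_lit 2] [] [] (Srch.rep (nat_lit 20) [nat_lit 58] [] [] (Srch.rep (nat_lit 4) [] [] [] (Srch.fin [nat_lit 4,nat_lit 64] [nat_lit 0] (((nat_lit 49),(Leaf.au (nat_lit 2) (nat_lit 16) (nat_lit 1) [[nat_lit 32,nat_lit 16,nat_lit 8,nat_lit 4,nat_lit 2,nat_lit 1]] [nat_lit 64,nat_lit 32,nat_lit 16,nat_lit 8,nat_lit 4,nat_lit 2,nat_lit 1] [nat_lit 3,nat_lit 128,nat_lit 3,nat_lit 452,nat_lit 3] (nat_lit 2) [] (nat_lit 2) [nat_lit 64,nat_lit 32,nat_lit 8,nat_lit 8,nat_lit 6,nat_lit 2,nat_lit 0]))::(((nat_lit 48),(Leaf.au (nat_lit 2) (nat_lit 16) (nat_lit 1) [[nat_lit 32,nat_lit 16,nat_lit 8,nat_lit 4,nat_lit 2,nat_lit 1]] [nat_lit 64,nat_lit 32,nat_lit 16,nat_lit 8,nat_lit 4,nat_lit 2,nat_lit 1] [nat_lit 3,nat_lit 128,nat_lit 3,nat_lit 452,nat_lit 3] (nat_lit 2) [] (nat_lit 2) [nat_lit 64,nat_lit 32,nat_lit 8,nat_lit 8,nat_lit 6,nat_lit 2,nat_lit 0]))::[]))) Srch.nil) (Srch.rep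 (nat_lit 22) [nat_lit 58] [] [] (Srch.rep (nat_lit 6) [] [] [] (Srch.fin [nat_lit 4,nat_lit 64] [nat_lit 0] (((nat_lit 51),(Leaf.mp (nat_lit 244) [nat_lit 1,nat_lit 2,nat_lit 4,nat_lit 8,nat_lit 16,nat_lit 32,nat_lit 64,nat_lit 128] [[nat_lit 1],[nat_lit 3],[nat_lit 5]]))::(((nat_lit 50),(Leaf.mp (nat_lit 245) [nat_lit 1,nat_lit 2,nat_lit 4,nat_lit 8,nat_lit 16,nat_lit 32,nat_lit 64,nat_lit 128] [[nat_lit 1],[nat_lit 3],[nat_lit 5]]))::[]))) Srch.nil) Srch.nil)) Srch.nil) (Srch.rep (nat_lit 80) [nat_lit 80] [] [] (Srch.rep (nat_lit 112) [nat_lit 2] [] [] (Srch.rep (nat_lit 20) [nat_lit 58] [] [] (Srch.rep (nat_lit 4) [] [] [] (Srch.fin [nat_lit 4,nat_lit 64] [nat_lit 0] (((nat_lit 49),(Leaf.au (nat_lit 2) (nat_lit 16) (nat_lit 1) [[nat_lit 32,nat_lit 16,nat_lit 8,nat_lit 4,nat_lit 2,nat_lit 1]] [nat_lit 64,nat_lit 32,nat_lit 16,nat_lit 8,nat_lit 4,nat_lit 2,nat_lit 1] [nat_lit 3,nat_lit 128,nat_lit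 3,nat_lit 452,nat_lit 3] (nat_lit 2) [] (nat_lit 2) [nat_lit 64,nat_lit 32,nat_lit 8,nat_lit 8,nat_lit 6,nat_lit 2,nat_lit 0]))::(((nat_lit 48),(Leaf.au (nat_lit 2) (nat_lit 16) (nat_lit 1) [[nat_lit 32,nat_lit 16,nat_lit 8,nat_lit 4,nat_lit 2,nat_lit 1]] [nat_lit 64,nat_lit 32,nat_lit 16,nat_lit 8,nat_lit 4,nat_lit 2,nat_lit 1] [nat_lit 3,nat_lit 128,nat_lit 3,nat_lit 452,nat_lit 3] (nat_lit 2) [] (nat_lit 2) [nat_lit 64,nat_lit 32,nat_lit 8,nat_lit 8,nat_lit 6,nat_lit 2,nat_lit 0]))::[]))) Srch.nil) (Srch.rep (nat_lit 22) [nat_lit 58] [] [] (Srch.rep (nat_lit 6) [] [] [] (Srch.fin [nat_lit 4,nat_lit 64] [nat_lit 0] (((nat_lit 51),(Leaf.mp (nat_lit 246) [nat_lit 1,nat_lit 2,nat_lit 4,nat_lit 8,nat_lit 16,nat_lit 32,nat_lit 64,nat_lit 128] [[nat_lit 1],[nat_lit 3],[nat_lit 5]]))::(((nat_lit 50),(Leaf.mp (nat_lit 247) [nat_lit 1,nat_lit 2,nat_lit 4,nat_lit 8,nat_lit 16,nat_lit 32,nat_lit 64,nat_lit 128]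 [[nat_lit 1],[nat_lit 3],[nat_lit 5]]))::[]))) Srch.nil) Srch.nil)) Srch.nil) (Srch.rep (nat_lit 104) [nat_lit 80] [] [] (Srch.rep (nat_lit 72) [] [] [] Srch.nil Srch.nil) (Srch.rep (nat_lit 112) [nat_lit 72] [] [] (Srch.rep (nat_lit 80) [] [] [] Srch.nil Srch.nil) Srch.nil)))) (Srch.rep (nat_lit 60) [] [nat_lit 32,nat_lit 18,nat_lit 10,nat_lit 4,nat_lit 1] [nat_lit 64,nat_lit 2] Srch.nil Srch.nil)))
noncomputable def t248 : ℕ := nat_lit 0x40004000400040004200420043004300410041004100410043004300420042004000400040004000420042004300430041004100410041004300430042004200400040004000400042004200430043004100410041004100430043004200420040004000400040004200420043004300410041004100410043004300420042004300430042004200410041004100410042004200430043004000400040004000430043004200420041004100410041004200420043004300400040004000400043004300420042004100410041004100420042004300430040004000400040004300430042004200410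041004100410042004200430043004000400040004000200020002000200020002000200020002100210021002100210021002100210021002100210021002100210021002100200020002000200020002000200020002000200020002000200020002000200021002100210021002100210021002100210021002100210021002100210021002000200020002000200020002000200010001000100010001000100010001000100010001000100010001000100010001000100010001000100010001000100010001000100010001000100010001000090009000900090009000900090009000800080008000800080008000800080004000400050005000500050004000400030003000200020001000100000000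
noncomputable def c248 : Node :=
  (Node.st (nat_lit 0) (nat_lit 10) (nat_lit 0) (Node.st (nat_lit 2) (nat_lit 0) (nat_lit 10) (Node.st (nat_lit 0) (nat_lit 14) (nat_lit 0) (Node.st (nat_lit 2) (nat_lit 1) (nat_lit 10) (Node.st (nat_lit 0) (nat_lit 17) (nat_lit 0) (Node.st (nat_lit 2) (nat_lit 1) (nat_lit 12) (Node.st (nat_lit 0) (nat_lit 63) (nat_lit 0) (Node.st (nat_lit 2) (nat_lit 1) (nat_lit 14) (Node.st (nat_lit 0) (nat_lit 59) (nat_lit 0) (Node.st (nat_lit 2) (nat_lit 1) (nat_lit 32) (Node.st (nat_lit 0) (nat_lit 32) (nat_lit 0) (Node.st (nat_lit 2) (nat_lit 2) (nat_lit 5) (Node.st (nat_lit 0) (nat_lit 78) (nat_lit 0) (Node.st (nat_lit 2) (nat_lit 2) (nat_lit 9) (Node.st (nat_lit 0) (nat_lit 85) (nat_lit 0) (Node.sp (nat_lit 1) (Node.lf (Leaf.pt (nat_lit 9) (nat_lit 1) [nat_lit 10])) (Node.sp (nat_lit 26) (Node.lf (Leaf.pt (nat_lit 9) (nat_lit 26) [nat_lit 10])) (Node.st (nat_lit 0) (nat_lit 26)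 (nat_lit 0) (Node.sp (nat_lit 28) (Node.lf (Leaf.pt (nat_lit 9) (nat_lit 28) [nat_lit 12])) (Node.st (nat_lit 0) (nat_lit 28) (nat_lit 0) (Node.sp (nat_lit 50) (Node.lf (Leaf.pt (nat_lit 9) (nat_lit 50) [nat_lit 12])) (Node.st (nat_lit 0) (nat_lit 50) (nat_lit 0) (Node.sp (nat_lit 52) (Node.lf (Leaf.pt (nat_lit 9) (nat_lit 52) [nat_lit 10])) (Node.st (nat_lit 0) (nat_lit 52) (nat_lit 0) (Node.sp (nat_lit 68) (Node.lf (Leaf.pt (nat_lit 9) (nat_lit 68) [nat_lit 10])) (Node.st (nat_lit 0) (nat_lit 68) (nat_lit 0) (Node.sp (nat_lit 92) (Node.lf (Leaf.pt (nat_lit 9) (nat_lit 92) [nat_lit 10])) (Node.st (nat_lit 0) (nat_lit 92) (nat_lit 0) (Node.sp (nat_lit 40) (Node.lf (Leaf.pt (nat_lit 13) (nat_lit 40) [nat_lit 26])) (Node.st (nat_lit 0) (nat_lit 40) (nat_lit 0) (Node.ext [[nat_lit 32,nat_lit 16,nat_lit 8,nat_lit 4,nat_lit 2,nat_lit 1]] (nat_lit 10) [Ins.ts (nat_lit 4) [nat_lit 0] [nat_lit 10,nat_lit 0,nat_lit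 0],Ins.fr [nat_lit 0],Ins.ts (nat_lit 1) [nat_lit 0,nat_lit 0] [],Ins.ts (nat_lit 1) [nat_lit 0,nat_lit 0,nat_lit 0,nat_lit 0] [],Ins.fr [nat_lit 1],Ins.ts (nat_lit 1) [nat_lit 0,nat_lit 0] [],Ins.ts (nat_lit 0) [nat_lit 0,nat_lit 1,nat_lit 1,nat_lit 0] [],Ins.ts (nat_lit 0) [nat_lit 1,nat_lit 1,nat_lit 1] [nat_lit 0,nat_lit 1,nat_lit 0],Ins.ts (nat_lit 2) [nat_lit 0,nat_lit 0,nat_lit 1,nat_lit 0] [],Ins.fr [nat_lit 2],Ins.ts (nat_lit 1) [nat_lit 0,nat_lit 0] [],Ins.ts (nat_lit 4) [nat_lit 0] [nat_lit 37,nat_lit 0,nat_lit 0],Ins.ts (nat_lit 3) [nat_lit 1,nat_lit 0,nat_lit 2] [],Ins.ts (nat_lit 2) [nat_lit 1,nat_lit 0] [],Ins.ts (nat_lit 0) [nat_lit 0,nat_lit 2,nat_lit 0,nat_lit 2] [],Ins.fr [nat_lit 0,nat_lit 0,nat_lit 3],Ins.ts (nat_lit 4) [nat_lit 0] [nat_lit 5,nat_lit 0,nat_lit 0],Ins.ts (nat_lit 1) [nat_lit 0,nat_lit 0] [],Ins.ts (nat_lit 2) [nat_lit 4,nat_lit 0] [],Ins.ts (nat_lit 0) [nat_lit 2,nat_lit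 0,nat_lit 2] [nat_lit 0],Ins.ts (nat_lit 0) [nat_lit 1,nat_lit 0] [nat_lit 0,nat_lit 1],Ins.df [nat_lit 0,nat_lit 0],Ins.df [nat_lit 4,nat_lit 4],Ins.df [nat_lit 0,nat_lit 1,nat_lit 6],Ins.df [nat_lit 1,nat_lit 5,nat_lit 6],Ins.df [nat_lit 3,nat_lit 4,nat_lit 5],Ins.df [nat_lit 0,nat_lit 8]] [nat_lit 96,nat_lit 112,nat_lit 36,nat_lit 4] [nat_lit 5,nat_lit 4,nat_lit 6,nat_lit 3,nat_lit 2,nat_lit 1,nat_lit 0] (Srch.ex0 [nat_lit 68,nat_lit 36,nat_lit 16,nat_lit 8,nat_lit 2,nat_lit 1] (Srch.rep (nat_lit 12) [] [nat_lit 34,nat_lit 16,nat_lit 8,nat_lit 4,nat_lit 1] [nat_lit 64,nat_lit 2] Srch.nil c248_0)) (Node.lf (Leaf.au (nat_lit 1) (nat_lit 0) (nat_lit 0) [] [] [nat_lit 3,nat_lit 1] (nat_lit 0) [] (nat_lit 42) [nat_lit 0,nat_lit 2,nat_lit 46,nat_lit 10,nat_lit 10,nat_lit 34,nat_lit 106])))))))))))))))))))))))))))))))))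
theorem ok248 : nodeOK DB PT 248 t248 (nat_lit 0xf00000f0f0f0f0f0fcfc0303fc03fc03) (nat_lit 0x111100000000000000000000111100001111000011110000111100001111000011112200111122000000003300000033111122000000005511112200000000ff) c248 = true := by
  decide +kernel
noncomputable def c249_0 : Srch :=
  Srch.rep (nat_lit 2) [nat_lit 64] [] [] (Srch.rep (nat_lit 8) [nat_lit 2] [] [] (Srch.rep (nat_lit 4) [nat_lit 8] [] [] (Srch.rep (nat_lit 36) [] [] [] (Srch.lf (Leaf.mp (nat_lit 169) [nat_lit 1,nat_lit 2,nat_lit 4,nat_lit 8,nat_lit 16,nat_lit 32,nat_lit 64] [[nat_lit 3],[nat_lit 1,nat_lit 3,nat_lit 132],[nat_lit 5]])) (Srch.rep (nat_lit 44) [] [] [] (Srch.lf (Leaf.st (nat_lit 2) (nat_lit 0) (nat_lit 28) (Leaf.st (nat_lit 1) (nat_lit 2) (nat_lit 53) (Leaf.st (nat_lit 2) (nat_lit 0) (nat_lit 52) (Leaf.cf (nat_lit 52)))))) Srch.nil)) (Srch.rep (nat_lit 6) [nat_lit 8] [] [] (Srch.rep (nat_lit 38) [] [] [] (Srch.lf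 (Leaf.mp (nat_lit 188) [nat_lit 1,nat_lit 2,nat_lit 4,nat_lit 8,nat_lit 16,nat_lit 32,nat_lit 64] [[nat_lit 3],[nat_lit 1,nat_lit 3,nat_lit 136],[nat_lit 5]])) (Srch.rep (nat_lit 46) [] [] [] (Srch.lf (Leaf.st (nat_lit 2) (nat_lit 0) (nat_lit 28) (Leaf.st (nat_lit 1) (nat_lit 64) (nat_lit 55) (Leaf.st (nat_lit 2) (nat_lit 0) (nat_lit 52) (Leaf.cf (nat_lit 52)))))) Srch.nil)) (Srch.rep (nat_lit 20) [nat_lit 8] [] [] (Srch.rep (nat_lit 38) [] [] [] (Srch.lf (Leaf.st (nat_lit 2) (nat_lit 0) (nat_lit 12) (Leaf.st (nat_lit 1) (nat_lit 2) (nat_lit 53) (Leaf.st (nat_lit 2) (nat_lit 0) (nat_lit 52) (Leaf.cf (nat_lit 31)))))) (Srch.rep (nat_lit 46) [] [] [] (Srch.lf (Leaf.mp (nat_lit 233) [nat_lit 1,nat_lit 2,nat_lit 4,nat_lit 8,nat_lit 16,nat_lit 32,nat_lit 64] [[nat_lit 3],[nat_lit 1,nat_lit 3,nat_lit 132],[nat_lit 5]])) Srch.nil)) (Srch.rep (nat_lit 22) [nat_lit 8] [] [] (Srch.rep (nat_lit 36) [] [] [] (Srch.lf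 (Leaf.st (nat_lit 2) (nat_lit 0) (nat_lit 12) (Leaf.st (nat_lit 1) (nat_lit 66) (nat_lit 54) (Leaf.st (nat_lit 2) (nat_lit 0) (nat_lit 52) (Leaf.cf (nat_lit 28)))))) (Srch.rep (nat_lit 44) [] [] [] (Srch.lf (Leaf.mp (nat_lit 248) [nat_lit 1,nat_lit 2,nat_lit 4,nat_lit 8,nat_lit 16,nat_lit 32,nat_lit 64] [[nat_lit 3],[nat_lit 1,nat_lit 3,nat_lit 136],[nat_lit 5]])) Srch.nil)) Srch.nil)))) Srch.nil) (Srch.rep (nat_lit 4) [] [] [] (Srch.rep (nat_lit 8) [nat_lit 4] [] [] (Srch.rep (nat_lit 2) [nat_lit 8] [] [] (Srch.rep (nat_lit 34) [] [] [] (Srch.lf (Leaf.mp (nat_lit 188) [nat_lit 1,nat_lit 2,nat_lit 4,nat_lit 8,nat_lit 16,nat_lit 32,nat_lit 64] [[nat_lit 3],[nat_lit 196,nat_lit 1],[nat_lit 5]])) (Srch.rep (nat_lit 42) [] [] [] (Srch.lf (Leaf.st (nat_lit 2) (nat_lit 0) (nat_lit 30) (Leaf.st (nat_lit 1) (nat_lit 66) (nat_lit 54) (Leaf.st (nat_lit 2) (nat_lit 0) (nat_lit 52) (Leaf.cf (nat_lit 52)))))) Srch.nil))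 (Srch.rep (nat_lit 6) [nat_lit 8] [] [] (Srch.rep (nat_lit 38) [] [] [] (Srch.lf (Leaf.mp (nat_lit 169) [nat_lit 1,nat_lit 2,nat_lit 4,nat_lit 8,nat_lit 16,nat_lit 32,nat_lit 64] [[nat_lit 3],[nat_lit 192,nat_lit 1],[nat_lit 5]])) (Srch.rep (nat_lit 46) [] [] [] (Srch.lf (Leaf.st (nat_lit 2) (nat_lit 0) (nat_lit 28) (Leaf.st (nat_lit 1) (nat_lit 64) (nat_lit 55) (Leaf.st (nat_lit 2) (nat_lit 0) (nat_lit 52) (Leaf.cf (nat_lit 52)))))) Srch.nil)) (Srch.rep (nat_lit 18) [nat_lit 8] [] [] (Srch.rep (nat_lit 38) [] [] [] (Srch.lf (Leaf.st (nat_lit 2) (nat_lit 0) (nat_lit 12) (Leaf.st (nat_lit 2) (nat_lit 0) (nat_lit 28) (Leaf.st (nat_lit 1) (nat_lit 64) (nat_lit 62) (Leaf.st (nat_lit 2) (nat_lit 0) (nat_lit 50) (Leaf.cf (nat_lit 60))))))) (Srch.rep (nat_lit 46) [] [] [] (Srch.lf (Leaf.mp (nat_lit 248) [nat_lit 1,nat_lit 2,nat_lit 4,nat_lit 8,nat_lit 16,nat_lit 32,nat_lit 64] [[nat_lit 3],[nat_lit 208,nat_lit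 1],[nat_lit 5]])) Srch.nil)) (Srch.rep (nat_lit 22) [nat_lit 8] [] [] (Srch.rep (nat_lit 34) [] [] [] (Srch.lf (Leaf.st (nat_lit 2) (nat_lit 0) (nat_lit 14) (Leaf.st (nat_lit 1) (nat_lit 4) (nat_lit 51) (Leaf.st (nat_lit 2) (nat_lit 0) (nat_lit 30) (Leaf.st (nat_lit 1) (nat_lit 64) (nat_lit 63) (Leaf.st (nat_lit 2) (nat_lit 0) (nat_lit 50) (Leaf.cf (nat_lit 61)))))))) (Srch.rep (nat_lit 42) [] [] [] (Srch.lf (Leaf.mp (nat_lit 233) [nat_lit 1,nat_lit 2,nat_lit 4,nat_lit 8,nat_lit 16,nat_lit 32,nat_lit 64] [[nat_lit 3],[nat_lit 212,nat_lit 1],[nat_lit 5]])) Srch.nil)) Srch.nil)))) (Srch.rep (nat_lit 9) [nat_lit 4] [] [] (Srch.rep (nat_lit 2) [nat_lit 8] [] [] (Srch.rep (nat_lit 34) [] [] [] (Srch.lf (Leaf.mp (nat_lit 169) [nat_lit 1,nat_lit 2,nat_lit 4,nat_lit 8,nat_lit 16,nat_lit 32,nat_lit 64] [[nat_lit 3],[nat_lit 1],[nat_lit 5]])) (Srch.rep (nat_lit 42) [] [] [] (Srch.lf (Leaf.st (nat_lit 2) (nat_lit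 0) (nat_lit 30) (Leaf.st (nat_lit 1) (nat_lit 64) (nat_lit 55) (Leaf.st (nat_lit 2) (nat_lit 0) (nat_lit 52) (Leaf.cf (nat_lit 52)))))) Srch.nil)) (Srch.rep (nat_lit 6) [nat_lit 8] [] [] (Srch.rep (nat_lit 38) [] [] [] (Srch.lf (Leaf.mp (nat_lit 188) [nat_lit 1,nat_lit 2,nat_lit 4,nat_lit 8,nat_lit 16,nat_lit 32,nat_lit 64] [[nat_lit 3],[nat_lit 1],[nat_lit 5]])) (Srch.rep (nat_lit 46) [] [] [] (Srch.lf (Leaf.st (nat_lit 2) (nat_lit 0) (nat_lit 28) (Leaf.st (nat_lit 1) (nat_lit 66) (nat_lit 54) (Leaf.st (nat_lit 2) (nat_lit 0) (nat_lit 52) (Leaf.cf (nat_lit 52)))))) Srch.nil)) (Srch.rep (nat_lit 18) [nat_lit 8] [] [] (Srch.rep (nat_lit 38) [] [] [] (Srch.lf (Leaf.st (nat_lit 2) (nat_lit 0) (nat_lit 12) (Leaf.st (nat_lit 2) (nat_lit 0) (nat_lit 28) (Leaf.st (nat_lit 1) (nat_lit 64) (nat_lit 63) (Leaf.st (nat_lit 2) (nat_lit 0) (nat_lit 50) (Leaf.cf (nat_lit 61))))))) (Srch.rep (nat_lit 46) [] [] [] (Srch.lf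 (Leaf.mp (nat_lit 233) [nat_lit 1,nat_lit 2,nat_lit 4,nat_lit 8,nat_lit 16,nat_lit 32,nat_lit 64] [[nat_lit 3],[nat_lit 1],[nat_lit 5]])) Srch.nil)) (Srch.rep (nat_lit 22) [nat_lit 8] [] [] (Srch.rep (nat_lit 34) [] [] [] (Srch.lf (Leaf.st (nat_lit 2) (nat_lit 0) (nat_lit 14) (Leaf.st (nat_lit 1) (nat_lit 4) (nat_lit 51) (Leaf.st (nat_lit 2) (nat_lit 0) (nat_lit 30) (Leaf.st (nat_lit 1) (nat_lit 64) (nat_lit 62) (Leaf.st (nat_lit 2) (nat_lit 0) (nat_lit 50) (Leaf.cf (nat_lit 60)))))))) (Srch.rep (nat_lit 42) [] [] [] (Srch.lf (Leaf.mp (nat_lit 248) [nat_lit 1,nat_lit 2,nat_lit 4,nat_lit 8,nat_lit 16,nat_lit 32,nat_lit 64] [[nat_lit 3],[nat_lit 1],[nat_lit 5]])) Srch.nil)) Srch.nil)))) Srch.nil)) (Srch.rep (nat_lit 8) [nat_lit 2,nat_lit 4] [] [] (Srch.rep (nat_lit 2) [] [] [] Srch.nil (Srch.rep (nat_lit 4) [] [] [] Srch.nil (Srch.rep (nat_lit 6) [] [] [] Srch.nil Srch.nil))) (Srch.rep (nat_lit 18) [nat_lit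 64] [] [] (Srch.rep (nat_lit 24) [nat_lit 2] [] [] (Srch.rep (nat_lit 4) [] [] [] Srch.nil (Srch.rep (nat_lit 6) [] [] [] Srch.nil (Srch.rep (nat_lit 20) [] [] [] Srch.nil (Srch.rep (nat_lit 22) [] [] [] Srch.nil Srch.nil)))) Srch.nil) (Srch.rep (nat_lit 20) [] [] [] (Srch.rep (nat_lit 24) [nat_lit 4] [] [] (Srch.rep (nat_lit 2) [] [] [] Srch.nil (Srch.rep (nat_lit 6) [] [] [] Srch.nil (Srch.rep (nat_lit 18) [] [] [] Srch.nil (Srch.rep (nat_lit 22) [] [] [] Srch.nil Srch.nil)))) (Srch.rep (nat_lit 25) [nat_lit 4] [] [] (Srch.rep (nat_lit 2) [] [] [] Srch.nil (Srch.rep (nat_lit 6) [] [] [] Srch.nil (Srch.rep (nat_lit 18) [] [] [] Srch.nil (Srch.rep (nat_lit 22) [] [] [] Srch.nil Srch.nil)))) Srch.nil)) (Srch.rep (nat_lit 24) [nat_lit 2,nat_lit 4] [] [] (Srch.rep (nat_lit 18) [] [] [] Srch.nil (Srch.rep (nat_lit 20) [] [] [] Srch.nil (Srch.rep (nat_lit 22) [] [] [] Srch.nil Srch.nil))) Srch.nil)))))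
noncomputable def t249 : ℕ := nat_lit 0x40004000400040004200420043004300410041004100410043004300420042004000400040004000420042004300430041004100410041004300430042004200400040004000400042004200430043004100410041004100430043004200420040004000400040004200420043004300410041004100410043004300420042004300430042004200410041004100410042004200430043004000400040004000430043004200420041004100410041004200420043004300400040004000400043004300420042004100410041004100420042004300430040004000400040004300430042004200410041004100410042004200430043004000400040004000200020002000200020002000200020002100210021002100210021002100210021002100210021002100210021002100200020002000200020002000200020002000200020002000200020002000200021002100210021002100210021002100210021002100210021002100210021002000200020002000200020002000200010001000100010001000100010001000100010001000100010001000100010001000100010001000100010001000100010001000100010001000100010001000090009000900090009000900090009000800080008000800080008000800080004000400050005000500050004000400030003000200020001000100000000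
noncomputable def c249 : Node :=
  (Node.st (nat_lit 0) (nat_lit 10) (nat_lit 0) (Node.st (nat_lit 2) (nat_lit 0) (nat_lit 10) (Node.st (nat_lit 0) (nat_lit 14) (nat_lit 0) (Node.st (nat_lit 2) (nat_lit 1) (nat_lit 5) (Node.st (nat_lit 0) (nat_lit 78) (nat_lit 0) (Node.st (nat_lit 2) (nat_lit 2) (nat_lit 2) (Node.st (nat_lit 0) (nat_lit 16) (nat_lit 0) (Node.st (nat_lit 2) (nat_lit 1) (nat_lit 9) (Node.st (nat_lit 0) (nat_lit 85) (nat_lit 0) (Node.sp (nat_lit 1) (Node.lf (Leaf.pt (nat_lit 9) (nat_lit 1) [nat_lit 10])) (Node.sp (nat_lit 26) (Node.lf (Leaf.pt (nat_lit 9) (nat_lit 26) [nat_lit 10])) (Node.st (nat_lit 0) (nat_lit 26) (nat_lit 0) (Node.sp (nat_lit 28) (Node.lf (Leaf.pt (nat_lit 9) (nat_lit 28) [nat_lit 12])) (Node.st (nat_lit 0) (nat_lit 28) (nat_lit 0) (Node.sp (nat_lit 68) (Node.lf (Leaf.pt (nat_lit 9) (nat_lit 68) [nat_lit 10])) (Node.st (nat_lit 0) (nat_lit 68) (nat_lit 0) (Node.sp (nat_lit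 92) (Node.lf (Leaf.pt (nat_lit 9) (nat_lit 92) [nat_lit 10])) (Node.st (nat_lit 0) (nat_lit 92) (nat_lit 0) (Node.fuse (nat_lit 11) (nat_lit 1) (nat_lit 16) [nat_lit 5] [nat_lit 64,nat_lit 32,nat_lit 16,nat_lit 8,nat_lit 4,nat_lit 2,nat_lit 1] [Ins.fr [nat_lit 0],Ins.ts (nat_lit 3) [nat_lit 0] [],Ins.ts (nat_lit 4) [nat_lit 0] [nat_lit 1,nat_lit 0,nat_lit 2],Ins.fr [nat_lit 1],Ins.ts (nat_lit 0) [nat_lit 0,nat_lit 0] [nat_lit 1],Ins.fr [nat_lit 2],Ins.ts (nat_lit 0) [nat_lit 0,nat_lit 0] [nat_lit 2],Ins.ts (nat_lit 2) [nat_lit 0,nat_lit 1] [],Ins.ts (nat_lit 0) [nat_lit 1,nat_lit 0] [nat_lit 0,nat_lit 1],Ins.ts (nat_lit 1) [nat_lit 0,nat_lit 1] [],Ins.ts (nat_lit 1) [nat_lit 0,nat_lit 1,nat_lit 3] [],Ins.ts (nat_lit 1) [nat_lit 0,nat_lit 1,nat_lit 2,nat_lit 3] [],Ins.fr [nat_lit 3],Ins.ts (nat_lit 0) [nat_lit 0,nat_lit 0] [nat_lit 3],Ins.ts (nat_lit 0) [nat_lit 2,nat_lit 0,nat_lit 2] [nat_lit 0],Ins.fr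 [nat_lit 3,nat_lit 4],Ins.ts (nat_lit 0) [nat_lit 0,nat_lit 0] [nat_lit 4],Ins.ts (nat_lit 0) [nat_lit 1,nat_lit 0] [nat_lit 0,nat_lit 1],Ins.ts (nat_lit 0) [nat_lit 3,nat_lit 0,nat_lit 3] [nat_lit 0],Ins.ts (nat_lit 0) [nat_lit 2,nat_lit 0,nat_lit 2] [nat_lit 0],Ins.df [nat_lit 3,nat_lit 5],Ins.df [nat_lit 3,nat_lit 4,nat_lit 5],Ins.df [nat_lit 2,nat_lit 3,nat_lit 6]] [nat_lit 1,nat_lit 2,nat_lit 18,nat_lit 36,nat_lit 4] [nat_lit 7,nat_lit 6,nat_lit 3,nat_lit 2,nat_lit 1,nat_lit 0] [] (Srch.rep (nat_lit 16) [] [nat_lit 64,nat_lit 16,nat_lit 8,nat_lit 4,nat_lit 2,nat_lit 1] [nat_lit 32] (Srch.rep (nat_lit 1) [nat_lit 2,nat_lit 4,nat_lit 64] [] [] c249_0 Srch.nil) Srch.nil))))))))))))))))))))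
theorem ok249 : nodeOK DB PT 249 t249 (nat_lit 0xf00000f0f0f0f0f0fcfc0303fc03fc03) (nat_lit 0x111100000000000000000000111100001111000011110000111100001111000011112200111122000000003300000033111122000000005511112200000000ff) c249 = true := by
  decide +kernel
noncomputable def t250 : ℕ := nat_lit 0x40004000400040004200420043004300410041004100410043004300420042004000400040004000420042004300430041004100410041004300430042004200400040004000400042004200430043004100410041004100430043004200420040004000400040004200420043004300410041004100410043004300420042004300430042004200410041004100410042004200430043004000400040004000430043004200420041004100410041004200420043004300400040004000400043004300420042004100410041004100420042004300430040004000400040004300430042004200410041004100410042004200430043004000400040004000200020002000200020002000200020002100210021002100210021002100210021002100210021002100210021002100200020002000200020002000200020002000200020002000200020002000200021002100210021002100210021002100210021002100210021002100210021002000200020002000200020002000200010001000100010001000100010001000100010001000100010001000100010001000100010001000100010001000100010001000100010001000100010001000090009000900090009000900090009000800080008000800080008000800080004000400050005000500050004000400030003000200020001000100000000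
noncomputable def c250 : Node :=
  (Node.st (nat_lit 0) (nat_lit 10) (nat_lit 0) (Node.st (nat_lit 2) (nat_lit 0) (nat_lit 5) (Node.st (nat_lit 0) (nat_lit 78) (nat_lit 0) (Node.st (nat_lit 2) (nat_lit 1) (nat_lit 10) (Node.st (nat_lit 0) (nat_lit 14) (nat_lit 0) (Node.st (nat_lit 2) (nat_lit 2) (nat_lit 2) (Node.st (nat_lit 0) (nat_lit 16) (nat_lit 0) (Node.st (nat_lit 2) (nat_lit 0) (nat_lit 9) (Node.st (nat_lit 0) (nat_lit 85) (nat_lit 0) (Node.sp (nat_lit 1) (Node.lf (Leaf.pt (nat_lit 9) (nat_lit 1) [nat_lit 10])) (Node.sp (nat_lit 26) (Node.lf (Leaf.pt (nat_lit 9) (nat_lit 26) [nat_lit 10])) (Node.st (nat_lit 0) (nat_lit 26) (nat_lit 0) (Node.sp (nat_lit 28) (Node.lf (Leaf.pt (nat_lit 9) (nat_lit 28) [nat_lit 12])) (Node.st (nat_lit 0) (nat_lit 28) (nat_lit 0) (Node.sp (nat_lit 68) (Node.lf (Leaf.pt (nat_lit 9) (nat_lit 68) [nat_lit 10])) (Node.st (nat_lit 0) (nat_lit 68) (nat_lit 0) (Node.sp (nat_lit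 92) (Node.lf (Leaf.pt (nat_lit 9) (nat_lit 92) [nat_lit 10])) (Node.st (nat_lit 0) (nat_lit 92) (nat_lit 0) (Node.frat (nat_lit 2) (nat_lit 16) (nat_lit 1) [[nat_lit 4,nat_lit 2,nat_lit 1],[]] [nat_lit 64,nat_lit 32,nat_lit 16,nat_lit 8,nat_lit 4,nat_lit 2,nat_lit 1] [((nat_lit 2),(nat_lit 0)),((nat_lit 1),(nat_lit 0)),((nat_lit 0),(nat_lit 3))] [nat_lit 3] [nat_lit 32,nat_lit 16,nat_lit 8,nat_lit 4,nat_lit 2,nat_lit 1] (nat_lit 64) (nat_lit 4) (nat_lit 16) [Ins.ts (nat_lit 4) [nat_lit 0] [nat_lit 16,nat_lit 1,nat_lit 0],Ins.fr [nat_lit 0],Ins.ts (nat_lit 4) [nat_lit 0] [nat_lit 7,nat_lit 2,nat_lit 0],Ins.fr [nat_lit 1],Ins.ts (nat_lit 4) [nat_lit 0] [nat_lit 3,nat_lit 2,nat_lit 0],Ins.fr [nat_lit 2],Ins.ts (nat_lit 1) [nat_lit 0,nat_lit 0] [],Ins.ts (nat_lit 0) [nat_lit 2,nat_lit 0] [nat_lit 0,nat_lit 2],Ins.ts (nat_lit 2) [nat_lit 0,nat_lit 2] [],Ins.ts (nat_lit 0) [nat_lit 1,nat_lit 0] [nat_lit 0,nat_lit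 1],Ins.fr [nat_lit 0,nat_lit 0,nat_lit 3],Ins.ts (nat_lit 0) [nat_lit 0,nat_lit 0] [],Ins.ts (nat_lit 0) [nat_lit 3,nat_lit 0] [nat_lit 0,nat_lit 3],Ins.ts (nat_lit 0) [nat_lit 2,nat_lit 0] [nat_lit 0,nat_lit 2],Ins.df [nat_lit 1,nat_lit 1]] [nat_lit 2,nat_lit 4,nat_lit 8,nat_lit 32] [nat_lit 0,nat_lit 4,nat_lit 3,nat_lit 2,nat_lit 5,nat_lit 1] [] (Srch.rep (nat_lit 16) [nat_lit 2] [nat_lit 16,nat_lit 8,nat_lit 4,nat_lit 2,nat_lit 1] [nat_lit 32] (Srch.rep (nat_lit 6) [nat_lit 6] [] [] (Srch.rep (nat_lit 2) [] [] [] (Srch.rep (nat_lit 8) [nat_lit 8] [] [] (Srch.rep (nat_lit 32) [] [] [] (Srch.lf (Leaf.mp (nat_lit 249) [nat_lit 1,nat_lit 2,nat_lit 4,nat_lit 8,nat_lit 16,nat_lit 32,nat_lit 64] [[nat_lit 1],[nat_lit 3],[nat_lit 7]])) (Srch.rep (nat_lit 40) [] [] [] (Srch.lf (Leaf.mp (nat_lit 249) [nat_lit 1,nat_lit 2,nat_lit 4,nat_lit 8,nat_lit 16,nat_lit 32,nat_lit 64] [[nat_lit 1,nat_lit 1,nat_lit 1,nat_lit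 1],[nat_lit 3],[nat_lit 7]])) Srch.nil)) (Srch.rep (nat_lit 9) [nat_lit 8] [] [] (Srch.rep (nat_lit 32) [] [] [] (Srch.lf (Leaf.mp (nat_lit 249) [nat_lit 1,nat_lit 2,nat_lit 4,nat_lit 8,nat_lit 16,nat_lit 32,nat_lit 64] [[nat_lit 1,nat_lit 1,nat_lit 1,nat_lit 1],[nat_lit 3],[nat_lit 7]])) (Srch.rep (nat_lit 40) [] [] [] (Srch.lf (Leaf.mp (nat_lit 249) [nat_lit 1,nat_lit 2,nat_lit 4,nat_lit 8,nat_lit 16,nat_lit 32,nat_lit 64] [[nat_lit 1,nat_lit 1,nat_lit 1,nat_lit 1],[nat_lit 3],[nat_lit 7]])) Srch.nil)) Srch.nil)) Srch.nil) Srch.nil) Srch.nil))))))))))))))))))))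
theorem ok250 : nodeOK DB PT 250 t250 (nat_lit 0xf00000f0f0f0f0f0fcfc0303fc03fc03) (nat_lit 0x111100000000000000000000111100001111000011110000111100001111000011112200111122000000003300000033111122000000005511112200000000ff) c250 = true := by
  decide +kernel
noncomputable def t251 : ℕ := nat_lit 0x400040004000400040004000400040004300430042004200430043004200420040004000400040004000400040004000430043004200420043004300420042004100410041004100410041004100410042004200430043004200420043004300410041004100410041004100410041004200420043004300420042004300430042004200430043004200420043004300410041004100410041004100410041004200420043004300420042004300430041004100410041004100410041004100430043004200420043004300420042004000400040004000400040004000400043004300420042004300430042004200400040004000400040004000400040002000200020002000200020002000200020002000200020002000200020002000200020002000200020002000200020002000200020002000200020002000200020002000200020002000200020002000200020002000200020002000200020002000200020002000200020002000200020002000200020002000200020002000110011001100110010001000100010001100110011001100100010001000100011001100110011001000100010001000110011001100110010001000100010000a000a000a000a0009000900080008000a000a000a000a00090009000800080007000700060006000400040004000400030003000200020001000100000000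
noncomputable def c251 : Node :=
  (Node.st (nat_lit 0) (nat_lit 16) (nat_lit 0) (Node.st (nat_lit 2) (nat_lit 0) (nat_lit 5) (Node.st (nat_lit 0) (nat_lit 24) (nat_lit 0) (Node.st (nat_lit 2) (nat_lit 1) (nat_lit 10) (Node.st (nat_lit 0) (nat_lit 28) (nat_lit 0) (Node.st (nat_lit 2) (nat_lit 2) (nat_lit 2) (Node.st (nat_lit 0) (nat_lit 32) (nat_lit 0) (Node.st (nat_lit 2) (nat_lit 0) (nat_lit 9) (Node.st (nat_lit 0) (nat_lit 40) (nat_lit 0) (Node.sp (nat_lit 1) (Node.lf (Leaf.pt (nat_lit 9) (nat_lit 1) [nat_lit 16])) (Node.sp (nat_lit 8) (Node.lf (Leaf.pt (nat_lit 9) (nat_lit 8) [nat_lit 16])) (Node.st (nat_lit 0) (nat_lit 8) (nat_lit 0) (Node.sp (nat_lit 48) (Node.lf (Leaf.pt (nat_lit 9) (nat_lit 48) [nat_lit 16])) (Node.st (nat_lit 0) (nat_lit 48) (nat_lit 0) (Node.sp (nat_lit 56) (Node.lf (Leaf.pt (nat_lit 9) (nat_lit 56) [nat_lit 16])) (Node.st (nat_lit 0) (nat_lit 56) (nat_lit 0) (Node.sp (nat_lit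 60) (Node.lf (Leaf.pt (nat_lit 9) (nat_lit 60) [nat_lit 28])) (Node.st (nat_lit 0) (nat_lit 60) (nat_lit 0) (Node.lf (Leaf.mp (nat_lit 250) [nat_lit 1,nat_lit 2,nat_lit 12,nat_lit 18,nat_lit 32,nat_lit 68,nat_lit 4] [[nat_lit 1],[nat_lit 3],[nat_lit 5]]))))))))))))))))))))
theorem ok251 : nodeOK DB PT 251 t251 (nat_lit 0xff300fc000c0f030ff030f03ff030f03) (nat_lit 0x111111110022000000001111330000000000000022000000111100000044000011111111000000220000111100000066111111110000002200001111000000ff) c251 = true := by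
  decide +kernel
noncomputable def t252 : ℕ := nat_lit 0xc400c400f500f50081008100b000b000c500c500f400f400b200b20082008200f500f500c400c400b100b10080008000f400f400c500c50082008200b200b200f500f500c400c400b000b00081008100f400f400c500c50083008300b300b300c400c400f500f50080008000b100b100c500c500f400f400b300b3008300830080008000b000b000f400f400c400c40082008200b300b300c400c400f400f400b100b10081008100c400c400f400f400b300b30082008200f400f400c400c400b000b00080008000c400c400f400f400b200b20083008300f400f400c400c40081008100b100b100f400f400c400c40083008300b200b200c400c400f400f400b200b20083008300f400f400c400c400b000b00080008000c400c400f400f40083008300b200b200c400c400f400f40081008100b100b100f400f400c400c40082008200b300b300c400c400f400f40080008000b000b000f400f400c400c400b300b30082008200f400f400c400c400b100b10081008100c400c400f400f400f400f400c500c50083008300b300b300f500f500c400c400b000b00081008100c500c500f400f400b300b3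0083008300c400c400f500f50080008000b100b100c500c500f400f400b200b20082008200c400c400f500f50081008100b000b000f400f400c500c50082008200b200b200f500f500c400c400b100b10080008000710071007000700041004100400040004200420042004200720072007200720071007100700070004100410040004000420042004200420072007200720072007000700071007100400040004100410043004300430043007300730073007300700070007100710040004000410041004300430043004300730073007300730043004300430043007300730073007300700070007100710040004000410041004300430043004300730073007300730070007000710071004000400041004100420042004200420072007200720072007100710070007000410041004000400042004200420042007200720072007200710071007000700041004100400040002000200020002000200020002000200020002000200020002000200020002000200020002000200020002000200020002000200020002000200020002000200020002000200020002000200020002000200020002000200020002000200020002000200020002000200020002000200020002000200020002000200020002000110011001100110010001000100010001100110011001100100010001000100011001100110011001000100010001000110011001100110010001000100010000a000a000a000a0009000900080008000a000a000a000a00090009000800080007000700060006000400040004000400030003000200020001000100000000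
noncomputable def c252 : Node :=
  (Node.st (nat_lit 0) (nat_lit 16) (nat_lit 0) (Node.st (nat_lit 0) (nat_lit 24) (nat_lit 0) (Node.st (nat_lit 0) (nat_lit 28) (nat_lit 0) (Node.sp (nat_lit 1) (Node.lf (Leaf.pt (nat_lit 9) (nat_lit 1) [nat_lit 16])) (Node.sp (nat_lit 8) (Node.lf (Leaf.pt (nat_lit 9) (nat_lit 8) [nat_lit 16])) (Node.st (nat_lit 0) (nat_lit 8) (nat_lit 0) (Node.sp (nat_lit 48) (Node.lf (Leaf.pt (nat_lit 9) (nat_lit 48) [nat_lit 16])) (Node.st (nat_lit 0) (nat_lit 48) (nat_lit 0) (Node.sp (nat_lit 60) (Node.lf (Leaf.pt (nat_lit 9) (nat_lit 60) [nat_lit 28])) (Node.st (nat_lit 0) (nat_lit 60) (nat_lit 0) (Node.sp (nat_lit 68) (Node.lf (Leaf.pt (nat_lit 9) (nat_lit 68) [nat_lit 30])) (Node.st (nat_lit 0) (nat_lit 68) (nat_lit 0) (Node.sp (nat_lit 70) (Node.lf (Leaf.pt (nat_lit 9) (nat_lit 70) [nat_lit 28])) (Node.st (nat_lit 0) (nat_lit 70) (nat_lit 0) (Node.sp (nat_lit 134) (Node.lf (Leaf.pt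 (nat_lit 12) (nat_lit 134) [nat_lit 10,nat_lit 84])) (Node.st (nat_lit 0) (nat_lit 134) (nat_lit 0) (Node.sp (nat_lit 135) (Node.lf (Leaf.pt (nat_lit 12) (nat_lit 135) [nat_lit 10,nat_lit 84])) (Node.st (nat_lit 0) (nat_lit 135) (nat_lit 0) (Node.sp (nat_lit 142) (Node.lf (Leaf.pt (nat_lit 13) (nat_lit 142) [nat_lit 10])) (Node.st (nat_lit 0) (nat_lit 142) (nat_lit 0) (Node.ext [] (nat_lit 16) [Ins.fr [nat_lit 0],Ins.ts (nat_lit 1) [nat_lit 0,nat_lit 0] [],Ins.ts (nat_lit 1) [nat_lit 0,nat_lit 0,nat_lit 0,nat_lit 0] [],Ins.fr [nat_lit 1],Ins.fr [nat_lit 2],Ins.fr [nat_lit 0,nat_lit 0,nat_lit 3],Ins.fr [nat_lit 2,nat_lit 3,nat_lit 4],Ins.df [nat_lit 2,nat_lit 2],Ins.df [nat_lit 2,nat_lit 2],Ins.df [nat_lit 1,nat_lit 4,nat_lit 6],Ins.df [nat_lit 7,nat_lit 6,nat_lit 8]] [nat_lit 64,nat_lit 66,nat_lit 72,nat_lit 4,nat_lit 128] [nat_lit 3,nat_lit 2,nat_lit 5,nat_lit 1,nat_lit 9,nat_lit 0,nat_lit 8,nat_lit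 4] (Srch.ex0 [nat_lit 64,nat_lit 32,nat_lit 16,nat_lit 8,nat_lit 2,nat_lit 1] (Srch.rep (nat_lit 24) [] [nat_lit 134,nat_lit 32,nat_lit 16,nat_lit 8,nat_lit 1] [nat_lit 4,nat_lit 68,nat_lit 2] Srch.nil (Srch.rep (nat_lit 28) [] [nat_lit 70,nat_lit 32,nat_lit 18,nat_lit 14,nat_lit 1] [nat_lit 128,nat_lit 4,nat_lit 2] Srch.nil (Srch.rep (nat_lit 156) [] [nat_lit 134,nat_lit 68,nat_lit 40,nat_lit 24,nat_lit 1] [nat_lit 8,nat_lit 4,nat_lit 2] Srch.nil Srch.nil)))) Node.done)))))))))))))))))))))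
theorem ok252 : nodeOK DB PT 252 t252 (nat_lit 0xc0c030003000c0cc0c030003000c0c003f003000c000cf0ff030f03ff030f03) (nat_lit 0x1100000011000000001100000000000000110000000000001100000011001100000011000000001100000000000000110000000000001100000011000000000000221111000000000022000000000000220000000000000022001111000011111111000000220000111100000066111111110000002200001111000000ff) c252 = true := by
  decide +kernel
noncomputable def t253 : ℕ := nat_lit 0x7100710070007000410041004000400042004200420042007200720072007200710071007000700041004100400040004200420042004200720072007200720070007000710071004000400041004100430043004300430073007300730073007000700071007100400040004100410043004300430043007300730073007300430043004300430073007300730073007000700071007100400040004100410043004300430043007300730073007300700070007100710040004000410041004200420042004200720072007200720071007100700070004100410040004000420042004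20042007200720072007200710071007000700041004100400040002000200020002000200020002000200020002000200020002000200020002000200020002000200020002000200020002000200020002000200020002000200020002000200020002000200020002000200020002000200020002000200020002000200020002000200020002000200020002000200020002000200020002000110011001100110010001000100010001100110011001100100010001000100011001100110011001000100010001000110011001100110010001000100010000a000a000a000a0009000900080008000a000a000a000a00090009000800080007000700060006000400040004000400030003000200020001000100000000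
noncomputable def c253 : Node :=
  (Node.st (nat_lit 0) (nat_lit 16) (nat_lit 0) (Node.st (nat_lit 0) (nat_lit 24) (nat_lit 0) (Node.st (nat_lit 0) (nat_lit 28) (nat_lit 0) (Node.st (nat_lit 0) (nat_lit 32) (nat_lit 0) (Node.sp (nat_lit 1) (Node.lf (Leaf.pt (nat_lit 9) (nat_lit 1) [nat_lit 16])) (Node.sp (nat_lit 8) (Node.lf (Leaf.pt (nat_lit 9) (nat_lit 8) [nat_lit 16])) (Node.st (nat_lit 0) (nat_lit 8) (nat_lit 0) (Node.sp (nat_lit 48) (Node.lf (Leaf.pt (nat_lit 9) (nat_lit 48) [nat_lit 16])) (Node.st (nat_lit 0) (nat_lit 48) (nat_lit 0) (Node.sp (nat_lit 60) (Node.lf (Leaf.pt (nat_lit 9) (nat_lit 60) [nat_lit 28])) (Node.st (nat_lit 0) (nat_lit 60) (nat_lit 0) (Node.ext [] (nat_lit 16) [Ins.fr [nat_lit 0],Ins.ts (nat_lit 1) [nat_lit 0,nat_lit 0] [],Ins.ts (nat_lit 1) [nat_lit 0,nat_lit 0,nat_lit 0,nat_lit 0] [],Ins.fr [nat_lit 1],Ins.ts (nat_lit 1) [nat_lit 0,nat_lit 0] [],Ins.ts (nat_lit 0) [nat_lit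 1,nat_lit 1] [nat_lit 0,nat_lit 0],Ins.ts (nat_lit 3) [nat_lit 1,nat_lit 0] [],Ins.ts (nat_lit 0) [nat_lit 1,nat_lit 0,nat_lit 1,nat_lit 0] [],Ins.fr [nat_lit 2],Ins.ts (nat_lit 1) [nat_lit 0,nat_lit 0] [],Ins.ts (nat_lit 3) [nat_lit 2,nat_lit 0] [],Ins.ts (nat_lit 0) [nat_lit 0,nat_lit 2,nat_lit 0,nat_lit 2] [],Ins.ts (nat_lit 0) [nat_lit 0,nat_lit 1,nat_lit 0,nat_lit 1] [],Ins.fr [nat_lit 0,nat_lit 0,nat_lit 3],Ins.ts (nat_lit 0) [nat_lit 3,nat_lit 0,nat_lit 0] [nat_lit 2],Ins.ts (nat_lit 0) [nat_lit 3,nat_lit 0,nat_lit 2] [nat_lit 0],Ins.ts (nat_lit 0) [nat_lit 3,nat_lit 2,nat_lit 1] [nat_lit 0,nat_lit 1,nat_lit 0],Ins.df [nat_lit 1,nat_lit 1],Ins.df [nat_lit 1,nat_lit 1],Ins.df [nat_lit 1,nat_lit 3,nat_lit 5],Ins.df [nat_lit 6,nat_lit 5,nat_lit 7]] [nat_lit 64,nat_lit 66,nat_lit 72,nat_lit 4] [nat_lit 3,nat_lit 2,nat_lit 4,nat_lit 1,nat_lit 8,nat_lit 0,nat_lit 7] (Srch.ex0 [nat_lit 64,nat_lit 32,nat_lit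 16,nat_lit 8,nat_lit 2,nat_lit 1] (Srch.rep (nat_lit 24) [] [nat_lit 32,nat_lit 16,nat_lit 8,nat_lit 1] [nat_lit 64,nat_lit 4,nat_lit 2] Srch.nil (Srch.rep (nat_lit 28) [] [nat_lit 70,nat_lit 32,nat_lit 18,nat_lit 14,nat_lit 1] [nat_lit 4,nat_lit 2] Srch.nil (Srch.rep (nat_lit 32) [nat_lit 4,nat_lit 8,nat_lit 16] [nat_lit 32,nat_lit 16,nat_lit 8,nat_lit 4,nat_lit 2,nat_lit 1] [nat_lit 64] (Srch.rep (nat_lit 4) [nat_lit 4] [] [] (Srch.rep (nat_lit 54) [nat_lit 2] [] [] (Srch.rep (nat_lit 12) [nat_lit 32] [] [] (Srch.rep (nat_lit 66) [] [] [] (Srch.fin [nat_lit 4] [] []) Srch.nil) (Srch.rep (nat_lit 14) [nat_lit 32] [] [] (Srch.rep (nat_lit 64) [] [] [] (Srch.fin [nat_lit 64] [nat_lit 0] (((nat_lit 0),(Leaf.mp (nat_lit 252) [nat_lit 1,nat_lit 2,nat_lit 54,nat_lit 58,nat_lit 16,nat_lit 32,nat_lit 64,nat_lit 142] []))::(((nat_lit 1),(Leaf.pt (nat_lit 12) (nat_lit 24) [nat_lit 8,nat_lit 196]))::[]))) Srch.nil)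 Srch.nil)) Srch.nil) (Srch.rep (nat_lit 20) [nat_lit 20] [] [] (Srch.rep (nat_lit 38) [nat_lit 2] [] [] (Srch.rep (nat_lit 44) [nat_lit 32] [] [] (Srch.rep (nat_lit 80) [] [] [] (Srch.fin [nat_lit 64,nat_lit 8] [nat_lit 0] (((nat_lit 84),(Leaf.pt (nat_lit 12) (nat_lit 24) [nat_lit 8,nat_lit 134]))::(((nat_lit 85),(Leaf.sp (nat_lit 116) (Leaf.pt (nat_lit 12) (nat_lit 116) [nat_lit 62,nat_lit 134]) (Leaf.pt (nat_lit 13) (nat_lit 28) [nat_lit 104])))::[]))) Srch.nil) (Srch.rep (nat_lit 46) [nat_lit 32] [] [] (Srch.rep (nat_lit 82) [] [] [] (Srch.fin [nat_lit 4] [] []) Srch.nil) Srch.nil)) Srch.nil) (Srch.rep (nat_lit 36) [nat_lit 4] [] [] (Srch.rep (nat_lit 22) [nat_lit 2] [] [] (Srch.rep (nat_lit 44) [nat_lit 32] [] [] (Srch.rep (nat_lit 82) [] [] [] (Srch.fin [nat_lit 4] [] []) Srch.nil) (Srch.rep (nat_lit 46) [nat_lit 32] [] [] (Srch.rep (nat_lit 80) [] [] [] (Srch.fin [nat_lit 64] [nat_lit 0] (((nat_lit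 0),(Leaf.sp (nat_lit 70) (Leaf.pt (nat_lit 12) (nat_lit 70) [nat_lit 62,nat_lit 138]) (Leaf.pt (nat_lit 13) (nat_lit 28) [nat_lit 70])))::(((nat_lit 1),(Leaf.pt (nat_lit 12) (nat_lit 24) [nat_lit 8,nat_lit 196]))::[]))) Srch.nil) Srch.nil)) Srch.nil) (Srch.rep (nat_lit 52) [nat_lit 20] [] [] (Srch.rep (nat_lit 6) [nat_lit 2] [] [] (Srch.rep (nat_lit 12) [nat_lit 32] [] [] (Srch.rep (nat_lit 64) [] [] [] (Srch.fin [nat_lit 64,nat_lit 8] [nat_lit 0] (((nat_lit 116),(Leaf.mp (nat_lit 252) [nat_lit 1,nat_lit 2,nat_lit 4,nat_lit 8,nat_lit 16,nat_lit 32,nat_lit 64,nat_lit 128] []))::(((nat_lit 117),(Leaf.pt (nat_lit 12) (nat_lit 24) [nat_lit 8,nat_lit 134]))::[]))) Srch.nil) (Srch.rep (nat_lit 14) [nat_lit 32] [] [] (Srch.rep (nat_lit 66) [] [] [] (Srch.fin [nat_lit 4] [] []) Srch.nil) Srch.nil)) Srch.nil) Srch.nil)))) (Srch.rep (nat_lit 68) [] [nat_lit 68,nat_lit 34,nat_lit 18,nat_lit 12,nat_lit 1] [nat_lit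 4,nat_lit 2] Srch.nil (Srch.rep (nat_lit 70) [] [nat_lit 70,nat_lit 34,nat_lit 18,nat_lit 14,nat_lit 1] [nat_lit 4,nat_lit 2] Srch.nil (Srch.rep (nat_lit 74) [] [nat_lit 72,nat_lit 44,nat_lit 16,nat_lit 2,nat_lit 1] [nat_lit 4,nat_lit 12] Srch.nil (Srch.rep (nat_lit 90) [] [nat_lit 68,nat_lit 16,nat_lit 12,nat_lit 2,nat_lit 1] [nat_lit 4,nat_lit 32] Srch.nil Srch.nil)))))))) Node.done))))))))))))
theorem ok253 : nodeOK DB PT 253 t253 (nat_lit 0x3f003000c000cf0ff030f03ff030f03) (nat_lit 0x221111000000000022000000000000220000000000000022001111000011111111000000220000111100000066111111110000002200001111000000ff) c253 = true := by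
  decide +kernel
noncomputable def t254 : ℕ := nat_lit 0x710071007000700041004100400040004200420042004200720072007200720071007100700070004100410040004000420042004200420072007200720072007000700071007100400040004100410043004300430043007300730073007300700070007100710040004000410041004300430043004300730073007300730043004300430043007300730073007300700070007100710040004000410041004300430043004300730073007300730070007000710071004000400041004100420042004200420072007200720072007100710070007000410041004000400042004200420042007200720072007200710071007000700041004100400040002000200020002000200020002000200020002000200020002000200020002000200020002000200020002000200020002000200020002000200020002000200020002000200020002000200020002000200020002000200020002000200020002000200020002000200020002000200020002000200020002000200020002000110011001100110010001000100010001100110011001100100010001000100011001100110011001000100010001000110011001100110010001000100010000a000a000a000a0009000900080008000a000a000a000a00090009000800080007000700060006000400040004000400030003000200020001000100000000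
noncomputable def c254 : Node :=
  (Node.st (nat_lit 0) (nat_lit 16) (nat_lit 0) (Node.st (nat_lit 2) (nat_lit 0) (nat_lit 5) (Node.st (nat_lit 0) (nat_lit 24) (nat_lit 0) (Node.st (nat_lit 2) (nat_lit 0) (nat_lit 9) (Node.st (nat_lit 0) (nat_lit 33) (nat_lit 0) (Node.st (nat_lit 2) (nat_lit 1) (nat_lit 10) (Node.st (nat_lit 0) (nat_lit 28) (nat_lit 0) (Node.sp (nat_lit 1) (Node.lf (Leaf.od (nat_lit 1) [nat_lit 64,nat_lit 32,nat_lit 16,nat_lit 8,nat_lit 4,nat_lit 2,nat_lit 1])) (Node.sp (nat_lit 8) (Node.lf (Leaf.pt (nat_lit 9) (nat_lit 8) [nat_lit 16])) (Node.st (nat_lit 0) (nat_lit 8) (nat_lit 0) (Node.sp (nat_lit 48) (Node.lf (Leaf.pt (nat_lit 9) (nat_lit 48) [nat_lit 16])) (Node.st (nat_lit 0) (nat_lit 48) (nat_lit 0) (Node.sp (nat_lit 60) (Node.lf (Leaf.pt (nat_lit 9) (nat_lit 60) [nat_lit 28])) (Node.st (nat_lit 0) (nat_lit 60) (nat_lit 0) (Node.lf (Leaf.mp (nat_lit 253) [nat_lit 1,nat_lit 2,nat_lit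 4,nat_lit 8,nat_lit 16,nat_lit 32,nat_lit 64] []))))))))))))))))
theorem ok254 : nodeOK DB PT 254 t254 (nat_lit 0x3f003000c000cf0ff030f03ff030f03) (nat_lit 0x221111000000000022000000000000220000000000000022001111000011111111000000220000111100000066111111110000002200001111000000ff) c254 = true := by
  decide +kernel
noncomputable def t255 : ℕ := nat_lit 0x2000200020002000200020002000200020002000200020002000200020002000200020002000200020002000200020002000200020002000200020002000200020002000200020002000200020002000200020002000200020002000200020002000200020002000200020002000200020002000200020002000200020002000110011001100110010001000100010001100110011001100100010001000100011001100110011001000100010001000110011001100110010001000100010000a000a000a000a0009000900080008000a000a000a000a00090009000800080007000700060006000400040004000400030003000200020001000100000000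
noncomputable def c255 : Node :=
  (Node.st (nat_lit 0) (nat_lit 16) (nat_lit 0) (Node.st (nat_lit 0) (nat_lit 48) (nat_lit 0) (Node.st (nat_lit 2) (nat_lit 0) (nat_lit 1) (Node.st (nat_lit 0) (nat_lit 8) (nat_lit 0) (Node.st (nat_lit 2) (nat_lit 0) (nat_lit 5) (Node.st (nat_lit 0) (nat_lit 24) (nat_lit 0) (Node.st (nat_lit 2) (nat_lit 0) (nat_lit 13) (Node.st (nat_lit 0) (nat_lit 56) (nat_lit 0) (Node.st (nat_lit 2) (nat_lit 1) (nat_lit 10) (Node.st (nat_lit 0) (nat_lit 28) (nat_lit 0) (Node.st (nat_lit 2) (nat_lit 1) (nat_lit 26) (Node.st (nat_lit 0) (nat_lit 60) (nat_lit 0) (Node.st (nat_lit 2) (nat_lit 2) (nat_lit 2) (Node.st (nat_lit 2) (nat_lit 2) (nat_lit 3) (Node.st (nat_lit 2) (nat_lit 0) (nat_lit 9) (Node.st (nat_lit 0) (nat_lit 40) (nat_lit 0) (Node.ext [] (nat_lit 32) [Ins.fr [nat_lit 0],Ins.ts (nat_lit 1) [nat_lit 0,nat_lit 0] [],Ins.ts (nat_lit 1) [nat_lit 0,nat_lit 0,nat_lit 0,nat_lit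 0] [],Ins.fr [nat_lit 1],Ins.ts (nat_lit 1) [nat_lit 0,nat_lit 0] [],Ins.ts (nat_lit 0) [nat_lit 0,nat_lit 1,nat_lit 1,nat_lit 0] [],Ins.ts (nat_lit 0) [nat_lit 1,nat_lit 1,nat_lit 1] [nat_lit 0,nat_lit 1,nat_lit 0],Ins.ts (nat_lit 2) [nat_lit 0,nat_lit 0,nat_lit 1,nat_lit 0] [],Ins.fr [nat_lit 2],Ins.ts (nat_lit 1) [nat_lit 0,nat_lit 0] [],Ins.ts (nat_lit 3) [nat_lit 2,nat_lit 0] [],Ins.ts (nat_lit 0) [nat_lit 0,nat_lit 2,nat_lit 0,nat_lit 2] [],Ins.ts (nat_lit 0) [nat_lit 0,nat_lit 0,nat_lit 0,nat_lit 0] [],Ins.ts (nat_lit 2) [nat_lit 1,nat_lit 0,nat_lit 2] [],Ins.df [nat_lit 0,nat_lit 0],Ins.df [nat_lit 3,nat_lit 3],Ins.df [nat_lit 0,nat_lit 2,nat_lit 4],Ins.df [nat_lit 1,nat_lit 5,nat_lit 4]] [nat_lit 4,nat_lit 20,nat_lit 12] [nat_lit 3,nat_lit 2,nat_lit 6,nat_lit 1,nat_lit 0,nat_lit 7] (Srch.ex0 [nat_lit 32,nat_lit 16,nat_lit 8,nat_lit 4,nat_lit 2,nat_lit 1] (Srch.rep (nat_lit 16) [] [nat_lit 32,nat_lit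 16,nat_lit 8,nat_lit 2,nat_lit 1] [nat_lit 4] Srch.nil (Srch.rep (nat_lit 24) [] [nat_lit 32,nat_lit 16,nat_lit 8,nat_lit 1] [nat_lit 4,nat_lit 2] Srch.nil (Srch.rep (nat_lit 28) [] [nat_lit 32,nat_lit 18,nat_lit 14,nat_lit 1] [nat_lit 4,nat_lit 2] Srch.nil (Srch.rep (nat_lit 33) [nat_lit 4,nat_lit 8,nat_lit 16] [nat_lit 32,nat_lit 16,nat_lit 8,nat_lit 4,nat_lit 2,nat_lit 1] [] (Srch.rep (nat_lit 4) [nat_lit 4] [] [] (Srch.rep (nat_lit 20) [nat_lit 2] [] [] (Srch.rep (nat_lit 12) [] [] [] (Srch.fin [nat_lit 4,nat_lit 8] [nat_lit 0,nat_lit 32] (((nat_lit 0),(Leaf.pt (nat_lit 4) (nat_lit 16) [nat_lit 8,nat_lit 2,nat_lit 32,nat_lit 96]))::[])) (Srch.rep (nat_lit 14) [] [] [] (Srch.fin [nat_lit 8,nat_lit 4] [nat_lit 0,nat_lit 32] (((nat_lit 2),(Leaf.mp (nat_lit 251) [nat_lit 1,nat_lit 2,nat_lit 4,nat_lit 8,nat_lit 16,nat_lit 32,nat_lit 64] [[nat_lit 1],[nat_lit 3],[nat_lit 5]]))::[])) Srch.nil)) Srch.nil)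 (Srch.rep (nat_lit 20) [nat_lit 20] [] [] (Srch.rep (nat_lit 4) [] [] [] Srch.nil Srch.nil) (Srch.rep (nat_lit 36) [nat_lit 4] [] [] (Srch.rep (nat_lit 52) [] [] [] Srch.nil Srch.nil) (Srch.rep (nat_lit 52) [nat_lit 20] [] [] (Srch.rep (nat_lit 36) [nat_lit 2] [] [] (Srch.rep (nat_lit 12) [] [] [] (Srch.fin [nat_lit 4,nat_lit 8] [nat_lit 0,nat_lit 32] (((nat_lit 50),(Leaf.pt (nat_lit 3) (nat_lit 16) [nat_lit 64,nat_lit 8]))::[])) (Srch.rep (nat_lit 14) [] [] [] (Srch.fin [nat_lit 4,nat_lit 8] [nat_lit 0,nat_lit 32] (((nat_lit 50),(Leaf.mp (nat_lit 254) [nat_lit 1,nat_lit 2,nat_lit 4,nat_lit 8,nat_lit 16,nat_lit 32,nat_lit 64] [[nat_lit 1],[nat_lit 3],[nat_lit 5]]))::[])) Srch.nil)) Srch.nil) Srch.nil)))) (Srch.rep (nat_lit 40) [] [nat_lit 32,nat_lit 16,nat_lit 8,nat_lit 1] [nat_lit 4,nat_lit 2] Srch.nil Srch.nil)))))) Node.done)))))))))))))))))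
theorem ok255 : nodeOK DB PT 255 t255 (nat_lit 0xff030f03ff030f03) (nat_lit 0x111111110000002200001111000000ff111111110000002200001111000000ff) c255 = true := by
  decide +kernel
noncomputable def c256_0 : Node :=
  Node.est (nat_lit 23) (nat_lit 32) [nat_lit 32,nat_lit 16,nat_lit 8,nat_lit 4,nat_lit 2,nat_lit 1] (Srch.rep (nat_lit 32) [nat_lit 2,nat_lit 4,nat_lit 8,nat_lit 16] [nat_lit 32,nat_lit 16,nat_lit 8,nat_lit 4,nat_lit 2,nat_lit 1] [] (Srch.rep (nat_lit 1) [] [] [] Srch.nil (Srch.rep (nat_lit 8) [] [] [] Srch.nil (Srch.rep (nat_lit 48) [nat_lit 8] [] [] (Srch.rep (nat_lit 2) [] [] [] Srch.nil (Srch.rep (nat_lit 18) [] [] [] Srch.nil (Srch.rep (nat_lit 34) [] [] [] Srch.nil (Srch.rep (nat_lit 50) [] [] [] Srch.nil Srch.nil)))) (Srch.rep (nat_lit 56) [] [] [] Srch.nil (Srch.rep (nat_lit 60) [] [] [] (Srch.rep (nat_lit 14) [] [] [] Srch.nil (Srch.rep (nat_lit 15) [] [] [] Srch.nil (Srch.rep (nat_lit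 18) [] [] [] Srch.nil (Srch.rep (nat_lit 19) [] [] [] Srch.nil (Srch.rep (nat_lit 46) [] [] [] Srch.nil (Srch.rep (nat_lit 47) [] [] [] Srch.nil (Srch.rep (nat_lit 50) [] [] [] Srch.nil (Srch.rep (nat_lit 51) [] [] [] Srch.nil Srch.nil)))))))) Srch.nil))))) Srch.nil) (Node.est (nat_lit 26) (nat_lit 32) [nat_lit 32,nat_lit 16,nat_lit 8,nat_lit 4,nat_lit 2,nat_lit 1] (Srch.rep (nat_lit 32) [nat_lit 2,nat_lit 4,nat_lit 8,nat_lit 16] [nat_lit 32,nat_lit 16,nat_lit 8,nat_lit 4,nat_lit 2,nat_lit 1] [] (Srch.rep (nat_lit 1) [nat_lit 2,nat_lit 4,nat_lit 8,nat_lit 16] [] [] (Srch.rep (nat_lit 8) [] [] [] (Srch.rep (nat_lit 48) [] [] [] Srch.nil (Srch.rep (nat_lit 49) [] [] [] Srch.nil (Srch.rep (nat_lit 56) [] [] [] Srch.nil (Srch.rep (nat_lit 57) [] [] [] Srch.nil Srch.nil)))) (Srch.rep (nat_lit 48) [nat_lit 2,nat_lit 8] [] [] (Srch.rep (nat_lit 8) [] [] [] Srch.nil (Srch.rep (nat_lit 10) [] [] [] Srch.nil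 (Srch.rep (nat_lit 56) [] [] [] Srch.nil (Srch.rep (nat_lit 58) [] [] [] Srch.nil Srch.nil)))) (Srch.rep (nat_lit 56) [] [] [] (Srch.rep (nat_lit 8) [] [] [] Srch.nil (Srch.rep (nat_lit 9) [] [] [] Srch.nil (Srch.rep (nat_lit 48) [] [] [] Srch.nil (Srch.rep (nat_lit 49) [] [] [] Srch.nil Srch.nil)))) (Srch.rep (nat_lit 60) [] [] [] Srch.nil Srch.nil)))) (Srch.rep (nat_lit 8) [] [] [] (Srch.rep (nat_lit 1) [] [] [] (Srch.rep (nat_lit 48) [] [] [] Srch.nil (Srch.rep (nat_lit 49) [] [] [] Srch.nil (Srch.rep (nat_lit 56) [] [] [] Srch.nil (Srch.rep (nat_lit 57) [] [] [] Srch.nil Srch.nil)))) (Srch.rep (nat_lit 9) [] [] [] (Srch.rep (nat_lit 48) [] [] [] Srch.nil (Srch.rep (nat_lit 49) [] [] [] Srch.nil (Srch.rep (nat_lit 56) [] [] [] Srch.nil (Srch.rep (nat_lit 57) [] [] [] Srch.nil Srch.nil)))) (Srch.rep (nat_lit 48) [] [] [] (Srch.rep (nat_lit 1) [] [] [] Srch.nil (Srch.rep (nat_lit 9) [] [] [] Srch.nil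 (Srch.rep (nat_lit 49) [] [] [] Srch.nil (Srch.rep (nat_lit 57) [] [] [] Srch.nil Srch.nil)))) (Srch.rep (nat_lit 49) [] [] [] (Srch.rep (nat_lit 1) [] [] [] Srch.nil (Srch.rep (nat_lit 9) [] [] [] Srch.nil (Srch.rep (nat_lit 48) [] [] [] Srch.nil (Srch.rep (nat_lit 56) [] [] [] Srch.nil Srch.nil)))) (Srch.rep (nat_lit 56) [] [] [] (Srch.rep (nat_lit 1) [] [] [] Srch.nil (Srch.rep (nat_lit 9) [] [] [] Srch.nil (Srch.rep (nat_lit 49) [] [] [] Srch.nil (Srch.rep (nat_lit 57) [] [] [] Srch.nil Srch.nil)))) (Srch.rep (nat_lit 57) [] [] [] (Srch.rep (nat_lit 1) [] [] [] Srch.nil (Srch.rep (nat_lit 9) [] [] [] Srch.nil (Srch.rep (nat_lit 48) [] [] [] Srch.nil (Srch.rep (nat_lit 56) [] [] [] Srch.nil Srch.nil)))) Srch.nil)))))) (Srch.rep (nat_lit 48) [nat_lit 2,nat_lit 8] [] [] (Srch.rep (nat_lit 1) [nat_lit 2,nat_lit 8] [] [] (Srch.rep (nat_lit 8) [] [] [] Srch.nil (Srch.rep (nat_lit 10) [] [] [] Srch.nil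 (Srch.rep (nat_lit 56) [] [] [] Srch.nil (Srch.rep (nat_lit 58) [] [] [] Srch.nil Srch.nil)))) (Srch.rep (nat_lit 8) [] [] [] (Srch.rep (nat_lit 1) [] [] [] Srch.nil (Srch.rep (nat_lit 9) [] [] [] Srch.nil (Srch.rep (nat_lit 49) [] [] [] Srch.nil (Srch.rep (nat_lit 57) [] [] [] Srch.nil Srch.nil)))) (Srch.rep (nat_lit 10) [] [] [] (Srch.rep (nat_lit 1) [] [] [] Srch.nil (Srch.rep (nat_lit 11) [] [] [] Srch.nil (Srch.rep (nat_lit 49) [] [] [] Srch.nil (Srch.rep (nat_lit 59) [] [] [] Srch.nil Srch.nil)))) (Srch.rep (nat_lit 49) [nat_lit 2,nat_lit 8] [] [] (Srch.rep (nat_lit 8) [] [] [] Srch.nil (Srch.rep (nat_lit 10) [] [] [] Srch.nil (Srch.rep (nat_lit 56) [] [] [] Srch.nil (Srch.rep (nat_lit 58) [] [] [] Srch.nil Srch.nil)))) (Srch.rep (nat_lit 56) [] [] [] (Srch.rep (nat_lit 1) [] [] [] Srch.nil (Srch.rep (nat_lit 9) [] [] [] Srch.nil (Srch.rep (nat_lit 49) [] [] [] Srch.nil (Srch.rep (nat_lit 57)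 [] [] [] Srch.nil Srch.nil)))) (Srch.rep (nat_lit 58) [] [] [] (Srch.rep (nat_lit 1) [] [] [] Srch.nil (Srch.rep (nat_lit 11) [] [] [] Srch.nil (Srch.rep (nat_lit 49) [] [] [] Srch.nil (Srch.rep (nat_lit 59) [] [] [] Srch.nil Srch.nil)))) Srch.nil)))))) (Srch.rep (nat_lit 56) [] [] [] (Srch.rep (nat_lit 1) [] [] [] (Srch.rep (nat_lit 8) [] [] [] Srch.nil (Srch.rep (nat_lit 9) [] [] [] Srch.nil (Srch.rep (nat_lit 48) [] [] [] Srch.nil (Srch.rep (nat_lit 49) [] [] [] Srch.nil Srch.nil)))) (Srch.rep (nat_lit 8) [] [] [] (Srch.rep (nat_lit 1) [] [] [] Srch.nil (Srch.rep (nat_lit 9) [] [] [] Srch.nil (Srch.rep (nat_lit 49) [] [] [] Srch.nil (Srch.rep (nat_lit 57) [] [] [] Srch.nil Srch.nil)))) (Srch.rep (nat_lit 9) [] [] [] (Srch.rep (nat_lit 1) [] [] [] Srch.nil (Srch.rep (nat_lit 8) [] [] [] Srch.nil (Srch.rep (nat_lit 48) [] [] [] Srch.nil (Srch.rep (nat_lit 57) [] [] [] Srch.nil Srch.nil)))) (Srch.rep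 (nat_lit 48) [] [] [] (Srch.rep (nat_lit 1) [] [] [] Srch.nil (Srch.rep (nat_lit 9) [] [] [] Srch.nil (Srch.rep (nat_lit 49) [] [] [] Srch.nil (Srch.rep (nat_lit 57) [] [] [] Srch.nil Srch.nil)))) (Srch.rep (nat_lit 49) [] [] [] (Srch.rep (nat_lit 1) [] [] [] Srch.nil (Srch.rep (nat_lit 8) [] [] [] Srch.nil (Srch.rep (nat_lit 48) [] [] [] Srch.nil (Srch.rep (nat_lit 57) [] [] [] Srch.nil Srch.nil)))) (Srch.rep (nat_lit 57) [] [] [] (Srch.rep (nat_lit 8) [] [] [] Srch.nil (Srch.rep (nat_lit 9) [] [] [] Srch.nil (Srch.rep (nat_lit 48) [] [] [] Srch.nil (Srch.rep (nat_lit 49) [] [] [] Srch.nil Srch.nil)))) Srch.nil)))))) (Srch.rep (nat_lit 60) [] [] [] (Srch.rep (nat_lit 1) [] [] [] Srch.nil (Srch.rep (nat_lit 61) [] [] [] Srch.nil Srch.nil)) Srch.nil))))) Srch.nil) (Node.lf (Leaf.mp (nat_lit 255) [nat_lit 1,nat_lit 2,nat_lit 4,nat_lit 8,nat_lit 16,nat_lit 32] [[nat_lit 1],[nat_lit 3],[nat_lit 5]])))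
noncomputable def t256 : ℕ := nat_lit 0x2000200020002000200020002000200020002000200020002000200020002000200020002000200020002000200020002000200020002000200020002000200020002000200020002000200020002000200020002000200020002000200020002000200020002000200020002000200020002000200020002000200020002000110011001100110010001000100010001100110011001100100010001000100011001100110011001000100010001000110011001100110010001000100010000a000a000a000a0009000900080008000a000a000a000a00090009000800080007000700060006000400040004000400030003000200020001000100000000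
noncomputable def c256 : Node :=
  (Node.st (nat_lit 0) (nat_lit 16) (nat_lit 0) (Node.st (nat_lit 0) (nat_lit 48) (nat_lit 0) (Node.st (nat_lit 2) (nat_lit 0) (nat_lit 1) (Node.st (nat_lit 0) (nat_lit 8) (nat_lit 0) (Node.st (nat_lit 2) (nat_lit 0) (nat_lit 5) (Node.st (nat_lit 0) (nat_lit 24) (nat_lit 0) (Node.st (nat_lit 2) (nat_lit 0) (nat_lit 13) (Node.st (nat_lit 0) (nat_lit 56) (nat_lit 0) (Node.st (nat_lit 2) (nat_lit 1) (nat_lit 10) (Node.st (nat_lit 0) (nat_lit 28) (nat_lit 0) (Node.st (nat_lit 2) (nat_lit 1) (nat_lit 26) (Node.st (nat_lit 0) (nat_lit 60) (nat_lit 0) (Node.st (nat_lit 2) (nat_lit 2) (nat_lit 2) (Node.st (nat_lit 2) (nat_lit 2) (nat_lit 3) (Node.st (nat_lit 2) (nat_lit 0) (nat_lit 9) (Node.st (nat_lit 0) (nat_lit 40) (nat_lit 0) (Node.est (nat_lit 3) (nat_lit 32) [nat_lit 32,nat_lit 16,nat_lit 8,nat_lit 4,nat_lit 2,nat_lit 1] (Srch.rep (nat_lit 32) [nat_lit 4,nat_lit 8,nat_lit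 16] [nat_lit 32,nat_lit 16,nat_lit 8,nat_lit 4,nat_lit 2,nat_lit 1] [] (Srch.rep (nat_lit 4) [] [] [] Srch.nil (Srch.rep (nat_lit 20) [] [] [] Srch.nil (Srch.rep (nat_lit 36) [] [] [] Srch.nil (Srch.rep (nat_lit 52) [] [] [] Srch.nil Srch.nil)))) Srch.nil) (Node.est (nat_lit 4) (nat_lit 32) [nat_lit 32,nat_lit 16,nat_lit 8,nat_lit 4,nat_lit 2,nat_lit 1] (Srch.rep (nat_lit 32) [nat_lit 2,nat_lit 4,nat_lit 8,nat_lit 16] [nat_lit 32,nat_lit 16,nat_lit 8,nat_lit 4,nat_lit 2,nat_lit 1] [] (Srch.rep (nat_lit 1) [] [] [] Srch.nil (Srch.rep (nat_lit 8) [nat_lit 8] [] [] (Srch.rep (nat_lit 2) [] [] [] (Srch.rep (nat_lit 16) [] [] [] Srch.nil (Srch.rep (nat_lit 17) [] [] [] Srch.nil Srch.nil)) (Srch.rep (nat_lit 50) [] [] [] (Srch.rep (nat_lit 16) [] [] [] Srch.nil (Srch.rep (nat_lit 17) [] [] [] Srch.nil Srch.nil)) Srch.nil)) (Srch.rep (nat_lit 48) [nat_lit 2,nat_lit 8] [] [] (Srch.rep (nat_lit 12) [] [] []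 Srch.nil Srch.nil) (Srch.rep (nat_lit 56) [nat_lit 8] [] [] (Srch.rep (nat_lit 2) [] [] [] (Srch.rep (nat_lit 16) [] [] [] Srch.nil (Srch.rep (nat_lit 17) [] [] [] Srch.nil Srch.nil)) (Srch.rep (nat_lit 50) [] [] [] (Srch.rep (nat_lit 16) [] [] [] Srch.nil (Srch.rep (nat_lit 17) [] [] [] Srch.nil Srch.nil)) Srch.nil)) (Srch.rep (nat_lit 60) [nat_lit 14] [] [] (Srch.rep (nat_lit 2) [] [] [] Srch.nil (Srch.rep (nat_lit 12) [] [] [] Srch.nil Srch.nil)) Srch.nil))))) Srch.nil) (Node.est (nat_lit 9) (nat_lit 32) [nat_lit 32,nat_lit 16,nat_lit 8,nat_lit 4,nat_lit 2,nat_lit 1] (Srch.rep (nat_lit 32) [] [nat_lit 32,nat_lit 16,nat_lit 8,nat_lit 4,nat_lit 2,nat_lit 1] [] Srch.nil Srch.nil) (Node.est (nat_lit 12) (nat_lit 32) [nat_lit 32,nat_lit 16,nat_lit 8,nat_lit 4,nat_lit 2,nat_lit 1] (Srch.rep (nat_lit 32) [nat_lit 2,nat_lit 4,nat_lit 8,nat_lit 16] [nat_lit 32,nat_lit 16,nat_lit 8,nat_lit 4,nat_lit 2,nat_lit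 1] [] (Srch.rep (nat_lit 1) [] [] [] Srch.nil (Srch.rep (nat_lit 8) [] [] [] Srch.nil (Srch.rep (nat_lit 48) [] [] [] Srch.nil (Srch.rep (nat_lit 56) [] [] [] Srch.nil (Srch.rep (nat_lit 60) [] [] [] Srch.nil Srch.nil))))) Srch.nil) (Node.est (nat_lit 13) (nat_lit 32) [nat_lit 32,nat_lit 16,nat_lit 8,nat_lit 4,nat_lit 2,nat_lit 1] (Srch.rep (nat_lit 32) [] [nat_lit 32,nat_lit 16,nat_lit 8,nat_lit 4,nat_lit 2,nat_lit 1] [] Srch.nil Srch.nil) (Node.est (nat_lit 17) (nat_lit 32) [nat_lit 32,nat_lit 16,nat_lit 8,nat_lit 4,nat_lit 2,nat_lit 1] (Srch.rep (nat_lit 32) [nat_lit 4,nat_lit 8,nat_lit 16] [nat_lit 32,nat_lit 16,nat_lit 8,nat_lit 4,nat_lit 2,nat_lit 1] [] (Srch.rep (nat_lit 4) [] [] [] Srch.nil (Srch.rep (nat_lit 20) [] [] [] Srch.nil (Srch.rep (nat_lit 36) [] [] [] Srch.nil (Srch.rep (nat_lit 52) [] [] [] Srch.nil Srch.nil)))) Srch.nil) (Node.est (nat_lit 18) (nat_lit 32) [nat_lit 32,nat_lit 16,nat_lit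 8,nat_lit 4,nat_lit 2,nat_lit 1] (Srch.rep (nat_lit 32) [nat_lit 4,nat_lit 8,nat_lit 16] [nat_lit 32,nat_lit 16,nat_lit 8,nat_lit 4,nat_lit 2,nat_lit 1] [] (Srch.rep (nat_lit 4) [] [] [] Srch.nil (Srch.rep (nat_lit 20) [] [] [] Srch.nil (Srch.rep (nat_lit 36) [] [] [] Srch.nil (Srch.rep (nat_lit 52) [] [] [] Srch.nil Srch.nil)))) Srch.nil) (Node.est (nat_lit 19) (nat_lit 32) [nat_lit 32,nat_lit 16,nat_lit 8,nat_lit 4,nat_lit 2,nat_lit 1] (Srch.rep (nat_lit 32) [nat_lit 2,nat_lit 4,nat_lit 8] [nat_lit 32,nat_lit 16,nat_lit 8,nat_lit 4,nat_lit 2,nat_lit 1] [] (Srch.rep (nat_lit 2) [] [] [] Srch.nil (Srch.rep (nat_lit 12) [] [] [] Srch.nil (Srch.rep (nat_lit 18) [] [] [] Srch.nil (Srch.rep (nat_lit 34) [] [] [] Srch.nil (Srch.rep (nat_lit 44) [] [] [] Srch.nil (Srch.rep (nat_lit 50) [] [] [] Srch.nil Srch.nil)))))) Srch.nil) (Node.est (nat_lit 22) (nat_lit 32) [nat_lit 32,nat_lit 16,nat_lit 8,nat_lit 4,nat_lit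 2,nat_lit 1] (Srch.rep (nat_lit 32) [nat_lit 2,nat_lit 4,nat_lit 8,nat_lit 16] [nat_lit 32,nat_lit 16,nat_lit 8,nat_lit 4,nat_lit 2,nat_lit 1] [] (Srch.rep (nat_lit 1) [] [] [] Srch.nil (Srch.rep (nat_lit 8) [] [] [] Srch.nil (Srch.rep (nat_lit 48) [nat_lit 8] [] [] (Srch.rep (nat_lit 2) [] [] [] Srch.nil (Srch.rep (nat_lit 18) [] [] [] Srch.nil (Srch.rep (nat_lit 34) [] [] [] Srch.nil (Srch.rep (nat_lit 50) [] [] [] Srch.nil Srch.nil)))) (Srch.rep (nat_lit 56) [] [] [] Srch.nil (Srch.rep (nat_lit 60) [] [] [] (Srch.rep (nat_lit 14) [] [] [] Srch.nil (Srch.rep (nat_lit 15) [] [] [] Srch.nil (Srch.rep (nat_lit 18) [] [] [] Srch.nil (Srch.rep (nat_lit 19) [] [] [] Srch.nil (Srch.rep (nat_lit 46) [] [] [] Srch.nil (Srch.rep (nat_lit 47) [] [] [] Srch.nil (Srch.rep (nat_lit 50) [] [] [] Srch.nil (Srch.rep (nat_lit 51) [] [] [] Srch.nil Srch.nil)))))))) Srch.nil))))) Srch.nil) c256_0)))))))))))))))))))))))))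
theorem ok256 : nodeOK DB PT 256 t256 (nat_lit 0xff030f03ff030f03) (nat_lit 0x111111110000002200001111000000ff111111110000002200001111000000ff) c256 = true := by
  decide +kernel
noncomputable def t257 : ℕ := nat_lit 0x2000200020002000200020002000200020002000200020002000200020002000200020002000200020002000200020002000200020002000200020002000200020002000200020002000200020002000200020002000200020002000200020002000200020002000200020002000200020002000200020002000200020002000110011001100110010001000100010001100110011001100100010001000100011001100110011001000100010001000110011001100110010001000100010000a000a000a000a0009000900080008000a000a000a000a00090009000800080007000700060006000400040004000400030003000200020001000100000000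
noncomputable def c257 : Node :=
  (Node.sp (nat_lit 33) (Node.sp (nat_lit 1) (Node.ext [] (nat_lit 1) [Ins.fr [nat_lit 0],Ins.ts (nat_lit 1) [nat_lit 0,nat_lit 0] [],Ins.ts (nat_lit 0) [nat_lit 0,nat_lit 0,nat_lit 0,nat_lit 0] [nat_lit 1],Ins.fr [nat_lit 1],Ins.fr [nat_lit 2],Ins.fr [nat_lit 3],Ins.df [nat_lit 1,nat_lit 1],Ins.df [nat_lit 0,nat_lit 1,nat_lit 4],Ins.df [nat_lit 1,nat_lit 5,nat_lit 4],Ins.df [nat_lit 0,nat_lit 2,nat_lit 4,nat_lit 5]] [nat_lit 4,nat_lit 20,nat_lit 36,nat_lit 12] [nat_lit 8,nat_lit 3,nat_lit 7,nat_lit 2,nat_lit 1,nat_lit 0] (Srch.ex0 [nat_lit 32,nat_lit 16,nat_lit 8,nat_lit 4,nat_lit 2,nat_lit 1] (Srch.rep (nat_lit 8) [] [nat_lit 32,nat_lit 16,nat_lit 8,nat_lit 1] [nat_lit 4,nat_lit 2] Srch.nil (Srch.rep (nat_lit 16) [] [nat_lit 32,nat_lit 16,nat_lit 8,nat_lit 2,nat_lit 1] [nat_lit 4] Srch.nil (Srch.rep (nat_lit 24) [] [nat_lit 32,nat_lit 16,nat_lit 8,nat_lit 1] [nat_lit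 4,nat_lit 2] Srch.nil (Srch.rep (nat_lit 28) [] [nat_lit 32,nat_lit 18,nat_lit 14,nat_lit 1] [nat_lit 4,nat_lit 2] Srch.nil (Srch.rep (nat_lit 32) [] [nat_lit 32,nat_lit 16,nat_lit 8,nat_lit 4,nat_lit 2,nat_lit 1] [] Srch.nil (Srch.rep (nat_lit 33) [] [nat_lit 32,nat_lit 16,nat_lit 8,nat_lit 4,nat_lit 2,nat_lit 1] [] Srch.nil (Srch.rep (nat_lit 40) [] [nat_lit 32,nat_lit 16,nat_lit 8,nat_lit 1] [nat_lit 4,nat_lit 2] Srch.nil (Srch.rep (nat_lit 48) [] [nat_lit 32,nat_lit 16,nat_lit 8,nat_lit 2,nat_lit 1] [nat_lit 4] Srch.nil (Srch.rep (nat_lit 56) [] [nat_lit 32,nat_lit 16,nat_lit 8,nat_lit 1] [nat_lit 4,nat_lit 2] Srch.nil (Srch.rep (nat_lit 60) [] [nat_lit 32,nat_lit 18,nat_lit 14,nat_lit 1] [nat_lit 4,nat_lit 2] Srch.nil Srch.nil))))))))))) Node.done) (Node.sp (nat_lit 48) (Node.st (nat_lit 0) (nat_lit 16) (nat_lit 0) (Node.st (nat_lit 0) (nat_lit 48) (nat_lit 0) (Node.st (nat_lit 2) (nat_lit 0) (nat_lit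 1) (Node.st (nat_lit 0) (nat_lit 8) (nat_lit 0) (Node.st (nat_lit 2) (nat_lit 0) (nat_lit 5) (Node.st (nat_lit 0) (nat_lit 24) (nat_lit 0) (Node.st (nat_lit 2) (nat_lit 0) (nat_lit 9) (Node.st (nat_lit 0) (nat_lit 40) (nat_lit 0) (Node.st (nat_lit 2) (nat_lit 0) (nat_lit 13) (Node.st (nat_lit 0) (nat_lit 56) (nat_lit 0) (Node.st (nat_lit 2) (nat_lit 1) (nat_lit 10) (Node.st (nat_lit 0) (nat_lit 28) (nat_lit 0) (Node.st (nat_lit 2) (nat_lit 1) (nat_lit 26) (Node.st (nat_lit 0) (nat_lit 60) (nat_lit 0) (Node.lf (Leaf.mp (nat_lit 90) [nat_lit 1,nat_lit 2,nat_lit 4,nat_lit 8,nat_lit 16,nat_lit 32] [[nat_lit 1],[nat_lit 3],[nat_lit 5]])))))))))))))))) (Node.st (nat_lit 0) (nat_lit 16) (nat_lit 0) (Node.st (nat_lit 0) (nat_lit 48) (nat_lit 0) (Node.st (nat_lit 2) (nat_lit 0) (nat_lit 1) (Node.st (nat_lit 0) (nat_lit 8) (nat_lit 0) (Node.st (nat_lit 2) (nat_lit 0) (nat_lit 5) (Node.st (nat_lit 0) (nat_lit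 24) (nat_lit 0) (Node.st (nat_lit 2) (nat_lit 0) (nat_lit 9) (Node.st (nat_lit 0) (nat_lit 40) (nat_lit 0) (Node.st (nat_lit 2) (nat_lit 0) (nat_lit 13) (Node.st (nat_lit 0) (nat_lit 56) (nat_lit 0) (Node.st (nat_lit 2) (nat_lit 1) (nat_lit 10) (Node.st (nat_lit 0) (nat_lit 28) (nat_lit 0) (Node.st (nat_lit 2) (nat_lit 1) (nat_lit 26) (Node.st (nat_lit 0) (nat_lit 60) (nat_lit 0) (Node.lf (Leaf.mp (nat_lit 256) [nat_lit 1,nat_lit 2,nat_lit 4,nat_lit 8,nat_lit 16,nat_lit 32] [[nat_lit 1],[nat_lit 3],[nat_lit 5]])))))))))))))))))) (Node.ext [] (nat_lit 32) [Ins.fr [nat_lit 0],Ins.ts (nat_lit 1) [nat_lit 0,nat_lit 0] [],Ins.ts (nat_lit 1) [nat_lit 0,nat_lit 0,nat_lit 0,nat_lit 0] [],Ins.ts (nat_lit 1) [nat_lit 0,nat_lit 0,nat_lit 0,nat_lit 0,nat_lit 1] [],Ins.fr [nat_lit 1],Ins.fr [nat_lit 2],Ins.df [nat_lit 0,nat_lit 0],Ins.df [nat_lit 3,nat_lit 3],Ins.df [nat_lit 0,nat_lit 2,nat_lit 4],Ins.df [nat_lit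 1,nat_lit 5,nat_lit 4]] [nat_lit 4,nat_lit 20,nat_lit 12] [nat_lit 3,nat_lit 2,nat_lit 6,nat_lit 1,nat_lit 0,nat_lit 7] (Srch.ex0 [nat_lit 32,nat_lit 16,nat_lit 8,nat_lit 4,nat_lit 2,nat_lit 1] (Srch.rep (nat_lit 1) [] [nat_lit 32,nat_lit 16,nat_lit 8,nat_lit 4,nat_lit 2,nat_lit 1] [] Srch.nil (Srch.rep (nat_lit 8) [] [nat_lit 32,nat_lit 16,nat_lit 8,nat_lit 1] [nat_lit 4,nat_lit 2] Srch.nil (Srch.rep (nat_lit 16) [] [nat_lit 32,nat_lit 16,nat_lit 8,nat_lit 2,nat_lit 1] [nat_lit 4] Srch.nil (Srch.rep (nat_lit 24) [] [nat_lit 32,nat_lit 16,nat_lit 8,nat_lit 1] [nat_lit 4,nat_lit 2] Srch.nil (Srch.rep (nat_lit 28) [] [nat_lit 32,nat_lit 18,nat_lit 14,nat_lit 1] [nat_lit 4,nat_lit 2] Srch.nil (Srch.rep (nat_lit 40) [] [nat_lit 32,nat_lit 16,nat_lit 8,nat_lit 1] [nat_lit 4,nat_lit 2] Srch.nil (Srch.rep (nat_lit 48) [] [nat_lit 32,nat_lit 16,nat_lit 8,nat_lit 2,nat_lit 1] [nat_lit 4] Srch.nil (Srch.rep (nat_lit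 56) [] [nat_lit 32,nat_lit 16,nat_lit 8,nat_lit 1] [nat_lit 4,nat_lit 2] Srch.nil (Srch.rep (nat_lit 60) [] [nat_lit 32,nat_lit 18,nat_lit 14,nat_lit 1] [nat_lit 4,nat_lit 2] Srch.nil Srch.nil)))))))))) Node.done))
theorem ok257 : nodeOK DB PT 257 t257 (nat_lit 0xff030f03ff030f03) (nat_lit 0x111111110000002200001111000000ff111111110000002200001111000000ff) c257 = true := by
  decide +kernel

end Cfsg.Agent.L33.Dat
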