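import Mathlib
import Cfsg.Agent.L33.DH

/-!
Certificates.
-/

set_option autoImplicit false
set_option maxRecDepth 100000

namespace Cfsg.Agent.L33.Dat

open Cfsg.Agent.L33

noncomputable def c154_0 : Srch :=
  Srch.rep (nat_lit 384) [nat_lit 384] [] [] (Srch.rep (nat_lit 438) [nat_lit 34] [] [] (Srch.rep (nat_lit 4) [nat_lit 12] [] [] (Srch.rep (nat_lit 36) [] [] [] (Srch.rep (nat_lit 321) [] [] [] (Srch.rep (nat_lit 289) [] [] [] (Srch.fin [nat_lit 128] [] []) (Srch.rep (nat_lit 288) [] [] [] (Srch.fin [nat_lit 128] [nat_lit 0] (((nat_lit 0),(Leaf.au (nat_lit 2) (nat_lit 16) (nat_lit 1) [[nat_lit 32,nat_lit 16,nat_lit 8,nat_lit 4,nat_lit 2,nat_lit 1]] [nat_lit 64,nat_lit 32,nat_lit 16,nat_lit 8,nat_lit 4,nat_lit 2,nat_lit 1] [nat_lit 3,nat_lit 3,nat_lit 1096] (nat_lit 2) [] (nat_lit 0) [nat_lit 64,nat_lit 32,nat_lit 8,nat_lit 8,nat_lit 4,nat_lit 2,nat_lit 0]))::(((nat_lit 1),(Leaf.au (nat_lit 2) (nat_lit 16) (nat_lit 1) [[nat_lit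 32,nat_lit 16,nat_lit 8,nat_lit 4,nat_lit 2,nat_lit 1]] [nat_lit 64,nat_lit 32,nat_lit 16,nat_lit 8,nat_lit 4,nat_lit 2,nat_lit 1] [nat_lit 3,nat_lit 3,nat_lit 1096] (nat_lit 2) [] (nat_lit 0) [nat_lit 64,nat_lit 32,nat_lit 8,nat_lit 8,nat_lit 4,nat_lit 2,nat_lit 0]))::[]))) Srch.nil)) (Srch.rep (nat_lit 320) [] [] [] (Srch.rep (nat_lit 289) [] [] [] (Srch.fin [nat_lit 128] [nat_lit 0] (((nat_lit 0),(Leaf.au (nat_lit 2) (nat_lit 16) (nat_lit 1) [[nat_lit 32,nat_lit 16,nat_lit 8,nat_lit 4,nat_lit 2,nat_lit 1]] [nat_lit 64,nat_lit 32,nat_lit 16,nat_lit 8,nat_lit 4,nat_lit 2,nat_lit 1] [nat_lit 3,nat_lit 3,nat_lit 1096] (nat_lit 2) [] (nat_lit 0) [nat_lit 64,nat_lit 32,nat_lit 8,nat_lit 8,nat_lit 4,nat_lit 2,nat_lit 0]))::(((nat_lit 1),(Leaf.au (nat_lit 2) (nat_lit 16) (nat_lit 1) [[nat_lit 32,nat_lit 16,nat_lit 8,nat_lit 4,nat_lit 2,nat_lit 1]] [nat_lit 64,nat_lit 32,nat_lit 16,nat_lit 8,nat_lit 4,nat_lit 2,nat_lit 1] [nat_lit 3,nat_lit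 3,nat_lit 1096] (nat_lit 2) [] (nat_lit 0) [nat_lit 64,nat_lit 32,nat_lit 8,nat_lit 8,nat_lit 4,nat_lit 2,nat_lit 0]))::[]))) (Srch.rep (nat_lit 288) [] [] [] (Srch.fin [nat_lit 128] [] []) Srch.nil)) Srch.nil)) Srch.nil) (Srch.rep (nat_lit 38) [nat_lit 12] [] [] (Srch.rep (nat_lit 7) [] [] [] (Srch.rep (nat_lit 377) [] [] [] (Srch.rep (nat_lit 283) [] [] [] (Srch.fin [nat_lit 128] [nat_lit 0] (((nat_lit 476),(Leaf.mp (nat_lit 124) [nat_lit 1,nat_lit 2,nat_lit 4,nat_lit 8,nat_lit 16,nat_lit 32,nat_lit 64,nat_lit 128,nat_lit 256,nat_lit 512] [[nat_lit 1],[nat_lit 3],[nat_lit 5]]))::(((nat_lit 477),(Leaf.mp (nat_lit 124) [nat_lit 1,nat_lit 2,nat_lit 4,nat_lit 8,nat_lit 16,nat_lit 32,nat_lit 64,nat_lit 128,nat_lit 257,nat_lit 536] [[nat_lit 1],[nat_lit 3],[nat_lit 5]]))::[]))) (Srch.rep (nat_lit 282) [] [] [] (Srch.fin [nat_lit 128] [nat_lit 0] (((nat_lit 452),(Leaf.mp (nat_lit 142) [nat_lit 1,nat_lit 2,nat_lit 4,nat_lit 8,nat_lit 16,nat_lit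 32,nat_lit 64,nat_lit 128,nat_lit 256,nat_lit 512] [[nat_lit 1],[nat_lit 3],[nat_lit 5]]))::(((nat_lit 453),(Leaf.mp (nat_lit 142) [nat_lit 1,nat_lit 2,nat_lit 4,nat_lit 8,nat_lit 16,nat_lit 32,nat_lit 64,nat_lit 128,nat_lit 257,nat_lit 536] [[nat_lit 1],[nat_lit 3],[nat_lit 5]]))::[]))) Srch.nil)) (Srch.rep (nat_lit 376) [] [] [] (Srch.rep (nat_lit 283) [] [] [] (Srch.fin [nat_lit 128] [nat_lit 0] (((nat_lit 452),(Leaf.mp (nat_lit 143) [nat_lit 1,nat_lit 2,nat_lit 4,nat_lit 8,nat_lit 16,nat_lit 32,nat_lit 64,nat_lit 128,nat_lit 256,nat_lit 512] [[nat_lit 1],[nat_lit 3],[nat_lit 5]]))::(((nat_lit 453),(Leaf.mp (nat_lit 143) [nat_lit 1,nat_lit 2,nat_lit 4,nat_lit 8,nat_lit 16,nat_lit 32,nat_lit 64,nat_lit 128,nat_lit 257,nat_lit 536] [[nat_lit 1],[nat_lit 3],[nat_lit 5]]))::[]))) (Srch.rep (nat_lit 282) [] [] [] (Srch.fin [nat_lit 128] [nat_lit 0] (((nat_lit 476),(Leaf.mp (nat_lit 144) [nat_lit 1,nat_lit 2,nat_lit 4,nat_lit 8,nat_lit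 16,nat_lit 32,nat_lit 64,nat_lit 128,nat_lit 256,nat_lit 512] [[nat_lit 1],[nat_lit 3],[nat_lit 5]]))::(((nat_lit 477),(Leaf.mp (nat_lit 144) [nat_lit 1,nat_lit 2,nat_lit 4,nat_lit 8,nat_lit 16,nat_lit 32,nat_lit 64,nat_lit 128,nat_lit 257,nat_lit 536] [[nat_lit 1],[nat_lit 3],[nat_lit 5]]))::[]))) Srch.nil)) Srch.nil)) Srch.nil) Srch.nil)) Srch.nil) (Srch.rep (nat_lit 396) [nat_lit 384] [] [] (Srch.rep (nat_lit 442) [] [] [] Srch.nil Srch.nil) (Srch.rep (nat_lit 404) [nat_lit 404] [] [] (Srch.rep (nat_lit 418) [] [] [] Srch.nil Srch.nil) (Srch.rep (nat_lit 408) [nat_lit 404] [] [] (Srch.rep (nat_lit 430) [nat_lit 34] [] [] (Srch.rep (nat_lit 4) [nat_lit 12] [] [] (Srch.rep (nat_lit 36) [] [] [] (Srch.rep (nat_lit 345) [] [] [] (Srch.rep (nat_lit 289) [] [] [] (Srch.fin [nat_lit 128] [] []) (Srch.rep (nat_lit 288) [] [] [] (Srch.fin [nat_lit 128] [nat_lit 0] (((nat_lit 0),(Leaf.au (nat_lit 2) (nat_lit 16) (nat_lit 1) [[nat_lit 32,nat_lit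 16,nat_lit 8,nat_lit 4,nat_lit 2,nat_lit 1]] [nat_lit 64,nat_lit 32,nat_lit 16,nat_lit 8,nat_lit 4,nat_lit 2,nat_lit 1] [nat_lit 3,nat_lit 3,nat_lit 1096] (nat_lit 2) [] (nat_lit 0) [nat_lit 64,nat_lit 32,nat_lit 8,nat_lit 8,nat_lit 4,nat_lit 2,nat_lit 0]))::(((nat_lit 1),(Leaf.au (nat_lit 2) (nat_lit 16) (nat_lit 1) [[nat_lit 32,nat_lit 16,nat_lit 8,nat_lit 4,nat_lit 2,nat_lit 1]] [nat_lit 64,nat_lit 32,nat_lit 16,nat_lit 8,nat_lit 4,nat_lit 2,nat_lit 1] [nat_lit 3,nat_lit 3,nat_lit 1096] (nat_lit 2) [] (nat_lit 0) [nat_lit 64,nat_lit 32,nat_lit 8,nat_lit 8,nat_lit 4,nat_lit 2,nat_lit 0]))::[]))) Srch.nil)) (Srch.rep (nat_lit 344) [] [] [] (Srch.rep (nat_lit 289) [] [] [] (Srch.fin [nat_lit 128] [nat_lit 0] (((nat_lit 0),(Leaf.au (nat_lit 2) (nat_lit 16) (nat_lit 1) [[nat_lit 32,nat_lit 16,nat_lit 8,nat_lit 4,nat_lit 2,nat_lit 1]] [nat_lit 64,nat_lit 32,nat_lit 16,nat_lit 8,nat_lit 4,nat_lit 2,nat_lit 1] [nat_lit 3,nat_lit 3,nat_lit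 1096] (nat_lit 2) [] (nat_lit 0) [nat_lit 64,nat_lit 32,nat_lit 8,nat_lit 8,nat_lit 4,nat_lit 2,nat_lit 0]))::(((nat_lit 1),(Leaf.au (nat_lit 2) (nat_lit 16) (nat_lit 1) [[nat_lit 32,nat_lit 16,nat_lit 8,nat_lit 4,nat_lit 2,nat_lit 1]] [nat_lit 64,nat_lit 32,nat_lit 16,nat_lit 8,nat_lit 4,nat_lit 2,nat_lit 1] [nat_lit 3,nat_lit 3,nat_lit 1096] (nat_lit 2) [] (nat_lit 0) [nat_lit 64,nat_lit 32,nat_lit 8,nat_lit 8,nat_lit 4,nat_lit 2,nat_lit 0]))::[]))) (Srch.rep (nat_lit 288) [] [] [] (Srch.fin [nat_lit 128] [] []) Srch.nil)) Srch.nil)) Srch.nil) (Srch.rep (nat_lit 38) [nat_lit 12] [] [] (Srch.rep (nat_lit 7) [] [] [] (Srch.rep (nat_lit 353) [] [] [] (Srch.rep (nat_lit 283) [] [] [] (Srch.fin [nat_lit 128] [nat_lit 0] (((nat_lit 452),(Leaf.mp (nat_lit 145) [nat_lit 1,nat_lit 2,nat_lit 4,nat_lit 8,nat_lit 16,nat_lit 32,nat_lit 64,nat_lit 128,nat_lit 256,nat_lit 512] [[nat_lit 1],[nat_lit 3],[nat_lit 5]]))::(((nat_lit 453),(Leaf.mp (nat_lit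 145) [nat_lit 1,nat_lit 2,nat_lit 4,nat_lit 8,nat_lit 16,nat_lit 32,nat_lit 64,nat_lit 128,nat_lit 257,nat_lit 536] [[nat_lit 1],[nat_lit 3],[nat_lit 5]]))::[]))) (Srch.rep (nat_lit 282) [] [] [] (Srch.fin [nat_lit 128] [nat_lit 0] (((nat_lit 476),(Leaf.mp (nat_lit 146) [nat_lit 1,nat_lit 2,nat_lit 4,nat_lit 8,nat_lit 16,nat_lit 32,nat_lit 64,nat_lit 128,nat_lit 256,nat_lit 512] [[nat_lit 1],[nat_lit 3],[nat_lit 5]]))::(((nat_lit 477),(Leaf.mp (nat_lit 146) [nat_lit 1,nat_lit 2,nat_lit 4,nat_lit 8,nat_lit 16,nat_lit 32,nat_lit 64,nat_lit 128,nat_lit 257,nat_lit 536] [[nat_lit 1],[nat_lit 3],[nat_lit 5]]))::[]))) Srch.nil)) (Srch.rep (nat_lit 352) [] [] [] (Srch.rep (nat_lit 283) [] [] [] (Srch.fin [nat_lit 128] [nat_lit 0] (((nat_lit 476),(Leaf.mp (nat_lit 152) [nat_lit 1,nat_lit 2,nat_lit 4,nat_lit 8,nat_lit 16,nat_lit 32,nat_lit 64,nat_lit 128,nat_lit 256,nat_lit 512] [[nat_lit 1],[nat_lit 3],[nat_lit 5]]))::(((nat_lit 477),(Leaf.mp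 (nat_lit 152) [nat_lit 1,nat_lit 2,nat_lit 4,nat_lit 8,nat_lit 16,nat_lit 32,nat_lit 64,nat_lit 128,nat_lit 257,nat_lit 536] [[nat_lit 1],[nat_lit 3],[nat_lit 5]]))::[]))) (Srch.rep (nat_lit 282) [] [] [] (Srch.fin [nat_lit 128] [nat_lit 0] (((nat_lit 452),(Leaf.mp (nat_lit 153) [nat_lit 1,nat_lit 2,nat_lit 4,nat_lit 8,nat_lit 16,nat_lit 32,nat_lit 64,nat_lit 128,nat_lit 256,nat_lit 512] [[nat_lit 1],[nat_lit 3],[nat_lit 5]]))::(((nat_lit 453),(Leaf.mp (nat_lit 153) [nat_lit 1,nat_lit 2,nat_lit 4,nat_lit 8,nat_lit 16,nat_lit 32,nat_lit 64,nat_lit 128,nat_lit 257,nat_lit 536] [[nat_lit 1],[nat_lit 3],[nat_lit 5]]))::[]))) Srch.nil)) Srch.nil)) Srch.nil) Srch.nil)) Srch.nil) Srch.nil)))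
noncomputable def t154 : ℕ := nat_lit 0x1210121012101210101010101010101013a013a013b013b011a011a011b011b013b013b013a013a011b011b011a011a0121012101210121010101010101010101210121012101210101010101010101013a013a013b013b011a011a011b011b013b013b013a013a011b011b011a011a0121012101210121010101010101010101010101010101010121012101210121011a011a011b011b013a013a013b013b011b011b011a011a013b013b013a013a0101010101010101012101210121012101010101010101010121012101210121011a011a011b011b013a013a013b013b011b011b011a011a013b013b013a013a0101010101010101012101210121012101010101010101010121012101210121011a011a011b011b013a013a013b013b011b011b011a011a013b013b013a013a0101010101010101012101210121012101010101010101010121012101210121011a011a011b011b013a013a013b013b011b011b011a011a013b013b013a013a0101010101010101012101210121012101210121012101210101010101010101013a013a013b013b011a011a011b011b013b013b013a013a011b011b011a011a012101210121012101010101010101010121012101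2101210101010101010101013a013a013b013b011a011a011b011b013b013b013a013a011b011b011a011a0121012101210121010101010101010101200120012001200100010001000100013b013b013a013a011b011b011a011a013a013a013b013b011a011a011b011b0120012001200120010001000100010001200120012001200100010001000100013b013b013a013a011b011b011a011a013a013a013b013b011a011a011b011b0120012001200120010001000100010001000100010001000120012001200120011b011b011a011a013b013b013a013a011a011a011b011b013a013a013b013b0100010001000100012001200120012001000100010001000120012001200120011b011b011a011a013b013b013a013a011a011a011b011b013a013a013b013b0100010001000100012001200120012001000100010001000120012001200120011b011b011a011a013b013b013a013a011a011a011b011b013a013a013b013b0100010001000100012001200120012001000100010001000120012001200120011b011b011a011a013b013b013a013a011a011a011b011b013a013a013b013b0100010001000100012001200120012001200120012001200100010001000100013b013b013a013a011b011b011a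011a013a013a013b013b011a011a011b011b0120012001200120010001000100010001200120012001200100010001000100013b013b013a013a011b011b011a011a013a013a013b013b011a011a011b011b0120012001200120010001000100010000a100a100a100a100a200a200a300a30098009800980098009b009b009a009a0098009800980098009b009b009a009a00a000a000a000a000a300a300a200a200a100a100a100a100a200a200a300a30098009800980098009b009b009a009a0098009800980098009b009b009a009a00a000a000a000a000a300a300a200a20081008100810081008200820083008300b800b800b800b800bb00bb00ba00ba00b800b800b800b800bb00bb00ba00ba008000800080008000830083008200820081008100810081008200820083008300b800b800b800b800bb00bb00ba00ba00b800b800b800b800bb00bb00ba00ba0080008000800080008300830082008200a200a200a300a300a100a100a100a1009b009b009a009a0098009800980098009b009b009a009a009800980098009800a300a300a200a200a000a000a000a000a200a200a300a300a100a100a100a1009b009b009a009a0098009800980098009b009b009a009a009800980098009800a300a300a200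a200a000a000a000a00082008200830083008100810081008100bb00bb00ba00ba00b800b800b800b800bb00bb00ba00ba00b800b800b800b8008300830082008200800080008000800082008200830083008100810081008100bb00bb00ba00ba00b800b800b800b800bb00bb00ba00ba00b800b800b800b8008300830082008200800080008000800040004000400040004200420043004300410041004100410043004300420042004000400040004000420042004300430041004100410041004300430042004200400040004000400042004200430043004100410041004100430043004200420040004000400040004200420043004300410041004100410043004300420042004300430042004200410041004100410042004200430043004000400040004000430043004200420041004100410041004200420043004300400040004000400043004300420042004100410041004100420042004300430040004000400040004300430042004200410041004100410042004200430043004000400040004000200020002000200020002000200020002100210021002100210021002100210021002100210021002100210021002100200020002000200020002000200020002000200020002000200020002000200021002100210021002100210021002100210021002100210021002100210021002000200020002000200020002000200010001000100010001000100010001000100010001000100010001000100010001000100010001000100010001000100010001000100010001000100010001000090009000900090009000900090009000800080008000800080008000800080004000400050005000500050004000400030003000200020001000100000000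
noncomputable def c154 : Node :=
  (Node.st (nat_lit 0) (nat_lit 10) (nat_lit 0) (Node.st (nat_lit 2) (nat_lit 0) (nat_lit 10) (Node.st (nat_lit 0) (nat_lit 14) (nat_lit 0) (Node.st (nat_lit 2) (nat_lit 2) (nat_lit 5) (Node.st (nat_lit 0) (nat_lit 78) (nat_lit 0) (Node.sp (nat_lit 1) (Node.lf (Leaf.pt (nat_lit 9) (nat_lit 1) [nat_lit 10])) (Node.sp (nat_lit 26) (Node.lf (Leaf.pt (nat_lit 9) (nat_lit 26) [nat_lit 10])) (Node.st (nat_lit 0) (nat_lit 26) (nat_lit 0) (Node.sp (nat_lit 28) (Node.lf (Leaf.pt (nat_lit 9) (nat_lit 28) [nat_lit 12])) (Node.st (nat_lit 0) (nat_lit 28) (nat_lit 0) (Node.sp (nat_lit 32) (Node.lf (Leaf.pt (nat_lit 12) (nat_lit 32) [nat_lit 26,nat_lit 196])) (Node.st (nat_lit 0) (nat_lit 32) (nat_lit 0) (Node.sp (nat_lit 58) (Node.lf (Leaf.pt (nat_lit 9) (nat_lit 58) [nat_lit 12])) (Node.st (nat_lit 0) (nat_lit 58) (nat_lit 0) (Node.sp (nat_lit 68) (Node.lf (Leaf.pt (nat_lit 9) (nat_lit 68) [nat_lit 10])) (Node.st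 (nat_lit 0) (nat_lit 68) (nat_lit 0) (Node.sp (nat_lit 92) (Node.lf (Leaf.pt (nat_lit 9) (nat_lit 92) [nat_lit 10])) (Node.st (nat_lit 0) (nat_lit 92) (nat_lit 0) (Node.sp (nat_lit 258) (Node.lf (Leaf.pt (nat_lit 19) (nat_lit 258) [nat_lit 2,nat_lit 192])) (Node.st (nat_lit 0) (nat_lit 258) (nat_lit 0) (Node.sp (nat_lit 388) (Node.lf (Leaf.pt (nat_lit 12) (nat_lit 388) [nat_lit 26,nat_lit 136])) (Node.st (nat_lit 0) (nat_lit 388) (nat_lit 0) (Node.sp (nat_lit 412) (Node.lf (Leaf.pt (nat_lit 12) (nat_lit 412) [nat_lit 26,nat_lit 138])) (Node.st (nat_lit 0) (nat_lit 412) (nat_lit 0) (Node.sp (nat_lit 476) (Node.lf (Leaf.pt (nat_lit 19) (nat_lit 476) [nat_lit 24,nat_lit 192])) (Node.st (nat_lit 0) (nat_lit 476) (nat_lit 0) (Node.ext [[nat_lit 32,nat_lit 16,nat_lit 8,nat_lit 4,nat_lit 2,nat_lit 1]] (nat_lit 10) [Ins.ts (nat_lit 4) [nat_lit 0] [nat_lit 10,nat_lit 0,nat_lit 0],Ins.fr [nat_lit 0],Ins.ts (nat_lit 1) [nat_lit 0,nat_lit 0] [],Ins.ts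 (nat_lit 1) [nat_lit 0,nat_lit 0,nat_lit 0,nat_lit 0] [],Ins.fr [nat_lit 1],Ins.ts (nat_lit 1) [nat_lit 0,nat_lit 0] [],Ins.ts (nat_lit 0) [nat_lit 0,nat_lit 1,nat_lit 1,nat_lit 0] [],Ins.ts (nat_lit 0) [nat_lit 1,nat_lit 1,nat_lit 1] [nat_lit 0,nat_lit 1,nat_lit 0],Ins.ts (nat_lit 2) [nat_lit 0,nat_lit 0,nat_lit 1,nat_lit 0] [],Ins.fr [nat_lit 2],Ins.ts (nat_lit 1) [nat_lit 0,nat_lit 0] [],Ins.ts (nat_lit 4) [nat_lit 0] [nat_lit 37,nat_lit 0,nat_lit 0],Ins.ts (nat_lit 2) [nat_lit 1,nat_lit 0] [],Ins.ts (nat_lit 0) [nat_lit 0,nat_lit 2,nat_lit 0,nat_lit 2] [],Ins.ts (nat_lit 2) [nat_lit 1,nat_lit 0,nat_lit 2] [],Ins.fr [nat_lit 0,nat_lit 0,nat_lit 3],Ins.ts (nat_lit 4) [nat_lit 0] [nat_lit 5,nat_lit 0,nat_lit 0],Ins.ts (nat_lit 1) [nat_lit 0,nat_lit 0] [],Ins.ts (nat_lit 2) [nat_lit 4,nat_lit 0] [],Ins.ts (nat_lit 0) [nat_lit 2,nat_lit 0,nat_lit 2] [nat_lit 0],Ins.ts (nat_lit 0) [nat_lit 1,nat_lit 0] [nat_lit 0,nat_lit 1],Ins.fr [nat_lit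 0,nat_lit 1,nat_lit 2,nat_lit 3],Ins.ts (nat_lit 0) [nat_lit 4,nat_lit 4] [nat_lit 0,nat_lit 0],Ins.ts (nat_lit 0) [nat_lit 4,nat_lit 0,nat_lit 3] [nat_lit 5,nat_lit 0],Ins.fr [nat_lit 0,nat_lit 0,nat_lit 3,nat_lit 4],Ins.ts (nat_lit 0) [nat_lit 3,nat_lit 3] [nat_lit 0,nat_lit 0],Ins.ts (nat_lit 0) [nat_lit 3,nat_lit 0] [nat_lit 0,nat_lit 2],Ins.df [nat_lit 0,nat_lit 0],Ins.df [nat_lit 2,nat_lit 2],Ins.df [nat_lit 0,nat_lit 1,nat_lit 8],Ins.df [nat_lit 1,nat_lit 7,nat_lit 8],Ins.df [nat_lit 3,nat_lit 6,nat_lit 7],Ins.df [nat_lit 0,nat_lit 10]] [nat_lit 96,nat_lit 112,nat_lit 36,nat_lit 4,nat_lit 128,nat_lit 256] [nat_lit 5,nat_lit 4,nat_lit 8,nat_lit 3,nat_lit 2,nat_lit 1,nat_lit 0,nat_lit 7,nat_lit 6] (Srch.ex0 [nat_lit 68,nat_lit 36,nat_lit 16,nat_lit 8,nat_lit 2,nat_lit 1] (Srch.rep (nat_lit 12) [nat_lit 4,nat_lit 16,nat_lit 384] [nat_lit 384,nat_lit 34,nat_lit 16,nat_lit 8,nat_lit 4,nat_lit 1] [nat_lit 128,nat_lit 64,nat_lit 2]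 c154_0 Srch.nil)) (Node.lf (Leaf.au (nat_lit 1) (nat_lit 0) (nat_lit 0) [] [] [nat_lit 3,nat_lit 3] (nat_lit 0) [] (nat_lit 32) [nat_lit 0,nat_lit 34,nat_lit 36,nat_lit 46,nat_lit 46,nat_lit 32,nat_lit 386,nat_lit 322,nat_lit 288])))))))))))))))))))))))))))))
theorem ok154 : nodeOK DB PT 154 t154 (nat_lit 0xf0000000f0000000f00c0cf0f00303f000000000000000000300000c0300000c00000000000000000000000000000000f00000f0f0f0f0f0fcfc0303fc03fc03) (nat_lit 0x111100000000000000000000000000001111000000000000000000000000000011110000000022000000220011110000111100000000002200000022111100000000000000000000000000000000000000000000000000000000000000000000000000220000000000000000000022000000002200000000000000000000220000000000000000000000000000000000000000000000000000000000000000000000000000000000000000000000000000000000000000000000000000000000111100000000000000000000111100001111000011110000111100001111000011112200111122000000003300000033111122000000005511112200000000ff)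 c154 = true := by
  decide +kernel
noncomputable def t155 : ℕ := nat_lit 0x1200120012001200100010001000100013b013b013a013a011b011b011a011a013a013a013b013b011a011a011b011b0120012001200120010001000100010001200120012001200100010001000100013b013b013a013a011b011b011a011a013a013a013b013b011a011a011b011b0120012001200120010001000100010001000100010001000120012001200120011b011b011a011a013b013b013a013a011a011a011b011b013a013a013b013b0100010001000100012001200120012001000100010001000120012001200120011b011b011a011a013b013b013a013a011a011a011b011b013a013a013b013b0100010001000100012001200120012001010101010101010121012101210121011a011a011b011b013a013a013b013b011b011b011a011a013b013b013a013a0101010101010101012101210121012101010101010101010121012101210121011a011a011b011b013a013a013b013b011b011b011a011a013b013b013a013a0101010101010101012101210121012101210121012101210101010101010101013a013a013b013b011a011a011b011b013b013b013a013a011b011b011a011a0121012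101210121010101010101010101210121012101210101010101010101013a013a013b013b011a011a011b011b013b013b013a013a011b011b011a011a0121012101210121010101010101010101210121012101210101010101010101013a013a013b013b011a011a011b011b013b013b013a013a011b011b011a011a0121012101210121010101010101010101210121012101210101010101010101013a013a013b013b011a011a011b011b013b013b013a013a011b011b011a011a0121012101210121010101010101010101010101010101010121012101210121011a011a011b011b013a013a013b013b011b011b011a011a013b013b013a013a0101010101010101012101210121012101010101010101010121012101210121011a011a011b011b013a013a013b013b011b011b011a011a013b013b013a013a0101010101010101012101210121012101000100010001000120012001200120011b011b011a011a013b013b013a013a011a011a011b011b013a013a013b013b0100010001000100012001200120012001000100010001000120012001200120011b011b011a011a013b013b013a013a011a011a011b011b013a013a013b013b010001000100010001200120012001200120012001200120010001000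1000100013b013b013a013a011b011b011a011a013a013a013b013b011a011a011b011b0120012001200120010001000100010001200120012001200100010001000100013b013b013a013a011b011b011a011a013a013a013b013b011a011a011b011b0120012001200120010001000100010000a000a000a000a000a300a300a200a20099009900990099009a009a009b009b0099009900990099009a009a009b009b00a100a100a100a100a200a200a300a300a000a000a000a000a300a300a200a20099009900990099009a009a009b009b0099009900990099009a009a009b009b00a100a100a100a100a200a200a300a30080008000800080008300830082008200b900b900b900b900ba00ba00bb00bb00b900b900b900b900ba00ba00bb00bb008100810081008100820082008300830080008000800080008300830082008200b900b900b900b900ba00ba00bb00bb00b900b900b900b900ba00ba00bb00bb0081008100810081008200820083008300a200a200a300a300a100a100a100a1009b009b009a009a0098009800980098009b009b009a009a009800980098009800a300a300a200a200a000a000a000a000a200a200a300a300a100a100a100a1009b009b009a009a0098009800980098009b009b009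a009a009800980098009800a300a300a200a200a000a000a000a00082008200830083008100810081008100bb00bb00ba00ba00b800b800b800b800bb00bb00ba00ba00b800b800b800b8008300830082008200800080008000800082008200830083008100810081008100bb00bb00ba00ba00b800b800b800b800bb00bb00ba00ba00b800b800b800b8008300830082008200800080008000800040004000400040004200420043004300410041004100410043004300420042004000400040004000420042004300430041004100410041004300430042004200400040004000400042004200430043004100410041004100430043004200420040004000400040004200420043004300410041004100410043004300420042004300430042004200410041004100410042004200430043004000400040004000430043004200420041004100410041004200420043004300400040004000400043004300420042004100410041004100420042004300430040004000400040004300430042004200410041004100410042004200430043004000400040004000200020002000200020002000200020002100210021002100210021002100210021002100210021002100210021002100200020002000200020002000200020002000200020002000200020002000200021002100210021002100210021002100210021002100210021002100210021002000200020002000200020002000200010001000100010001000100010001000100010001000100010001000100010001000100010001000100010001000100010001000100010001000100010001000090009000900090009000900090009000800080008000800080008000800080004000400050005000500050004000400030003000200020001000100000000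
noncomputable def c155 : Node :=
  (Node.st (nat_lit 0) (nat_lit 10) (nat_lit 0) (Node.st (nat_lit 2) (nat_lit 0) (nat_lit 10) (Node.st (nat_lit 0) (nat_lit 14) (nat_lit 0) (Node.st (nat_lit 2) (nat_lit 2) (nat_lit 5) (Node.st (nat_lit 0) (nat_lit 78) (nat_lit 0) (Node.sp (nat_lit 1) (Node.lf (Leaf.pt (nat_lit 9) (nat_lit 1) [nat_lit 10])) (Node.sp (nat_lit 26) (Node.lf (Leaf.pt (nat_lit 9) (nat_lit 26) [nat_lit 10])) (Node.st (nat_lit 0) (nat_lit 26) (nat_lit 0) (Node.sp (nat_lit 28) (Node.lf (Leaf.pt (nat_lit 9) (nat_lit 28) [nat_lit 12])) (Node.st (nat_lit 0) (nat_lit 28) (nat_lit 0) (Node.sp (nat_lit 32) (Node.lf (Leaf.pt (nat_lit 12) (nat_lit 32) [nat_lit 26,nat_lit 196])) (Node.st (nat_lit 0) (nat_lit 32) (nat_lit 0) (Node.sp (nat_lit 58) (Node.lf (Leaf.pt (nat_lit 9) (nat_lit 58) [nat_lit 12])) (Node.st (nat_lit 0) (nat_lit 58) (nat_lit 0) (Node.sp (nat_lit 68) (Node.lf (Leaf.pt (nat_lit 9) (nat_lit 68) [nat_lit 10])) (Node.st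 (nat_lit 0) (nat_lit 68) (nat_lit 0) (Node.sp (nat_lit 92) (Node.lf (Leaf.pt (nat_lit 9) (nat_lit 92) [nat_lit 10])) (Node.st (nat_lit 0) (nat_lit 92) (nat_lit 0) (Node.sp (nat_lit 132) (Node.lf (Leaf.pt (nat_lit 26) (nat_lit 132) [nat_lit 1,nat_lit 26,nat_lit 32,nat_lit 258])) (Node.st (nat_lit 0) (nat_lit 132) (nat_lit 0) (Node.sp (nat_lit 258) (Node.lf (Leaf.pt (nat_lit 23) (nat_lit 258) [nat_lit 26,nat_lit 2,nat_lit 32])) (Node.st (nat_lit 0) (nat_lit 258) (nat_lit 0) (Node.sp (nat_lit 388) (Node.lf (Leaf.pt (nat_lit 12) (nat_lit 388) [nat_lit 26,nat_lit 138])) (Node.st (nat_lit 0) (nat_lit 388) (nat_lit 0) (Node.sp (nat_lit 412) (Node.lf (Leaf.pt (nat_lit 12) (nat_lit 412) [nat_lit 26,nat_lit 136])) (Node.st (nat_lit 0) (nat_lit 412) (nat_lit 0) (Node.sp (nat_lit 476) (Node.lf (Leaf.pt (nat_lit 19) (nat_lit 476) [nat_lit 24,nat_lit 194])) (Node.st (nat_lit 0) (nat_lit 476) (nat_lit 0) (Node.ext [[nat_lit 32,nat_lit 16,nat_lit 8,nat_lit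 4,nat_lit 2,nat_lit 1]] (nat_lit 10) [Ins.ts (nat_lit 4) [nat_lit 0] [nat_lit 10,nat_lit 0,nat_lit 0],Ins.fr [nat_lit 0],Ins.ts (nat_lit 1) [nat_lit 0,nat_lit 0] [],Ins.ts (nat_lit 1) [nat_lit 0,nat_lit 0,nat_lit 0,nat_lit 0] [],Ins.fr [nat_lit 1],Ins.ts (nat_lit 1) [nat_lit 0,nat_lit 0] [],Ins.ts (nat_lit 0) [nat_lit 0,nat_lit 1,nat_lit 1,nat_lit 0] [],Ins.ts (nat_lit 0) [nat_lit 1,nat_lit 1,nat_lit 1] [nat_lit 0,nat_lit 1,nat_lit 0],Ins.ts (nat_lit 2) [nat_lit 0,nat_lit 0,nat_lit 1,nat_lit 0] [],Ins.fr [nat_lit 2],Ins.ts (nat_lit 1) [nat_lit 0,nat_lit 0] [],Ins.ts (nat_lit 4) [nat_lit 0] [nat_lit 37,nat_lit 0,nat_lit 0],Ins.ts (nat_lit 2) [nat_lit 1,nat_lit 0] [],Ins.ts (nat_lit 0) [nat_lit 0,nat_lit 2,nat_lit 0,nat_lit 2] [],Ins.ts (nat_lit 2) [nat_lit 1,nat_lit 0,nat_lit 2] [],Ins.fr [nat_lit 0,nat_lit 0,nat_lit 3],Ins.ts (nat_lit 4) [nat_lit 0] [nat_lit 5,nat_lit 0,nat_lit 0],Ins.ts (nat_lit 1) [nat_lit 0,nat_lit 0] [],Ins.ts (nat_lit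 2) [nat_lit 4,nat_lit 0] [],Ins.ts (nat_lit 0) [nat_lit 2,nat_lit 0,nat_lit 2] [nat_lit 0],Ins.ts (nat_lit 0) [nat_lit 1,nat_lit 0] [nat_lit 0,nat_lit 1],Ins.fr [nat_lit 0,nat_lit 1,nat_lit 2,nat_lit 3],Ins.ts (nat_lit 0) [nat_lit 3,nat_lit 3] [nat_lit 0,nat_lit 0],Ins.ts (nat_lit 0) [nat_lit 0,nat_lit 1,nat_lit 0,nat_lit 1] [],Ins.fr [nat_lit 0,nat_lit 0,nat_lit 4,nat_lit 3],Ins.df [nat_lit 0,nat_lit 0],Ins.df [nat_lit 6,nat_lit 6],Ins.df [nat_lit 0,nat_lit 1,nat_lit 8],Ins.df [nat_lit 1,nat_lit 7,nat_lit 8],Ins.df [nat_lit 3,nat_lit 6,nat_lit 7],Ins.df [nat_lit 0,nat_lit 10]] [nat_lit 96,nat_lit 112,nat_lit 36,nat_lit 4,nat_lit 128,nat_lit 256] [nat_lit 5,nat_lit 4,nat_lit 8,nat_lit 3,nat_lit 2,nat_lit 1,nat_lit 0,nat_lit 7,nat_lit 6] (Srch.ex0 [nat_lit 68,nat_lit 36,nat_lit 16,nat_lit 8,nat_lit 2,nat_lit 1] (Srch.rep (nat_lit 12) [nat_lit 4,nat_lit 16,nat_lit 384] [nat_lit 384,nat_lit 34,nat_lit 16,nat_lit 8,nat_lit 4,nat_lit 1]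 [nat_lit 128,nat_lit 64,nat_lit 2] (Srch.rep (nat_lit 384) [nat_lit 384] [] [] (Srch.rep (nat_lit 438) [nat_lit 34] [] [] (Srch.rep (nat_lit 4) [nat_lit 12] [] [] (Srch.rep (nat_lit 36) [] [] [] Srch.nil Srch.nil) (Srch.rep (nat_lit 38) [nat_lit 12] [] [] (Srch.rep (nat_lit 7) [] [] [] Srch.nil Srch.nil) Srch.nil)) Srch.nil) (Srch.rep (nat_lit 396) [nat_lit 384] [] [] (Srch.rep (nat_lit 442) [] [] [] Srch.nil Srch.nil) (Srch.rep (nat_lit 404) [nat_lit 404] [] [] (Srch.rep (nat_lit 418) [] [] [] Srch.nil Srch.nil) (Srch.rep (nat_lit 408) [nat_lit 404] [] [] (Srch.rep (nat_lit 430) [nat_lit 34] [] [] (Srch.rep (nat_lit 4) [nat_lit 12] [] [] (Srch.rep (nat_lit 36) [] [] [] Srch.nil Srch.nil) (Srch.rep (nat_lit 38) [nat_lit 12] [] [] (Srch.rep (nat_lit 7) [] [] [] Srch.nil Srch.nil) Srch.nil)) Srch.nil) Srch.nil)))) Srch.nil)) (Node.lf (Leaf.au (nat_lit 1) (nat_lit 0) (nat_lit 0) [] [] [nat_lit 3,nat_lit 3] (nat_lit 0) [] (nat_lit 32) [nat_lit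 0,nat_lit 34,nat_lit 36,nat_lit 46,nat_lit 46,nat_lit 32,nat_lit 386,nat_lit 322,nat_lit 288])))))))))))))))))))))))))))))))
theorem ok155 : nodeOK DB PT 155 t155 (nat_lit 0xf0000000f0000000f00c0cf0f00303f000000000000000000300000c0300000c0000000000000000f00000f0f00000f0f00000f0f0f0f0f0fcfc0303fc03fc03) (nat_lit 0x111100000000000000000000000000001111000000000000000000000000000011110000000022000000220011110000111100000000002200000022111100000000000000000000000000000000000000000000000000000000000000000000000000220000000000000000000022000000002200000000000000000000220000000000000000000000000000000000000000000000000000000000000000001111000000000000000000001111000011110000000000000000000011110000111100000000000000000000111100001111000011110000111100001111000011112200111122000000003300000033111122000000005511112200000000ff) c155 = true := by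
  decide +kernel
noncomputable def c156_0 : Node :=
  Node.sp (nat_lit 32) (Node.lf (Leaf.pt (nat_lit 12) (nat_lit 32) [nat_lit 26,nat_lit 132])) (Node.st (nat_lit 0) (nat_lit 32) (nat_lit 0) (Node.sp (nat_lit 58) (Node.lf (Leaf.pt (nat_lit 9) (nat_lit 58) [nat_lit 12])) (Node.st (nat_lit 0) (nat_lit 58) (nat_lit 0) (Node.sp (nat_lit 68) (Node.lf (Leaf.pt (nat_lit 9) (nat_lit 68) [nat_lit 10])) (Node.st (nat_lit 0) (nat_lit 68) (nat_lit 0) (Node.sp (nat_lit 92) (Node.lf (Leaf.pt (nat_lit 9) (nat_lit 92) [nat_lit 10])) (Node.st (nat_lit 0) (nat_lit 92) (nat_lit 0) (Node.sp (nat_lit 100) (Node.lf (Leaf.pt (nat_lit 9) (nat_lit 100) [nat_lit 40])) (Node.st (nat_lit 0) (nat_lit 100) (nat_lit 0) (Node.sp (nat_lit 124) (Node.lf (Leaf.pt (nat_lit 9) (nat_lit 124) [nat_lit 40])) (Node.st (nat_lit 0) (nat_lit 124) (nat_lit 0) (Node.sp (nat_lit 130) (Node.lf (Leaf.pt (nat_lit 23) (nat_lit 130) [nat_lit 26,nat_lit 2,nat_lit 32])) (Node.st (nat_lit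 0) (nat_lit 130) (nat_lit 0) (Node.ext [[nat_lit 32,nat_lit 16,nat_lit 8,nat_lit 4,nat_lit 2,nat_lit 1]] (nat_lit 10) [Ins.ts (nat_lit 4) [nat_lit 0] [nat_lit 10,nat_lit 0,nat_lit 0],Ins.fr [nat_lit 0],Ins.ts (nat_lit 1) [nat_lit 0,nat_lit 0] [],Ins.ts (nat_lit 1) [nat_lit 0,nat_lit 0,nat_lit 0,nat_lit 0] [],Ins.fr [nat_lit 1],Ins.ts (nat_lit 1) [nat_lit 0,nat_lit 0] [],Ins.ts (nat_lit 0) [nat_lit 0,nat_lit 1,nat_lit 1,nat_lit 0] [],Ins.ts (nat_lit 0) [nat_lit 1,nat_lit 1,nat_lit 1] [nat_lit 0,nat_lit 1,nat_lit 0],Ins.ts (nat_lit 2) [nat_lit 0,nat_lit 0,nat_lit 1,nat_lit 0] [],Ins.fr [nat_lit 2],Ins.ts (nat_lit 1) [nat_lit 0,nat_lit 0] [],Ins.ts (nat_lit 4) [nat_lit 0] [nat_lit 37,nat_lit 0,nat_lit 0],Ins.ts (nat_lit 2) [nat_lit 1,nat_lit 0] [],Ins.ts (nat_lit 0) [nat_lit 0,nat_lit 2,nat_lit 0,nat_lit 2] [],Ins.ts (nat_lit 2) [nat_lit 1,nat_lit 0,nat_lit 2] [],Ins.fr [nat_lit 0,nat_lit 0,nat_lit 3],Ins.ts (nat_lit 4) [nat_lit 0] [nat_lit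 5,nat_lit 0,nat_lit 0],Ins.ts (nat_lit 1) [nat_lit 0,nat_lit 0] [],Ins.ts (nat_lit 2) [nat_lit 4,nat_lit 0] [],Ins.ts (nat_lit 0) [nat_lit 2,nat_lit 0,nat_lit 2] [nat_lit 0],Ins.ts (nat_lit 0) [nat_lit 1,nat_lit 0] [nat_lit 0,nat_lit 1],Ins.fr [nat_lit 0,nat_lit 3,nat_lit 0,nat_lit 2],Ins.ts (nat_lit 0) [nat_lit 2,nat_lit 2] [nat_lit 0,nat_lit 0],Ins.ts (nat_lit 0) [nat_lit 2,nat_lit 0] [nat_lit 0,nat_lit 1],Ins.df [nat_lit 0,nat_lit 0],Ins.df [nat_lit 5,nat_lit 5],Ins.df [nat_lit 0,nat_lit 1,nat_lit 7],Ins.df [nat_lit 1,nat_lit 6,nat_lit 7],Ins.df [nat_lit 3,nat_lit 5,nat_lit 6],Ins.df [nat_lit 0,nat_lit 9]] [nat_lit 96,nat_lit 112,nat_lit 36,nat_lit 4,nat_lit 128] [nat_lit 5,nat_lit 4,nat_lit 7,nat_lit 3,nat_lit 2,nat_lit 1,nat_lit 0,nat_lit 6] (Srch.ex0 [nat_lit 68,nat_lit 36,nat_lit 16,nat_lit 8,nat_lit 2,nat_lit 1] (Srch.rep (nat_lit 12) [] [nat_lit 34,nat_lit 16,nat_lit 8,nat_lit 4,nat_lit 1] [nat_lit 128,nat_lit 64,nat_lit 2]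 Srch.nil (Srch.rep (nat_lit 40) [nat_lit 4,nat_lit 24,nat_lit 72] [nat_lit 72,nat_lit 40,nat_lit 24,nat_lit 4,nat_lit 2,nat_lit 1] [nat_lit 128,nat_lit 8] (Srch.rep (nat_lit 72) [nat_lit 72] [] [] (Srch.rep (nat_lit 122) [] [] [] Srch.nil Srch.nil) (Srch.rep (nat_lit 80) [nat_lit 80] [] [] (Srch.rep (nat_lit 98) [] [] [] Srch.nil Srch.nil) (Srch.rep (nat_lit 96) [nat_lit 72] [] [] (Srch.rep (nat_lit 82) [nat_lit 2] [] [] (Srch.rep (nat_lit 4) [nat_lit 40] [] [] (Srch.rep (nat_lit 36) [] [] [] (Srch.rep (nat_lit 160) [] [] [] (Srch.fin [nat_lit 4,nat_lit 64] [nat_lit 0] (((nat_lit 32),(Leaf.pt (nat_lit 17) (nat_lit 12) [nat_lit 340,nat_lit 4]))::(((nat_lit 33),(Leaf.pt (nat_lit 17) (nat_lit 12) [nat_lit 320,nat_lit 4]))::[]))) (Srch.rep (nat_lit 161) [] [] [] (Srch.fin [nat_lit 4,nat_lit 64] [nat_lit 0] (((nat_lit 32),(Leaf.pt (nat_lit 17) (nat_lit 12) [nat_lit 340,nat_lit 4]))::(((nat_lit 33),(Leaf.pt (nat_lit 17) (nat_lit 12) [nat_lit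 320,nat_lit 4]))::[]))) Srch.nil)) Srch.nil) (Srch.rep (nat_lit 6) [nat_lit 40] [] [] (Srch.rep (nat_lit 38) [] [] [] (Srch.rep (nat_lit 160) [] [] [] (Srch.fin [nat_lit 4,nat_lit 64] [nat_lit 0] (((nat_lit 34),(Leaf.mp (nat_lit 154) [nat_lit 1,nat_lit 2,nat_lit 4,nat_lit 8,nat_lit 16,nat_lit 32,nat_lit 64,nat_lit 416,nat_lit 128] [[nat_lit 1],[nat_lit 3],[nat_lit 5]]))::(((nat_lit 35),(Leaf.pt (nat_lit 17) (nat_lit 12) [nat_lit 256,nat_lit 4]))::[]))) (Srch.rep (nat_lit 161) [] [] [] (Srch.fin [nat_lit 4,nat_lit 64] [nat_lit 0] (((nat_lit 34),(Leaf.mp (nat_lit 155) [nat_lit 1,nat_lit 2,nat_lit 4,nat_lit 8,nat_lit 16,nat_lit 32,nat_lit 64,nat_lit 416,nat_lit 128] [[nat_lit 1],[nat_lit 3],[nat_lit 5]]))::(((nat_lit 35),(Leaf.pt (nat_lit 17) (nat_lit 12) [nat_lit 256,nat_lit 4]))::[]))) Srch.nil)) Srch.nil) Srch.nil)) Srch.nil) (Srch.rep (nat_lit 120) [nat_lit 80] [] [] (Srch.rep (nat_lit 74) [nat_lit 2] [] [] (Srch.rep (nat_lit 4) [nat_lit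 40] [] [] (Srch.rep (nat_lit 36) [] [] [] (Srch.rep (nat_lit 160) [] [] [] (Srch.fin [nat_lit 4,nat_lit 64] [nat_lit 0] (((nat_lit 32),(Leaf.pt (nat_lit 12) (nat_lit 12) [nat_lit 28,nat_lit 320]))::(((nat_lit 33),(Leaf.pt (nat_lit 12) (nat_lit 12) [nat_lit 28,nat_lit 320]))::[]))) (Srch.rep (nat_lit 161) [] [] [] (Srch.fin [nat_lit 4,nat_lit 64] [nat_lit 0] (((nat_lit 32),(Leaf.pt (nat_lit 12) (nat_lit 12) [nat_lit 28,nat_lit 320]))::(((nat_lit 33),(Leaf.pt (nat_lit 12) (nat_lit 12) [nat_lit 28,nat_lit 320]))::[]))) Srch.nil)) Srch.nil) (Srch.rep (nat_lit 6) [nat_lit 40] [] [] (Srch.rep (nat_lit 38) [] [] [] (Srch.rep (nat_lit 160) [] [] [] (Srch.fin [nat_lit 4,nat_lit 64] [nat_lit 0] (((nat_lit 34),(Leaf.pt (nat_lit 18) (nat_lit 76) [nat_lit 398,nat_lit 26]))::(((nat_lit 35),(Leaf.pt (nat_lit 17) (nat_lit 12) [nat_lit 256,nat_lit 4]))::[]))) (Srch.rep (nat_lit 161) [] [] [] (Srch.fin [nat_lit 4,nat_lit 64] [nat_lit 0] (((nat_lit 34),(Leaf.pt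 (nat_lit 18) (nat_lit 76) [nat_lit 398,nat_lit 26]))::(((nat_lit 35),(Leaf.pt (nat_lit 17) (nat_lit 12) [nat_lit 256,nat_lit 4]))::[]))) Srch.nil)) Srch.nil) Srch.nil)) Srch.nil) Srch.nil)))) Srch.nil))) (Node.lf (Leaf.au (nat_lit 1) (nat_lit 0) (nat_lit 0) [] [] [nat_lit 3,nat_lit 392,nat_lit 1,nat_lit 3] (nat_lit 0) [] (nat_lit 2) [nat_lit 0,nat_lit 2,nat_lit 6,nat_lit 40,nat_lit 40,nat_lit 32,nat_lit 96,nat_lit 160]))))))))))))))))
noncomputable def t156 : ℕ := nat_lit 0x8100810081008100a100a100a100a1009a009a009b009b00ba00ba00bb00bb009b009b009a009a00bb00bb00ba00ba008100810081008100a100a100a100a1008100810081008100a100a100a100a1009a009a009b009b00ba00ba00bb00bb009b009b009a009a00bb00bb00ba00ba008100810081008100a100a100a100a100a100a100a100a1008100810081008100ba00ba00bb00bb009a009a009b009b00bb00bb00ba00ba009b009b009a009a00a100a100a100a1008100810081008100a100a100a100a1008100810081008100ba00ba00bb00bb009a009a009b009b00bb00bb00ba00ba009b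009b009a009a00a100a100a100a10081008100810081008000800080008000a000a000a000a0009b009b009a009a00bb00bb00ba00ba009a009a009b009b00ba00ba00bb00bb008000800080008000a000a000a000a0008000800080008000a000a000a000a0009b009b009a009a00bb00bb00ba00ba009a009a009b009b00ba00ba00bb00bb008000800080008000a000a000a000a000a000a000a000a0008000800080008000bb00bb00ba00ba009b009b009a009a00ba00ba00bb00bb009a009a009b009b00a000a000a000a0008000800080008000a000a000a000a0008000800080008000bb00bb00ba00ba009b009b009a009a00ba00ba00bb00bb009a009a009b009b00a000a000a000a00080008000800080004000400040004000420042004300430041004100410041004300430042004200400040004000400042004200430043004100410041004100430043004200420040004000400040004200420043004300410041004100410043004300420042004000400040004000420042004300430041004100410041004300430042004200430043004200420041004100410041004200420043004300400040004000400043004300420042004100410041004100420042004300430040004000400040004300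4300420042004100410041004100420042004300430040004000400040004300430042004200410041004100410042004200430043004000400040004000200020002000200020002000200020002100210021002100210021002100210021002100210021002100210021002100200020002000200020002000200020002000200020002000200020002000200021002100210021002100210021002100210021002100210021002100210021002000200020002000200020002000200010001000100010001000100010001000100010001000100010001000100010001000100010001000100010001000100010001000100010001000100010001000090009000900090009000900090009000800080008000800080008000800080004000400050005000500050004000400030003000200020001000100000000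
noncomputable def c156 : Node :=
  (Node.st (nat_lit 0) (nat_lit 10) (nat_lit 0) (Node.st (nat_lit 2) (nat_lit 0) (nat_lit 10) (Node.st (nat_lit 0) (nat_lit 14) (nat_lit 0) (Node.st (nat_lit 2) (nat_lit 0) (nat_lit 50) (Node.st (nat_lit 0) (nat_lit 50) (nat_lit 0) (Node.st (nat_lit 2) (nat_lit 2) (nat_lit 5) (Node.st (nat_lit 0) (nat_lit 78) (nat_lit 0) (Node.sp (nat_lit 1) (Node.lf (Leaf.pt (nat_lit 9) (nat_lit 1) [nat_lit 10])) (Node.sp (nat_lit 26) (Node.lf (Leaf.pt (nat_lit 9) (nat_lit 26) [nat_lit 10])) (Node.st (nat_lit 0) (nat_lit 26) (nat_lit 0) (Node.sp (nat_lit 28) (Node.lf (Leaf.pt (nat_lit 9) (nat_lit 28) [nat_lit 12])) (Node.st (nat_lit 0) (nat_lit 28) (nat_lit 0) c156_0))))))))))))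
theorem ok156 : nodeOK DB PT 156 t156 (nat_lit 0x300000c0300000cf00000f0f0f0f0f0fcfc0303fc03fc03) (nat_lit 0x2200000000000000000000220000000022000000000000000000002200111100000000000000000000111100001111000011110000111100001111000011112200111122000000003300000033111122000000005511112200000000ff) c156 = true := by
  decide +kernel
noncomputable def c157_0 : Node :=
  Node.ext [[nat_lit 32,nat_lit 16,nat_lit 8,nat_lit 4,nat_lit 2,nat_lit 1]] (nat_lit 10) [Ins.ts (nat_lit 4) [nat_lit 0] [nat_lit 10,nat_lit 0,nat_lit 0],Ins.fr [nat_lit 0],Ins.ts (nat_lit 1) [nat_lit 0,nat_lit 0] [],Ins.ts (nat_lit 1) [nat_lit 0,nat_lit 0,nat_lit 0,nat_lit 0] [],Ins.fr [nat_lit 1],Ins.ts (nat_lit 1) [nat_lit 0,nat_lit 0] [],Ins.ts (nat_lit 0) [nat_lit 0,nat_lit 1,nat_lit 1,nat_lit 0] [],Ins.ts (nat_lit 0) [nat_lit 1,nat_lit 1,nat_lit 1] [nat_lit 0,nat_lit 1,nat_lit 0],Ins.ts (nat_lit 2) [nat_lit 0,nat_lit 0,nat_lit 1,nat_lit 0] [],Ins.fr [nat_lit 2],Ins.ts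 (nat_lit 1) [nat_lit 0,nat_lit 0] [],Ins.ts (nat_lit 4) [nat_lit 0] [nat_lit 37,nat_lit 0,nat_lit 0],Ins.ts (nat_lit 2) [nat_lit 1,nat_lit 0] [],Ins.ts (nat_lit 0) [nat_lit 0,nat_lit 2,nat_lit 0,nat_lit 2] [],Ins.ts (nat_lit 2) [nat_lit 1,nat_lit 0,nat_lit 2] [],Ins.fr [nat_lit 0,nat_lit 0,nat_lit 3],Ins.ts (nat_lit 4) [nat_lit 0] [nat_lit 5,nat_lit 0,nat_lit 0],Ins.ts (nat_lit 1) [nat_lit 0,nat_lit 0] [],Ins.ts (nat_lit 2) [nat_lit 4,nat_lit 0] [],Ins.ts (nat_lit 0) [nat_lit 2,nat_lit 0,nat_lit 2] [nat_lit 0],Ins.ts (nat_lit 0) [nat_lit 1,nat_lit 0] [nat_lit 0,nat_lit 1],Ins.fr [nat_lit 0,nat_lit 1,nat_lit 2,nat_lit 2,nat_lit 4],Ins.ts (nat_lit 0) [nat_lit 0,nat_lit 3,nat_lit 0] [nat_lit 3],Ins.ts (nat_lit 0) [nat_lit 4,nat_lit 0] [nat_lit 0,nat_lit 4],Ins.fr [nat_lit 5,nat_lit 1],Ins.ts (nat_lit 0) [nat_lit 5,nat_lit 0] [nat_lit 0,nat_lit 1],Ins.ts (nat_lit 0) [nat_lit 2,nat_lit 0,nat_lit 0] [nat_lit 1,nat_lit 5],Ins.df [nat_lit 2,nat_lit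 2],Ins.df [nat_lit 6,nat_lit 6],Ins.df [nat_lit 0,nat_lit 1,nat_lit 8],Ins.df [nat_lit 1,nat_lit 7,nat_lit 8],Ins.df [nat_lit 2,nat_lit 5,nat_lit 5],Ins.df [nat_lit 0,nat_lit 10]] [nat_lit 96,nat_lit 112,nat_lit 36,nat_lit 4,nat_lit 128,nat_lit 256] [nat_lit 5,nat_lit 4,nat_lit 8,nat_lit 3,nat_lit 2,nat_lit 1,nat_lit 0,nat_lit 7,nat_lit 6] (Srch.ex0 [nat_lit 68,nat_lit 36,nat_lit 16,nat_lit 8,nat_lit 2,nat_lit 1] (Srch.rep (nat_lit 16) [nat_lit 4,nat_lit 8,nat_lit 64] [nat_lit 64,nat_lit 16,nat_lit 8,nat_lit 4,nat_lit 2,nat_lit 1] [nat_lit 256,nat_lit 128,nat_lit 32] (Srch.rep (nat_lit 64) [nat_lit 64] [] [] (Srch.rep (nat_lit 74) [nat_lit 2] [] [] (Srch.rep (nat_lit 4) [nat_lit 16] [] [] (Srch.rep (nat_lit 36) [] [] [] (Srch.rep (nat_lit 160) [] [] [] (Srch.rep (nat_lit 282) [] [] [] (Srch.fin [nat_lit 256] [nat_lit 0] (((nat_lit 0),(Leaf.mp (nat_lit 108) [nat_lit 1,nat_lit 2,nat_lit 4,nat_lit 8,nat_lit 16,nat_lit 32,nat_lit 64,nat_lit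 640,nat_lit 512,nat_lit 256] [[nat_lit 1],[nat_lit 3],[nat_lit 5]]))::(((nat_lit 1),(Leaf.mp (nat_lit 142) [nat_lit 1,nat_lit 2,nat_lit 4,nat_lit 8,nat_lit 16,nat_lit 32,nat_lit 64,nat_lit 640,nat_lit 513,nat_lit 256] [[nat_lit 1],[nat_lit 3],[nat_lit 5]]))::[]))) (Srch.rep (nat_lit 283) [] [] [] (Srch.fin [nat_lit 256] [nat_lit 0] (((nat_lit 0),(Leaf.mp (nat_lit 111) [nat_lit 1,nat_lit 2,nat_lit 4,nat_lit 8,nat_lit 16,nat_lit 32,nat_lit 64,nat_lit 640,nat_lit 512,nat_lit 256] [[nat_lit 1],[nat_lit 3],[nat_lit 5]]))::(((nat_lit 1),(Leaf.mp (nat_lit 143) [nat_lit 1,nat_lit 2,nat_lit 4,nat_lit 8,nat_lit 16,nat_lit 32,nat_lit 64,nat_lit 640,nat_lit 513,nat_lit 256] [[nat_lit 1],[nat_lit 3],[nat_lit 5]]))::[]))) Srch.nil)) (Srch.rep (nat_lit 161) [] [] [] Srch.nil Srch.nil)) Srch.nil) (Srch.rep (nat_lit 6) [nat_lit 16] [] [] (Srch.rep (nat_lit 38) [] [] [] (Srch.rep (nat_lit 160) [] [] [] (Srch.rep (nat_lit 504) [] [] [] (Srch.fin [nat_lit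 256] [nat_lit 0] (((nat_lit 2),(Leaf.au (nat_lit 3) (nat_lit 16) (nat_lit 0) [[nat_lit 16,nat_lit 11,nat_lit 69,nat_lit 1]] [nat_lit 68,nat_lit 16,nat_lit 8,nat_lit 2,nat_lit 1] [nat_lit 5,nat_lit 1216,nat_lit 5,nat_lit 1152,nat_lit 5] (nat_lit 1) [nat_lit 0,nat_lit 1,nat_lit 69,nat_lit 68,nat_lit 11,nat_lit 10,nat_lit 78,nat_lit 79,nat_lit 16,nat_lit 17,nat_lit 85,nat_lit 84,nat_lit 27,nat_lit 26,nat_lit 94,nat_lit 95] (nat_lit 0) [nat_lit 0,nat_lit 0,nat_lit 2,nat_lit 2,nat_lit 0]))::(((nat_lit 3),(Leaf.au (nat_lit 3) (nat_lit 16) (nat_lit 0) [[nat_lit 16,nat_lit 11,nat_lit 69,nat_lit 1]] [nat_lit 68,nat_lit 16,nat_lit 8,nat_lit 2,nat_lit 1] [nat_lit 5,nat_lit 1216,nat_lit 5,nat_lit 1152,nat_lit 5] (nat_lit 1) [nat_lit 0,nat_lit 1,nat_lit 69,nat_lit 68,nat_lit 11,nat_lit 10,nat_lit 78,nat_lit 79,nat_lit 16,nat_lit 17,nat_lit 85,nat_lit 84,nat_lit 27,nat_lit 26,nat_lit 94,nat_lit 95] (nat_lit 0) [nat_lit 0,nat_lit 0,nat_lit 2,nat_lit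 2,nat_lit 0]))::[]))) (Srch.rep (nat_lit 505) [] [] [] (Srch.fin [nat_lit 256] [nat_lit 0] (((nat_lit 2),(Leaf.au (nat_lit 3) (nat_lit 16) (nat_lit 0) [[nat_lit 16,nat_lit 11,nat_lit 69,nat_lit 1]] [nat_lit 68,nat_lit 16,nat_lit 8,nat_lit 2,nat_lit 1] [nat_lit 5,nat_lit 1216,nat_lit 5,nat_lit 1152,nat_lit 5] (nat_lit 1) [nat_lit 0,nat_lit 1,nat_lit 69,nat_lit 68,nat_lit 11,nat_lit 10,nat_lit 78,nat_lit 79,nat_lit 16,nat_lit 17,nat_lit 85,nat_lit 84,nat_lit 27,nat_lit 26,nat_lit 94,nat_lit 95] (nat_lit 0) [nat_lit 0,nat_lit 0,nat_lit 2,nat_lit 2,nat_lit 0]))::(((nat_lit 3),(Leaf.au (nat_lit 3) (nat_lit 16) (nat_lit 0) [[nat_lit 16,nat_lit 11,nat_lit 69,nat_lit 1]] [nat_lit 68,nat_lit 16,nat_lit 8,nat_lit 2,nat_lit 1] [nat_lit 5,nat_lit 1216,nat_lit 5,nat_lit 1152,nat_lit 5] (nat_lit 1) [nat_lit 0,nat_lit 1,nat_lit 69,nat_lit 68,nat_lit 11,nat_lit 10,nat_lit 78,nat_lit 79,nat_lit 16,nat_lit 17,nat_lit 85,nat_lit 84,nat_lit 27,nat_lit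 26,nat_lit 94,nat_lit 95] (nat_lit 0) [nat_lit 0,nat_lit 0,nat_lit 2,nat_lit 2,nat_lit 0]))::[]))) Srch.nil)) (Srch.rep (nat_lit 161) [] [] [] Srch.nil Srch.nil)) Srch.nil) Srch.nil)) Srch.nil) (Srch.rep (nat_lit 72) [nat_lit 72] [] [] (Srch.rep (nat_lit 66) [] [] [] Srch.nil Srch.nil) (Srch.rep (nat_lit 80) [nat_lit 64] [] [] (Srch.rep (nat_lit 90) [] [] [] Srch.nil Srch.nil) (Srch.rep (nat_lit 88) [nat_lit 72] [] [] (Srch.rep (nat_lit 82) [nat_lit 2] [] [] (Srch.rep (nat_lit 4) [nat_lit 16] [] [] (Srch.rep (nat_lit 36) [] [] [] (Srch.rep (nat_lit 184) [] [] [] (Srch.rep (nat_lit 258) [] [] [] (Srch.fin [nat_lit 256] [nat_lit 0] (((nat_lit 32),(Leaf.pt (nat_lit 12) (nat_lit 76) [nat_lit 70,nat_lit 516]))::(((nat_lit 33),(Leaf.pt (nat_lit 12) (nat_lit 76) [nat_lit 220,nat_lit 526]))::[]))) (Srch.rep (nat_lit 259) [] [] [] (Srch.fin [nat_lit 256] [nat_lit 0] (((nat_lit 32),(Leaf.pt (nat_lit 12) (nat_lit 76) [nat_lit 70,nat_lit 516]))::(((nat_lit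 33),(Leaf.pt (nat_lit 12) (nat_lit 76) [nat_lit 220,nat_lit 526]))::[]))) Srch.nil)) (Srch.rep (nat_lit 185) [] [] [] Srch.nil Srch.nil)) Srch.nil) (Srch.rep (nat_lit 6) [nat_lit 16] [] [] (Srch.rep (nat_lit 38) [] [] [] (Srch.rep (nat_lit 184) [] [] [] (Srch.rep (nat_lit 480) [] [] [] (Srch.fin [nat_lit 256] [nat_lit 0] (((nat_lit 34),(Leaf.pt (nat_lit 3) (nat_lit 76) [nat_lit 512,nat_lit 70]))::(((nat_lit 35),(Leaf.pt (nat_lit 17) (nat_lit 76) [nat_lit 512,nat_lit 138]))::[]))) (Srch.rep (nat_lit 481) [] [] [] (Srch.fin [nat_lit 256] [nat_lit 0] (((nat_lit 34),(Leaf.pt (nat_lit 3) (nat_lit 76) [nat_lit 512,nat_lit 70]))::(((nat_lit 35),(Leaf.pt (nat_lit 17) (nat_lit 76) [nat_lit 512,nat_lit 138]))::[]))) Srch.nil)) (Srch.rep (nat_lit 185) [] [] [] Srch.nil Srch.nil)) Srch.nil) Srch.nil)) Srch.nil) Srch.nil)))) Srch.nil)) (Node.lf (Leaf.au (nat_lit 1) (nat_lit 0) (nat_lit 0) [] [] [nat_lit 3,nat_lit 1] (nat_lit 0) [] (nat_lit 34) [nat_lit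 0,nat_lit 2,nat_lit 38,nat_lit 10,nat_lit 10,nat_lit 32,nat_lit 96,nat_lit 160,nat_lit 480]))
noncomputable def t157 : ℕ := nat_lit 0x1e501e501c401c401e601e601c601c601c201c201e301e301c001c001e001e001c301c301e201e201c101c101e101e101e401e401c501c501e701e701c701c701e401e401c501c501e701e701c701c701c301c301e201e201c101c101e101e101c201c201e301e301c001c001e001e001e501e501c401c401e601e601c601c60105010501240124010601060126012601220122010301030120012001000100012301230102010201210121010101010104010401250125010701070127012701040104012501250107010701270127012301230102010201210121010101010122012201030103012001200100010001050105012401240106010601260126010701070127012701040104012501250120012001000100012201220103010301210121010101010123012301020102010601060126012601050105012401240106010601260126010501050124012401210121010101010123012301020102012001200100010001220122010301030107010701270127010401040125012501e701e701c701c701e401e401c501c501c001c001e0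01e001c201c201e301e301c101c101e101e101c301c301e201e201e601e601c601c601e501e501c401c401e601e601c601c601e501e501c401c401c101c101e101e101c301c301e201e201c001c001e001e001c201c201e301e301e701e701c701c701e401e401c501c5012101210100010001230123010301030107010701260126010401040124012401060106012701270105010501250125012001200101010101220122010201020120012001010101012201220102010201060106012701270105010501250125010701070126012601040104012401240121012101000100012301230103010301c001c001e101e101c201c201e201e201e601e601c701c701e501e501c501c501e701e701c601c601e401e401c401c401c101c101e001e001c301c301e301e301c101c101e001e001c301c301e301e301e701e701c601c601e401e401c401c401e601e601c701c701e501e501c501c501c001c001e101e101c201c201e201e201c201c201e201e201c001c001e101e101e401e401c401c401e701e701c601c601e501e501c501c501e601e601c701c701c301c301e301e301c101c101e001e001c301c301e301e301c101c101e001e001e501e501c501c501e601e601c701c701e401e401c401c401e701e701c601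c601c201c201e201e201c001c001e101e10123012301030103012101210100010001050105012501250106010601270127010401040124012401070107012601260122012201020102012001200101010101220122010201020120012001010101010401040124012401070107012601260105010501250125010601060127012701230123010301030121012101000100008000800080008000a300a300a200a200a200a200a300a3008000800080008000a300a300a200a20081008100810081008100810081008100a200a200a300a3008000800080008000a300a300a200a200a200a200a300a3008000800080008000a300a300a200a20081008100810081008100810081008100a200a200a300a3008000800080008000a300a300a200a200a200a200a300a3008000800080008000a300a300a200a20081008100810081008100810081008100a200a200a300a3008000800080008000a300a300a200a200a200a200a300a3008000800080008000a300a300a200a20081008100810081008100810081008100a200a200a300a300a200a200a300a30081008100810081008100810081008100a300a300a200a2008000800080008000a200a200a300a300a300a300a200a2008000800080008000a200a200a300a3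0081008100810081008100810081008100a300a300a200a2008000800080008000a200a200a300a300a300a300a200a2008000800080008000a200a200a300a30081008100810081008100810081008100a300a300a200a2008000800080008000a200a200a300a300a300a300a200a2008000800080008000a200a200a300a30081008100810081008100810081008100a300a300a200a2008000800080008000a200a200a300a300a300a300a200a200800080008000800040004000400040004200420043004300410041004100410043004300420042004000400040004000420042004300430041004100410041004300430042004200400040004000400042004200430043004100410041004100430043004200420040004000400040004200420043004300410041004100410043004300420042004300430042004200410041004100410042004200430043004000400040004000430043004200420041004100410041004200420043004300400040004000400043004300420042004100410041004100420042004300430040004000400040004300430042004200410041004100410042004200430043004000400040004000200020002000200020002000200020002100210021002100210021002100210021002100210021002100210021002100200020002000200020002000200020002000200020002000200020002000200021002100210021002100210021002100210021002100210021002100210021002000200020002000200020002000200010001000100010001000100010001000100010001000100010001000100010001000100010001000100010001000100010001000100010001000100010001000090009000900090009000900090009000800080008000800080008000800080004000400050005000500050004000400030003000200020001000100000000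
noncomputable def c157 : Node :=
  (Node.st (nat_lit 0) (nat_lit 10) (nat_lit 0) (Node.st (nat_lit 2) (nat_lit 1) (nat_lit 10) (Node.st (nat_lit 0) (nat_lit 17) (nat_lit 0) (Node.st (nat_lit 2) (nat_lit 2) (nat_lit 5) (Node.st (nat_lit 0) (nat_lit 78) (nat_lit 0) (Node.st (nat_lit 2) (nat_lit 2) (nat_lit 9) (Node.st (nat_lit 0) (nat_lit 85) (nat_lit 0) (Node.sp (nat_lit 1) (Node.lf (Leaf.pt (nat_lit 9) (nat_lit 1) [nat_lit 10])) (Node.sp (nat_lit 26) (Node.lf (Leaf.pt (nat_lit 9) (nat_lit 26) [nat_lit 10])) (Node.st (nat_lit 0) (nat_lit 26) (nat_lit 0) (Node.sp (nat_lit 28) (Node.lf (Leaf.pt (nat_lit 9) (nat_lit 28) [nat_lit 12])) (Node.st (nat_lit 0) (nat_lit 28) (nat_lit 0) (Node.sp (nat_lit 32) (Node.lf (Leaf.pt (nat_lit 12) (nat_lit 32) [nat_lit 28,nat_lit 196])) (Node.st (nat_lit 0) (nat_lit 32) (nat_lit 0) (Node.sp (nat_lit 68) (Node.lf (Leaf.pt (nat_lit 9) (nat_lit 68) [nat_lit 10])) (Node.st (nat_lit 0) (nat_lit 68) (nat_lit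 0) (Node.sp (nat_lit 92) (Node.lf (Leaf.pt (nat_lit 9) (nat_lit 92) [nat_lit 10])) (Node.st (nat_lit 0) (nat_lit 92) (nat_lit 0) (Node.sp (nat_lit 220) (Node.lf (Leaf.pt (nat_lit 9) (nat_lit 220) [nat_lit 76])) (Node.st (nat_lit 0) (nat_lit 220) (nat_lit 0) (Node.sp (nat_lit 328) (Node.lf (Leaf.pt (nat_lit 19) (nat_lit 328) [nat_lit 24,nat_lit 194])) (Node.st (nat_lit 0) (nat_lit 328) (nat_lit 0) c157_0))))))))))))))))))))))
theorem ok157 : nodeOK DB PT 157 t157 (nat_lit 0xc3000000c30000003300000033000000000000000000f0000000f0000000f00c0cf0f00303f0f00000f0f0f0f0f0fcfc0303fc03fc03) (nat_lit 0x1100001100000000000000000000000011000011000000000000000000000000001100110000000000000000000000000011001100000000000000000000000000000000000000000000000000000000000000000000000011110000000000000000000000000000111100000000000000000000000000001111000000002200000022001111000011110000000000220000002211110000111100000000000000000000111100001111000011110000111100001111000011112200111122000000003300000033111122000000005511112200000000ff)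 c157 = true := by
  decide +kernel
noncomputable def c158_0 : Node :=
  Node.ext [[nat_lit 32,nat_lit 16,nat_lit 8,nat_lit 4,nat_lit 2,nat_lit 1]] (nat_lit 10) [Ins.ts (nat_lit 4) [nat_lit 0] [nat_lit 10,nat_lit 0,nat_lit 0],Ins.fr [nat_lit 0],Ins.ts (nat_lit 1) [nat_lit 0,nat_lit 0] [],Ins.ts (nat_lit 1) [nat_lit 0,nat_lit 0,nat_lit 0,nat_lit 0] [],Ins.fr [nat_lit 1],Ins.ts (nat_lit 1) [nat_lit 0,nat_lit 0] [],Ins.ts (nat_lit 0) [nat_lit 0,nat_lit 1,nat_lit 1,nat_lit 0] [],Ins.ts (nat_lit 0) [nat_lit 1,nat_lit 1,nat_lit 1] [nat_lit 0,nat_lit 1,nat_lit 0],Ins.ts (nat_lit 2) [nat_lit 0,nat_lit 0,nat_lit 1,nat_lit 0] [],Ins.fr [nat_lit 2],Ins.ts (nat_lit 1) [nat_lit 0,nat_lit 0] [],Ins.ts (nat_lit 4) [nat_lit 0] [nat_lit 37,nat_lit 0,nat_lit 0],Ins.ts (nat_lit 2) [nat_lit 1,nat_lit 0] [],Ins.ts (nat_lit 0) [nat_lit 0,nat_lit 2,nat_lit 0,nat_lit 2] [],Ins.ts (nat_lit 2) [nat_lit 1,nat_lit 0,nat_lit 2] [],Ins.fr [nat_lit 0,nat_lit 0,nat_lit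 3],Ins.ts (nat_lit 4) [nat_lit 0] [nat_lit 5,nat_lit 0,nat_lit 0],Ins.ts (nat_lit 1) [nat_lit 0,nat_lit 0] [],Ins.ts (nat_lit 2) [nat_lit 4,nat_lit 0] [],Ins.ts (nat_lit 0) [nat_lit 2,nat_lit 0,nat_lit 2] [nat_lit 0],Ins.ts (nat_lit 0) [nat_lit 1,nat_lit 0] [nat_lit 0,nat_lit 1],Ins.fr [nat_lit 0,nat_lit 1,nat_lit 2,nat_lit 2,nat_lit 4],Ins.ts (nat_lit 0) [nat_lit 0,nat_lit 3,nat_lit 0] [nat_lit 3],Ins.ts (nat_lit 0) [nat_lit 4,nat_lit 0] [nat_lit 0,nat_lit 4],Ins.fr [nat_lit 5,nat_lit 1],Ins.ts (nat_lit 0) [nat_lit 5,nat_lit 0] [nat_lit 0,nat_lit 1],Ins.ts (nat_lit 0) [nat_lit 6,nat_lit 1,nat_lit 2] [nat_lit 0,nat_lit 0,nat_lit 4],Ins.df [nat_lit 2,nat_lit 2],Ins.df [nat_lit 6,nat_lit 6],Ins.df [nat_lit 0,nat_lit 1,nat_lit 8],Ins.df [nat_lit 1,nat_lit 7,nat_lit 8],Ins.df [nat_lit 2,nat_lit 5,nat_lit 5],Ins.df [nat_lit 0,nat_lit 10]] [nat_lit 96,nat_lit 112,nat_lit 36,nat_lit 4,nat_lit 128,nat_lit 256] [nat_lit 5,nat_lit 4,nat_lit 8,nat_lit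 3,nat_lit 2,nat_lit 1,nat_lit 0,nat_lit 7,nat_lit 6] (Srch.ex0 [nat_lit 68,nat_lit 36,nat_lit 16,nat_lit 8,nat_lit 2,nat_lit 1] (Srch.rep (nat_lit 16) [nat_lit 4,nat_lit 8,nat_lit 64] [nat_lit 64,nat_lit 16,nat_lit 8,nat_lit 4,nat_lit 2,nat_lit 1] [nat_lit 256,nat_lit 128,nat_lit 32] (Srch.rep (nat_lit 64) [nat_lit 64] [] [] (Srch.rep (nat_lit 74) [nat_lit 2] [] [] (Srch.rep (nat_lit 4) [nat_lit 16] [] [] (Srch.rep (nat_lit 36) [] [] [] (Srch.rep (nat_lit 160) [] [] [] (Srch.rep (nat_lit 282) [] [] [] (Srch.fin [nat_lit 256] [nat_lit 0] (((nat_lit 0),(Leaf.mp (nat_lit 110) [nat_lit 1,nat_lit 2,nat_lit 4,nat_lit 8,nat_lit 16,nat_lit 32,nat_lit 64,nat_lit 640,nat_lit 512,nat_lit 256] [[nat_lit 1],[nat_lit 3],[nat_lit 5]]))::(((nat_lit 1),(Leaf.mp (nat_lit 144) [nat_lit 1,nat_lit 2,nat_lit 4,nat_lit 8,nat_lit 16,nat_lit 32,nat_lit 64,nat_lit 640,nat_lit 513,nat_lit 256] [[nat_lit 1],[nat_lit 3],[nat_lit 5]]))::[]))) (Srch.rep (nat_lit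 283) [] [] [] (Srch.fin [nat_lit 256] [nat_lit 0] (((nat_lit 0),(Leaf.mp (nat_lit 109) [nat_lit 1,nat_lit 2,nat_lit 4,nat_lit 8,nat_lit 16,nat_lit 32,nat_lit 64,nat_lit 640,nat_lit 512,nat_lit 256] [[nat_lit 1],[nat_lit 3],[nat_lit 5]]))::(((nat_lit 1),(Leaf.mp (nat_lit 124) [nat_lit 1,nat_lit 2,nat_lit 4,nat_lit 8,nat_lit 16,nat_lit 32,nat_lit 64,nat_lit 640,nat_lit 513,nat_lit 256] [[nat_lit 1],[nat_lit 3],[nat_lit 5]]))::[]))) Srch.nil)) (Srch.rep (nat_lit 161) [] [] [] Srch.nil Srch.nil)) Srch.nil) (Srch.rep (nat_lit 6) [nat_lit 16] [] [] (Srch.rep (nat_lit 38) [] [] [] (Srch.rep (nat_lit 160) [] [] [] Srch.nil (Srch.rep (nat_lit 161) [] [] [] (Srch.rep (nat_lit 480) [] [] [] (Srch.fin [nat_lit 256] [nat_lit 0] (((nat_lit 2),(Leaf.au (nat_lit 3) (nat_lit 16) (nat_lit 0) [[nat_lit 16,nat_lit 11,nat_lit 69,nat_lit 1]] [nat_lit 68,nat_lit 16,nat_lit 8,nat_lit 2,nat_lit 1] [nat_lit 5,nat_lit 1216,nat_lit 5,nat_lit 1152,nat_lit 5] (nat_lit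 1) [nat_lit 0,nat_lit 1,nat_lit 69,nat_lit 68,nat_lit 11,nat_lit 10,nat_lit 78,nat_lit 79,nat_lit 16,nat_lit 17,nat_lit 85,nat_lit 84,nat_lit 27,nat_lit 26,nat_lit 94,nat_lit 95] (nat_lit 0) [nat_lit 0,nat_lit 0,nat_lit 2,nat_lit 2,nat_lit 0]))::(((nat_lit 3),(Leaf.au (nat_lit 3) (nat_lit 16) (nat_lit 0) [[nat_lit 16,nat_lit 11,nat_lit 69,nat_lit 1]] [nat_lit 68,nat_lit 16,nat_lit 8,nat_lit 2,nat_lit 1] [nat_lit 5,nat_lit 1216,nat_lit 5,nat_lit 1152,nat_lit 5] (nat_lit 1) [nat_lit 0,nat_lit 1,nat_lit 69,nat_lit 68,nat_lit 11,nat_lit 10,nat_lit 78,nat_lit 79,nat_lit 16,nat_lit 17,nat_lit 85,nat_lit 84,nat_lit 27,nat_lit 26,nat_lit 94,nat_lit 95] (nat_lit 0) [nat_lit 0,nat_lit 0,nat_lit 2,nat_lit 2,nat_lit 0]))::[]))) (Srch.rep (nat_lit 481) [] [] [] (Srch.fin [nat_lit 256] [nat_lit 0] (((nat_lit 2),(Leaf.au (nat_lit 3) (nat_lit 16) (nat_lit 0) [[nat_lit 16,nat_lit 11,nat_lit 69,nat_lit 1]] [nat_lit 68,nat_lit 16,nat_lit 8,nat_lit 2,nat_lit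 1] [nat_lit 5,nat_lit 1216,nat_lit 5,nat_lit 1152,nat_lit 5] (nat_lit 1) [nat_lit 0,nat_lit 1,nat_lit 69,nat_lit 68,nat_lit 11,nat_lit 10,nat_lit 78,nat_lit 79,nat_lit 16,nat_lit 17,nat_lit 85,nat_lit 84,nat_lit 27,nat_lit 26,nat_lit 94,nat_lit 95] (nat_lit 0) [nat_lit 0,nat_lit 0,nat_lit 2,nat_lit 2,nat_lit 0]))::(((nat_lit 3),(Leaf.au (nat_lit 3) (nat_lit 16) (nat_lit 0) [[nat_lit 16,nat_lit 11,nat_lit 69,nat_lit 1]] [nat_lit 68,nat_lit 16,nat_lit 8,nat_lit 2,nat_lit 1] [nat_lit 5,nat_lit 1216,nat_lit 5,nat_lit 1152,nat_lit 5] (nat_lit 1) [nat_lit 0,nat_lit 1,nat_lit 69,nat_lit 68,nat_lit 11,nat_lit 10,nat_lit 78,nat_lit 79,nat_lit 16,nat_lit 17,nat_lit 85,nat_lit 84,nat_lit 27,nat_lit 26,nat_lit 94,nat_lit 95] (nat_lit 0) [nat_lit 0,nat_lit 0,nat_lit 2,nat_lit 2,nat_lit 0]))::[]))) Srch.nil)) Srch.nil)) Srch.nil) Srch.nil)) Srch.nil) (Srch.rep (nat_lit 72) [nat_lit 72] [] [] (Srch.rep (nat_lit 66) [] [] [] Srch.nil Srch.nil) (Srch.rep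 (nat_lit 80) [nat_lit 64] [] [] (Srch.rep (nat_lit 90) [] [] [] Srch.nil Srch.nil) (Srch.rep (nat_lit 88) [nat_lit 72] [] [] (Srch.rep (nat_lit 82) [nat_lit 2] [] [] (Srch.rep (nat_lit 4) [nat_lit 16] [] [] (Srch.rep (nat_lit 36) [] [] [] (Srch.rep (nat_lit 184) [] [] [] Srch.nil (Srch.rep (nat_lit 185) [] [] [] (Srch.rep (nat_lit 282) [] [] [] (Srch.fin [nat_lit 256] [nat_lit 0] (((nat_lit 32),(Leaf.pt (nat_lit 12) (nat_lit 76) [nat_lit 70,nat_lit 516]))::(((nat_lit 33),(Leaf.pt (nat_lit 12) (nat_lit 76) [nat_lit 220,nat_lit 526]))::[]))) (Srch.rep (nat_lit 283) [] [] [] (Srch.fin [nat_lit 256] [nat_lit 0] (((nat_lit 32),(Leaf.pt (nat_lit 12) (nat_lit 76) [nat_lit 70,nat_lit 516]))::(((nat_lit 33),(Leaf.pt (nat_lit 12) (nat_lit 76) [nat_lit 220,nat_lit 526]))::[]))) Srch.nil)) Srch.nil)) Srch.nil) (Srch.rep (nat_lit 6) [nat_lit 16] [] [] (Srch.rep (nat_lit 38) [] [] [] (Srch.rep (nat_lit 184) [] [] [] (Srch.rep (nat_lit 480) [] []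 [] (Srch.fin [nat_lit 256] [nat_lit 0] (((nat_lit 34),(Leaf.pt (nat_lit 3) (nat_lit 76) [nat_lit 512,nat_lit 70]))::(((nat_lit 35),(Leaf.pt (nat_lit 17) (nat_lit 76) [nat_lit 512,nat_lit 138]))::[]))) (Srch.rep (nat_lit 481) [] [] [] (Srch.fin [nat_lit 256] [nat_lit 0] (((nat_lit 34),(Leaf.pt (nat_lit 3) (nat_lit 76) [nat_lit 512,nat_lit 70]))::(((nat_lit 35),(Leaf.pt (nat_lit 17) (nat_lit 76) [nat_lit 512,nat_lit 138]))::[]))) Srch.nil)) (Srch.rep (nat_lit 185) [] [] [] Srch.nil Srch.nil)) Srch.nil) Srch.nil)) Srch.nil) Srch.nil)))) Srch.nil)) (Node.lf (Leaf.au (nat_lit 1) (nat_lit 0) (nat_lit 0) [] [] [nat_lit 3,nat_lit 1] (nat_lit 0) [] (nat_lit 34) [nat_lit 0,nat_lit 2,nat_lit 38,nat_lit 10,nat_lit 10,nat_lit 32,nat_lit 96,nat_lit 160,nat_lit 480]))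
noncomputable def t158 : ℕ := nat_lit 0x1fc01fc01dd01dd01ff01ff01df01df01da01da01fb01fb01d801d801f801f801da01da01fb01fb01d801d801f801f801fc01fc01dd01dd01ff01ff01df01df01fd01fd01dc01dc01fe01fe01de01de01db01db01fa01fa01d901d901f901f901db01db01fa01fa01d901d901f901f901fd01fd01dc01dc01fe01fe01de01de011d011d013c013c011e011e013e013e013b013b011a011a0139013901190119013b013b011a011a0139013901190119011d011d013c013c011e011e013e013e011c011c013d013d011f011f013f013f013a013a011b011b0138013801180118013a013a011b011b0138013801180118011c011c013d013d011f011f013f013f011e011e013e013e011d011d013c013c0138013801180118013a013a011b011b0138013801180118013a013a011b011b011e011e013e013e011d011d013c013c011f011f013f013f011c011c013d013d0139013901190119013b013b011a011a0139013901190119013b013b011a011a011f011f013f013f011c011c013d013d01ff01ff01df01df01fc01fc01dd01dd01d901d901f901f901db01db01fa01fa01d901d901f901f901db01db01fa01fa01ff01ff01df01df01fc01fc01dd01dd01fe01fe01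de01de01fd01fd01dc01dc01d801d801f801f801da01da01fb01fb01d801d801f801f801da01da01fb01fb01fe01fe01de01de01fd01fd01dc01dc012001200101010101220122010201020106010601270127010501050125012501070107012601260104010401240124012101210100010001230123010301030121012101000100012301230103010301070107012601260104010401240124010601060127012701050105012501250120012001010101012201220102010201c101c101e001e001c301c301e301e301e701e701c601c601e401e401c401c401e601e601c701c701e501e501c501c501c001c001e101e101c201c201e201e201c001c001e101e101c201c201e201e201e601e601c701c701e501e501c501c501e701e701c601c601e401e401c401c401c101c101e001e001c301c301e301e301c201c201e201e201c001c001e101e101e401e401c401c401e701e701c601c601e501e501c501c501e601e601c701c701c301c301e301e301c101c101e001e001c301c301e301e301c101c101e001e001e501e501c501c501e601e601c701c701e401e401c401c401e701e701c601c601c201c201e201e201c001c001e101e1012301230103010301210121010001000105010501250125010601060127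0127010401040124012401070107012601260122012201020102012001200101010101220122010201020120012001010101010401040124012401070107012601260105010501250125010601060127012701230123010301030121012101000100008000800080008000a300a300a200a200a200a200a300a3008000800080008000a300a300a200a20081008100810081008100810081008100a200a200a300a3008000800080008000a300a300a200a200a200a200a300a3008000800080008000a300a300a200a20081008100810081008100810081008100a200a200a300a3008000800080008000a300a300a200a200a200a200a300a3008000800080008000a300a300a200a20081008100810081008100810081008100a200a200a300a3008000800080008000a300a300a200a200a200a200a300a3008000800080008000a300a300a200a20081008100810081008100810081008100a200a200a300a300a200a200a300a30081008100810081008100810081008100a300a300a200a2008000800080008000a200a200a300a300a300a300a200a2008000800080008000a200a200a300a30081008100810081008100810081008100a300a300a200a2008000800080008000a200a200a300a300a300a300a200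a2008000800080008000a200a200a300a30081008100810081008100810081008100a300a300a200a2008000800080008000a200a200a300a300a300a300a200a2008000800080008000a200a200a300a30081008100810081008100810081008100a300a300a200a2008000800080008000a200a200a300a300a300a300a200a200800080008000800040004000400040004200420043004300410041004100410043004300420042004000400040004000420042004300430041004100410041004300430042004200400040004000400042004200430043004100410041004100430043004200420040004000400040004200420043004300410041004100410043004300420042004300430042004200410041004100410042004200430043004000400040004000430043004200420041004100410041004200420043004300400040004000400043004300420042004100410041004100420042004300430040004000400040004300430042004200410041004100410042004200430043004000400040004000200020002000200020002000200020002100210021002100210021002100210021002100210021002100210021002100200020002000200020002000200020002000200020002000200020002000200021002100210021002100210021002100210021002100210021002100210021002000200020002000200020002000200010001000100010001000100010001000100010001000100010001000100010001000100010001000100010001000100010001000100010001000100010001000090009000900090009000900090009000800080008000800080008000800080004000400050005000500050004000400030003000200020001000100000000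
noncomputable def c158 : Node :=
  (Node.st (nat_lit 0) (nat_lit 10) (nat_lit 0) (Node.st (nat_lit 2) (nat_lit 1) (nat_lit 10) (Node.st (nat_lit 0) (nat_lit 17) (nat_lit 0) (Node.st (nat_lit 2) (nat_lit 2) (nat_lit 5) (Node.st (nat_lit 0) (nat_lit 78) (nat_lit 0) (Node.st (nat_lit 2) (nat_lit 2) (nat_lit 9) (Node.st (nat_lit 0) (nat_lit 85) (nat_lit 0) (Node.sp (nat_lit 1) (Node.lf (Leaf.pt (nat_lit 9) (nat_lit 1) [nat_lit 10])) (Node.sp (nat_lit 26) (Node.lf (Leaf.pt (nat_lit 9) (nat_lit 26) [nat_lit 10])) (Node.st (nat_lit 0) (nat_lit 26) (nat_lit 0) (Node.sp (nat_lit 28) (Node.lf (Leaf.pt (nat_lit 9) (nat_lit 28) [nat_lit 12])) (Node.st (nat_lit 0) (nat_lit 28) (nat_lit 0) (Node.sp (nat_lit 32) (Node.lf (Leaf.pt (nat_lit 12) (nat_lit 32) [nat_lit 28,nat_lit 196])) (Node.st (nat_lit 0) (nat_lit 32) (nat_lit 0) (Node.sp (nat_lit 68) (Node.lf (Leaf.pt (nat_lit 9) (nat_lit 68) [nat_lit 10])) (Node.st (nat_lit 0) (nat_lit 68) (nat_lit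 0) (Node.sp (nat_lit 92) (Node.lf (Leaf.pt (nat_lit 9) (nat_lit 92) [nat_lit 10])) (Node.st (nat_lit 0) (nat_lit 92) (nat_lit 0) (Node.sp (nat_lit 220) (Node.lf (Leaf.pt (nat_lit 9) (nat_lit 220) [nat_lit 76])) (Node.st (nat_lit 0) (nat_lit 220) (nat_lit 0) c158_0))))))))))))))))))))
theorem ok158 : nodeOK DB PT 158 t158 (nat_lit 0xf0000000f0000000f00c0cf0f00303f0f00000f0f0f0f0f0fcfc0303fc03fc03) (nat_lit 0x11110000000000000000000000000000111100000000000000000000000000001111000000002200000022001111000011110000000000220000002211110000111100000000000000000000111100001111000011110000111100001111000011112200111122000000003300000033111122000000005511112200000000ff) c158 = true := by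
  decide +kernel
noncomputable def c159_0 : Node :=
  Node.ext [[nat_lit 32,nat_lit 16,nat_lit 8,nat_lit 4,nat_lit 2,nat_lit 1]] (nat_lit 10) [Ins.ts (nat_lit 4) [nat_lit 0] [nat_lit 10,nat_lit 0,nat_lit 0],Ins.fr [nat_lit 0],Ins.ts (nat_lit 1) [nat_lit 0,nat_lit 0] [],Ins.ts (nat_lit 1) [nat_lit 0,nat_lit 0,nat_lit 0,nat_lit 0] [],Ins.fr [nat_lit 1],Ins.ts (nat_lit 1) [nat_lit 0,nat_lit 0] [],Ins.ts (nat_lit 0) [nat_lit 0,nat_lit 1,nat_lit 1,nat_lit 0] [],Ins.ts (nat_lit 0) [nat_lit 1,nat_lit 1,nat_lit 1] [nat_lit 0,nat_lit 1,nat_lit 0],Ins.ts (nat_lit 2) [nat_lit 0,nat_lit 0,nat_lit 1,nat_lit 0] [],Ins.fr [nat_lit 2],Ins.ts (nat_lit 1) [nat_lit 0,nat_lit 0] [],Ins.ts (nat_lit 4) [nat_lit 0] [nat_lit 37,nat_lit 0,nat_lit 0],Ins.ts (nat_lit 2) [nat_lit 1,nat_lit 0] [],Ins.ts (nat_lit 0) [nat_lit 0,nat_lit 2,nat_lit 0,nat_lit 2] [],Ins.ts (nat_lit 2) [nat_lit 1,nat_lit 0,nat_lit 2] [],Ins.fr [nat_lit 0,nat_lit 0,nat_lit 3],Ins.ts (nat_lit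 4) [nat_lit 0] [nat_lit 5,nat_lit 0,nat_lit 0],Ins.ts (nat_lit 1) [nat_lit 0,nat_lit 0] [],Ins.ts (nat_lit 2) [nat_lit 4,nat_lit 0] [],Ins.ts (nat_lit 0) [nat_lit 2,nat_lit 0,nat_lit 2] [nat_lit 0],Ins.ts (nat_lit 0) [nat_lit 1,nat_lit 0] [nat_lit 0,nat_lit 1],Ins.fr [nat_lit 0,nat_lit 1,nat_lit 2,nat_lit 2,nat_lit 4],Ins.ts (nat_lit 0) [nat_lit 0,nat_lit 3,nat_lit 0] [nat_lit 3],Ins.ts (nat_lit 0) [nat_lit 4,nat_lit 0] [nat_lit 0,nat_lit 4],Ins.fr [nat_lit 5,nat_lit 1],Ins.ts (nat_lit 0) [nat_lit 5,nat_lit 0,nat_lit 0] [nat_lit 2,nat_lit 1],Ins.ts (nat_lit 0) [nat_lit 1,nat_lit 0,nat_lit 6] [nat_lit 0,nat_lit 4],Ins.df [nat_lit 2,nat_lit 2],Ins.df [nat_lit 6,nat_lit 6],Ins.df [nat_lit 0,nat_lit 1,nat_lit 8],Ins.df [nat_lit 1,nat_lit 7,nat_lit 8],Ins.df [nat_lit 2,nat_lit 5,nat_lit 5],Ins.df [nat_lit 0,nat_lit 10]] [nat_lit 96,nat_lit 112,nat_lit 36,nat_lit 4,nat_lit 128,nat_lit 256] [nat_lit 5,nat_lit 4,nat_lit 8,nat_lit 3,nat_lit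 2,nat_lit 1,nat_lit 0,nat_lit 7,nat_lit 6] (Srch.ex0 [nat_lit 68,nat_lit 36,nat_lit 16,nat_lit 8,nat_lit 2,nat_lit 1] (Srch.rep (nat_lit 16) [nat_lit 4,nat_lit 8,nat_lit 64] [nat_lit 64,nat_lit 16,nat_lit 8,nat_lit 4,nat_lit 2,nat_lit 1] [nat_lit 256,nat_lit 128,nat_lit 32] (Srch.rep (nat_lit 64) [nat_lit 64] [] [] (Srch.rep (nat_lit 74) [nat_lit 2] [] [] (Srch.rep (nat_lit 4) [nat_lit 16] [] [] (Srch.rep (nat_lit 36) [] [] [] (Srch.rep (nat_lit 160) [] [] [] (Srch.rep (nat_lit 282) [] [] [] (Srch.fin [nat_lit 256] [nat_lit 0] (((nat_lit 0),(Leaf.mp (nat_lit 114) [nat_lit 1,nat_lit 2,nat_lit 4,nat_lit 8,nat_lit 16,nat_lit 32,nat_lit 64,nat_lit 640,nat_lit 512,nat_lit 256] [[nat_lit 1],[nat_lit 3],[nat_lit 5]]))::(((nat_lit 1),(Leaf.mp (nat_lit 153) [nat_lit 1,nat_lit 2,nat_lit 4,nat_lit 8,nat_lit 16,nat_lit 32,nat_lit 64,nat_lit 640,nat_lit 513,nat_lit 256] [[nat_lit 1],[nat_lit 3],[nat_lit 5]]))::[]))) (Srch.rep (nat_lit 283) [] []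 [] (Srch.fin [nat_lit 256] [nat_lit 0] (((nat_lit 0),(Leaf.mp (nat_lit 113) [nat_lit 1,nat_lit 2,nat_lit 4,nat_lit 8,nat_lit 16,nat_lit 32,nat_lit 64,nat_lit 640,nat_lit 512,nat_lit 256] [[nat_lit 1],[nat_lit 3],[nat_lit 5]]))::(((nat_lit 1),(Leaf.mp (nat_lit 145) [nat_lit 1,nat_lit 2,nat_lit 4,nat_lit 8,nat_lit 16,nat_lit 32,nat_lit 64,nat_lit 640,nat_lit 513,nat_lit 256] [[nat_lit 1],[nat_lit 3],[nat_lit 5]]))::[]))) Srch.nil)) (Srch.rep (nat_lit 161) [] [] [] Srch.nil Srch.nil)) Srch.nil) (Srch.rep (nat_lit 6) [nat_lit 16] [] [] (Srch.rep (nat_lit 38) [] [] [] (Srch.rep (nat_lit 160) [] [] [] (Srch.rep (nat_lit 504) [] [] [] (Srch.fin [nat_lit 256] [nat_lit 0] (((nat_lit 2),(Leaf.au (nat_lit 3) (nat_lit 16) (nat_lit 0) [[nat_lit 16,nat_lit 11,nat_lit 69,nat_lit 1]] [nat_lit 68,nat_lit 16,nat_lit 8,nat_lit 2,nat_lit 1] [nat_lit 5,nat_lit 1216,nat_lit 5,nat_lit 1152,nat_lit 5] (nat_lit 1) [nat_lit 0,nat_lit 1,nat_lit 69,nat_lit 68,nat_lit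 11,nat_lit 10,nat_lit 78,nat_lit 79,nat_lit 16,nat_lit 17,nat_lit 85,nat_lit 84,nat_lit 27,nat_lit 26,nat_lit 94,nat_lit 95] (nat_lit 0) [nat_lit 0,nat_lit 0,nat_lit 2,nat_lit 2,nat_lit 0]))::(((nat_lit 3),(Leaf.au (nat_lit 3) (nat_lit 16) (nat_lit 0) [[nat_lit 16,nat_lit 11,nat_lit 69,nat_lit 1]] [nat_lit 68,nat_lit 16,nat_lit 8,nat_lit 2,nat_lit 1] [nat_lit 5,nat_lit 1216,nat_lit 5,nat_lit 1152,nat_lit 5] (nat_lit 1) [nat_lit 0,nat_lit 1,nat_lit 69,nat_lit 68,nat_lit 11,nat_lit 10,nat_lit 78,nat_lit 79,nat_lit 16,nat_lit 17,nat_lit 85,nat_lit 84,nat_lit 27,nat_lit 26,nat_lit 94,nat_lit 95] (nat_lit 0) [nat_lit 0,nat_lit 0,nat_lit 2,nat_lit 2,nat_lit 0]))::[]))) (Srch.rep (nat_lit 505) [] [] [] (Srch.fin [nat_lit 256] [nat_lit 0] (((nat_lit 2),(Leaf.au (nat_lit 3) (nat_lit 16) (nat_lit 0) [[nat_lit 16,nat_lit 11,nat_lit 69,nat_lit 1]] [nat_lit 68,nat_lit 16,nat_lit 8,nat_lit 2,nat_lit 1] [nat_lit 5,nat_lit 1216,nat_lit 5,nat_lit 1152,nat_lit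 5] (nat_lit 1) [nat_lit 0,nat_lit 1,nat_lit 69,nat_lit 68,nat_lit 11,nat_lit 10,nat_lit 78,nat_lit 79,nat_lit 16,nat_lit 17,nat_lit 85,nat_lit 84,nat_lit 27,nat_lit 26,nat_lit 94,nat_lit 95] (nat_lit 0) [nat_lit 0,nat_lit 0,nat_lit 2,nat_lit 2,nat_lit 0]))::(((nat_lit 3),(Leaf.au (nat_lit 3) (nat_lit 16) (nat_lit 0) [[nat_lit 16,nat_lit 11,nat_lit 69,nat_lit 1]] [nat_lit 68,nat_lit 16,nat_lit 8,nat_lit 2,nat_lit 1] [nat_lit 5,nat_lit 1216,nat_lit 5,nat_lit 1152,nat_lit 5] (nat_lit 1) [nat_lit 0,nat_lit 1,nat_lit 69,nat_lit 68,nat_lit 11,nat_lit 10,nat_lit 78,nat_lit 79,nat_lit 16,nat_lit 17,nat_lit 85,nat_lit 84,nat_lit 27,nat_lit 26,nat_lit 94,nat_lit 95] (nat_lit 0) [nat_lit 0,nat_lit 0,nat_lit 2,nat_lit 2,nat_lit 0]))::[]))) Srch.nil)) (Srch.rep (nat_lit 161) [] [] [] Srch.nil Srch.nil)) Srch.nil) Srch.nil)) Srch.nil) (Srch.rep (nat_lit 72) [nat_lit 72] [] [] (Srch.rep (nat_lit 66) [] [] [] Srch.nil Srch.nil) (Srch.rep (nat_lit 80)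 [nat_lit 64] [] [] (Srch.rep (nat_lit 90) [] [] [] Srch.nil Srch.nil) (Srch.rep (nat_lit 88) [nat_lit 72] [] [] (Srch.rep (nat_lit 82) [nat_lit 2] [] [] (Srch.rep (nat_lit 4) [nat_lit 16] [] [] (Srch.rep (nat_lit 36) [] [] [] (Srch.rep (nat_lit 184) [] [] [] (Srch.rep (nat_lit 282) [] [] [] (Srch.fin [nat_lit 256] [nat_lit 0] (((nat_lit 32),(Leaf.pt (nat_lit 12) (nat_lit 76) [nat_lit 70,nat_lit 516]))::(((nat_lit 33),(Leaf.pt (nat_lit 12) (nat_lit 76) [nat_lit 220,nat_lit 526]))::[]))) (Srch.rep (nat_lit 283) [] [] [] (Srch.fin [nat_lit 256] [nat_lit 0] (((nat_lit 32),(Leaf.pt (nat_lit 12) (nat_lit 76) [nat_lit 70,nat_lit 516]))::(((nat_lit 33),(Leaf.pt (nat_lit 12) (nat_lit 76) [nat_lit 220,nat_lit 526]))::[]))) Srch.nil)) (Srch.rep (nat_lit 185) [] [] [] Srch.nil Srch.nil)) Srch.nil) (Srch.rep (nat_lit 6) [nat_lit 16] [] [] (Srch.rep (nat_lit 38) [] [] [] (Srch.rep (nat_lit 184) [] [] [] (Srch.rep (nat_lit 504) [] [] [] (Srch.fin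 [nat_lit 256] [nat_lit 0] (((nat_lit 34),(Leaf.pt (nat_lit 3) (nat_lit 76) [nat_lit 512,nat_lit 70]))::(((nat_lit 35),(Leaf.pt (nat_lit 17) (nat_lit 76) [nat_lit 512,nat_lit 138]))::[]))) (Srch.rep (nat_lit 505) [] [] [] (Srch.fin [nat_lit 256] [nat_lit 0] (((nat_lit 34),(Leaf.pt (nat_lit 3) (nat_lit 76) [nat_lit 512,nat_lit 70]))::(((nat_lit 35),(Leaf.pt (nat_lit 17) (nat_lit 76) [nat_lit 512,nat_lit 138]))::[]))) Srch.nil)) (Srch.rep (nat_lit 185) [] [] [] Srch.nil Srch.nil)) Srch.nil) Srch.nil)) Srch.nil) Srch.nil)))) Srch.nil)) (Node.lf (Leaf.au (nat_lit 1) (nat_lit 0) (nat_lit 0) [] [] [nat_lit 3,nat_lit 1] (nat_lit 0) [] (nat_lit 34) [nat_lit 0,nat_lit 2,nat_lit 38,nat_lit 10,nat_lit 10,nat_lit 32,nat_lit 96,nat_lit 160,nat_lit 480]))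
noncomputable def t159 : ℕ := nat_lit 0x1e501e501c401c401e601e601c601c601c201c201e301e301c001c001e001e001c301c301e201e201c101c101e101e101e401e401c501c501e701e701c701c701e401e401c501c501e701e701c701c701c301c301e201e201c101c101e101e101c201c201e301e301c001c001e001e001e501e501c401c401e601e601c601c6011c011c013d013d011f011f013f013f013a013a011b011b0138013801180118013a013a011b011b0138013801180118011c011c013d013d011f011f013f013f011d011d013c013c011e011e013e013e013b013b011a011a0139013901190119013b013b011a011a0139013901190119011d011d013c013c011e011e013e013e011e011e013e013e011d011d013c013c0138013801180118013a013a011b011b0138013801180118013a013a011b011b011e011e013e013e011d011d013c013c011f011f013f013f011c011c013d013d0139013901190119013b013b011a011a0139013901190119013b013b011a011a011f011f013f013f011c011c013d013d01e701e701c701c701e401e401c501c501c001c001e001e001c201c201e301e301c101c101e101e101c301c301e201e201e601e601c601c601e501e501c401c401e601e601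c601c601e501e501c401c401c101c101e101e101c301c301e201e201c001c001e001e001c201c201e301e301e701e701c701c701e401e401c501c5012101210100010001230123010301030107010701260126010401040124012401060106012701270105010501250125012001200101010101220122010201020120012001010101012201220102010201060106012701270105010501250125010701070126012601040104012401240121012101000100012301230103010301d901d901f801f801db01db01fb01fb01fe01fe01df01df01fd01fd01dd01dd01fe01fe01df01df01fd01fd01dd01dd01d901d901f801f801db01db01fb01fb01d801d801f901f901da01da01fa01fa01ff01ff01de01de01fc01fc01dc01dc01ff01ff01de01de01fc01fc01dc01dc01d801d801f901f901da01da01fa01fa01db01db01fb01fb01d901d901f801f801fc01fc01dc01dc01ff01ff01de01de01fc01fc01dc01dc01ff01ff01de01de01db01db01fb01fb01d901d901f801f801da01da01fa01fa01d801d801f901f901fd01fd01dd01dd01fe01fe01df01df01fd01fd01dd01dd01fe01fe01df01df01da01da01fa01fa01d801d801f901f9012301230103010301210121010001000105010501250125010601060127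0127010401040124012401070107012601260122012201020102012001200101010101220122010201020120012001010101010401040124012401070107012601260105010501250125010601060127012701230123010301030121012101000100008000800080008000a300a300a200a200a200a200a300a3008000800080008000a300a300a200a20081008100810081008100810081008100a200a200a300a3008000800080008000a300a300a200a200a200a200a300a3008000800080008000a300a300a200a20081008100810081008100810081008100a200a200a300a3008000800080008000a300a300a200a200a200a200a300a3008000800080008000a300a300a200a20081008100810081008100810081008100a200a200a300a3008000800080008000a300a300a200a200a200a200a300a3008000800080008000a300a300a200a20081008100810081008100810081008100a200a200a300a300a200a200a300a30081008100810081008100810081008100a300a300a200a2008000800080008000a200a200a300a300a300a300a200a2008000800080008000a200a200a300a30081008100810081008100810081008100a300a300a200a2008000800080008000a200a200a300a300a300a300a200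a2008000800080008000a200a200a300a30081008100810081008100810081008100a300a300a200a2008000800080008000a200a200a300a300a300a300a200a2008000800080008000a200a200a300a30081008100810081008100810081008100a300a300a200a2008000800080008000a200a200a300a300a300a300a200a200800080008000800040004000400040004200420043004300410041004100410043004300420042004000400040004000420042004300430041004100410041004300430042004200400040004000400042004200430043004100410041004100430043004200420040004000400040004200420043004300410041004100410043004300420042004300430042004200410041004100410042004200430043004000400040004000430043004200420041004100410041004200420043004300400040004000400043004300420042004100410041004100420042004300430040004000400040004300430042004200410041004100410042004200430043004000400040004000200020002000200020002000200020002100210021002100210021002100210021002100210021002100210021002100200020002000200020002000200020002000200020002000200020002000200021002100210021002100210021002100210021002100210021002100210021002000200020002000200020002000200010001000100010001000100010001000100010001000100010001000100010001000100010001000100010001000100010001000100010001000100010001000090009000900090009000900090009000800080008000800080008000800080004000400050005000500050004000400030003000200020001000100000000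
noncomputable def c159 : Node :=
  (Node.st (nat_lit 0) (nat_lit 10) (nat_lit 0) (Node.st (nat_lit 2) (nat_lit 1) (nat_lit 10) (Node.st (nat_lit 0) (nat_lit 17) (nat_lit 0) (Node.st (nat_lit 2) (nat_lit 2) (nat_lit 5) (Node.st (nat_lit 0) (nat_lit 78) (nat_lit 0) (Node.st (nat_lit 2) (nat_lit 2) (nat_lit 9) (Node.st (nat_lit 0) (nat_lit 85) (nat_lit 0) (Node.sp (nat_lit 1) (Node.lf (Leaf.pt (nat_lit 9) (nat_lit 1) [nat_lit 10])) (Node.sp (nat_lit 26) (Node.lf (Leaf.pt (nat_lit 9) (nat_lit 26) [nat_lit 10])) (Node.st (nat_lit 0) (nat_lit 26) (nat_lit 0) (Node.sp (nat_lit 28) (Node.lf (Leaf.pt (nat_lit 9) (nat_lit 28) [nat_lit 12])) (Node.st (nat_lit 0) (nat_lit 28) (nat_lit 0) (Node.sp (nat_lit 32) (Node.lf (Leaf.pt (nat_lit 12) (nat_lit 32) [nat_lit 28,nat_lit 196])) (Node.st (nat_lit 0) (nat_lit 32) (nat_lit 0) (Node.sp (nat_lit 68) (Node.lf (Leaf.pt (nat_lit 9) (nat_lit 68) [nat_lit 10])) (Node.st (nat_lit 0) (nat_lit 68) (nat_lit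 0) (Node.sp (nat_lit 92) (Node.lf (Leaf.pt (nat_lit 9) (nat_lit 92) [nat_lit 10])) (Node.st (nat_lit 0) (nat_lit 92) (nat_lit 0) (Node.sp (nat_lit 220) (Node.lf (Leaf.pt (nat_lit 9) (nat_lit 220) [nat_lit 76])) (Node.st (nat_lit 0) (nat_lit 220) (nat_lit 0) c159_0))))))))))))))))))))
theorem ok159 : nodeOK DB PT 159 t159 (nat_lit 0xf0000000f0000000f00c0cf0f00303f0f00000f0f0f0f0f0fcfc0303fc03fc03) (nat_lit 0x11110000000000000000000000000000111100000000000000000000000000001111000000002200000022001111000011110000000000220000002211110000111100000000000000000000111100001111000011110000111100001111000011112200111122000000003300000033111122000000005511112200000000ff) c159 = true := by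
  decide +kernel
noncomputable def c160_0 : Node :=
  Node.ext [[nat_lit 32,nat_lit 16,nat_lit 8,nat_lit 4,nat_lit 2,nat_lit 1]] (nat_lit 10) [Ins.ts (nat_lit 4) [nat_lit 0] [nat_lit 10,nat_lit 0,nat_lit 0],Ins.fr [nat_lit 0],Ins.ts (nat_lit 1) [nat_lit 0,nat_lit 0] [],Ins.ts (nat_lit 1) [nat_lit 0,nat_lit 0,nat_lit 0,nat_lit 0] [],Ins.fr [nat_lit 1],Ins.ts (nat_lit 1) [nat_lit 0,nat_lit 0] [],Ins.ts (nat_lit 0) [nat_lit 0,nat_lit 1,nat_lit 1,nat_lit 0] [],Ins.ts (nat_lit 0) [nat_lit 1,nat_lit 1,nat_lit 1] [nat_lit 0,nat_lit 1,nat_lit 0],Ins.ts (nat_lit 2) [nat_lit 0,nat_lit 0,nat_lit 1,nat_lit 0] [],Ins.fr [nat_lit 2],Ins.ts (nat_lit 1) [nat_lit 0,nat_lit 0] [],Ins.ts (nat_lit 4) [nat_lit 0] [nat_lit 37,nat_lit 0,nat_lit 0],Ins.ts (nat_lit 2) [nat_lit 1,nat_lit 0] [],Ins.ts (nat_lit 0) [nat_lit 0,nat_lit 2,nat_lit 0,nat_lit 2] [],Ins.ts (nat_lit 2) [nat_lit 1,nat_lit 0,nat_lit 2] [],Ins.fr [nat_lit 0,nat_lit 0,nat_lit 3],Ins.ts (nat_lit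 4) [nat_lit 0] [nat_lit 5,nat_lit 0,nat_lit 0],Ins.ts (nat_lit 1) [nat_lit 0,nat_lit 0] [],Ins.ts (nat_lit 2) [nat_lit 4,nat_lit 0] [],Ins.ts (nat_lit 0) [nat_lit 2,nat_lit 0,nat_lit 2] [nat_lit 0],Ins.ts (nat_lit 0) [nat_lit 1,nat_lit 0] [nat_lit 0,nat_lit 1],Ins.fr [nat_lit 0,nat_lit 1,nat_lit 2,nat_lit 2,nat_lit 4],Ins.ts (nat_lit 0) [nat_lit 0,nat_lit 3,nat_lit 0] [nat_lit 3],Ins.ts (nat_lit 0) [nat_lit 4,nat_lit 0] [nat_lit 0,nat_lit 4],Ins.fr [nat_lit 5,nat_lit 1],Ins.ts (nat_lit 0) [nat_lit 0,nat_lit 1,nat_lit 0] [nat_lit 2,nat_lit 1],Ins.ts (nat_lit 0) [nat_lit 6,nat_lit 1,nat_lit 2] [nat_lit 0,nat_lit 0,nat_lit 4],Ins.df [nat_lit 2,nat_lit 2],Ins.df [nat_lit 6,nat_lit 6],Ins.df [nat_lit 0,nat_lit 1,nat_lit 8],Ins.df [nat_lit 1,nat_lit 7,nat_lit 8],Ins.df [nat_lit 2,nat_lit 5,nat_lit 5],Ins.df [nat_lit 0,nat_lit 10]] [nat_lit 96,nat_lit 112,nat_lit 36,nat_lit 4,nat_lit 128,nat_lit 256] [nat_lit 5,nat_lit 4,nat_lit 8,nat_lit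 3,nat_lit 2,nat_lit 1,nat_lit 0,nat_lit 7,nat_lit 6] (Srch.ex0 [nat_lit 68,nat_lit 36,nat_lit 16,nat_lit 8,nat_lit 2,nat_lit 1] (Srch.rep (nat_lit 16) [nat_lit 4,nat_lit 8,nat_lit 64] [nat_lit 64,nat_lit 16,nat_lit 8,nat_lit 4,nat_lit 2,nat_lit 1] [nat_lit 256,nat_lit 128,nat_lit 32] (Srch.rep (nat_lit 64) [nat_lit 64] [] [] (Srch.rep (nat_lit 74) [nat_lit 2] [] [] (Srch.rep (nat_lit 4) [nat_lit 16] [] [] (Srch.rep (nat_lit 36) [] [] [] (Srch.rep (nat_lit 160) [] [] [] (Srch.rep (nat_lit 282) [] [] [] (Srch.fin [nat_lit 256] [nat_lit 0] (((nat_lit 0),(Leaf.mp (nat_lit 112) [nat_lit 1,nat_lit 2,nat_lit 4,nat_lit 8,nat_lit 16,nat_lit 32,nat_lit 64,nat_lit 640,nat_lit 512,nat_lit 256] [[nat_lit 1],[nat_lit 3],[nat_lit 5]]))::(((nat_lit 1),(Leaf.mp (nat_lit 146) [nat_lit 1,nat_lit 2,nat_lit 4,nat_lit 8,nat_lit 16,nat_lit 32,nat_lit 64,nat_lit 640,nat_lit 513,nat_lit 256] [[nat_lit 1],[nat_lit 3],[nat_lit 5]]))::[]))) (Srch.rep (nat_lit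 283) [] [] [] (Srch.fin [nat_lit 256] [nat_lit 0] (((nat_lit 0),(Leaf.mp (nat_lit 120) [nat_lit 1,nat_lit 2,nat_lit 4,nat_lit 8,nat_lit 16,nat_lit 32,nat_lit 64,nat_lit 640,nat_lit 512,nat_lit 256] [[nat_lit 1],[nat_lit 3],[nat_lit 5]]))::(((nat_lit 1),(Leaf.mp (nat_lit 152) [nat_lit 1,nat_lit 2,nat_lit 4,nat_lit 8,nat_lit 16,nat_lit 32,nat_lit 64,nat_lit 640,nat_lit 513,nat_lit 256] [[nat_lit 1],[nat_lit 3],[nat_lit 5]]))::[]))) Srch.nil)) (Srch.rep (nat_lit 161) [] [] [] Srch.nil Srch.nil)) Srch.nil) (Srch.rep (nat_lit 6) [nat_lit 16] [] [] (Srch.rep (nat_lit 38) [] [] [] (Srch.rep (nat_lit 160) [] [] [] Srch.nil (Srch.rep (nat_lit 161) [] [] [] (Srch.rep (nat_lit 480) [] [] [] (Srch.fin [nat_lit 256] [nat_lit 0] (((nat_lit 2),(Leaf.au (nat_lit 3) (nat_lit 16) (nat_lit 0) [[nat_lit 16,nat_lit 11,nat_lit 69,nat_lit 1]] [nat_lit 68,nat_lit 16,nat_lit 8,nat_lit 2,nat_lit 1] [nat_lit 5,nat_lit 1216,nat_lit 5,nat_lit 1152,nat_lit 5] (nat_lit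 1) [nat_lit 0,nat_lit 1,nat_lit 69,nat_lit 68,nat_lit 11,nat_lit 10,nat_lit 78,nat_lit 79,nat_lit 16,nat_lit 17,nat_lit 85,nat_lit 84,nat_lit 27,nat_lit 26,nat_lit 94,nat_lit 95] (nat_lit 0) [nat_lit 0,nat_lit 0,nat_lit 2,nat_lit 2,nat_lit 0]))::(((nat_lit 3),(Leaf.au (nat_lit 3) (nat_lit 16) (nat_lit 0) [[nat_lit 16,nat_lit 11,nat_lit 69,nat_lit 1]] [nat_lit 68,nat_lit 16,nat_lit 8,nat_lit 2,nat_lit 1] [nat_lit 5,nat_lit 1216,nat_lit 5,nat_lit 1152,nat_lit 5] (nat_lit 1) [nat_lit 0,nat_lit 1,nat_lit 69,nat_lit 68,nat_lit 11,nat_lit 10,nat_lit 78,nat_lit 79,nat_lit 16,nat_lit 17,nat_lit 85,nat_lit 84,nat_lit 27,nat_lit 26,nat_lit 94,nat_lit 95] (nat_lit 0) [nat_lit 0,nat_lit 0,nat_lit 2,nat_lit 2,nat_lit 0]))::[]))) (Srch.rep (nat_lit 481) [] [] [] (Srch.fin [nat_lit 256] [nat_lit 0] (((nat_lit 2),(Leaf.au (nat_lit 3) (nat_lit 16) (nat_lit 0) [[nat_lit 16,nat_lit 11,nat_lit 69,nat_lit 1]] [nat_lit 68,nat_lit 16,nat_lit 8,nat_lit 2,nat_lit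 1] [nat_lit 5,nat_lit 1216,nat_lit 5,nat_lit 1152,nat_lit 5] (nat_lit 1) [nat_lit 0,nat_lit 1,nat_lit 69,nat_lit 68,nat_lit 11,nat_lit 10,nat_lit 78,nat_lit 79,nat_lit 16,nat_lit 17,nat_lit 85,nat_lit 84,nat_lit 27,nat_lit 26,nat_lit 94,nat_lit 95] (nat_lit 0) [nat_lit 0,nat_lit 0,nat_lit 2,nat_lit 2,nat_lit 0]))::(((nat_lit 3),(Leaf.au (nat_lit 3) (nat_lit 16) (nat_lit 0) [[nat_lit 16,nat_lit 11,nat_lit 69,nat_lit 1]] [nat_lit 68,nat_lit 16,nat_lit 8,nat_lit 2,nat_lit 1] [nat_lit 5,nat_lit 1216,nat_lit 5,nat_lit 1152,nat_lit 5] (nat_lit 1) [nat_lit 0,nat_lit 1,nat_lit 69,nat_lit 68,nat_lit 11,nat_lit 10,nat_lit 78,nat_lit 79,nat_lit 16,nat_lit 17,nat_lit 85,nat_lit 84,nat_lit 27,nat_lit 26,nat_lit 94,nat_lit 95] (nat_lit 0) [nat_lit 0,nat_lit 0,nat_lit 2,nat_lit 2,nat_lit 0]))::[]))) Srch.nil)) Srch.nil)) Srch.nil) Srch.nil)) Srch.nil) (Srch.rep (nat_lit 72) [nat_lit 72] [] [] (Srch.rep (nat_lit 66) [] [] [] Srch.nil Srch.nil) (Srch.rep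 (nat_lit 80) [nat_lit 64] [] [] (Srch.rep (nat_lit 90) [] [] [] Srch.nil Srch.nil) (Srch.rep (nat_lit 88) [nat_lit 72] [] [] (Srch.rep (nat_lit 82) [nat_lit 2] [] [] (Srch.rep (nat_lit 4) [nat_lit 16] [] [] (Srch.rep (nat_lit 36) [] [] [] (Srch.rep (nat_lit 184) [] [] [] Srch.nil (Srch.rep (nat_lit 185) [] [] [] (Srch.rep (nat_lit 258) [] [] [] (Srch.fin [nat_lit 256] [nat_lit 0] (((nat_lit 32),(Leaf.pt (nat_lit 12) (nat_lit 76) [nat_lit 70,nat_lit 516]))::(((nat_lit 33),(Leaf.pt (nat_lit 12) (nat_lit 76) [nat_lit 220,nat_lit 526]))::[]))) (Srch.rep (nat_lit 259) [] [] [] (Srch.fin [nat_lit 256] [nat_lit 0] (((nat_lit 32),(Leaf.pt (nat_lit 12) (nat_lit 76) [nat_lit 70,nat_lit 516]))::(((nat_lit 33),(Leaf.pt (nat_lit 12) (nat_lit 76) [nat_lit 220,nat_lit 526]))::[]))) Srch.nil)) Srch.nil)) Srch.nil) (Srch.rep (nat_lit 6) [nat_lit 16] [] [] (Srch.rep (nat_lit 38) [] [] [] (Srch.rep (nat_lit 184) [] [] [] (Srch.rep (nat_lit 504) [] []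 [] (Srch.fin [nat_lit 256] [nat_lit 0] (((nat_lit 34),(Leaf.pt (nat_lit 3) (nat_lit 76) [nat_lit 512,nat_lit 70]))::(((nat_lit 35),(Leaf.pt (nat_lit 17) (nat_lit 76) [nat_lit 512,nat_lit 138]))::[]))) (Srch.rep (nat_lit 505) [] [] [] (Srch.fin [nat_lit 256] [nat_lit 0] (((nat_lit 34),(Leaf.pt (nat_lit 3) (nat_lit 76) [nat_lit 512,nat_lit 70]))::(((nat_lit 35),(Leaf.pt (nat_lit 17) (nat_lit 76) [nat_lit 512,nat_lit 138]))::[]))) Srch.nil)) (Srch.rep (nat_lit 185) [] [] [] Srch.nil Srch.nil)) Srch.nil) Srch.nil)) Srch.nil) Srch.nil)))) Srch.nil)) (Node.lf (Leaf.au (nat_lit 1) (nat_lit 0) (nat_lit 0) [] [] [nat_lit 3,nat_lit 1] (nat_lit 0) [] (nat_lit 34) [nat_lit 0,nat_lit 2,nat_lit 38,nat_lit 10,nat_lit 10,nat_lit 32,nat_lit 96,nat_lit 160,nat_lit 480]))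
noncomputable def t160 : ℕ := nat_lit 0x1fc01fc01dd01dd01ff01ff01df01df01da01da01fb01fb01d801d801f801f801da01da01fb01fb01d801d801f801f801fc01fc01dd01dd01ff01ff01df01df01fd01fd01dc01dc01fe01fe01de01de01db01db01fa01fa01d901d901f901f901db01db01fa01fa01d901d901f901f901fd01fd01dc01dc01fe01fe01de01de0105010501240124010601060126012601220122010301030120012001000100012301230102010201210121010101010104010401250125010701070127012701040104012501250107010701270127012301230102010201210121010101010122012201030103012001200100010001050105012401240106010601260126010601060126012601050105012401240121012101010101012301230102010201200120010001000122012201030103010701070127012701040104012501250107010701270127010401040125012501200120010001000122012201030103012101210101010101230123010201020106010601260126010501050124012401ff01ff01df01df01fc01fc01dd01dd01d901d901f901f901db01db01fa01fa01d901d901f901f901db01db01fa01fa01ff01ff01df01df01fc01fc01dd01dd01fe01fe01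de01de01fd01fd01dc01dc01d801d801f801f801da01da01fb01fb01d801d801f801f801da01da01fb01fb01fe01fe01de01de01fd01fd01dc01dc012001200101010101220122010201020106010601270127010501050125012501070107012601260104010401240124012101210100010001230123010301030121012101000100012301230103010301070107012601260104010401240124010601060127012701050105012501250120012001010101012201220102010201d801d801f901f901da01da01fa01fa01ff01ff01de01de01fc01fc01dc01dc01ff01ff01de01de01fc01fc01dc01dc01d801d801f901f901da01da01fa01fa01d901d901f801f801db01db01fb01fb01fe01fe01df01df01fd01fd01dd01dd01fe01fe01df01df01fd01fd01dd01dd01d901d901f801f801db01db01fb01fb01db01db01fb01fb01d901d901f801f801fc01fc01dc01dc01ff01ff01de01de01fc01fc01dc01dc01ff01ff01de01de01db01db01fb01fb01d901d901f801f801da01da01fa01fa01d801d801f901f901fd01fd01dd01dd01fe01fe01df01df01fd01fd01dd01dd01fe01fe01df01df01da01da01fa01fa01d801d801f901f9012301230103010301210121010001000105010501250125010601060127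0127010401040124012401070107012601260122012201020102012001200101010101220122010201020120012001010101010401040124012401070107012601260105010501250125010601060127012701230123010301030121012101000100008000800080008000a300a300a200a200a200a200a300a3008000800080008000a300a300a200a20081008100810081008100810081008100a200a200a300a3008000800080008000a300a300a200a200a200a200a300a3008000800080008000a300a300a200a20081008100810081008100810081008100a200a200a300a3008000800080008000a300a300a200a200a200a200a300a3008000800080008000a300a300a200a20081008100810081008100810081008100a200a200a300a3008000800080008000a300a300a200a200a200a200a300a3008000800080008000a300a300a200a20081008100810081008100810081008100a200a200a300a300a200a200a300a30081008100810081008100810081008100a300a300a200a2008000800080008000a200a200a300a300a300a300a200a2008000800080008000a200a200a300a30081008100810081008100810081008100a300a300a200a2008000800080008000a200a200a300a300a300a300a200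a2008000800080008000a200a200a300a30081008100810081008100810081008100a300a300a200a2008000800080008000a200a200a300a300a300a300a200a2008000800080008000a200a200a300a30081008100810081008100810081008100a300a300a200a2008000800080008000a200a200a300a300a300a300a200a200800080008000800040004000400040004200420043004300410041004100410043004300420042004000400040004000420042004300430041004100410041004300430042004200400040004000400042004200430043004100410041004100430043004200420040004000400040004200420043004300410041004100410043004300420042004300430042004200410041004100410042004200430043004000400040004000430043004200420041004100410041004200420043004300400040004000400043004300420042004100410041004100420042004300430040004000400040004300430042004200410041004100410042004200430043004000400040004000200020002000200020002000200020002100210021002100210021002100210021002100210021002100210021002100200020002000200020002000200020002000200020002000200020002000200021002100210021002100210021002100210021002100210021002100210021002000200020002000200020002000200010001000100010001000100010001000100010001000100010001000100010001000100010001000100010001000100010001000100010001000100010001000090009000900090009000900090009000800080008000800080008000800080004000400050005000500050004000400030003000200020001000100000000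
noncomputable def c160 : Node :=
  (Node.st (nat_lit 0) (nat_lit 10) (nat_lit 0) (Node.st (nat_lit 2) (nat_lit 1) (nat_lit 10) (Node.st (nat_lit 0) (nat_lit 17) (nat_lit 0) (Node.st (nat_lit 2) (nat_lit 2) (nat_lit 5) (Node.st (nat_lit 0) (nat_lit 78) (nat_lit 0) (Node.st (nat_lit 2) (nat_lit 2) (nat_lit 9) (Node.st (nat_lit 0) (nat_lit 85) (nat_lit 0) (Node.sp (nat_lit 1) (Node.lf (Leaf.pt (nat_lit 9) (nat_lit 1) [nat_lit 10])) (Node.sp (nat_lit 26) (Node.lf (Leaf.pt (nat_lit 9) (nat_lit 26) [nat_lit 10])) (Node.st (nat_lit 0) (nat_lit 26) (nat_lit 0) (Node.sp (nat_lit 28) (Node.lf (Leaf.pt (nat_lit 9) (nat_lit 28) [nat_lit 12])) (Node.st (nat_lit 0) (nat_lit 28) (nat_lit 0) (Node.sp (nat_lit 32) (Node.lf (Leaf.pt (nat_lit 12) (nat_lit 32) [nat_lit 28,nat_lit 196])) (Node.st (nat_lit 0) (nat_lit 32) (nat_lit 0) (Node.sp (nat_lit 68) (Node.lf (Leaf.pt (nat_lit 9) (nat_lit 68) [nat_lit 10])) (Node.st (nat_lit 0) (nat_lit 68) (nat_lit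 0) (Node.sp (nat_lit 92) (Node.lf (Leaf.pt (nat_lit 9) (nat_lit 92) [nat_lit 10])) (Node.st (nat_lit 0) (nat_lit 92) (nat_lit 0) (Node.sp (nat_lit 220) (Node.lf (Leaf.pt (nat_lit 9) (nat_lit 220) [nat_lit 76])) (Node.st (nat_lit 0) (nat_lit 220) (nat_lit 0) (Node.sp (nat_lit 336) (Node.lf (Leaf.pt (nat_lit 23) (nat_lit 336) [nat_lit 32,nat_lit 24,nat_lit 222])) (Node.st (nat_lit 0) (nat_lit 336) (nat_lit 0) c160_0))))))))))))))))))))))
theorem ok160 : nodeOK DB PT 160 t160 (nat_lit 0xc3000000c30000330000003300000000000000000000f0000000f0000000f00c0cf0f00303f0f00000f0f0f0f0f0fcfc0303fc03fc03) (nat_lit 0x1100001100000000000000000000000011000011000000000000000000110011000000000000000000000000001100110000000000000000000000000000000000000000000000000000000000000000000000000000000011110000000000000000000000000000111100000000000000000000000000001111000000002200000022001111000011110000000000220000002211110000111100000000000000000000111100001111000011110000111100001111000011112200111122000000003300000033111122000000005511112200000000ff)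 c160 = true := by
  decide +kernel
noncomputable def c161_0 : Node :=
  Node.ext [[nat_lit 32,nat_lit 16,nat_lit 8,nat_lit 4,nat_lit 2,nat_lit 1]] (nat_lit 10) [Ins.ts (nat_lit 4) [nat_lit 0] [nat_lit 10,nat_lit 0,nat_lit 0],Ins.fr [nat_lit 0],Ins.ts (nat_lit 1) [nat_lit 0,nat_lit 0] [],Ins.ts (nat_lit 1) [nat_lit 0,nat_lit 0,nat_lit 0,nat_lit 0] [],Ins.fr [nat_lit 1],Ins.ts (nat_lit 1) [nat_lit 0,nat_lit 0] [],Ins.ts (nat_lit 0) [nat_lit 0,nat_lit 1,nat_lit 1,nat_lit 0] [],Ins.ts (nat_lit 0) [nat_lit 1,nat_lit 1,nat_lit 1] [nat_lit 0,nat_lit 1,nat_lit 0],Ins.ts (nat_lit 2) [nat_lit 0,nat_lit 0,nat_lit 1,nat_lit 0] [],Ins.fr [nat_lit 2],Ins.ts (nat_lit 1) [nat_lit 0,nat_lit 0] [],Ins.ts (nat_lit 4) [nat_lit 0] [nat_lit 37,nat_lit 0,nat_lit 0],Ins.ts (nat_lit 2) [nat_lit 1,nat_lit 0] [],Ins.ts (nat_lit 0) [nat_lit 0,nat_lit 2,nat_lit 0,nat_lit 2] [],Ins.ts (nat_lit 2) [nat_lit 1,nat_lit 0,nat_lit 2] [],Ins.fr [nat_lit 0,nat_lit 0,nat_lit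 3],Ins.ts (nat_lit 4) [nat_lit 0] [nat_lit 5,nat_lit 0,nat_lit 0],Ins.ts (nat_lit 1) [nat_lit 0,nat_lit 0] [],Ins.ts (nat_lit 2) [nat_lit 4,nat_lit 0] [],Ins.ts (nat_lit 0) [nat_lit 2,nat_lit 0,nat_lit 2] [nat_lit 0],Ins.ts (nat_lit 0) [nat_lit 1,nat_lit 0] [nat_lit 0,nat_lit 1],Ins.fr [nat_lit 0,nat_lit 1,nat_lit 2,nat_lit 2,nat_lit 4],Ins.ts (nat_lit 0) [nat_lit 0,nat_lit 3,nat_lit 0] [nat_lit 3],Ins.ts (nat_lit 0) [nat_lit 4,nat_lit 0] [nat_lit 0,nat_lit 4],Ins.fr [nat_lit 2,nat_lit 4,nat_lit 3],Ins.ts (nat_lit 0) [nat_lit 1,nat_lit 3,nat_lit 5] [nat_lit 0,nat_lit 0],Ins.ts (nat_lit 0) [nat_lit 0,nat_lit 1,nat_lit 2,nat_lit 0] [nat_lit 1],Ins.df [nat_lit 2,nat_lit 2],Ins.df [nat_lit 6,nat_lit 6],Ins.df [nat_lit 0,nat_lit 1,nat_lit 8],Ins.df [nat_lit 1,nat_lit 7,nat_lit 8],Ins.df [nat_lit 2,nat_lit 5,nat_lit 5],Ins.df [nat_lit 0,nat_lit 10]] [nat_lit 96,nat_lit 112,nat_lit 36,nat_lit 4,nat_lit 128,nat_lit 256] [nat_lit 5,nat_lit 4,nat_lit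 8,nat_lit 3,nat_lit 2,nat_lit 1,nat_lit 0,nat_lit 7,nat_lit 6] (Srch.ex0 [nat_lit 68,nat_lit 36,nat_lit 16,nat_lit 8,nat_lit 2,nat_lit 1] (Srch.rep (nat_lit 12) [nat_lit 4,nat_lit 16,nat_lit 128] [nat_lit 128,nat_lit 34,nat_lit 16,nat_lit 8,nat_lit 4,nat_lit 1] [nat_lit 256,nat_lit 64,nat_lit 2] (Srch.rep (nat_lit 128) [nat_lit 128] [] [] (Srch.rep (nat_lit 182) [nat_lit 34] [] [] (Srch.rep (nat_lit 4) [nat_lit 12] [] [] (Srch.rep (nat_lit 36) [] [] [] (Srch.rep (nat_lit 97) [] [] [] Srch.nil (Srch.rep (nat_lit 96) [] [] [] (Srch.rep (nat_lit 479) [] [] [] (Srch.fin [nat_lit 256] [nat_lit 0] (((nat_lit 0),(Leaf.au (nat_lit 3) (nat_lit 16) (nat_lit 0) [[nat_lit 16,nat_lit 11,nat_lit 69,nat_lit 1]] [nat_lit 68,nat_lit 16,nat_lit 8,nat_lit 2,nat_lit 1] [nat_lit 5,nat_lit 1608,nat_lit 5,nat_lit 1544,nat_lit 5] (nat_lit 1) [nat_lit 0,nat_lit 1,nat_lit 69,nat_lit 68,nat_lit 11,nat_lit 10,nat_lit 78,nat_lit 79,nat_lit 16,nat_lit 17,nat_lit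 85,nat_lit 84,nat_lit 27,nat_lit 26,nat_lit 94,nat_lit 95] (nat_lit 0) [nat_lit 0,nat_lit 0,nat_lit 2,nat_lit 2,nat_lit 0]))::(((nat_lit 1),(Leaf.au (nat_lit 3) (nat_lit 16) (nat_lit 0) [[nat_lit 16,nat_lit 11,nat_lit 69,nat_lit 1]] [nat_lit 68,nat_lit 16,nat_lit 8,nat_lit 2,nat_lit 1] [nat_lit 5,nat_lit 1608,nat_lit 5,nat_lit 1544,nat_lit 5] (nat_lit 1) [nat_lit 0,nat_lit 1,nat_lit 69,nat_lit 68,nat_lit 11,nat_lit 10,nat_lit 78,nat_lit 79,nat_lit 16,nat_lit 17,nat_lit 85,nat_lit 84,nat_lit 27,nat_lit 26,nat_lit 94,nat_lit 95] (nat_lit 0) [nat_lit 0,nat_lit 0,nat_lit 2,nat_lit 2,nat_lit 0]))::[]))) (Srch.rep (nat_lit 478) [] [] [] (Srch.fin [nat_lit 256] [nat_lit 0] (((nat_lit 0),(Leaf.au (nat_lit 3) (nat_lit 16) (nat_lit 0) [[nat_lit 16,nat_lit 11,nat_lit 69,nat_lit 1]] [nat_lit 68,nat_lit 16,nat_lit 8,nat_lit 2,nat_lit 1] [nat_lit 5,nat_lit 1608,nat_lit 5,nat_lit 1544,nat_lit 5] (nat_lit 1) [nat_lit 0,nat_lit 1,nat_lit 69,nat_lit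 68,nat_lit 11,nat_lit 10,nat_lit 78,nat_lit 79,nat_lit 16,nat_lit 17,nat_lit 85,nat_lit 84,nat_lit 27,nat_lit 26,nat_lit 94,nat_lit 95] (nat_lit 0) [nat_lit 0,nat_lit 0,nat_lit 2,nat_lit 2,nat_lit 0]))::(((nat_lit 1),(Leaf.au (nat_lit 3) (nat_lit 16) (nat_lit 0) [[nat_lit 16,nat_lit 11,nat_lit 69,nat_lit 1]] [nat_lit 68,nat_lit 16,nat_lit 8,nat_lit 2,nat_lit 1] [nat_lit 5,nat_lit 1608,nat_lit 5,nat_lit 1544,nat_lit 5] (nat_lit 1) [nat_lit 0,nat_lit 1,nat_lit 69,nat_lit 68,nat_lit 11,nat_lit 10,nat_lit 78,nat_lit 79,nat_lit 16,nat_lit 17,nat_lit 85,nat_lit 84,nat_lit 27,nat_lit 26,nat_lit 94,nat_lit 95] (nat_lit 0) [nat_lit 0,nat_lit 0,nat_lit 2,nat_lit 2,nat_lit 0]))::[]))) Srch.nil)) Srch.nil)) Srch.nil) (Srch.rep (nat_lit 38) [nat_lit 12] [] [] (Srch.rep (nat_lit 7) [] [] [] (Srch.rep (nat_lit 98) [] [] [] Srch.nil (Srch.rep (nat_lit 99) [] [] [] (Srch.rep (nat_lit 314) [] [] [] (Srch.fin [nat_lit 256] [nat_lit 0] (((nat_lit 220),(Leaf.mp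 (nat_lit 124) [nat_lit 1,nat_lit 2,nat_lit 4,nat_lit 8,nat_lit 16,nat_lit 32,nat_lit 64,nat_lit 898,nat_lit 771,nat_lit 512] [[nat_lit 1],[nat_lit 3],[nat_lit 5]]))::(((nat_lit 221),(Leaf.mp (nat_lit 109) [nat_lit 1,nat_lit 2,nat_lit 4,nat_lit 8,nat_lit 16,nat_lit 32,nat_lit 64,nat_lit 898,nat_lit 771,nat_lit 536] [[nat_lit 1],[nat_lit 3],[nat_lit 5]]))::[]))) (Srch.rep (nat_lit 315) [] [] [] (Srch.fin [nat_lit 256] [nat_lit 0] (((nat_lit 220),(Leaf.mp (nat_lit 110) [nat_lit 1,nat_lit 2,nat_lit 4,nat_lit 8,nat_lit 16,nat_lit 32,nat_lit 64,nat_lit 898,nat_lit 770,nat_lit 512] [[nat_lit 1],[nat_lit 3],[nat_lit 5]]))::(((nat_lit 221),(Leaf.mp (nat_lit 144) [nat_lit 1,nat_lit 2,nat_lit 4,nat_lit 8,nat_lit 16,nat_lit 32,nat_lit 64,nat_lit 898,nat_lit 770,nat_lit 536] [[nat_lit 1],[nat_lit 3],[nat_lit 5]]))::[]))) Srch.nil)) Srch.nil)) Srch.nil) Srch.nil)) Srch.nil) (Srch.rep (nat_lit 140) [nat_lit 128] [] [] (Srch.rep (nat_lit 186) [] []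 [] Srch.nil Srch.nil) (Srch.rep (nat_lit 148) [nat_lit 148] [] [] (Srch.rep (nat_lit 162) [] [] [] Srch.nil Srch.nil) (Srch.rep (nat_lit 152) [nat_lit 148] [] [] (Srch.rep (nat_lit 174) [nat_lit 34] [] [] (Srch.rep (nat_lit 4) [nat_lit 12] [] [] (Srch.rep (nat_lit 36) [] [] [] (Srch.rep (nat_lit 121) [] [] [] Srch.nil (Srch.rep (nat_lit 120) [] [] [] (Srch.rep (nat_lit 455) [] [] [] (Srch.fin [nat_lit 256] [nat_lit 0] (((nat_lit 0),(Leaf.pt (nat_lit 12) (nat_lit 76) [nat_lit 70,nat_lit 768]))::(((nat_lit 1),(Leaf.pt (nat_lit 12) (nat_lit 76) [nat_lit 220,nat_lit 778]))::[]))) (Srch.rep (nat_lit 454) [] [] [] (Srch.fin [nat_lit 256] [nat_lit 0] (((nat_lit 0),(Leaf.pt (nat_lit 12) (nat_lit 76) [nat_lit 220,nat_lit 778]))::(((nat_lit 1),(Leaf.pt (nat_lit 12) (nat_lit 76) [nat_lit 70,nat_lit 768]))::[]))) Srch.nil)) Srch.nil)) Srch.nil) (Srch.rep (nat_lit 38) [nat_lit 12] [] [] (Srch.rep (nat_lit 7) [] [] [] (Srch.rep (nat_lit 122) [] []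 [] Srch.nil (Srch.rep (nat_lit 123) [] [] [] (Srch.rep (nat_lit 290) [] [] [] (Srch.fin [nat_lit 256] [nat_lit 0] (((nat_lit 220),(Leaf.pt (nat_lit 3) (nat_lit 76) [nat_lit 772,nat_lit 70]))::(((nat_lit 221),(Leaf.pt (nat_lit 17) (nat_lit 76) [nat_lit 782,nat_lit 138]))::[]))) (Srch.rep (nat_lit 291) [] [] [] (Srch.fin [nat_lit 256] [nat_lit 0] (((nat_lit 220),(Leaf.pt (nat_lit 17) (nat_lit 76) [nat_lit 782,nat_lit 138]))::(((nat_lit 221),(Leaf.pt (nat_lit 3) (nat_lit 76) [nat_lit 772,nat_lit 70]))::[]))) Srch.nil)) Srch.nil)) Srch.nil) Srch.nil)) Srch.nil) Srch.nil)))) Srch.nil)) (Node.lf (Leaf.au (nat_lit 1) (nat_lit 0) (nat_lit 0) [] [] [nat_lit 3,nat_lit 1] (nat_lit 0) [] (nat_lit 34) [nat_lit 0,nat_lit 2,nat_lit 38,nat_lit 10,nat_lit 10,nat_lit 32,nat_lit 96,nat_lit 160,nat_lit 450]))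
noncomputable def t161 : ℕ := nat_lit 0x1c601c601e701e701c501c501e501e501d901d901f801f801db01db01fb01fb01d901d901f801f801db01db01fb01fb01c701c701e601e601c401c401e401e401c701c701e601e601c401c401e401e401d801d801f901f901da01da01fa01fa01d801d801f901f901da01da01fa01fa01c601c601e701e701c501c501e501e501240124010401040127012701060106013b013b011b011b0139013901180118013b013b011b011b01390139011801180125012501050105012601260107010701250125010501050126012601070107013a013a011a011a0138013801190119013a013a011a011a013801380119011901240124010401040127012701060106010701070126012601040104012401240118011801390139011a011a013a013a0118011801390139011a011a013a013a01060106012701270105010501250125010601060127012701050105012501250119011901380138011b011b013b013b0119011901380138011b011b013b013b0107010701260126010401040124012401e501e501c501c501e601e601c701c701fa01fa01da01da01f801f801d901d901fa01fa01da01da01f801f801d901d901e401e401c401c401e701e701c601c601e401e401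c401c401e701e701c601c601fb01fb01db01db01f901f901d801d801fb01fb01db01db01f901f901d801d801e501e501c501c501e601e601c701c701000100012001200102010201230123011e011e013e013e011d011d013c013c011e011e013e013e011d011d013c013c0101010101210121010301030122012201010101012101210103010301220122011f011f013f013f011c011c013d013d011f011f013f013f011c011c013d013d0100010001200120010201020123012301e201e201c301c301e001e001c001c001fc01fc01dd01dd01ff01ff01df01df01fc01fc01dd01dd01ff01ff01df01df01e301e301c201c201e101e101c101c101e301e301c201c201e101e101c101c101fd01fd01dc01dc01fe01fe01de01de01fd01fd01dc01dc01fe01fe01de01de01e201e201c301c301e001e001c001c001c001c001e001e001c201c201e301e301de01de01fe01fe01dd01dd01fc01fc01de01de01fe01fe01dd01dd01fc01fc01c101c101e101e101c301c301e201e201c101c101e101e101c301c301e201e201df01df01ff01ff01dc01dc01fd01fd01df01df01ff01ff01dc01dc01fd01fd01c001c001e001e001c201c201e301e301220122010301030120012001000100013c013c011d011d013f013f011f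011f013c013c011d011d013f013f011f011f0123012301020102012101210101010101230123010201020121012101010101013d013d011c011c013e013e011e011e013d013d011c011c013e013e011e011e01220122010301030120012001000100008000800080008000a300a300a200a200a200a200a300a3008000800080008000a300a300a200a20081008100810081008100810081008100a200a200a300a3008000800080008000a300a300a200a200a200a200a300a3008000800080008000a300a300a200a20081008100810081008100810081008100a200a200a300a3008000800080008000a300a300a200a200a200a200a300a3008000800080008000a300a300a200a20081008100810081008100810081008100a200a200a300a3008000800080008000a300a300a200a200a200a200a300a3008000800080008000a300a300a200a20081008100810081008100810081008100a200a200a300a300a200a200a300a30081008100810081008100810081008100a300a300a200a2008000800080008000a200a200a300a300a300a300a200a2008000800080008000a200a200a300a30081008100810081008100810081008100a300a300a200a2008000800080008000a200a200a300a300a300a300a200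a2008000800080008000a200a200a300a30081008100810081008100810081008100a300a300a200a2008000800080008000a200a200a300a300a300a300a200a2008000800080008000a200a200a300a30081008100810081008100810081008100a300a300a200a2008000800080008000a200a200a300a300a300a300a200a200800080008000800040004000400040004200420043004300410041004100410043004300420042004000400040004000420042004300430041004100410041004300430042004200400040004000400042004200430043004100410041004100430043004200420040004000400040004200420043004300410041004100410043004300420042004300430042004200410041004100410042004200430043004000400040004000430043004200420041004100410041004200420043004300400040004000400043004300420042004100410041004100420042004300430040004000400040004300430042004200410041004100410042004200430043004000400040004000200020002000200020002000200020002100210021002100210021002100210021002100210021002100210021002100200020002000200020002000200020002000200020002000200020002000200021002100210021002100210021002100210021002100210021002100210021002000200020002000200020002000200010001000100010001000100010001000100010001000100010001000100010001000100010001000100010001000100010001000100010001000100010001000090009000900090009000900090009000800080008000800080008000800080004000400050005000500050004000400030003000200020001000100000000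
noncomputable def c161 : Node :=
  (Node.st (nat_lit 0) (nat_lit 10) (nat_lit 0) (Node.st (nat_lit 2) (nat_lit 0) (nat_lit 10) (Node.st (nat_lit 0) (nat_lit 14) (nat_lit 0) (Node.st (nat_lit 2) (nat_lit 2) (nat_lit 5) (Node.st (nat_lit 0) (nat_lit 78) (nat_lit 0) (Node.st (nat_lit 2) (nat_lit 2) (nat_lit 9) (Node.st (nat_lit 0) (nat_lit 85) (nat_lit 0) (Node.sp (nat_lit 1) (Node.lf (Leaf.pt (nat_lit 9) (nat_lit 1) [nat_lit 10])) (Node.sp (nat_lit 26) (Node.lf (Leaf.pt (nat_lit 9) (nat_lit 26) [nat_lit 10])) (Node.st (nat_lit 0) (nat_lit 26) (nat_lit 0) (Node.sp (nat_lit 28) (Node.lf (Leaf.pt (nat_lit 9) (nat_lit 28) [nat_lit 12])) (Node.st (nat_lit 0) (nat_lit 28) (nat_lit 0) (Node.sp (nat_lit 32) (Node.lf (Leaf.pt (nat_lit 12) (nat_lit 32) [nat_lit 28,nat_lit 196])) (Node.st (nat_lit 0) (nat_lit 32) (nat_lit 0) (Node.sp (nat_lit 68) (Node.lf (Leaf.pt (nat_lit 9) (nat_lit 68) [nat_lit 10])) (Node.st (nat_lit 0) (nat_lit 68) (nat_lit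 0) (Node.sp (nat_lit 92) (Node.lf (Leaf.pt (nat_lit 9) (nat_lit 92) [nat_lit 10])) (Node.st (nat_lit 0) (nat_lit 92) (nat_lit 0) (Node.sp (nat_lit 220) (Node.lf (Leaf.pt (nat_lit 9) (nat_lit 220) [nat_lit 76])) (Node.st (nat_lit 0) (nat_lit 220) (nat_lit 0) c161_0))))))))))))))))))))
theorem ok161 : nodeOK DB PT 161 t161 (nat_lit 0xf0000000f0000000f00c0cf0f00303f0f00000f0f0f0f0f0fcfc0303fc03fc03) (nat_lit 0x11110000000000000000000000000000111100000000000000000000000000001111000000002200000022001111000011110000000000220000002211110000111100000000000000000000111100001111000011110000111100001111000011112200111122000000003300000033111122000000005511112200000000ff) c161 = true := by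
  decide +kernel
noncomputable def c162_0 : Node :=
  Node.ext [[nat_lit 32,nat_lit 16,nat_lit 8,nat_lit 4,nat_lit 2,nat_lit 1]] (nat_lit 10) [Ins.ts (nat_lit 4) [nat_lit 0] [nat_lit 10,nat_lit 0,nat_lit 0],Ins.fr [nat_lit 0],Ins.ts (nat_lit 1) [nat_lit 0,nat_lit 0] [],Ins.ts (nat_lit 1) [nat_lit 0,nat_lit 0,nat_lit 0,nat_lit 0] [],Ins.fr [nat_lit 1],Ins.ts (nat_lit 1) [nat_lit 0,nat_lit 0] [],Ins.ts (nat_lit 0) [nat_lit 0,nat_lit 1,nat_lit 1,nat_lit 0] [],Ins.ts (nat_lit 0) [nat_lit 1,nat_lit 1,nat_lit 1] [nat_lit 0,nat_lit 1,nat_lit 0],Ins.ts (nat_lit 2) [nat_lit 0,nat_lit 0,nat_lit 1,nat_lit 0] [],Ins.fr [nat_lit 2],Ins.ts (nat_lit 1) [nat_lit 0,nat_lit 0] [],Ins.ts (nat_lit 4) [nat_lit 0] [nat_lit 37,nat_lit 0,nat_lit 0],Ins.ts (nat_lit 2) [nat_lit 1,nat_lit 0] [],Ins.ts (nat_lit 0) [nat_lit 0,nat_lit 2,nat_lit 0,nat_lit 2] [],Ins.ts (nat_lit 2) [nat_lit 1,nat_lit 0,nat_lit 2] [],Ins.fr [nat_lit 0,nat_lit 0,nat_lit 3],Ins.ts (nat_lit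 4) [nat_lit 0] [nat_lit 5,nat_lit 0,nat_lit 0],Ins.ts (nat_lit 1) [nat_lit 0,nat_lit 0] [],Ins.ts (nat_lit 2) [nat_lit 4,nat_lit 0] [],Ins.ts (nat_lit 0) [nat_lit 2,nat_lit 0,nat_lit 2] [nat_lit 0],Ins.ts (nat_lit 0) [nat_lit 1,nat_lit 0] [nat_lit 0,nat_lit 1],Ins.fr [nat_lit 0,nat_lit 1,nat_lit 2,nat_lit 2,nat_lit 4],Ins.ts (nat_lit 0) [nat_lit 0,nat_lit 3,nat_lit 0] [nat_lit 3],Ins.ts (nat_lit 0) [nat_lit 4,nat_lit 0] [nat_lit 0,nat_lit 4],Ins.fr [nat_lit 2,nat_lit 4,nat_lit 3],Ins.ts (nat_lit 0) [nat_lit 6,nat_lit 2,nat_lit 4] [nat_lit 1,nat_lit 0,nat_lit 0],Ins.ts (nat_lit 0) [nat_lit 6,nat_lit 0,nat_lit 4] [nat_lit 1,nat_lit 2,nat_lit 0],Ins.df [nat_lit 2,nat_lit 2],Ins.df [nat_lit 6,nat_lit 6],Ins.df [nat_lit 0,nat_lit 1,nat_lit 8],Ins.df [nat_lit 1,nat_lit 7,nat_lit 8],Ins.df [nat_lit 2,nat_lit 5,nat_lit 5],Ins.df [nat_lit 0,nat_lit 10]] [nat_lit 96,nat_lit 112,nat_lit 36,nat_lit 4,nat_lit 128,nat_lit 256] [nat_lit 5,nat_lit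 4,nat_lit 8,nat_lit 3,nat_lit 2,nat_lit 1,nat_lit 0,nat_lit 7,nat_lit 6] (Srch.ex0 [nat_lit 68,nat_lit 36,nat_lit 16,nat_lit 8,nat_lit 2,nat_lit 1] (Srch.rep (nat_lit 12) [nat_lit 4,nat_lit 16,nat_lit 128] [nat_lit 128,nat_lit 34,nat_lit 16,nat_lit 8,nat_lit 4,nat_lit 1] [nat_lit 256,nat_lit 64,nat_lit 2] (Srch.rep (nat_lit 128) [nat_lit 128] [] [] (Srch.rep (nat_lit 182) [nat_lit 34] [] [] (Srch.rep (nat_lit 4) [nat_lit 12] [] [] (Srch.rep (nat_lit 36) [] [] [] (Srch.rep (nat_lit 97) [] [] [] Srch.nil (Srch.rep (nat_lit 96) [] [] [] (Srch.rep (nat_lit 455) [] [] [] (Srch.fin [nat_lit 256] [nat_lit 0] (((nat_lit 0),(Leaf.au (nat_lit 3) (nat_lit 16) (nat_lit 0) [[nat_lit 16,nat_lit 11,nat_lit 69,nat_lit 1]] [nat_lit 68,nat_lit 16,nat_lit 8,nat_lit 2,nat_lit 1] [nat_lit 5,nat_lit 1728,nat_lit 5,nat_lit 1664,nat_lit 5] (nat_lit 1) [nat_lit 0,nat_lit 1,nat_lit 69,nat_lit 68,nat_lit 11,nat_lit 10,nat_lit 78,nat_lit 79,nat_lit 16,nat_lit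 17,nat_lit 85,nat_lit 84,nat_lit 27,nat_lit 26,nat_lit 94,nat_lit 95] (nat_lit 0) [nat_lit 0,nat_lit 0,nat_lit 2,nat_lit 2,nat_lit 0]))::(((nat_lit 1),(Leaf.au (nat_lit 3) (nat_lit 16) (nat_lit 0) [[nat_lit 16,nat_lit 11,nat_lit 69,nat_lit 1]] [nat_lit 68,nat_lit 16,nat_lit 8,nat_lit 2,nat_lit 1] [nat_lit 5,nat_lit 1728,nat_lit 5,nat_lit 1664,nat_lit 5] (nat_lit 1) [nat_lit 0,nat_lit 1,nat_lit 69,nat_lit 68,nat_lit 11,nat_lit 10,nat_lit 78,nat_lit 79,nat_lit 16,nat_lit 17,nat_lit 85,nat_lit 84,nat_lit 27,nat_lit 26,nat_lit 94,nat_lit 95] (nat_lit 0) [nat_lit 0,nat_lit 0,nat_lit 2,nat_lit 2,nat_lit 0]))::[]))) (Srch.rep (nat_lit 454) [] [] [] (Srch.fin [nat_lit 256] [nat_lit 0] (((nat_lit 0),(Leaf.au (nat_lit 3) (nat_lit 16) (nat_lit 0) [[nat_lit 16,nat_lit 11,nat_lit 69,nat_lit 1]] [nat_lit 68,nat_lit 16,nat_lit 8,nat_lit 2,nat_lit 1] [nat_lit 5,nat_lit 1728,nat_lit 5,nat_lit 1664,nat_lit 5] (nat_lit 1) [nat_lit 0,nat_lit 1,nat_lit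 69,nat_lit 68,nat_lit 11,nat_lit 10,nat_lit 78,nat_lit 79,nat_lit 16,nat_lit 17,nat_lit 85,nat_lit 84,nat_lit 27,nat_lit 26,nat_lit 94,nat_lit 95] (nat_lit 0) [nat_lit 0,nat_lit 0,nat_lit 2,nat_lit 2,nat_lit 0]))::(((nat_lit 1),(Leaf.au (nat_lit 3) (nat_lit 16) (nat_lit 0) [[nat_lit 16,nat_lit 11,nat_lit 69,nat_lit 1]] [nat_lit 68,nat_lit 16,nat_lit 8,nat_lit 2,nat_lit 1] [nat_lit 5,nat_lit 1728,nat_lit 5,nat_lit 1664,nat_lit 5] (nat_lit 1) [nat_lit 0,nat_lit 1,nat_lit 69,nat_lit 68,nat_lit 11,nat_lit 10,nat_lit 78,nat_lit 79,nat_lit 16,nat_lit 17,nat_lit 85,nat_lit 84,nat_lit 27,nat_lit 26,nat_lit 94,nat_lit 95] (nat_lit 0) [nat_lit 0,nat_lit 0,nat_lit 2,nat_lit 2,nat_lit 0]))::[]))) Srch.nil)) Srch.nil)) Srch.nil) (Srch.rep (nat_lit 38) [nat_lit 12] [] [] (Srch.rep (nat_lit 7) [] [] [] (Srch.rep (nat_lit 98) [] [] [] (Srch.rep (nat_lit 314) [] [] [] (Srch.fin [nat_lit 256] [nat_lit 0] (((nat_lit 196),(Leaf.mp (nat_lit 108) [nat_lit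 1,nat_lit 2,nat_lit 4,nat_lit 8,nat_lit 16,nat_lit 32,nat_lit 64,nat_lit 922,nat_lit 795,nat_lit 512] [[nat_lit 1],[nat_lit 3],[nat_lit 5]]))::(((nat_lit 197),(Leaf.mp (nat_lit 142) [nat_lit 1,nat_lit 2,nat_lit 4,nat_lit 8,nat_lit 16,nat_lit 32,nat_lit 64,nat_lit 922,nat_lit 795,nat_lit 536] [[nat_lit 1],[nat_lit 3],[nat_lit 5]]))::[]))) (Srch.rep (nat_lit 315) [] [] [] (Srch.fin [nat_lit 256] [nat_lit 0] (((nat_lit 196),(Leaf.mp (nat_lit 143) [nat_lit 1,nat_lit 2,nat_lit 4,nat_lit 8,nat_lit 16,nat_lit 32,nat_lit 64,nat_lit 922,nat_lit 794,nat_lit 512] [[nat_lit 1],[nat_lit 3],[nat_lit 5]]))::(((nat_lit 197),(Leaf.mp (nat_lit 111) [nat_lit 1,nat_lit 2,nat_lit 4,nat_lit 8,nat_lit 16,nat_lit 32,nat_lit 64,nat_lit 922,nat_lit 794,nat_lit 536] [[nat_lit 1],[nat_lit 3],[nat_lit 5]]))::[]))) Srch.nil)) (Srch.rep (nat_lit 99) [] [] [] Srch.nil Srch.nil)) Srch.nil) Srch.nil)) Srch.nil) (Srch.rep (nat_lit 140) [nat_lit 128] [] [] (Srch.rep (nat_lit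 186) [] [] [] Srch.nil Srch.nil) (Srch.rep (nat_lit 148) [nat_lit 148] [] [] (Srch.rep (nat_lit 162) [] [] [] Srch.nil Srch.nil) (Srch.rep (nat_lit 152) [nat_lit 148] [] [] (Srch.rep (nat_lit 174) [nat_lit 34] [] [] (Srch.rep (nat_lit 4) [nat_lit 12] [] [] (Srch.rep (nat_lit 36) [] [] [] (Srch.rep (nat_lit 121) [] [] [] Srch.nil (Srch.rep (nat_lit 120) [] [] [] (Srch.rep (nat_lit 479) [] [] [] (Srch.fin [nat_lit 256] [nat_lit 0] (((nat_lit 0),(Leaf.pt (nat_lit 12) (nat_lit 76) [nat_lit 220,nat_lit 776]))::(((nat_lit 1),(Leaf.pt (nat_lit 12) (nat_lit 76) [nat_lit 70,nat_lit 770]))::[]))) (Srch.rep (nat_lit 478) [] [] [] (Srch.fin [nat_lit 256] [nat_lit 0] (((nat_lit 0),(Leaf.pt (nat_lit 12) (nat_lit 76) [nat_lit 70,nat_lit 770]))::(((nat_lit 1),(Leaf.pt (nat_lit 12) (nat_lit 76) [nat_lit 220,nat_lit 776]))::[]))) Srch.nil)) Srch.nil)) Srch.nil) (Srch.rep (nat_lit 38) [nat_lit 12] [] [] (Srch.rep (nat_lit 7) [] [] [] (Srch.rep (nat_lit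 122) [] [] [] (Srch.rep (nat_lit 290) [] [] [] (Srch.fin [nat_lit 256] [nat_lit 0] (((nat_lit 196),(Leaf.pt (nat_lit 17) (nat_lit 76) [nat_lit 780,nat_lit 138]))::(((nat_lit 197),(Leaf.pt (nat_lit 3) (nat_lit 76) [nat_lit 774,nat_lit 70]))::[]))) (Srch.rep (nat_lit 291) [] [] [] (Srch.fin [nat_lit 256] [nat_lit 0] (((nat_lit 196),(Leaf.pt (nat_lit 3) (nat_lit 76) [nat_lit 774,nat_lit 70]))::(((nat_lit 197),(Leaf.pt (nat_lit 17) (nat_lit 76) [nat_lit 780,nat_lit 138]))::[]))) Srch.nil)) (Srch.rep (nat_lit 123) [] [] [] Srch.nil Srch.nil)) Srch.nil) Srch.nil)) Srch.nil) Srch.nil)))) Srch.nil)) (Node.lf (Leaf.au (nat_lit 1) (nat_lit 0) (nat_lit 0) [] [] [nat_lit 3,nat_lit 1] (nat_lit 0) [] (nat_lit 34) [nat_lit 0,nat_lit 2,nat_lit 38,nat_lit 10,nat_lit 10,nat_lit 32,nat_lit 96,nat_lit 160,nat_lit 450]))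
noncomputable def t162 : ℕ := nat_lit 0x1df01df01fe01fe01dc01dc01fc01fc01c001c001e101e101c201c201e201e201c101c101e001e001c301c301e301e301df01df01fe01fe01dc01dc01fc01fc01de01de01ff01ff01dd01dd01fd01fd01c101c101e001e001c301c301e301e301c001c001e101e101c201c201e201e201de01de01ff01ff01dd01dd01fd01fd013c013c011c011c013f013f011e011e0123012301030103012101210100010001220122010201020120012001010101013c013c011c011c013f013f011e011e013d013d011d011d013e013e011f011f0122012201020102012001200101010101230123010301030121012101000100013d013d011d011d013e013e011f011f011e011e013f013f011d011d013d013d0101010101200120010301030123012301000100012101210102010201220122011e011e013f013f011d011d013d013d011f011f013e013e011c011c013c013c0100010001210121010201020122012201010101012001200103010301230123011f011f013e013e011c011c013c013c01fd01fd01dd01dd01fe01fe01df01df01e201e201c201c201e001e001c101c101e301e301c301c301e101e101c001c001fd01fd01dd01dd01fe01fe01df01df01fc01fc01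dc01dc01ff01ff01de01de01e301e301c301c301e101e101c001c001e201e201c201c201e001e001c101c101fc01fc01dc01dc01ff01ff01de01de01010101012101210103010301220122011f011f013f013f011c011c013d013d011f011f013f013f011c011c013d013d0100010001200120010201020123012301000100012001200102010201230123011e011e013e013e011d011d013c013c011e011e013e013e011d011d013c013c0101010101210121010301030122012201e301e301c201c201e101e101c101c101fd01fd01dc01dc01fe01fe01de01de01fd01fd01dc01dc01fe01fe01de01de01e201e201c301c301e001e001c001c001e201e201c301c301e001e001c001c001fc01fc01dd01dd01ff01ff01df01df01fc01fc01dd01dd01ff01ff01df01df01e301e301c201c201e101e101c101c101c001c001e001e001c201c201e301e301de01de01fe01fe01dd01dd01fc01fc01de01de01fe01fe01dd01dd01fc01fc01c101c101e101e101c301c301e201e201c101c101e101e101c301c301e201e201df01df01ff01ff01dc01dc01fd01fd01df01df01ff01ff01dc01dc01fd01fd01c001c001e001e001c201c201e301e301220122010301030120012001000100013c013c011d011d013f013f011f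011f013c013c011d011d013f013f011f011f0123012301020102012101210101010101230123010201020121012101010101013d013d011c011c013e013e011e011e013d013d011c011c013e013e011e011e01220122010301030120012001000100008000800080008000a300a300a200a200a200a200a300a3008000800080008000a300a300a200a20081008100810081008100810081008100a200a200a300a3008000800080008000a300a300a200a200a200a200a300a3008000800080008000a300a300a200a20081008100810081008100810081008100a200a200a300a3008000800080008000a300a300a200a200a200a200a300a3008000800080008000a300a300a200a20081008100810081008100810081008100a200a200a300a3008000800080008000a300a300a200a200a200a200a300a3008000800080008000a300a300a200a20081008100810081008100810081008100a200a200a300a300a200a200a300a30081008100810081008100810081008100a300a300a200a2008000800080008000a200a200a300a300a300a300a200a2008000800080008000a200a200a300a30081008100810081008100810081008100a300a300a200a2008000800080008000a200a200a300a300a300a300a200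a2008000800080008000a200a200a300a30081008100810081008100810081008100a300a300a200a2008000800080008000a200a200a300a300a300a300a200a2008000800080008000a200a200a300a30081008100810081008100810081008100a300a300a200a2008000800080008000a200a200a300a300a300a300a200a200800080008000800040004000400040004200420043004300410041004100410043004300420042004000400040004000420042004300430041004100410041004300430042004200400040004000400042004200430043004100410041004100430043004200420040004000400040004200420043004300410041004100410043004300420042004300430042004200410041004100410042004200430043004000400040004000430043004200420041004100410041004200420043004300400040004000400043004300420042004100410041004100420042004300430040004000400040004300430042004200410041004100410042004200430043004000400040004000200020002000200020002000200020002100210021002100210021002100210021002100210021002100210021002100200020002000200020002000200020002000200020002000200020002000200021002100210021002100210021002100210021002100210021002100210021002000200020002000200020002000200010001000100010001000100010001000100010001000100010001000100010001000100010001000100010001000100010001000100010001000100010001000090009000900090009000900090009000800080008000800080008000800080004000400050005000500050004000400030003000200020001000100000000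
noncomputable def c162 : Node :=
  (Node.st (nat_lit 0) (nat_lit 10) (nat_lit 0) (Node.st (nat_lit 2) (nat_lit 0) (nat_lit 10) (Node.st (nat_lit 0) (nat_lit 14) (nat_lit 0) (Node.st (nat_lit 2) (nat_lit 2) (nat_lit 5) (Node.st (nat_lit 0) (nat_lit 78) (nat_lit 0) (Node.st (nat_lit 2) (nat_lit 2) (nat_lit 9) (Node.st (nat_lit 0) (nat_lit 85) (nat_lit 0) (Node.sp (nat_lit 1) (Node.lf (Leaf.pt (nat_lit 9) (nat_lit 1) [nat_lit 10])) (Node.sp (nat_lit 26) (Node.lf (Leaf.pt (nat_lit 9) (nat_lit 26) [nat_lit 10])) (Node.st (nat_lit 0) (nat_lit 26) (nat_lit 0) (Node.sp (nat_lit 28) (Node.lf (Leaf.pt (nat_lit 9) (nat_lit 28) [nat_lit 12])) (Node.st (nat_lit 0) (nat_lit 28) (nat_lit 0) (Node.sp (nat_lit 32) (Node.lf (Leaf.pt (nat_lit 12) (nat_lit 32) [nat_lit 28,nat_lit 196])) (Node.st (nat_lit 0) (nat_lit 32) (nat_lit 0) (Node.sp (nat_lit 68) (Node.lf (Leaf.pt (nat_lit 9) (nat_lit 68) [nat_lit 10])) (Node.st (nat_lit 0) (nat_lit 68) (nat_lit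 0) (Node.sp (nat_lit 92) (Node.lf (Leaf.pt (nat_lit 9) (nat_lit 92) [nat_lit 10])) (Node.st (nat_lit 0) (nat_lit 92) (nat_lit 0) (Node.sp (nat_lit 220) (Node.lf (Leaf.pt (nat_lit 9) (nat_lit 220) [nat_lit 76])) (Node.st (nat_lit 0) (nat_lit 220) (nat_lit 0) (Node.sp (nat_lit 330) (Node.lf (Leaf.pt (nat_lit 12) (nat_lit 330) [nat_lit 28,nat_lit 196])) (Node.st (nat_lit 0) (nat_lit 330) (nat_lit 0) (Node.sp (nat_lit 331) (Node.lf (Leaf.pt (nat_lit 12) (nat_lit 331) [nat_lit 28,nat_lit 196])) (Node.st (nat_lit 0) (nat_lit 331) (nat_lit 0) c162_0))))))))))))))))))))))))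
theorem ok162 : nodeOK DB PT 162 t162 (nat_lit 0xc0030000c0030000c00c0000c00c000000000000000000f0000000f0000000f00c0cf0f00303f0f00000f0f0f0f0f0fcfc0303fc03fc03) (nat_lit 0x110000000000001100000000000000001100000000000011000000000000000011000000000011000000000000000000110000000000110000000000000000000000000000000000000000000000000000000000000000000000000011110000000000000000000000000000111100000000000000000000000000001111000000002200000022001111000011110000000000220000002211110000111100000000000000000000111100001111000011110000111100001111000011112200111122000000003300000033111122000000005511112200000000ff) c162 = true := by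
  decide +kernel
noncomputable def c163_0 : Node :=
  Node.ext [[nat_lit 32,nat_lit 16,nat_lit 8,nat_lit 4,nat_lit 2,nat_lit 1]] (nat_lit 10) [Ins.ts (nat_lit 4) [nat_lit 0] [nat_lit 10,nat_lit 0,nat_lit 0],Ins.fr [nat_lit 0],Ins.ts (nat_lit 1) [nat_lit 0,nat_lit 0] [],Ins.ts (nat_lit 1) [nat_lit 0,nat_lit 0,nat_lit 0,nat_lit 0] [],Ins.fr [nat_lit 1],Ins.ts (nat_lit 1) [nat_lit 0,nat_lit 0] [],Ins.ts (nat_lit 0) [nat_lit 0,nat_lit 1,nat_lit 1,nat_lit 0] [],Ins.ts (nat_lit 0) [nat_lit 1,nat_lit 1,nat_lit 1] [nat_lit 0,nat_lit 1,nat_lit 0],Ins.ts (nat_lit 2) [nat_lit 0,nat_lit 0,nat_lit 1,nat_lit 0] [],Ins.fr [nat_lit 2],Ins.ts (nat_lit 1) [nat_lit 0,nat_lit 0] [],Ins.ts (nat_lit 4) [nat_lit 0] [nat_lit 37,nat_lit 0,nat_lit 0],Ins.ts (nat_lit 2) [nat_lit 1,nat_lit 0] [],Ins.ts (nat_lit 0) [nat_lit 0,nat_lit 2,nat_lit 0,nat_lit 2] [],Ins.ts (nat_lit 2) [nat_lit 1,nat_lit 0,nat_lit 2] [],Ins.fr [nat_lit 0,nat_lit 0,nat_lit 3],Ins.ts (nat_lit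 4) [nat_lit 0] [nat_lit 5,nat_lit 0,nat_lit 0],Ins.ts (nat_lit 1) [nat_lit 0,nat_lit 0] [],Ins.ts (nat_lit 2) [nat_lit 4,nat_lit 0] [],Ins.ts (nat_lit 0) [nat_lit 2,nat_lit 0,nat_lit 2] [nat_lit 0],Ins.ts (nat_lit 0) [nat_lit 1,nat_lit 0] [nat_lit 0,nat_lit 1],Ins.fr [nat_lit 0,nat_lit 1,nat_lit 2,nat_lit 2,nat_lit 4],Ins.ts (nat_lit 0) [nat_lit 0,nat_lit 3,nat_lit 0] [nat_lit 3],Ins.ts (nat_lit 0) [nat_lit 4,nat_lit 0] [nat_lit 0,nat_lit 4],Ins.fr [nat_lit 0,nat_lit 0,nat_lit 1,nat_lit 3,nat_lit 4],Ins.ts (nat_lit 0) [nat_lit 0,nat_lit 0] [],Ins.ts (nat_lit 0) [nat_lit 3,nat_lit 0] [nat_lit 0,nat_lit 2],Ins.ts (nat_lit 0) [nat_lit 0,nat_lit 4,nat_lit 0,nat_lit 5] [nat_lit 2,nat_lit 4,nat_lit 1],Ins.df [nat_lit 2,nat_lit 2],Ins.df [nat_lit 6,nat_lit 6],Ins.df [nat_lit 0,nat_lit 1,nat_lit 8],Ins.df [nat_lit 1,nat_lit 7,nat_lit 8],Ins.df [nat_lit 2,nat_lit 5,nat_lit 5],Ins.df [nat_lit 0,nat_lit 10]] [nat_lit 96,nat_lit 112,nat_lit 36,nat_lit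 4,nat_lit 128,nat_lit 256] [nat_lit 5,nat_lit 4,nat_lit 8,nat_lit 3,nat_lit 2,nat_lit 1,nat_lit 0,nat_lit 7,nat_lit 6] (Srch.ex0 [nat_lit 68,nat_lit 36,nat_lit 16,nat_lit 8,nat_lit 2,nat_lit 1] (Srch.rep (nat_lit 12) [nat_lit 4,nat_lit 16,nat_lit 128] [nat_lit 128,nat_lit 34,nat_lit 16,nat_lit 8,nat_lit 4,nat_lit 1] [nat_lit 256,nat_lit 64,nat_lit 2] (Srch.rep (nat_lit 128) [nat_lit 128] [] [] (Srch.rep (nat_lit 182) [nat_lit 34] [] [] (Srch.rep (nat_lit 4) [nat_lit 12] [] [] (Srch.rep (nat_lit 36) [] [] [] (Srch.rep (nat_lit 97) [] [] [] Srch.nil (Srch.rep (nat_lit 96) [] [] [] (Srch.rep (nat_lit 256) [] [] [] (Srch.fin [nat_lit 256,nat_lit 64] [nat_lit 0] (((nat_lit 0),(Leaf.pt (nat_lit 12) (nat_lit 76) [nat_lit 70,nat_lit 900]))::(((nat_lit 1),(Leaf.pt (nat_lit 12) (nat_lit 76) [nat_lit 220,nat_lit 900]))::[]))) (Srch.rep (nat_lit 257) [] [] [] (Srch.fin [nat_lit 256,nat_lit 64] [nat_lit 0] (((nat_lit 0),(Leaf.pt (nat_lit 12) (nat_lit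 76) [nat_lit 220,nat_lit 900]))::(((nat_lit 1),(Leaf.pt (nat_lit 12) (nat_lit 76) [nat_lit 70,nat_lit 900]))::[]))) Srch.nil)) Srch.nil)) Srch.nil) (Srch.rep (nat_lit 38) [nat_lit 12] [] [] (Srch.rep (nat_lit 7) [] [] [] (Srch.rep (nat_lit 98) [] [] [] Srch.nil (Srch.rep (nat_lit 99) [] [] [] (Srch.rep (nat_lit 484) [] [] [] (Srch.fin [nat_lit 256,nat_lit 64] [nat_lit 0] (((nat_lit 220),(Leaf.pt (nat_lit 17) (nat_lit 76) [nat_lit 768,nat_lit 128]))::(((nat_lit 221),(Leaf.pt (nat_lit 17) (nat_lit 76) [nat_lit 794,nat_lit 128]))::[]))) (Srch.rep (nat_lit 485) [] [] [] (Srch.fin [nat_lit 256,nat_lit 64] [nat_lit 0] (((nat_lit 220),(Leaf.pt (nat_lit 17) (nat_lit 76) [nat_lit 794,nat_lit 128]))::(((nat_lit 221),(Leaf.pt (nat_lit 17) (nat_lit 76) [nat_lit 768,nat_lit 128]))::[]))) Srch.nil)) Srch.nil)) Srch.nil) Srch.nil)) Srch.nil) (Srch.rep (nat_lit 140) [nat_lit 128] [] [] (Srch.rep (nat_lit 186) [] [] [] Srch.nil Srch.nil) (Srch.rep (nat_lit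 148) [nat_lit 148] [] [] (Srch.rep (nat_lit 162) [] [] [] Srch.nil Srch.nil) (Srch.rep (nat_lit 152) [nat_lit 148] [] [] (Srch.rep (nat_lit 174) [nat_lit 34] [] [] (Srch.rep (nat_lit 4) [nat_lit 12] [] [] (Srch.rep (nat_lit 36) [] [] [] (Srch.rep (nat_lit 121) [] [] [] Srch.nil (Srch.rep (nat_lit 120) [] [] [] (Srch.rep (nat_lit 256) [] [] [] (Srch.fin [nat_lit 256,nat_lit 64] [nat_lit 0] (((nat_lit 0),(Leaf.au (nat_lit 3) (nat_lit 16) (nat_lit 0) [[nat_lit 16,nat_lit 11,nat_lit 69,nat_lit 1]] [nat_lit 68,nat_lit 16,nat_lit 8,nat_lit 2,nat_lit 1] [nat_lit 5,nat_lit 1860,nat_lit 5,nat_lit 1796,nat_lit 5] (nat_lit 1) [nat_lit 0,nat_lit 1,nat_lit 69,nat_lit 68,nat_lit 11,nat_lit 10,nat_lit 78,nat_lit 79,nat_lit 16,nat_lit 17,nat_lit 85,nat_lit 84,nat_lit 27,nat_lit 26,nat_lit 94,nat_lit 95] (nat_lit 0) [nat_lit 0,nat_lit 0,nat_lit 2,nat_lit 2,nat_lit 0]))::(((nat_lit 1),(Leaf.au (nat_lit 3) (nat_lit 16) (nat_lit 0) [[nat_lit 16,nat_lit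 11,nat_lit 69,nat_lit 1]] [nat_lit 68,nat_lit 16,nat_lit 8,nat_lit 2,nat_lit 1] [nat_lit 5,nat_lit 1860,nat_lit 5,nat_lit 1796,nat_lit 5] (nat_lit 1) [nat_lit 0,nat_lit 1,nat_lit 69,nat_lit 68,nat_lit 11,nat_lit 10,nat_lit 78,nat_lit 79,nat_lit 16,nat_lit 17,nat_lit 85,nat_lit 84,nat_lit 27,nat_lit 26,nat_lit 94,nat_lit 95] (nat_lit 0) [nat_lit 0,nat_lit 0,nat_lit 2,nat_lit 2,nat_lit 0]))::[]))) (Srch.rep (nat_lit 257) [] [] [] (Srch.fin [nat_lit 256,nat_lit 64] [nat_lit 0] (((nat_lit 0),(Leaf.au (nat_lit 3) (nat_lit 16) (nat_lit 0) [[nat_lit 16,nat_lit 11,nat_lit 69,nat_lit 1]] [nat_lit 68,nat_lit 16,nat_lit 8,nat_lit 2,nat_lit 1] [nat_lit 5,nat_lit 1860,nat_lit 5,nat_lit 1796,nat_lit 5] (nat_lit 1) [nat_lit 0,nat_lit 1,nat_lit 69,nat_lit 68,nat_lit 11,nat_lit 10,nat_lit 78,nat_lit 79,nat_lit 16,nat_lit 17,nat_lit 85,nat_lit 84,nat_lit 27,nat_lit 26,nat_lit 94,nat_lit 95] (nat_lit 0) [nat_lit 0,nat_lit 0,nat_lit 2,nat_lit 2,nat_lit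 0]))::(((nat_lit 1),(Leaf.au (nat_lit 3) (nat_lit 16) (nat_lit 0) [[nat_lit 16,nat_lit 11,nat_lit 69,nat_lit 1]] [nat_lit 68,nat_lit 16,nat_lit 8,nat_lit 2,nat_lit 1] [nat_lit 5,nat_lit 1860,nat_lit 5,nat_lit 1796,nat_lit 5] (nat_lit 1) [nat_lit 0,nat_lit 1,nat_lit 69,nat_lit 68,nat_lit 11,nat_lit 10,nat_lit 78,nat_lit 79,nat_lit 16,nat_lit 17,nat_lit 85,nat_lit 84,nat_lit 27,nat_lit 26,nat_lit 94,nat_lit 95] (nat_lit 0) [nat_lit 0,nat_lit 0,nat_lit 2,nat_lit 2,nat_lit 0]))::[]))) Srch.nil)) Srch.nil)) Srch.nil) (Srch.rep (nat_lit 38) [nat_lit 12] [] [] (Srch.rep (nat_lit 7) [] [] [] (Srch.rep (nat_lit 122) [] [] [] Srch.nil (Srch.rep (nat_lit 123) [] [] [] (Srch.rep (nat_lit 484) [] [] [] (Srch.fin [nat_lit 256,nat_lit 64] [nat_lit 0] (((nat_lit 220),(Leaf.mp (nat_lit 152) [nat_lit 1,nat_lit 2,nat_lit 4,nat_lit 8,nat_lit 16,nat_lit 32,nat_lit 64,nat_lit 812,nat_lit 910,nat_lit 512] [[nat_lit 1],[nat_lit 3],[nat_lit 5]]))::(((nat_lit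 221),(Leaf.mp (nat_lit 120) [nat_lit 1,nat_lit 2,nat_lit 4,nat_lit 8,nat_lit 16,nat_lit 32,nat_lit 64,nat_lit 812,nat_lit 910,nat_lit 536] [[nat_lit 1],[nat_lit 3],[nat_lit 5]]))::[]))) (Srch.rep (nat_lit 485) [] [] [] (Srch.fin [nat_lit 256,nat_lit 64] [nat_lit 0] (((nat_lit 220),(Leaf.mp (nat_lit 112) [nat_lit 1,nat_lit 2,nat_lit 4,nat_lit 8,nat_lit 16,nat_lit 32,nat_lit 64,nat_lit 812,nat_lit 911,nat_lit 512] [[nat_lit 1],[nat_lit 3],[nat_lit 5]]))::(((nat_lit 221),(Leaf.mp (nat_lit 146) [nat_lit 1,nat_lit 2,nat_lit 4,nat_lit 8,nat_lit 16,nat_lit 32,nat_lit 64,nat_lit 812,nat_lit 911,nat_lit 536] [[nat_lit 1],[nat_lit 3],[nat_lit 5]]))::[]))) Srch.nil)) Srch.nil)) Srch.nil) Srch.nil)) Srch.nil) Srch.nil)))) Srch.nil)) (Node.lf (Leaf.au (nat_lit 1) (nat_lit 0) (nat_lit 0) [] [] [nat_lit 3,nat_lit 1] (nat_lit 0) [] (nat_lit 34) [nat_lit 0,nat_lit 2,nat_lit 38,nat_lit 10,nat_lit 10,nat_lit 32,nat_lit 96,nat_lit 160,nat_lit 448]))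
noncomputable def t163 : ℕ := nat_lit 0x1210121010101010101010101210121013f013f011f011f011e011e013e013e013e013e011e011e011f011f013f013f0121012101010101010101010121012101210121010101010101010101210121013f013f011f011f011e011e013e013e013e013e011e011e011f011f013f013f0121012101010101010101010121012101db01db01fa01fa01fa01fa01db01db01c501c501e401e401e501e501c401c401c501c501e401e401e501e501c401c401da01da01fb01fb01fb01fb01da01da01db01db01fa01fa01fa01fa01db01db01c501c501e401e401e501e501c401c401c501c501e401e401e501e501c401c401da01da01fb01fb01fb01fb01da01da01fb01fb01da01da01da01da01fb01fb01e501e501c401c401c501c501e401e401e501e501c401c401c501c501e401e401fa01fa01db01db01db01db01fa01fa01fb01fb01da01da01da01da01fb01fb01e501e501c401c401c501c501e401e401e501e501c401c401c501c501e401e401fa01fa01db01db01db01db01fa01fa01000100012001200120012001000100011e011e013e013e013f013f011f011f011f011f013f013f013e013e011e011e010001000120012001200120010001000100010001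2001200120012001000100011e011e013e013e013f013f011f011f011f011f013f013f013e013e011e011e0100010001200120012001200100010001210121010101010101010101210121013f013f011f011f011e011e013e013e013e013e011e011e011f011f013f013f0121012101010101010101010121012101210121010101010101010101210121013f013f011f011f011e011e013e013e013e013e011e011e011f011f013f013f0121012101010101010101010121012101db01db01fa01fa01fa01fa01db01db01c501c501e401e401e501e501c401c401c501c501e401e401e501e501c401c401da01da01fb01fb01fb01fb01da01da01db01db01fa01fa01fa01fa01db01db01c501c501e401e401e501e501c401c401c501c501e401e401e501e501c401c401da01da01fb01fb01fb01fb01da01da01fb01fb01da01da01da01da01fb01fb01e501e501c401c401c501c501e401e401e501e501c401c401c501c501e401e401fa01fa01db01db01db01db01fa01fa01fb01fb01da01da01da01da01fb01fb01e501e501c401c401c501c501e401e401e501e501c401c401c501c501e401e401fa01fa01db01db01db01db01fa01fa01000100012001200120012001000100011e011e013e013e013f013f011f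011f011f011f013f013f013e013e011e011e0100010001200120012001200100010001000100012001200120012001000100011e011e013e013e013f013f011f011f011f011f013f013f013e013e011e011e01000100012001200120012001000100008000800080008000a300a300a200a200a200a200a300a3008000800080008000a300a300a200a20081008100810081008100810081008100a200a200a300a3008000800080008000a300a300a200a200a200a200a300a3008000800080008000a300a300a200a20081008100810081008100810081008100a200a200a300a3008000800080008000a300a300a200a200a200a200a300a3008000800080008000a300a300a200a20081008100810081008100810081008100a200a200a300a3008000800080008000a300a300a200a200a200a200a300a3008000800080008000a300a300a200a20081008100810081008100810081008100a200a200a300a300a200a200a300a30081008100810081008100810081008100a300a300a200a2008000800080008000a200a200a300a300a300a300a200a2008000800080008000a200a200a300a30081008100810081008100810081008100a300a300a200a2008000800080008000a200a200a300a300a300a300a200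a2008000800080008000a200a200a300a30081008100810081008100810081008100a300a300a200a2008000800080008000a200a200a300a300a300a300a200a2008000800080008000a200a200a300a30081008100810081008100810081008100a300a300a200a2008000800080008000a200a200a300a300a300a300a200a200800080008000800040004000400040004200420043004300410041004100410043004300420042004000400040004000420042004300430041004100410041004300430042004200400040004000400042004200430043004100410041004100430043004200420040004000400040004200420043004300410041004100410043004300420042004300430042004200410041004100410042004200430043004000400040004000430043004200420041004100410041004200420043004300400040004000400043004300420042004100410041004100420042004300430040004000400040004300430042004200410041004100410042004200430043004000400040004000200020002000200020002000200020002100210021002100210021002100210021002100210021002100210021002100200020002000200020002000200020002000200020002000200020002000200021002100210021002100210021002100210021002100210021002100210021002000200020002000200020002000200010001000100010001000100010001000100010001000100010001000100010001000100010001000100010001000100010001000100010001000100010001000090009000900090009000900090009000800080008000800080008000800080004000400050005000500050004000400030003000200020001000100000000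
noncomputable def c163 : Node :=
  (Node.st (nat_lit 0) (nat_lit 10) (nat_lit 0) (Node.st (nat_lit 2) (nat_lit 0) (nat_lit 10) (Node.st (nat_lit 0) (nat_lit 14) (nat_lit 0) (Node.st (nat_lit 2) (nat_lit 2) (nat_lit 5) (Node.st (nat_lit 0) (nat_lit 78) (nat_lit 0) (Node.st (nat_lit 2) (nat_lit 2) (nat_lit 9) (Node.st (nat_lit 0) (nat_lit 85) (nat_lit 0) (Node.sp (nat_lit 1) (Node.lf (Leaf.pt (nat_lit 9) (nat_lit 1) [nat_lit 10])) (Node.sp (nat_lit 26) (Node.lf (Leaf.pt (nat_lit 9) (nat_lit 26) [nat_lit 10])) (Node.st (nat_lit 0) (nat_lit 26) (nat_lit 0) (Node.sp (nat_lit 28) (Node.lf (Leaf.pt (nat_lit 9) (nat_lit 28) [nat_lit 12])) (Node.st (nat_lit 0) (nat_lit 28) (nat_lit 0) (Node.sp (nat_lit 32) (Node.lf (Leaf.pt (nat_lit 12) (nat_lit 32) [nat_lit 28,nat_lit 196])) (Node.st (nat_lit 0) (nat_lit 32) (nat_lit 0) (Node.sp (nat_lit 68) (Node.lf (Leaf.pt (nat_lit 9) (nat_lit 68) [nat_lit 10])) (Node.st (nat_lit 0) (nat_lit 68) (nat_lit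 0) (Node.sp (nat_lit 92) (Node.lf (Leaf.pt (nat_lit 9) (nat_lit 92) [nat_lit 10])) (Node.st (nat_lit 0) (nat_lit 92) (nat_lit 0) (Node.sp (nat_lit 220) (Node.lf (Leaf.pt (nat_lit 9) (nat_lit 220) [nat_lit 76])) (Node.st (nat_lit 0) (nat_lit 220) (nat_lit 0) (Node.sp (nat_lit 256) (Node.lf (Leaf.pt (nat_lit 23) (nat_lit 256) [nat_lit 30,nat_lit 6,nat_lit 32])) (Node.st (nat_lit 0) (nat_lit 256) (nat_lit 0) c163_0))))))))))))))))))))))
theorem ok163 : nodeOK DB PT 163 t163 (nat_lit 0x30000300300003000000000000000000000000000000000c0000003c0000003f0000000f0000000f00c0cf0f00303f0f00000f0f0f0f0f0fcfc0303fc03fc03) (nat_lit 0x110000000000000000001100000000001100000000000000000011000000000000000000000000000000000000000000000000000000000000000000000000000000000000000000000000000000000000000000000000000000000000110000000000000000000000000000111100000000000000000000000000001111110000000000000000000000000000111100000000000000000000000000001111000000002200000022001111000011110000000000220000002211110000111100000000000000000000111100001111000011110000111100001111000011112200111122000000003300000033111122000000005511112200000000ff)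 c163 = true := by
  decide +kernel
noncomputable def c164_0 : Node :=
  Node.ext [[nat_lit 32,nat_lit 16,nat_lit 8,nat_lit 4,nat_lit 2,nat_lit 1]] (nat_lit 10) [Ins.ts (nat_lit 4) [nat_lit 0] [nat_lit 10,nat_lit 0,nat_lit 0],Ins.fr [nat_lit 0],Ins.ts (nat_lit 1) [nat_lit 0,nat_lit 0] [],Ins.ts (nat_lit 1) [nat_lit 0,nat_lit 0,nat_lit 0,nat_lit 0] [],Ins.fr [nat_lit 1],Ins.ts (nat_lit 1) [nat_lit 0,nat_lit 0] [],Ins.ts (nat_lit 0) [nat_lit 0,nat_lit 1,nat_lit 1,nat_lit 0] [],Ins.ts (nat_lit 0) [nat_lit 1,nat_lit 1,nat_lit 1] [nat_lit 0,nat_lit 1,nat_lit 0],Ins.ts (nat_lit 2) [nat_lit 0,nat_lit 0,nat_lit 1,nat_lit 0] [],Ins.fr [nat_lit 2],Ins.ts (nat_lit 1) [nat_lit 0,nat_lit 0] [],Ins.ts (nat_lit 4) [nat_lit 0] [nat_lit 37,nat_lit 0,nat_lit 0],Ins.ts (nat_lit 2) [nat_lit 1,nat_lit 0] [],Ins.ts (nat_lit 0) [nat_lit 0,nat_lit 2,nat_lit 0,nat_lit 2] [],Ins.ts (nat_lit 2) [nat_lit 1,nat_lit 0,nat_lit 2] [],Ins.fr [nat_lit 0,nat_lit 0,nat_lit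 3],Ins.ts (nat_lit 4) [nat_lit 0] [nat_lit 5,nat_lit 0,nat_lit 0],Ins.ts (nat_lit 1) [nat_lit 0,nat_lit 0] [],Ins.ts (nat_lit 2) [nat_lit 4,nat_lit 0] [],Ins.ts (nat_lit 0) [nat_lit 2,nat_lit 0,nat_lit 2] [nat_lit 0],Ins.ts (nat_lit 0) [nat_lit 1,nat_lit 0] [nat_lit 0,nat_lit 1],Ins.fr [nat_lit 0,nat_lit 1,nat_lit 2,nat_lit 2,nat_lit 4],Ins.ts (nat_lit 0) [nat_lit 0,nat_lit 3,nat_lit 0] [nat_lit 3],Ins.ts (nat_lit 0) [nat_lit 4,nat_lit 0] [nat_lit 0,nat_lit 4],Ins.fr [nat_lit 0,nat_lit 0,nat_lit 1,nat_lit 3,nat_lit 4],Ins.ts (nat_lit 0) [nat_lit 3,nat_lit 0] [nat_lit 0,nat_lit 2],Ins.ts (nat_lit 0) [nat_lit 6,nat_lit 0,nat_lit 0] [nat_lit 5,nat_lit 4],Ins.ts (nat_lit 0) [nat_lit 4,nat_lit 4,nat_lit 1] [nat_lit 0,nat_lit 5,nat_lit 0],Ins.df [nat_lit 2,nat_lit 2],Ins.df [nat_lit 6,nat_lit 6],Ins.df [nat_lit 0,nat_lit 1,nat_lit 8],Ins.df [nat_lit 0,nat_lit 3,nat_lit 3],Ins.df [nat_lit 2,nat_lit 5,nat_lit 5],Ins.df [nat_lit 0,nat_lit 10]]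 [nat_lit 96,nat_lit 112,nat_lit 36,nat_lit 4,nat_lit 128,nat_lit 256] [nat_lit 5,nat_lit 4,nat_lit 8,nat_lit 3,nat_lit 2,nat_lit 1,nat_lit 0,nat_lit 7,nat_lit 6] (Srch.ex0 [nat_lit 68,nat_lit 36,nat_lit 16,nat_lit 8,nat_lit 2,nat_lit 1] (Srch.rep (nat_lit 12) [nat_lit 4,nat_lit 16,nat_lit 128] [nat_lit 128,nat_lit 34,nat_lit 16,nat_lit 8,nat_lit 4,nat_lit 1] [nat_lit 256,nat_lit 64,nat_lit 2] (Srch.rep (nat_lit 128) [nat_lit 128] [] [] (Srch.rep (nat_lit 182) [nat_lit 34] [] [] (Srch.rep (nat_lit 4) [nat_lit 12] [] [] (Srch.rep (nat_lit 36) [] [] [] (Srch.rep (nat_lit 97) [] [] [] Srch.nil (Srch.rep (nat_lit 96) [] [] [] (Srch.rep (nat_lit 280) [] [] [] (Srch.fin [nat_lit 256,nat_lit 64] [nat_lit 0] (((nat_lit 0),(Leaf.pt (nat_lit 12) (nat_lit 76) [nat_lit 220,nat_lit 902]))::(((nat_lit 1),(Leaf.pt (nat_lit 12) (nat_lit 76) [nat_lit 70,nat_lit 902]))::[]))) (Srch.rep (nat_lit 281) [] [] [] (Srch.fin [nat_lit 256,nat_lit 64] [nat_lit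 0] (((nat_lit 0),(Leaf.pt (nat_lit 12) (nat_lit 76) [nat_lit 70,nat_lit 902]))::(((nat_lit 1),(Leaf.pt (nat_lit 12) (nat_lit 76) [nat_lit 220,nat_lit 902]))::[]))) Srch.nil)) Srch.nil)) Srch.nil) (Srch.rep (nat_lit 38) [nat_lit 12] [] [] (Srch.rep (nat_lit 7) [] [] [] (Srch.rep (nat_lit 98) [] [] [] (Srch.rep (nat_lit 484) [] [] [] (Srch.fin [nat_lit 256,nat_lit 64] [nat_lit 0] (((nat_lit 196),(Leaf.pt (nat_lit 17) (nat_lit 76) [nat_lit 770,nat_lit 128]))::(((nat_lit 197),(Leaf.pt (nat_lit 17) (nat_lit 76) [nat_lit 792,nat_lit 128]))::[]))) (Srch.rep (nat_lit 485) [] [] [] (Srch.fin [nat_lit 256,nat_lit 64] [nat_lit 0] (((nat_lit 196),(Leaf.pt (nat_lit 17) (nat_lit 76) [nat_lit 792,nat_lit 128]))::(((nat_lit 197),(Leaf.pt (nat_lit 17) (nat_lit 76) [nat_lit 770,nat_lit 128]))::[]))) Srch.nil)) (Srch.rep (nat_lit 99) [] [] [] Srch.nil Srch.nil)) Srch.nil) Srch.nil)) Srch.nil) (Srch.rep (nat_lit 140) [nat_lit 128] [] [] (Srch.rep (nat_lit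 186) [] [] [] Srch.nil Srch.nil) (Srch.rep (nat_lit 148) [nat_lit 148] [] [] (Srch.rep (nat_lit 162) [] [] [] Srch.nil Srch.nil) (Srch.rep (nat_lit 152) [nat_lit 148] [] [] (Srch.rep (nat_lit 174) [nat_lit 34] [] [] (Srch.rep (nat_lit 4) [nat_lit 12] [] [] (Srch.rep (nat_lit 36) [] [] [] (Srch.rep (nat_lit 121) [] [] [] Srch.nil (Srch.rep (nat_lit 120) [] [] [] (Srch.rep (nat_lit 280) [] [] [] (Srch.fin [nat_lit 256,nat_lit 64] [nat_lit 0] (((nat_lit 0),(Leaf.au (nat_lit 3) (nat_lit 16) (nat_lit 0) [[nat_lit 16,nat_lit 11,nat_lit 69,nat_lit 1]] [nat_lit 68,nat_lit 16,nat_lit 8,nat_lit 2,nat_lit 1] [nat_lit 5,nat_lit 1856,nat_lit 5,nat_lit 1792,nat_lit 5] (nat_lit 1) [nat_lit 0,nat_lit 1,nat_lit 69,nat_lit 68,nat_lit 11,nat_lit 10,nat_lit 78,nat_lit 79,nat_lit 16,nat_lit 17,nat_lit 85,nat_lit 84,nat_lit 27,nat_lit 26,nat_lit 94,nat_lit 95] (nat_lit 0) [nat_lit 0,nat_lit 0,nat_lit 2,nat_lit 2,nat_lit 0]))::(((nat_lit 1),(Leaf.au (nat_lit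 3) (nat_lit 16) (nat_lit 0) [[nat_lit 16,nat_lit 11,nat_lit 69,nat_lit 1]] [nat_lit 68,nat_lit 16,nat_lit 8,nat_lit 2,nat_lit 1] [nat_lit 5,nat_lit 1856,nat_lit 5,nat_lit 1792,nat_lit 5] (nat_lit 1) [nat_lit 0,nat_lit 1,nat_lit 69,nat_lit 68,nat_lit 11,nat_lit 10,nat_lit 78,nat_lit 79,nat_lit 16,nat_lit 17,nat_lit 85,nat_lit 84,nat_lit 27,nat_lit 26,nat_lit 94,nat_lit 95] (nat_lit 0) [nat_lit 0,nat_lit 0,nat_lit 2,nat_lit 2,nat_lit 0]))::[]))) (Srch.rep (nat_lit 281) [] [] [] (Srch.fin [nat_lit 256,nat_lit 64] [nat_lit 0] (((nat_lit 0),(Leaf.au (nat_lit 3) (nat_lit 16) (nat_lit 0) [[nat_lit 16,nat_lit 11,nat_lit 69,nat_lit 1]] [nat_lit 68,nat_lit 16,nat_lit 8,nat_lit 2,nat_lit 1] [nat_lit 5,nat_lit 1856,nat_lit 5,nat_lit 1792,nat_lit 5] (nat_lit 1) [nat_lit 0,nat_lit 1,nat_lit 69,nat_lit 68,nat_lit 11,nat_lit 10,nat_lit 78,nat_lit 79,nat_lit 16,nat_lit 17,nat_lit 85,nat_lit 84,nat_lit 27,nat_lit 26,nat_lit 94,nat_lit 95] (nat_lit 0)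 [nat_lit 0,nat_lit 0,nat_lit 2,nat_lit 2,nat_lit 0]))::(((nat_lit 1),(Leaf.au (nat_lit 3) (nat_lit 16) (nat_lit 0) [[nat_lit 16,nat_lit 11,nat_lit 69,nat_lit 1]] [nat_lit 68,nat_lit 16,nat_lit 8,nat_lit 2,nat_lit 1] [nat_lit 5,nat_lit 1856,nat_lit 5,nat_lit 1792,nat_lit 5] (nat_lit 1) [nat_lit 0,nat_lit 1,nat_lit 69,nat_lit 68,nat_lit 11,nat_lit 10,nat_lit 78,nat_lit 79,nat_lit 16,nat_lit 17,nat_lit 85,nat_lit 84,nat_lit 27,nat_lit 26,nat_lit 94,nat_lit 95] (nat_lit 0) [nat_lit 0,nat_lit 0,nat_lit 2,nat_lit 2,nat_lit 0]))::[]))) Srch.nil)) Srch.nil)) Srch.nil) (Srch.rep (nat_lit 38) [nat_lit 12] [] [] (Srch.rep (nat_lit 7) [] [] [] (Srch.rep (nat_lit 122) [] [] [] (Srch.rep (nat_lit 484) [] [] [] (Srch.fin [nat_lit 256,nat_lit 64] [nat_lit 0] (((nat_lit 196),(Leaf.mp (nat_lit 113) [nat_lit 1,nat_lit 2,nat_lit 4,nat_lit 8,nat_lit 16,nat_lit 32,nat_lit 64,nat_lit 820,nat_lit 918,nat_lit 512] [[nat_lit 1],[nat_lit 3],[nat_lit 5]]))::(((nat_lit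 197),(Leaf.mp (nat_lit 145) [nat_lit 1,nat_lit 2,nat_lit 4,nat_lit 8,nat_lit 16,nat_lit 32,nat_lit 64,nat_lit 820,nat_lit 918,nat_lit 536] [[nat_lit 1],[nat_lit 3],[nat_lit 5]]))::[]))) (Srch.rep (nat_lit 485) [] [] [] (Srch.fin [nat_lit 256,nat_lit 64] [nat_lit 0] (((nat_lit 196),(Leaf.mp (nat_lit 153) [nat_lit 1,nat_lit 2,nat_lit 4,nat_lit 8,nat_lit 16,nat_lit 32,nat_lit 64,nat_lit 820,nat_lit 919,nat_lit 512] [[nat_lit 1],[nat_lit 3],[nat_lit 5]]))::(((nat_lit 197),(Leaf.mp (nat_lit 114) [nat_lit 1,nat_lit 2,nat_lit 4,nat_lit 8,nat_lit 16,nat_lit 32,nat_lit 64,nat_lit 820,nat_lit 919,nat_lit 536] [[nat_lit 1],[nat_lit 3],[nat_lit 5]]))::[]))) Srch.nil)) (Srch.rep (nat_lit 123) [] [] [] Srch.nil Srch.nil)) Srch.nil) Srch.nil)) Srch.nil) Srch.nil)))) Srch.nil)) (Node.lf (Leaf.au (nat_lit 1) (nat_lit 0) (nat_lit 0) [] [] [nat_lit 3,nat_lit 1] (nat_lit 0) [] (nat_lit 34) [nat_lit 0,nat_lit 2,nat_lit 38,nat_lit 10,nat_lit 10,nat_lit 32,nat_lit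 96,nat_lit 160,nat_lit 448]))
noncomputable def t164 : ℕ := nat_lit 0x13801380118011801180118013801380126012601060106010701070127012701260126010601060107010701270127013901390119011901190119013901390138013801180118011801180138013801260126010601060107010701270127012601260106010601070107012701270139013901190119011901190139013901c201c201e301e301e301e301c201c201dc01dc01fd01fd01fc01fc01dd01dd01dd01dd01fc01fc01fd01fd01dc01dc01c201c201e301e301e301e301c201c201c201c201e301e301e301e301c201c201dc01dc01fd01fd01fc01fc01dd01dd01dd01dd01fc01fc01fd01fd01dc01dc01c201c201e301e301e301e301c201c201e301e301c201c201c201c201e301e301fd01fd01dc01dc01dd01dd01fc01fc01fc01fc01dd01dd01dc01dc01fd01fd01e301e301c201c201c201c201e301e301e301e301c201c201c201c201e301e301fd01fd01dc01dc01dd01dd01fc01fc01fc01fc01dd01dd01dc01dc01fd01fd01e301e301c201c201c201c201e301e3011801180138013801380138011801180106010601260126012701270107010701060106012601260127012701070107011901190139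013901390139011901190118011801380138013801380118011801060106012601260127012701070107010601060126012601270127010701070119011901390139013901390119011901200120010001000100010001200120013e013e011e011e011f011f013f013f013f013f011f011f011e011e013e013e0120012001000100010001000120012001200120010001000100010001200120013e013e011e011e011f011f013f013f013f013f011f011f011e011e013e013e0120012001000100010001000120012001da01da01fb01fb01fb01fb01da01da01c401c401e501e501e401e401c501c501c401c401e501e501e401e401c501c501db01db01fa01fa01fa01fa01db01db01da01da01fb01fb01fb01fb01da01da01c401c401e501e501e401e401c501c501c401c401e501e501e401e401c501c501db01db01fa01fa01fa01fa01db01db01fb01fb01da01da01da01da01fb01fb01e501e501c401c401c501c501e401e401e501e501c401c401c501c501e401e401fa01fa01db01db01db01db01fa01fa01fb01fb01da01da01da01da01fb01fb01e501e501c401c401c501c501e401e401e501e501c401c401c501c501e401e401fa01fa01db01db01db01db01fa01fa010001000120012001200120010001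00011e011e013e013e013f013f011f011f011f011f013f013f013e013e011e011e0100010001200120012001200100010001000100012001200120012001000100011e011e013e013e013f013f011f011f011f011f013f013f013e013e011e011e01000100012001200120012001000100008000800080008000a300a300a200a200a200a200a300a3008000800080008000a300a300a200a20081008100810081008100810081008100a200a200a300a3008000800080008000a300a300a200a200a200a200a300a3008000800080008000a300a300a200a20081008100810081008100810081008100a200a200a300a3008000800080008000a300a300a200a200a200a200a300a3008000800080008000a300a300a200a20081008100810081008100810081008100a200a200a300a3008000800080008000a300a300a200a200a200a200a300a3008000800080008000a300a300a200a20081008100810081008100810081008100a200a200a300a300a200a200a300a30081008100810081008100810081008100a300a300a200a2008000800080008000a200a200a300a300a300a300a200a2008000800080008000a200a200a300a30081008100810081008100810081008100a300a300a200a20080008000800080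00a200a200a300a300a300a300a200a2008000800080008000a200a200a300a30081008100810081008100810081008100a300a300a200a2008000800080008000a200a200a300a300a300a300a200a2008000800080008000a200a200a300a30081008100810081008100810081008100a300a300a200a2008000800080008000a200a200a300a300a300a300a200a200800080008000800040004000400040004200420043004300410041004100410043004300420042004000400040004000420042004300430041004100410041004300430042004200400040004000400042004200430043004100410041004100430043004200420040004000400040004200420043004300410041004100410043004300420042004300430042004200410041004100410042004200430043004000400040004000430043004200420041004100410041004200420043004300400040004000400043004300420042004100410041004100420042004300430040004000400040004300430042004200410041004100410042004200430043004000400040004000200020002000200020002000200020002100210021002100210021002100210021002100210021002100210021002100200020002000200020002000200020002000200020002000200020002000200021002100210021002100210021002100210021002100210021002100210021002000200020002000200020002000200010001000100010001000100010001000100010001000100010001000100010001000100010001000100010001000100010001000100010001000100010001000090009000900090009000900090009000800080008000800080008000800080004000400050005000500050004000400030003000200020001000100000000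
noncomputable def c164 : Node :=
  (Node.st (nat_lit 0) (nat_lit 10) (nat_lit 0) (Node.st (nat_lit 2) (nat_lit 0) (nat_lit 10) (Node.st (nat_lit 0) (nat_lit 14) (nat_lit 0) (Node.st (nat_lit 2) (nat_lit 2) (nat_lit 5) (Node.st (nat_lit 0) (nat_lit 78) (nat_lit 0) (Node.st (nat_lit 2) (nat_lit 2) (nat_lit 9) (Node.st (nat_lit 0) (nat_lit 85) (nat_lit 0) (Node.sp (nat_lit 1) (Node.lf (Leaf.pt (nat_lit 9) (nat_lit 1) [nat_lit 10])) (Node.sp (nat_lit 26) (Node.lf (Leaf.pt (nat_lit 9) (nat_lit 26) [nat_lit 10])) (Node.st (nat_lit 0) (nat_lit 26) (nat_lit 0) (Node.sp (nat_lit 28) (Node.lf (Leaf.pt (nat_lit 9) (nat_lit 28) [nat_lit 12])) (Node.st (nat_lit 0) (nat_lit 28) (nat_lit 0) (Node.sp (nat_lit 32) (Node.lf (Leaf.pt (nat_lit 12) (nat_lit 32) [nat_lit 28,nat_lit 196])) (Node.st (nat_lit 0) (nat_lit 32) (nat_lit 0) (Node.sp (nat_lit 68) (Node.lf (Leaf.pt (nat_lit 9) (nat_lit 68) [nat_lit 10])) (Node.st (nat_lit 0) (nat_lit 68) (nat_lit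 0) (Node.sp (nat_lit 92) (Node.lf (Leaf.pt (nat_lit 9) (nat_lit 92) [nat_lit 10])) (Node.st (nat_lit 0) (nat_lit 92) (nat_lit 0) (Node.sp (nat_lit 220) (Node.lf (Leaf.pt (nat_lit 9) (nat_lit 220) [nat_lit 76])) (Node.st (nat_lit 0) (nat_lit 220) (nat_lit 0) c164_0))))))))))))))))))))
theorem ok164 : nodeOK DB PT 164 t164 (nat_lit 0xf0000000f0000000f00c0cf0f00303f0f00000f0f0f0f0f0fcfc0303fc03fc03) (nat_lit 0x11110000000000000000000000000000111100000000000000000000000000001111000000002200000022001111000011110000000000220000002211110000111100000000000000000000111100001111000011110000111100001111000011112200111122000000003300000033111122000000005511112200000000ff) c164 = true := by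
  decide +kernel
noncomputable def c165_0 : Srch :=
  Srch.rep (nat_lit 16) [nat_lit 4,nat_lit 8,nat_lit 64] [nat_lit 64,nat_lit 16,nat_lit 8,nat_lit 4,nat_lit 2,nat_lit 1] [nat_lit 128,nat_lit 32] (Srch.rep (nat_lit 64) [nat_lit 64] [] [] (Srch.rep (nat_lit 74) [nat_lit 2] [] [] (Srch.rep (nat_lit 4) [nat_lit 16] [] [] (Srch.rep (nat_lit 36) [] [] [] (Srch.rep (nat_lit 160) [] [] [] (Srch.fin [nat_lit 4,nat_lit 64] [nat_lit 0] (((nat_lit 0),(Leaf.mp (nat_lit 121) [nat_lit 1,nat_lit 2,nat_lit 4,nat_lit 8,nat_lit 16,nat_lit 32,nat_lit 64,nat_lit 384,nat_lit 256] [[nat_lit 1],[nat_lit 3],[nat_lit 5]]))::(((nat_lit 1),(Leaf.mp (nat_lit 154) [nat_lit 1,nat_lit 2,nat_lit 4,nat_lit 8,nat_lit 16,nat_lit 32,nat_lit 64,nat_lit 384,nat_lit 256] [[nat_lit 1],[nat_lit 3],[nat_lit 5]]))::[]))) (Srch.rep (nat_lit 161) [] [] [] (Srch.fin [nat_lit 4,nat_lit 64] [nat_lit 0] (((nat_lit 0),(Leaf.mp (nat_lit 122) [nat_lit 1,nat_lit 2,nat_lit 4,nat_lit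 8,nat_lit 16,nat_lit 32,nat_lit 64,nat_lit 384,nat_lit 256] [[nat_lit 1],[nat_lit 3],[nat_lit 5]]))::(((nat_lit 1),(Leaf.mp (nat_lit 155) [nat_lit 1,nat_lit 2,nat_lit 4,nat_lit 8,nat_lit 16,nat_lit 32,nat_lit 64,nat_lit 384,nat_lit 256] [[nat_lit 1],[nat_lit 3],[nat_lit 5]]))::[]))) Srch.nil)) Srch.nil) (Srch.rep (nat_lit 6) [nat_lit 16] [] [] (Srch.rep (nat_lit 38) [] [] [] (Srch.rep (nat_lit 160) [] [] [] (Srch.fin [nat_lit 4,nat_lit 64] [nat_lit 0] (((nat_lit 2),(Leaf.au (nat_lit 3) (nat_lit 16) (nat_lit 0) [[nat_lit 16,nat_lit 11,nat_lit 69,nat_lit 1]] [nat_lit 68,nat_lit 16,nat_lit 8,nat_lit 2,nat_lit 1] [nat_lit 5,nat_lit 704,nat_lit 5,nat_lit 640,nat_lit 5] (nat_lit 1) [nat_lit 0,nat_lit 1,nat_lit 69,nat_lit 68,nat_lit 11,nat_lit 10,nat_lit 78,nat_lit 79,nat_lit 16,nat_lit 17,nat_lit 85,nat_lit 84,nat_lit 27,nat_lit 26,nat_lit 94,nat_lit 95] (nat_lit 0) [nat_lit 0,nat_lit 0,nat_lit 2,nat_lit 2,nat_lit 0]))::(((nat_lit 3),(Leaf.au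 (nat_lit 3) (nat_lit 16) (nat_lit 0) [[nat_lit 16,nat_lit 11,nat_lit 69,nat_lit 1]] [nat_lit 68,nat_lit 16,nat_lit 8,nat_lit 2,nat_lit 1] [nat_lit 5,nat_lit 704,nat_lit 5,nat_lit 640,nat_lit 5] (nat_lit 1) [nat_lit 0,nat_lit 1,nat_lit 69,nat_lit 68,nat_lit 11,nat_lit 10,nat_lit 78,nat_lit 79,nat_lit 16,nat_lit 17,nat_lit 85,nat_lit 84,nat_lit 27,nat_lit 26,nat_lit 94,nat_lit 95] (nat_lit 0) [nat_lit 0,nat_lit 0,nat_lit 2,nat_lit 2,nat_lit 0]))::[]))) (Srch.rep (nat_lit 161) [] [] [] (Srch.fin [nat_lit 4,nat_lit 64] [nat_lit 0] (((nat_lit 2),(Leaf.au (nat_lit 3) (nat_lit 16) (nat_lit 0) [[nat_lit 16,nat_lit 11,nat_lit 69,nat_lit 1]] [nat_lit 68,nat_lit 16,nat_lit 8,nat_lit 2,nat_lit 1] [nat_lit 5,nat_lit 704,nat_lit 5,nat_lit 640,nat_lit 5] (nat_lit 1) [nat_lit 0,nat_lit 1,nat_lit 69,nat_lit 68,nat_lit 11,nat_lit 10,nat_lit 78,nat_lit 79,nat_lit 16,nat_lit 17,nat_lit 85,nat_lit 84,nat_lit 27,nat_lit 26,nat_lit 94,nat_lit 95] (nat_lit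 0) [nat_lit 0,nat_lit 0,nat_lit 2,nat_lit 2,nat_lit 0]))::(((nat_lit 3),(Leaf.au (nat_lit 3) (nat_lit 16) (nat_lit 0) [[nat_lit 16,nat_lit 11,nat_lit 69,nat_lit 1]] [nat_lit 68,nat_lit 16,nat_lit 8,nat_lit 2,nat_lit 1] [nat_lit 5,nat_lit 704,nat_lit 5,nat_lit 640,nat_lit 5] (nat_lit 1) [nat_lit 0,nat_lit 1,nat_lit 69,nat_lit 68,nat_lit 11,nat_lit 10,nat_lit 78,nat_lit 79,nat_lit 16,nat_lit 17,nat_lit 85,nat_lit 84,nat_lit 27,nat_lit 26,nat_lit 94,nat_lit 95] (nat_lit 0) [nat_lit 0,nat_lit 0,nat_lit 2,nat_lit 2,nat_lit 0]))::[]))) Srch.nil)) Srch.nil) Srch.nil)) Srch.nil) (Srch.rep (nat_lit 72) [nat_lit 72] [] [] (Srch.rep (nat_lit 66) [] [] [] Srch.nil Srch.nil) (Srch.rep (nat_lit 80) [nat_lit 64] [] [] (Srch.rep (nat_lit 90) [] [] [] Srch.nil Srch.nil) (Srch.rep (nat_lit 88) [nat_lit 72] [] [] (Srch.rep (nat_lit 82) [nat_lit 2] [] [] (Srch.rep (nat_lit 4) [nat_lit 16] [] [] (Srch.rep (nat_lit 36) [] [] [] (Srch.rep (nat_lit 184) []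 [] [] (Srch.fin [nat_lit 4,nat_lit 64] [nat_lit 0] (((nat_lit 32),(Leaf.pt (nat_lit 12) (nat_lit 76) [nat_lit 70,nat_lit 260]))::(((nat_lit 33),(Leaf.pt (nat_lit 19) (nat_lit 76) [nat_lit 34,nat_lit 270]))::[]))) (Srch.rep (nat_lit 185) [] [] [] (Srch.fin [nat_lit 4,nat_lit 64] [nat_lit 0] (((nat_lit 32),(Leaf.pt (nat_lit 12) (nat_lit 76) [nat_lit 70,nat_lit 260]))::(((nat_lit 33),(Leaf.pt (nat_lit 19) (nat_lit 76) [nat_lit 34,nat_lit 270]))::[]))) Srch.nil)) Srch.nil) (Srch.rep (nat_lit 6) [nat_lit 16] [] [] (Srch.rep (nat_lit 38) [] [] [] (Srch.rep (nat_lit 184) [] [] [] (Srch.fin [nat_lit 4,nat_lit 64] [nat_lit 0] (((nat_lit 34),(Leaf.pt (nat_lit 3) (nat_lit 76) [nat_lit 256,nat_lit 70]))::(((nat_lit 35),(Leaf.pt (nat_lit 17) (nat_lit 76) [nat_lit 256,nat_lit 138]))::[]))) (Srch.rep (nat_lit 185) [] [] [] (Srch.fin [nat_lit 4,nat_lit 64] [nat_lit 0] (((nat_lit 34),(Leaf.pt (nat_lit 17) (nat_lit 76) [nat_lit 256,nat_lit 138]))::(((nat_lit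 35),(Leaf.pt (nat_lit 3) (nat_lit 76) [nat_lit 256,nat_lit 70]))::[]))) Srch.nil)) Srch.nil) Srch.nil)) Srch.nil) Srch.nil)))) (Srch.rep (nat_lit 52) [nat_lit 4,nat_lit 10,nat_lit 130] [nat_lit 130,nat_lit 34,nat_lit 18,nat_lit 10,nat_lit 4,nat_lit 1] [nat_lit 64,nat_lit 2] (Srch.rep (nat_lit 130) [nat_lit 130] [] [] (Srch.rep (nat_lit 140) [nat_lit 22] [] [] (Srch.rep (nat_lit 4) [nat_lit 52] [] [] (Srch.rep (nat_lit 36) [] [] [] (Srch.rep (nat_lit 66) [] [] [] (Srch.fin [nat_lit 64,nat_lit 4] [] []) (Srch.rep (nat_lit 67) [] [] [] (Srch.fin [nat_lit 4,nat_lit 64] [nat_lit 0] (((nat_lit 33),(Leaf.au (nat_lit 2) (nat_lit 16) (nat_lit 1) [[nat_lit 32,nat_lit 16,nat_lit 8,nat_lit 4,nat_lit 2,nat_lit 1]] [nat_lit 64,nat_lit 32,nat_lit 16,nat_lit 8,nat_lit 4,nat_lit 2,nat_lit 1] [nat_lit 3,nat_lit 960,nat_lit 1] (nat_lit 2) [] (nat_lit 2) [nat_lit 64,nat_lit 32,nat_lit 8,nat_lit 8,nat_lit 6,nat_lit 2,nat_lit 0]))::(((nat_lit 32),(Leaf.au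 (nat_lit 2) (nat_lit 16) (nat_lit 1) [[nat_lit 32,nat_lit 16,nat_lit 8,nat_lit 4,nat_lit 2,nat_lit 1]] [nat_lit 64,nat_lit 32,nat_lit 16,nat_lit 8,nat_lit 4,nat_lit 2,nat_lit 1] [nat_lit 3,nat_lit 960,nat_lit 1] (nat_lit 2) [] (nat_lit 2) [nat_lit 64,nat_lit 32,nat_lit 8,nat_lit 8,nat_lit 6,nat_lit 2,nat_lit 0]))::[]))) Srch.nil)) Srch.nil) (Srch.rep (nat_lit 38) [nat_lit 52] [] [] (Srch.rep (nat_lit 7) [] [] [] (Srch.rep (nat_lit 64) [] [] [] (Srch.fin [nat_lit 4,nat_lit 64] [nat_lit 0] (((nat_lit 198),(Leaf.mp (nat_lit 161) [nat_lit 1,nat_lit 2,nat_lit 4,nat_lit 8,nat_lit 16,nat_lit 32,nat_lit 64,nat_lit 128,nat_lit 256] [[nat_lit 1],[nat_lit 3],[nat_lit 5]]))::(((nat_lit 199),(Leaf.mp (nat_lit 161) [nat_lit 1,nat_lit 2,nat_lit 4,nat_lit 8,nat_lit 16,nat_lit 32,nat_lit 64,nat_lit 129,nat_lit 280] [[nat_lit 1],[nat_lit 3],[nat_lit 5]]))::[]))) (Srch.rep (nat_lit 65) [] [] [] (Srch.fin [nat_lit 4,nat_lit 64] [nat_lit 0] (((nat_lit 222),(Leaf.mp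 (nat_lit 162) [nat_lit 1,nat_lit 2,nat_lit 4,nat_lit 8,nat_lit 16,nat_lit 32,nat_lit 64,nat_lit 128,nat_lit 256] [[nat_lit 1],[nat_lit 3],[nat_lit 5]]))::(((nat_lit 223),(Leaf.mp (nat_lit 162) [nat_lit 1,nat_lit 2,nat_lit 4,nat_lit 8,nat_lit 16,nat_lit 32,nat_lit 64,nat_lit 129,nat_lit 280] [[nat_lit 1],[nat_lit 3],[nat_lit 5]]))::[]))) Srch.nil)) Srch.nil) Srch.nil)) Srch.nil) (Srch.rep (nat_lit 140) [nat_lit 140] [] [] (Srch.rep (nat_lit 130) [nat_lit 22] [] [] (Srch.rep (nat_lit 4) [] [] [] Srch.nil (Srch.rep (nat_lit 38) [] [] [] Srch.nil Srch.nil)) Srch.nil) (Srch.rep (nat_lit 148) [nat_lit 130] [] [] (Srch.rep (nat_lit 154) [nat_lit 22] [] [] (Srch.rep (nat_lit 4) [] [] [] Srch.nil (Srch.rep (nat_lit 38) [] [] [] Srch.nil Srch.nil)) Srch.nil) (Srch.rep (nat_lit 154) [nat_lit 140] [] [] (Srch.rep (nat_lit 148) [nat_lit 22] [] [] (Srch.rep (nat_lit 4) [nat_lit 52] [] [] (Srch.rep (nat_lit 36) [] [] [] (Srch.rep (nat_lit 90) [] []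 [] (Srch.fin [nat_lit 64,nat_lit 4] [nat_lit 0] (((nat_lit 0),(Leaf.mp (nat_lit 163) [nat_lit 1,nat_lit 2,nat_lit 4,nat_lit 8,nat_lit 16,nat_lit 32,nat_lit 64,nat_lit 128,nat_lit 256] [[nat_lit 1],[nat_lit 3],[nat_lit 5]]))::(((nat_lit 1),(Leaf.mp (nat_lit 163) [nat_lit 1,nat_lit 2,nat_lit 4,nat_lit 8,nat_lit 16,nat_lit 32,nat_lit 64,nat_lit 129,nat_lit 280] [[nat_lit 1],[nat_lit 3],[nat_lit 5]]))::[]))) (Srch.rep (nat_lit 91) [] [] [] (Srch.fin [nat_lit 64,nat_lit 4] [nat_lit 0] (((nat_lit 24),(Leaf.mp (nat_lit 164) [nat_lit 1,nat_lit 2,nat_lit 4,nat_lit 8,nat_lit 16,nat_lit 32,nat_lit 64,nat_lit 128,nat_lit 256] [[nat_lit 1],[nat_lit 3],[nat_lit 5]]))::(((nat_lit 25),(Leaf.mp (nat_lit 164) [nat_lit 1,nat_lit 2,nat_lit 4,nat_lit 8,nat_lit 16,nat_lit 32,nat_lit 64,nat_lit 129,nat_lit 280] [[nat_lit 1],[nat_lit 3],[nat_lit 5]]))::[]))) Srch.nil)) Srch.nil) (Srch.rep (nat_lit 38) [nat_lit 52] [] [] (Srch.rep (nat_lit 7) [] [] [] (Srch.rep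 (nat_lit 88) [] [] [] (Srch.fin [nat_lit 4,nat_lit 64] [] []) (Srch.rep (nat_lit 89) [] [] [] (Srch.fin [nat_lit 64,nat_lit 4] [nat_lit 0] (((nat_lit 231),(Leaf.au (nat_lit 2) (nat_lit 16) (nat_lit 1) [[nat_lit 32,nat_lit 16,nat_lit 8,nat_lit 4,nat_lit 2,nat_lit 1]] [nat_lit 64,nat_lit 32,nat_lit 16,nat_lit 8,nat_lit 4,nat_lit 2,nat_lit 1] [nat_lit 3,nat_lit 732,nat_lit 1] (nat_lit 2) [] (nat_lit 2) [nat_lit 64,nat_lit 32,nat_lit 8,nat_lit 8,nat_lit 6,nat_lit 2,nat_lit 0]))::(((nat_lit 230),(Leaf.au (nat_lit 2) (nat_lit 16) (nat_lit 1) [[nat_lit 32,nat_lit 16,nat_lit 8,nat_lit 4,nat_lit 2,nat_lit 1]] [nat_lit 64,nat_lit 32,nat_lit 16,nat_lit 8,nat_lit 4,nat_lit 2,nat_lit 1] [nat_lit 3,nat_lit 732,nat_lit 1] (nat_lit 2) [] (nat_lit 2) [nat_lit 64,nat_lit 32,nat_lit 8,nat_lit 8,nat_lit 6,nat_lit 2,nat_lit 0]))::[]))) Srch.nil)) Srch.nil) Srch.nil)) Srch.nil) Srch.nil)))) Srch.nil)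
noncomputable def c165_1 : Node :=
  Node.ext [[nat_lit 32,nat_lit 16,nat_lit 8,nat_lit 4,nat_lit 2,nat_lit 1]] (nat_lit 10) [Ins.ts (nat_lit 4) [nat_lit 0] [nat_lit 10,nat_lit 0,nat_lit 0],Ins.fr [nat_lit 0],Ins.ts (nat_lit 1) [nat_lit 0,nat_lit 0] [],Ins.ts (nat_lit 1) [nat_lit 0,nat_lit 0,nat_lit 0,nat_lit 0] [],Ins.fr [nat_lit 1],Ins.ts (nat_lit 1) [nat_lit 0,nat_lit 0] [],Ins.ts (nat_lit 0) [nat_lit 0,nat_lit 1,nat_lit 1,nat_lit 0] [],Ins.ts (nat_lit 0) [nat_lit 1,nat_lit 1,nat_lit 1] [nat_lit 0,nat_lit 1,nat_lit 0],Ins.ts (nat_lit 2) [nat_lit 0,nat_lit 0,nat_lit 1,nat_lit 0] [],Ins.fr [nat_lit 2],Ins.ts (nat_lit 4) [nat_lit 0] [nat_lit 37,nat_lit 0,nat_lit 0],Ins.ts (nat_lit 1) [nat_lit 0,nat_lit 0] [],Ins.ts (nat_lit 2) [nat_lit 1,nat_lit 0,nat_lit 2] [],Ins.ts (nat_lit 0) [nat_lit 0,nat_lit 2,nat_lit 0,nat_lit 2] [],Ins.ts (nat_lit 2) [nat_lit 1,nat_lit 0] [],Ins.fr [nat_lit 0,nat_lit 0,nat_lit 3],Ins.ts (nat_lit 4) [nat_lit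 0] [nat_lit 5,nat_lit 0,nat_lit 0],Ins.ts (nat_lit 1) [nat_lit 0,nat_lit 0] [],Ins.ts (nat_lit 2) [nat_lit 4,nat_lit 0] [],Ins.ts (nat_lit 0) [nat_lit 2,nat_lit 0,nat_lit 2] [nat_lit 0],Ins.ts (nat_lit 0) [nat_lit 1,nat_lit 0] [nat_lit 0,nat_lit 1],Ins.fr [nat_lit 0,nat_lit 1,nat_lit 2,nat_lit 2,nat_lit 4],Ins.ts (nat_lit 0) [nat_lit 0,nat_lit 3,nat_lit 0] [nat_lit 3],Ins.ts (nat_lit 0) [nat_lit 4,nat_lit 0] [nat_lit 0,nat_lit 4],Ins.df [nat_lit 1,nat_lit 1],Ins.df [nat_lit 5,nat_lit 5],Ins.df [nat_lit 0,nat_lit 1,nat_lit 7],Ins.df [nat_lit 1,nat_lit 6,nat_lit 7],Ins.df [nat_lit 2,nat_lit 4,nat_lit 4],Ins.df [nat_lit 0,nat_lit 9]] [nat_lit 96,nat_lit 112,nat_lit 36,nat_lit 4,nat_lit 128] [nat_lit 5,nat_lit 4,nat_lit 7,nat_lit 3,nat_lit 2,nat_lit 1,nat_lit 0,nat_lit 6] (Srch.ex0 [nat_lit 68,nat_lit 36,nat_lit 16,nat_lit 8,nat_lit 2,nat_lit 1] (Srch.rep (nat_lit 12) [nat_lit 4,nat_lit 16,nat_lit 128] [nat_lit 128,nat_lit 34,nat_lit 16,nat_lit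 8,nat_lit 4,nat_lit 1] [nat_lit 64,nat_lit 2] (Srch.rep (nat_lit 128) [nat_lit 128] [] [] (Srch.rep (nat_lit 182) [nat_lit 34] [] [] (Srch.rep (nat_lit 4) [nat_lit 12] [] [] (Srch.rep (nat_lit 36) [] [] [] (Srch.rep (nat_lit 97) [] [] [] (Srch.fin [nat_lit 64,nat_lit 4] [] []) (Srch.rep (nat_lit 96) [] [] [] (Srch.fin [nat_lit 4,nat_lit 64] [nat_lit 0] (((nat_lit 0),(Leaf.au (nat_lit 2) (nat_lit 16) (nat_lit 1) [[nat_lit 32,nat_lit 16,nat_lit 8,nat_lit 4,nat_lit 2,nat_lit 1]] [nat_lit 64,nat_lit 32,nat_lit 16,nat_lit 8,nat_lit 4,nat_lit 2,nat_lit 1] [nat_lit 3,nat_lit 3,nat_lit 584] (nat_lit 2) [] (nat_lit 0) [nat_lit 64,nat_lit 32,nat_lit 8,nat_lit 8,nat_lit 4,nat_lit 2,nat_lit 0]))::(((nat_lit 1),(Leaf.au (nat_lit 2) (nat_lit 16) (nat_lit 1) [[nat_lit 32,nat_lit 16,nat_lit 8,nat_lit 4,nat_lit 2,nat_lit 1]] [nat_lit 64,nat_lit 32,nat_lit 16,nat_lit 8,nat_lit 4,nat_lit 2,nat_lit 1] [nat_lit 3,nat_lit 3,nat_lit 584] (nat_lit 2) [] (nat_lit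 0) [nat_lit 64,nat_lit 32,nat_lit 8,nat_lit 8,nat_lit 4,nat_lit 2,nat_lit 0]))::[]))) Srch.nil)) Srch.nil) (Srch.rep (nat_lit 38) [nat_lit 12] [] [] (Srch.rep (nat_lit 7) [] [] [] (Srch.rep (nat_lit 98) [] [] [] (Srch.fin [nat_lit 4,nat_lit 64] [nat_lit 0] (((nat_lit 196),(Leaf.mp (nat_lit 157) [nat_lit 1,nat_lit 2,nat_lit 4,nat_lit 8,nat_lit 16,nat_lit 32,nat_lit 64,nat_lit 128,nat_lit 256] [[nat_lit 1],[nat_lit 3],[nat_lit 5]]))::(((nat_lit 197),(Leaf.mp (nat_lit 157) [nat_lit 1,nat_lit 2,nat_lit 4,nat_lit 8,nat_lit 16,nat_lit 32,nat_lit 64,nat_lit 129,nat_lit 280] [[nat_lit 1],[nat_lit 3],[nat_lit 5]]))::[]))) (Srch.rep (nat_lit 99) [] [] [] (Srch.fin [nat_lit 4,nat_lit 64] [nat_lit 0] (((nat_lit 220),(Leaf.mp (nat_lit 158) [nat_lit 1,nat_lit 2,nat_lit 4,nat_lit 8,nat_lit 16,nat_lit 32,nat_lit 64,nat_lit 128,nat_lit 256] [[nat_lit 1],[nat_lit 3],[nat_lit 5]]))::(((nat_lit 221),(Leaf.mp (nat_lit 158) [nat_lit 1,nat_lit 2,nat_lit 4,nat_lit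 8,nat_lit 16,nat_lit 32,nat_lit 64,nat_lit 129,nat_lit 280] [[nat_lit 1],[nat_lit 3],[nat_lit 5]]))::[]))) Srch.nil)) Srch.nil) Srch.nil)) Srch.nil) (Srch.rep (nat_lit 140) [nat_lit 128] [] [] (Srch.rep (nat_lit 186) [nat_lit 34] [] [] (Srch.rep (nat_lit 4) [] [] [] Srch.nil (Srch.rep (nat_lit 38) [] [] [] Srch.nil Srch.nil)) Srch.nil) (Srch.rep (nat_lit 148) [nat_lit 148] [] [] (Srch.rep (nat_lit 162) [nat_lit 34] [] [] (Srch.rep (nat_lit 4) [] [] [] Srch.nil (Srch.rep (nat_lit 38) [] [] [] Srch.nil Srch.nil)) Srch.nil) (Srch.rep (nat_lit 152) [nat_lit 148] [] [] (Srch.rep (nat_lit 174) [nat_lit 34] [] [] (Srch.rep (nat_lit 4) [nat_lit 12] [] [] (Srch.rep (nat_lit 36) [] [] [] (Srch.rep (nat_lit 121) [] [] [] (Srch.fin [nat_lit 64,nat_lit 4] [] []) (Srch.rep (nat_lit 120) [] [] [] (Srch.fin [nat_lit 4,nat_lit 64] [nat_lit 0] (((nat_lit 0),(Leaf.au (nat_lit 2) (nat_lit 16) (nat_lit 1) [[nat_lit 32,nat_lit 16,nat_lit 8,nat_lit 4,nat_lit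 2,nat_lit 1]] [nat_lit 64,nat_lit 32,nat_lit 16,nat_lit 8,nat_lit 4,nat_lit 2,nat_lit 1] [nat_lit 3,nat_lit 3,nat_lit 584] (nat_lit 2) [] (nat_lit 0) [nat_lit 64,nat_lit 32,nat_lit 8,nat_lit 8,nat_lit 4,nat_lit 2,nat_lit 0]))::(((nat_lit 1),(Leaf.au (nat_lit 2) (nat_lit 16) (nat_lit 1) [[nat_lit 32,nat_lit 16,nat_lit 8,nat_lit 4,nat_lit 2,nat_lit 1]] [nat_lit 64,nat_lit 32,nat_lit 16,nat_lit 8,nat_lit 4,nat_lit 2,nat_lit 1] [nat_lit 3,nat_lit 3,nat_lit 584] (nat_lit 2) [] (nat_lit 0) [nat_lit 64,nat_lit 32,nat_lit 8,nat_lit 8,nat_lit 4,nat_lit 2,nat_lit 0]))::[]))) Srch.nil)) Srch.nil) (Srch.rep (nat_lit 38) [nat_lit 12] [] [] (Srch.rep (nat_lit 7) [] [] [] (Srch.rep (nat_lit 122) [] [] [] (Srch.fin [nat_lit 4,nat_lit 64] [nat_lit 0] (((nat_lit 196),(Leaf.mp (nat_lit 159) [nat_lit 1,nat_lit 2,nat_lit 4,nat_lit 8,nat_lit 16,nat_lit 32,nat_lit 64,nat_lit 128,nat_lit 256] [[nat_lit 1],[nat_lit 3],[nat_lit 5]]))::(((nat_lit 197),(Leaf.mp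 (nat_lit 159) [nat_lit 1,nat_lit 2,nat_lit 4,nat_lit 8,nat_lit 16,nat_lit 32,nat_lit 64,nat_lit 129,nat_lit 280] [[nat_lit 1],[nat_lit 3],[nat_lit 5]]))::[]))) (Srch.rep (nat_lit 123) [] [] [] (Srch.fin [nat_lit 4,nat_lit 64] [nat_lit 0] (((nat_lit 220),(Leaf.mp (nat_lit 160) [nat_lit 1,nat_lit 2,nat_lit 4,nat_lit 8,nat_lit 16,nat_lit 32,nat_lit 64,nat_lit 128,nat_lit 256] [[nat_lit 1],[nat_lit 3],[nat_lit 5]]))::(((nat_lit 221),(Leaf.mp (nat_lit 160) [nat_lit 1,nat_lit 2,nat_lit 4,nat_lit 8,nat_lit 16,nat_lit 32,nat_lit 64,nat_lit 129,nat_lit 280] [[nat_lit 1],[nat_lit 3],[nat_lit 5]]))::[]))) Srch.nil)) Srch.nil) Srch.nil)) Srch.nil) Srch.nil)))) c165_0)) (Node.lf (Leaf.au (nat_lit 1) (nat_lit 0) (nat_lit 0) [] [] [nat_lit 3,nat_lit 1] (nat_lit 0) [] (nat_lit 34) [nat_lit 0,nat_lit 2,nat_lit 38,nat_lit 10,nat_lit 10,nat_lit 32,nat_lit 96,nat_lit 160]))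
noncomputable def t165 : ℕ := nat_lit 0x8000800080008000a300a300a200a200a200a200a300a3008000800080008000a300a300a200a20081008100810081008100810081008100a200a200a300a3008000800080008000a300a300a200a200a200a200a300a3008000800080008000a300a300a200a20081008100810081008100810081008100a200a200a300a3008000800080008000a300a300a200a200a200a200a300a3008000800080008000a300a300a200a20081008100810081008100810081008100a200a200a300a3008000800080008000a300a300a200a200a200a200a300a3008000800080008000a300a300a200a20081008100810081008100810081008100a200a200a300a300a200a200a300a30081008100810081008100810081008100a300a300a200a2008000800080008000a200a200a300a300a300a300a200a2008000800080008000a200a200a300a30081008100810081008100810081008100a300a300a200a2008000800080008000a200a200a300a300a300a300a200a2008000800080008000a200a200a300a30081008100810081008100810081008100a300a300a200a2008000800080008000a200a200a300a300a300a300a200a2008000800080008000a200a200a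300a30081008100810081008100810081008100a300a300a200a2008000800080008000a200a200a300a300a300a300a200a200800080008000800040004000400040004200420043004300410041004100410043004300420042004000400040004000420042004300430041004100410041004300430042004200400040004000400042004200430043004100410041004100430043004200420040004000400040004200420043004300410041004100410043004300420042004300430042004200410041004100410042004200430043004000400040004000430043004200420041004100410041004200420043004300400040004000400043004300420042004100410041004100420042004300430040004000400040004300430042004200410041004100410042004200430043004000400040004000200020002000200020002000200020002100210021002100210021002100210021002100210021002100210021002100200020002000200020002000200020002000200020002000200020002000200021002100210021002100210021002100210021002100210021002100210021002000200020002000200020002000200010001000100010001000100010001000100010001000100010001000100010001000100010001000100010001000100010001000100010001000100010001000090009000900090009000900090009000800080008000800080008000800080004000400050005000500050004000400030003000200020001000100000000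
noncomputable def c165 : Node :=
  (Node.st (nat_lit 0) (nat_lit 10) (nat_lit 0) (Node.st (nat_lit 2) (nat_lit 0) (nat_lit 10) (Node.st (nat_lit 0) (nat_lit 14) (nat_lit 0) (Node.st (nat_lit 2) (nat_lit 1) (nat_lit 10) (Node.st (nat_lit 0) (nat_lit 17) (nat_lit 0) (Node.st (nat_lit 2) (nat_lit 1) (nat_lit 12) (Node.st (nat_lit 0) (nat_lit 55) (nat_lit 0) (Node.st (nat_lit 2) (nat_lit 2) (nat_lit 5) (Node.st (nat_lit 0) (nat_lit 78) (nat_lit 0) (Node.st (nat_lit 2) (nat_lit 2) (nat_lit 9) (Node.st (nat_lit 0) (nat_lit 85) (nat_lit 0) (Node.sp (nat_lit 1) (Node.lf (Leaf.pt (nat_lit 9) (nat_lit 1) [nat_lit 10])) (Node.sp (nat_lit 26) (Node.lf (Leaf.pt (nat_lit 9) (nat_lit 26) [nat_lit 10])) (Node.st (nat_lit 0) (nat_lit 26) (nat_lit 0) (Node.sp (nat_lit 28) (Node.lf (Leaf.pt (nat_lit 9) (nat_lit 28) [nat_lit 12])) (Node.st (nat_lit 0) (nat_lit 28) (nat_lit 0) (Node.sp (nat_lit 32) (Node.lf (Leaf.pt (nat_lit 12) (nat_lit 32) [nat_lit 28,nat_lit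 196])) (Node.st (nat_lit 0) (nat_lit 32) (nat_lit 0) (Node.sp (nat_lit 58) (Node.lf (Leaf.pt (nat_lit 9) (nat_lit 58) [nat_lit 12])) (Node.st (nat_lit 0) (nat_lit 58) (nat_lit 0) (Node.sp (nat_lit 68) (Node.lf (Leaf.pt (nat_lit 9) (nat_lit 68) [nat_lit 10])) (Node.st (nat_lit 0) (nat_lit 68) (nat_lit 0) (Node.sp (nat_lit 92) (Node.lf (Leaf.pt (nat_lit 9) (nat_lit 92) [nat_lit 10])) (Node.st (nat_lit 0) (nat_lit 92) (nat_lit 0) c165_1))))))))))))))))))))))))
theorem ok165 : nodeOK DB PT 165 t165 (nat_lit 0xf0000000f0000000f00c0cf0f00303f0f00000f0f0f0f0f0fcfc0303fc03fc03) (nat_lit 0x11110000000000000000000000000000111100000000000000000000000000001111000000002200000022001111000011110000000000220000002211110000111100000000000000000000111100001111000011110000111100001111000011112200111122000000003300000033111122000000005511112200000000ff) c165 = true := by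
  decide +kernel
noncomputable def c166_0 : Srch :=
  Srch.rep (nat_lit 16) [nat_lit 4,nat_lit 8,nat_lit 64] [nat_lit 64,nat_lit 16,nat_lit 8,nat_lit 4,nat_lit 2,nat_lit 1] [nat_lit 128,nat_lit 32] (Srch.rep (nat_lit 64) [nat_lit 64] [] [] (Srch.rep (nat_lit 74) [nat_lit 2] [] [] (Srch.rep (nat_lit 4) [nat_lit 16] [] [] (Srch.rep (nat_lit 36) [] [] [] (Srch.rep (nat_lit 160) [] [] [] (Srch.fin [nat_lit 128,nat_lit 68] [nat_lit 0] (((nat_lit 0),(Leaf.pt (nat_lit 18) (nat_lit 76) [nat_lit 396,nat_lit 26]))::(((nat_lit 1),(Leaf.pt (nat_lit 18) (nat_lit 76) [nat_lit 396,nat_lit 26]))::[]))) (Srch.rep (nat_lit 161) [] [] [] (Srch.fin [nat_lit 128,nat_lit 68] [nat_lit 0] (((nat_lit 0),(Leaf.pt (nat_lit 18) (nat_lit 76) [nat_lit 396,nat_lit 26]))::(((nat_lit 1),(Leaf.pt (nat_lit 18) (nat_lit 76) [nat_lit 396,nat_lit 26]))::[]))) Srch.nil)) Srch.nil) (Srch.rep (nat_lit 6) [nat_lit 16] [] [] (Srch.rep (nat_lit 38) [] [] [] (Srch.rep (nat_lit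 160) [] [] [] (Srch.fin [nat_lit 128,nat_lit 68] [nat_lit 0] (((nat_lit 2),(Leaf.sp (nat_lit 386) (Leaf.pt (nat_lit 17) (nat_lit 386) [nat_lit 72,nat_lit 36]) (Leaf.sp (nat_lit 463) (Leaf.pt (nat_lit 17) (nat_lit 463) [nat_lit 198,nat_lit 110]) (Leaf.pt (nat_lit 13) (nat_lit 76) [nat_lit 386]))))::(((nat_lit 3),(Leaf.au (nat_lit 3) (nat_lit 16) (nat_lit 0) [[nat_lit 16,nat_lit 11,nat_lit 69,nat_lit 1]] [nat_lit 68,nat_lit 16,nat_lit 8,nat_lit 2,nat_lit 1] [nat_lit 5,nat_lit 704,nat_lit 5,nat_lit 640,nat_lit 5] (nat_lit 1) [nat_lit 0,nat_lit 1,nat_lit 69,nat_lit 68,nat_lit 11,nat_lit 10,nat_lit 78,nat_lit 79,nat_lit 16,nat_lit 17,nat_lit 85,nat_lit 84,nat_lit 27,nat_lit 26,nat_lit 94,nat_lit 95] (nat_lit 0) [nat_lit 0,nat_lit 0,nat_lit 2,nat_lit 2,nat_lit 0]))::[]))) (Srch.rep (nat_lit 161) [] [] [] (Srch.fin [nat_lit 128,nat_lit 68] [nat_lit 0] (((nat_lit 2),(Leaf.sp (nat_lit 408) (Leaf.sp (nat_lit 389) (Leaf.pt (nat_lit 12) (nat_lit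 389) [nat_lit 26,nat_lit 204]) (Leaf.pt (nat_lit 13) (nat_lit 408) [nat_lit 28])) (Leaf.sp (nat_lit 468) (Leaf.pt (nat_lit 17) (nat_lit 468) [nat_lit 198,nat_lit 110]) (Leaf.pt (nat_lit 13) (nat_lit 76) [nat_lit 408]))))::(((nat_lit 3),(Leaf.au (nat_lit 3) (nat_lit 16) (nat_lit 0) [[nat_lit 16,nat_lit 11,nat_lit 69,nat_lit 1]] [nat_lit 68,nat_lit 16,nat_lit 8,nat_lit 2,nat_lit 1] [nat_lit 5,nat_lit 704,nat_lit 5,nat_lit 640,nat_lit 5] (nat_lit 1) [nat_lit 0,nat_lit 1,nat_lit 69,nat_lit 68,nat_lit 11,nat_lit 10,nat_lit 78,nat_lit 79,nat_lit 16,nat_lit 17,nat_lit 85,nat_lit 84,nat_lit 27,nat_lit 26,nat_lit 94,nat_lit 95] (nat_lit 0) [nat_lit 0,nat_lit 0,nat_lit 2,nat_lit 2,nat_lit 0]))::[]))) Srch.nil)) Srch.nil) Srch.nil)) Srch.nil) (Srch.rep (nat_lit 72) [nat_lit 72] [] [] (Srch.rep (nat_lit 66) [] [] [] Srch.nil Srch.nil) (Srch.rep (nat_lit 80) [nat_lit 64] [] [] (Srch.rep (nat_lit 90) [] [] [] Srch.nil Srch.nil) (Srch.rep (nat_lit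 88) [nat_lit 72] [] [] (Srch.rep (nat_lit 82) [nat_lit 2] [] [] (Srch.rep (nat_lit 4) [nat_lit 16] [] [] (Srch.rep (nat_lit 36) [] [] [] (Srch.rep (nat_lit 160) [] [] [] (Srch.fin [nat_lit 128,nat_lit 68] [nat_lit 0] (((nat_lit 32),(Leaf.pt (nat_lit 12) (nat_lit 76) [nat_lit 70,nat_lit 260]))::(((nat_lit 33),(Leaf.pt (nat_lit 19) (nat_lit 76) [nat_lit 34,nat_lit 270]))::[]))) (Srch.rep (nat_lit 161) [] [] [] (Srch.fin [nat_lit 128,nat_lit 68] [nat_lit 0] (((nat_lit 32),(Leaf.pt (nat_lit 12) (nat_lit 76) [nat_lit 70,nat_lit 260]))::(((nat_lit 33),(Leaf.pt (nat_lit 19) (nat_lit 76) [nat_lit 34,nat_lit 270]))::[]))) Srch.nil)) Srch.nil) (Srch.rep (nat_lit 6) [nat_lit 16] [] [] (Srch.rep (nat_lit 38) [] [] [] (Srch.rep (nat_lit 160) [] [] [] (Srch.fin [nat_lit 128,nat_lit 68] [nat_lit 0] (((nat_lit 34),(Leaf.pt (nat_lit 3) (nat_lit 76) [nat_lit 256,nat_lit 70]))::(((nat_lit 35),(Leaf.pt (nat_lit 3) (nat_lit 76) [nat_lit 256,nat_lit 70]))::[])))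 (Srch.rep (nat_lit 161) [] [] [] (Srch.fin [nat_lit 128,nat_lit 68] [nat_lit 0] (((nat_lit 34),(Leaf.pt (nat_lit 3) (nat_lit 76) [nat_lit 256,nat_lit 70]))::(((nat_lit 35),(Leaf.pt (nat_lit 3) (nat_lit 76) [nat_lit 256,nat_lit 70]))::[]))) Srch.nil)) Srch.nil) Srch.nil)) Srch.nil) Srch.nil)))) (Srch.rep (nat_lit 52) [nat_lit 4,nat_lit 10,nat_lit 130] [nat_lit 130,nat_lit 34,nat_lit 18,nat_lit 10,nat_lit 4,nat_lit 1] [nat_lit 64,nat_lit 2] (Srch.rep (nat_lit 130) [nat_lit 130] [] [] (Srch.rep (nat_lit 140) [nat_lit 22] [] [] (Srch.rep (nat_lit 4) [nat_lit 52] [] [] (Srch.rep (nat_lit 36) [] [] [] (Srch.rep (nat_lit 66) [] [] [] (Srch.fin [nat_lit 64] [] []) (Srch.rep (nat_lit 67) [] [] [] (Srch.fin [nat_lit 64] [nat_lit 0] (((nat_lit 33),(Leaf.au (nat_lit 2) (nat_lit 16) (nat_lit 1) [[nat_lit 32,nat_lit 16,nat_lit 8,nat_lit 4,nat_lit 2,nat_lit 1]] [nat_lit 64,nat_lit 32,nat_lit 16,nat_lit 8,nat_lit 4,nat_lit 2,nat_lit 1] [nat_lit 3,nat_lit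 960,nat_lit 1] (nat_lit 2) [] (nat_lit 2) [nat_lit 64,nat_lit 32,nat_lit 8,nat_lit 8,nat_lit 6,nat_lit 2,nat_lit 0]))::(((nat_lit 32),(Leaf.au (nat_lit 2) (nat_lit 16) (nat_lit 1) [[nat_lit 32,nat_lit 16,nat_lit 8,nat_lit 4,nat_lit 2,nat_lit 1]] [nat_lit 64,nat_lit 32,nat_lit 16,nat_lit 8,nat_lit 4,nat_lit 2,nat_lit 1] [nat_lit 3,nat_lit 960,nat_lit 1] (nat_lit 2) [] (nat_lit 2) [nat_lit 64,nat_lit 32,nat_lit 8,nat_lit 8,nat_lit 6,nat_lit 2,nat_lit 0]))::[]))) Srch.nil)) Srch.nil) (Srch.rep (nat_lit 38) [nat_lit 52] [] [] (Srch.rep (nat_lit 7) [] [] [] (Srch.rep (nat_lit 64) [] [] [] (Srch.fin [nat_lit 128] [] []) (Srch.rep (nat_lit 65) [] [] [] (Srch.fin [nat_lit 128] [] []) Srch.nil)) Srch.nil) Srch.nil)) Srch.nil) (Srch.rep (nat_lit 140) [nat_lit 140] [] [] (Srch.rep (nat_lit 130) [nat_lit 22] [] [] (Srch.rep (nat_lit 4) [] [] [] Srch.nil (Srch.rep (nat_lit 38) [] [] [] Srch.nil Srch.nil)) Srch.nil) (Srch.rep (nat_lit 148) [nat_lit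 130] [] [] (Srch.rep (nat_lit 154) [nat_lit 22] [] [] (Srch.rep (nat_lit 4) [] [] [] Srch.nil (Srch.rep (nat_lit 38) [] [] [] Srch.nil Srch.nil)) Srch.nil) (Srch.rep (nat_lit 154) [nat_lit 140] [] [] (Srch.rep (nat_lit 148) [nat_lit 22] [] [] (Srch.rep (nat_lit 4) [nat_lit 52] [] [] (Srch.rep (nat_lit 36) [] [] [] (Srch.rep (nat_lit 66) [] [] [] (Srch.fin [nat_lit 128] [] []) (Srch.rep (nat_lit 67) [] [] [] (Srch.fin [nat_lit 128] [] []) Srch.nil)) Srch.nil) (Srch.rep (nat_lit 38) [nat_lit 52] [] [] (Srch.rep (nat_lit 7) [] [] [] (Srch.rep (nat_lit 64) [] [] [] (Srch.fin [nat_lit 64] [nat_lit 0] (((nat_lit 230),(Leaf.au (nat_lit 2) (nat_lit 16) (nat_lit 1) [[nat_lit 32,nat_lit 16,nat_lit 8,nat_lit 4,nat_lit 2,nat_lit 1]] [nat_lit 64,nat_lit 32,nat_lit 16,nat_lit 8,nat_lit 4,nat_lit 2,nat_lit 1] [nat_lit 3,nat_lit 732,nat_lit 1] (nat_lit 2) [] (nat_lit 2) [nat_lit 64,nat_lit 32,nat_lit 8,nat_lit 8,nat_lit 6,nat_lit 2,nat_lit 0]))::(((nat_lit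 231),(Leaf.au (nat_lit 2) (nat_lit 16) (nat_lit 1) [[nat_lit 32,nat_lit 16,nat_lit 8,nat_lit 4,nat_lit 2,nat_lit 1]] [nat_lit 64,nat_lit 32,nat_lit 16,nat_lit 8,nat_lit 4,nat_lit 2,nat_lit 1] [nat_lit 3,nat_lit 732,nat_lit 1] (nat_lit 2) [] (nat_lit 2) [nat_lit 64,nat_lit 32,nat_lit 8,nat_lit 8,nat_lit 6,nat_lit 2,nat_lit 0]))::[]))) (Srch.rep (nat_lit 65) [] [] [] (Srch.fin [nat_lit 64] [] []) Srch.nil)) Srch.nil) Srch.nil)) Srch.nil) Srch.nil)))) Srch.nil)
noncomputable def c166_1 : Node :=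
  Node.st (nat_lit 0) (nat_lit 55) (nat_lit 0) (Node.st (nat_lit 2) (nat_lit 2) (nat_lit 5) (Node.st (nat_lit 0) (nat_lit 78) (nat_lit 0) (Node.sp (nat_lit 1) (Node.lf (Leaf.pt (nat_lit 9) (nat_lit 1) [nat_lit 10])) (Node.sp (nat_lit 26) (Node.lf (Leaf.pt (nat_lit 9) (nat_lit 26) [nat_lit 10])) (Node.st (nat_lit 0) (nat_lit 26) (nat_lit 0) (Node.sp (nat_lit 28) (Node.lf (Leaf.pt (nat_lit 9) (nat_lit 28) [nat_lit 12])) (Node.st (nat_lit 0) (nat_lit 28) (nat_lit 0) (Node.sp (nat_lit 32) (Node.lf (Leaf.pt (nat_lit 13) (nat_lit 32) [nat_lit 28])) (Node.st (nat_lit 0) (nat_lit 32) (nat_lit 0) (Node.sp (nat_lit 58) (Node.lf (Leaf.pt (nat_lit 9) (nat_lit 58) [nat_lit 12])) (Node.st (nat_lit 0) (nat_lit 58) (nat_lit 0) (Node.sp (nat_lit 68) (Node.lf (Leaf.pt (nat_lit 9) (nat_lit 68) [nat_lit 10])) (Node.st (nat_lit 0) (nat_lit 68) (nat_lit 0) (Node.sp (nat_lit 92) (Node.lf (Leaf.pt (nat_lit 9) (nat_lit 92) [nat_lit 10])) (Node.st (nat_lit 0)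 (nat_lit 92) (nat_lit 0) (Node.ext [[nat_lit 32,nat_lit 16,nat_lit 8,nat_lit 4,nat_lit 2,nat_lit 1]] (nat_lit 10) [Ins.ts (nat_lit 4) [nat_lit 0] [nat_lit 10,nat_lit 0,nat_lit 0],Ins.fr [nat_lit 0],Ins.ts (nat_lit 1) [nat_lit 0,nat_lit 0] [],Ins.ts (nat_lit 1) [nat_lit 0,nat_lit 0,nat_lit 0,nat_lit 0] [],Ins.fr [nat_lit 1],Ins.ts (nat_lit 1) [nat_lit 0,nat_lit 0] [],Ins.ts (nat_lit 0) [nat_lit 0,nat_lit 1,nat_lit 1,nat_lit 0] [],Ins.ts (nat_lit 0) [nat_lit 1,nat_lit 1,nat_lit 1] [nat_lit 0,nat_lit 1,nat_lit 0],Ins.ts (nat_lit 2) [nat_lit 0,nat_lit 0,nat_lit 1,nat_lit 0] [],Ins.fr [nat_lit 2],Ins.ts (nat_lit 4) [nat_lit 0] [nat_lit 37,nat_lit 0,nat_lit 0],Ins.ts (nat_lit 1) [nat_lit 0,nat_lit 0] [],Ins.ts (nat_lit 2) [nat_lit 1,nat_lit 0,nat_lit 2] [],Ins.ts (nat_lit 0) [nat_lit 0,nat_lit 2,nat_lit 0,nat_lit 2] [],Ins.ts (nat_lit 2) [nat_lit 1,nat_lit 0] [],Ins.fr [nat_lit 0,nat_lit 0,nat_lit 3],Ins.ts (nat_lit 4) [nat_lit 0] [nat_lit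 5,nat_lit 0,nat_lit 0],Ins.ts (nat_lit 1) [nat_lit 0,nat_lit 0] [],Ins.ts (nat_lit 2) [nat_lit 4,nat_lit 0] [],Ins.ts (nat_lit 0) [nat_lit 2,nat_lit 0,nat_lit 2] [nat_lit 0],Ins.ts (nat_lit 0) [nat_lit 1,nat_lit 0] [nat_lit 0,nat_lit 1],Ins.fr [nat_lit 0,nat_lit 1,nat_lit 2,nat_lit 2,nat_lit 4],Ins.ts (nat_lit 0) [nat_lit 4,nat_lit 4,nat_lit 2] [nat_lit 1,nat_lit 0,nat_lit 0],Ins.ts (nat_lit 0) [nat_lit 0,nat_lit 3,nat_lit 0,nat_lit 4] [nat_lit 5],Ins.df [nat_lit 1,nat_lit 1],Ins.df [nat_lit 5,nat_lit 5],Ins.df [nat_lit 0,nat_lit 1,nat_lit 7],Ins.df [nat_lit 1,nat_lit 6,nat_lit 7],Ins.df [nat_lit 2,nat_lit 4,nat_lit 4],Ins.df [nat_lit 0,nat_lit 9]] [nat_lit 96,nat_lit 112,nat_lit 36,nat_lit 4,nat_lit 128] [nat_lit 5,nat_lit 4,nat_lit 7,nat_lit 3,nat_lit 2,nat_lit 1,nat_lit 0,nat_lit 6] (Srch.ex0 [nat_lit 68,nat_lit 36,nat_lit 16,nat_lit 8,nat_lit 2,nat_lit 1] (Srch.rep (nat_lit 12) [nat_lit 4,nat_lit 16,nat_lit 128] [nat_lit 128,nat_lit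 34,nat_lit 16,nat_lit 8,nat_lit 4,nat_lit 1] [nat_lit 64,nat_lit 2] (Srch.rep (nat_lit 128) [nat_lit 128] [] [] (Srch.rep (nat_lit 182) [nat_lit 34] [] [] (Srch.rep (nat_lit 4) [nat_lit 12] [] [] (Srch.rep (nat_lit 36) [] [] [] (Srch.rep (nat_lit 97) [] [] [] (Srch.fin [nat_lit 64] [] []) (Srch.rep (nat_lit 96) [] [] [] (Srch.fin [nat_lit 64] [nat_lit 0] (((nat_lit 0),(Leaf.au (nat_lit 2) (nat_lit 16) (nat_lit 1) [[nat_lit 32,nat_lit 16,nat_lit 8,nat_lit 4,nat_lit 2,nat_lit 1]] [nat_lit 64,nat_lit 32,nat_lit 16,nat_lit 8,nat_lit 4,nat_lit 2,nat_lit 1] [nat_lit 3,nat_lit 3,nat_lit 584] (nat_lit 2) [] (nat_lit 0) [nat_lit 64,nat_lit 32,nat_lit 8,nat_lit 8,nat_lit 4,nat_lit 2,nat_lit 0]))::(((nat_lit 1),(Leaf.au (nat_lit 2) (nat_lit 16) (nat_lit 1) [[nat_lit 32,nat_lit 16,nat_lit 8,nat_lit 4,nat_lit 2,nat_lit 1]] [nat_lit 64,nat_lit 32,nat_lit 16,nat_lit 8,nat_lit 4,nat_lit 2,nat_lit 1] [nat_lit 3,nat_lit 3,nat_lit 584] (nat_lit 2) []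 (nat_lit 0) [nat_lit 64,nat_lit 32,nat_lit 8,nat_lit 8,nat_lit 4,nat_lit 2,nat_lit 0]))::[]))) Srch.nil)) Srch.nil) (Srch.rep (nat_lit 38) [nat_lit 12] [] [] (Srch.rep (nat_lit 7) [] [] [] (Srch.rep (nat_lit 98) [] [] [] (Srch.fin [nat_lit 128] [] []) (Srch.rep (nat_lit 99) [] [] [] (Srch.fin [nat_lit 128] [] []) Srch.nil)) Srch.nil) Srch.nil)) Srch.nil) (Srch.rep (nat_lit 140) [nat_lit 128] [] [] (Srch.rep (nat_lit 186) [nat_lit 34] [] [] (Srch.rep (nat_lit 4) [] [] [] Srch.nil (Srch.rep (nat_lit 38) [] [] [] Srch.nil Srch.nil)) Srch.nil) (Srch.rep (nat_lit 148) [nat_lit 148] [] [] (Srch.rep (nat_lit 162) [nat_lit 34] [] [] (Srch.rep (nat_lit 4) [] [] [] Srch.nil (Srch.rep (nat_lit 38) [] [] [] Srch.nil Srch.nil)) Srch.nil) (Srch.rep (nat_lit 152) [nat_lit 148] [] [] (Srch.rep (nat_lit 174) [nat_lit 34] [] [] (Srch.rep (nat_lit 4) [nat_lit 12] [] [] (Srch.rep (nat_lit 36) [] [] [] (Srch.rep (nat_lit 121) [] [] [] (Srch.fin [nat_lit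 64] [] []) (Srch.rep (nat_lit 120) [] [] [] (Srch.fin [nat_lit 64] [nat_lit 0] (((nat_lit 0),(Leaf.au (nat_lit 2) (nat_lit 16) (nat_lit 1) [[nat_lit 32,nat_lit 16,nat_lit 8,nat_lit 4,nat_lit 2,nat_lit 1]] [nat_lit 64,nat_lit 32,nat_lit 16,nat_lit 8,nat_lit 4,nat_lit 2,nat_lit 1] [nat_lit 3,nat_lit 3,nat_lit 584] (nat_lit 2) [] (nat_lit 0) [nat_lit 64,nat_lit 32,nat_lit 8,nat_lit 8,nat_lit 4,nat_lit 2,nat_lit 0]))::(((nat_lit 1),(Leaf.au (nat_lit 2) (nat_lit 16) (nat_lit 1) [[nat_lit 32,nat_lit 16,nat_lit 8,nat_lit 4,nat_lit 2,nat_lit 1]] [nat_lit 64,nat_lit 32,nat_lit 16,nat_lit 8,nat_lit 4,nat_lit 2,nat_lit 1] [nat_lit 3,nat_lit 3,nat_lit 584] (nat_lit 2) [] (nat_lit 0) [nat_lit 64,nat_lit 32,nat_lit 8,nat_lit 8,nat_lit 4,nat_lit 2,nat_lit 0]))::[]))) Srch.nil)) Srch.nil) (Srch.rep (nat_lit 38) [nat_lit 12] [] [] (Srch.rep (nat_lit 7) [] [] [] (Srch.rep (nat_lit 122) [] [] [] (Srch.fin [nat_lit 128] [] []) (Srch.rep (nat_lit 123) []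 [] [] (Srch.fin [nat_lit 128] [] []) Srch.nil)) Srch.nil) Srch.nil)) Srch.nil) Srch.nil)))) c166_0)) (Node.lf (Leaf.au (nat_lit 1) (nat_lit 0) (nat_lit 0) [] [] [nat_lit 3,nat_lit 1] (nat_lit 0) [] (nat_lit 34) [nat_lit 0,nat_lit 2,nat_lit 38,nat_lit 10,nat_lit 10,nat_lit 32,nat_lit 96,nat_lit 160]))))))))))))))))))
noncomputable def t166 : ℕ := nat_lit 0x9900990099009900ba00ba00bb00bb00ba00ba00bb00bb009800980098009800ba00ba00bb00bb0098009800980098009900990099009900ba00ba00bb00bb009900990099009900ba00ba00bb00bb00ba00ba00bb00bb009800980098009800ba00ba00bb00bb0098009800980098009900990099009900ba00ba00bb00bb008000800080008000a300a300a200a200a200a200a300a3008000800080008000a300a300a200a20081008100810081008100810081008100a200a200a300a3008000800080008000a300a300a200a200a200a200a300a3008000800080008000a300a300a200a20081008100810081008100810081008100a200a200a300a300bb00bb00ba00ba0098009800980098009900990099009900bb00bb00ba00ba0099009900990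09900bb00bb00ba00ba00bb00bb00ba00ba009800980098009800bb00bb00ba00ba0098009800980098009900990099009900bb00bb00ba00ba009900990099009900bb00bb00ba00ba00bb00bb00ba00ba009800980098009800a200a200a300a30081008100810081008100810081008100a300a300a200a2008000800080008000a200a200a300a300a300a300a200a2008000800080008000a200a200a300a30081008100810081008100810081008100a300a300a200a2008000800080008000a200a200a300a300a300a300a200a200800080008000800040004000400040004200420043004300410041004100410043004300420042004000400040004000420042004300430041004100410041004300430042004200400040004000400042004200430043004100410041004100430043004200420040004000400040004200420043004300410041004100410043004300420042004300430042004200410041004100410042004200430043004000400040004000430043004200420041004100410041004200420043004300400040004000400043004300420042004100410041004100420042004300430040004000400040004300430042004200410041004100410042004200430043004000400040004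000200020002000200020002000200020002100210021002100210021002100210021002100210021002100210021002100200020002000200020002000200020002000200020002000200020002000200021002100210021002100210021002100210021002100210021002100210021002000200020002000200020002000200010001000100010001000100010001000100010001000100010001000100010001000100010001000100010001000100010001000100010001000100010001000090009000900090009000900090009000800080008000800080008000800080004000400050005000500050004000400030003000200020001000100000000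
noncomputable def c166 : Node :=
  (Node.st (nat_lit 0) (nat_lit 10) (nat_lit 0) (Node.st (nat_lit 2) (nat_lit 0) (nat_lit 10) (Node.st (nat_lit 0) (nat_lit 14) (nat_lit 0) (Node.st (nat_lit 2) (nat_lit 1) (nat_lit 10) (Node.st (nat_lit 0) (nat_lit 17) (nat_lit 0) (Node.st (nat_lit 2) (nat_lit 1) (nat_lit 12) c166_1))))))
theorem ok166 : nodeOK DB PT 166 t166 (nat_lit 0xf00c0cf0f00303f0f00000f0f0f0f0f0fcfc0303fc03fc03) (nat_lit 0x1111000000002200000022001111000011110000000000220000002211110000111100000000000000000000111100001111000011110000111100001111000011112200111122000000003300000033111122000000005511112200000000ff) c166 = true := by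
  decide +kernel

end Cfsg.Agent.L33.Dat
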