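import Mathlib
import Cfsg.Agent.L33.DH

/-!
Certificates.
-/

set_option autoImplicit false
set_option maxRecDepth 100000

namespace Cfsg.Agent.L33.Dat

open Cfsg.Agent.L33

noncomputable def c167_0 : Node :=
  Node.sp (nat_lit 26) (Node.lf (Leaf.pt (nat_lit 9) (nat_lit 26) [nat_lit 10])) (Node.st (nat_lit 0) (nat_lit 26) (nat_lit 0) (Node.sp (nat_lit 28) (Node.lf (Leaf.pt (nat_lit 9) (nat_lit 28) [nat_lit 12])) (Node.st (nat_lit 0) (nat_lit 28) (nat_lit 0) (Node.sp (nat_lit 32) (Node.lf (Leaf.pt (nat_lit 12) (nat_lit 32) [nat_lit 26,nat_lit 196])) (Node.st (nat_lit 0) (nat_lit 32) (nat_lit 0) (Node.sp (nat_lit 58) (Node.lf (Leaf.pt (nat_lit 9) (nat_lit 58) [nat_lit 12])) (Node.st (nat_lit 0) (nat_lit 58) (nat_lit 0) (Node.sp (nat_lit 60) (Node.lf (Leaf.pt (nat_lit 9) (nat_lit 60) [nat_lit 10])) (Node.st (nat_lit 0) (nat_lit 60) (nat_lit 0) (Node.sp (nat_lit 68) (Node.lf (Leaf.pt (nat_lit 9) (nat_lit 68) [nat_lit 10])) (Node.st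 (nat_lit 0) (nat_lit 68) (nat_lit 0) (Node.sp (nat_lit 92) (Node.lf (Leaf.pt (nat_lit 9) (nat_lit 92) [nat_lit 10])) (Node.st (nat_lit 0) (nat_lit 92) (nat_lit 0) (Node.ext [[nat_lit 32,nat_lit 16,nat_lit 8,nat_lit 4,nat_lit 2,nat_lit 1]] (nat_lit 10) [Ins.ts (nat_lit 4) [nat_lit 0] [nat_lit 10,nat_lit 0,nat_lit 0],Ins.fr [nat_lit 0],Ins.ts (nat_lit 1) [nat_lit 0,nat_lit 0] [],Ins.ts (nat_lit 1) [nat_lit 0,nat_lit 0,nat_lit 0,nat_lit 0] [],Ins.fr [nat_lit 1],Ins.ts (nat_lit 1) [nat_lit 0,nat_lit 0] [],Ins.ts (nat_lit 0) [nat_lit 0,nat_lit 1,nat_lit 1,nat_lit 0] [],Ins.ts (nat_lit 0) [nat_lit 1,nat_lit 1,nat_lit 1] [nat_lit 0,nat_lit 1,nat_lit 0],Ins.ts (nat_lit 2) [nat_lit 0,nat_lit 0,nat_lit 1,nat_lit 0] [],Ins.fr [nat_lit 2],Ins.ts (nat_lit 1) [nat_lit 0,nat_lit 0] [],Ins.ts (nat_lit 4) [nat_lit 0] [nat_lit 37,nat_lit 0,nat_lit 0],Ins.ts (nat_lit 2) [nat_lit 1,nat_lit 0] [],Ins.ts (nat_lit 0) [nat_lit 0,nat_lit 2,nat_lit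 0,nat_lit 2] [],Ins.ts (nat_lit 2) [nat_lit 1,nat_lit 0,nat_lit 2] [],Ins.fr [nat_lit 0,nat_lit 0,nat_lit 3],Ins.ts (nat_lit 4) [nat_lit 0] [nat_lit 5,nat_lit 0,nat_lit 0],Ins.ts (nat_lit 1) [nat_lit 0,nat_lit 0] [],Ins.ts (nat_lit 2) [nat_lit 4,nat_lit 0] [],Ins.ts (nat_lit 0) [nat_lit 2,nat_lit 0,nat_lit 2] [nat_lit 0],Ins.ts (nat_lit 0) [nat_lit 1,nat_lit 0] [nat_lit 0,nat_lit 1],Ins.fr [nat_lit 0,nat_lit 1,nat_lit 2,nat_lit 3],Ins.ts (nat_lit 0) [nat_lit 3,nat_lit 3] [nat_lit 0,nat_lit 0],Ins.ts (nat_lit 0) [nat_lit 4,nat_lit 0,nat_lit 3] [nat_lit 5,nat_lit 0],Ins.df [nat_lit 1,nat_lit 1],Ins.df [nat_lit 5,nat_lit 5],Ins.df [nat_lit 0,nat_lit 1,nat_lit 7],Ins.df [nat_lit 1,nat_lit 6,nat_lit 7],Ins.df [nat_lit 3,nat_lit 5,nat_lit 6],Ins.df [nat_lit 0,nat_lit 9]] [nat_lit 96,nat_lit 112,nat_lit 36,nat_lit 4,nat_lit 128] [nat_lit 5,nat_lit 4,nat_lit 7,nat_lit 3,nat_lit 2,nat_lit 1,nat_lit 0,nat_lit 6] (Srch.ex0 [nat_lit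 68,nat_lit 36,nat_lit 16,nat_lit 8,nat_lit 2,nat_lit 1] (Srch.rep (nat_lit 12) [] [nat_lit 34,nat_lit 16,nat_lit 8,nat_lit 4,nat_lit 1] [nat_lit 128,nat_lit 64,nat_lit 2] Srch.nil (Srch.rep (nat_lit 16) [nat_lit 4,nat_lit 8,nat_lit 64] [nat_lit 64,nat_lit 16,nat_lit 8,nat_lit 4,nat_lit 2,nat_lit 1] [nat_lit 128,nat_lit 32] (Srch.rep (nat_lit 64) [nat_lit 64] [] [] (Srch.rep (nat_lit 74) [nat_lit 2] [] [] (Srch.rep (nat_lit 4) [nat_lit 16] [] [] (Srch.rep (nat_lit 36) [] [] [] (Srch.rep (nat_lit 160) [] [] [] (Srch.fin [nat_lit 128,nat_lit 4] [nat_lit 0] (((nat_lit 0),(Leaf.mp (nat_lit 121) [nat_lit 1,nat_lit 2,nat_lit 4,nat_lit 8,nat_lit 16,nat_lit 32,nat_lit 64,nat_lit 128,nat_lit 256] [[nat_lit 1],[nat_lit 3],[nat_lit 5]]))::(((nat_lit 1),(Leaf.pt (nat_lit 17) (nat_lit 12) [nat_lit 384,nat_lit 4]))::[]))) (Srch.rep (nat_lit 161) [] [] [] (Srch.fin [nat_lit 128,nat_lit 4] [nat_lit 0] (((nat_lit 0),(Leaf.pt (nat_lit 17)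 (nat_lit 12) [nat_lit 384,nat_lit 4]))::(((nat_lit 1),(Leaf.mp (nat_lit 155) [nat_lit 1,nat_lit 2,nat_lit 4,nat_lit 8,nat_lit 16,nat_lit 32,nat_lit 64,nat_lit 128,nat_lit 256] [[nat_lit 1],[nat_lit 3],[nat_lit 5]]))::[]))) Srch.nil)) Srch.nil) (Srch.rep (nat_lit 6) [nat_lit 16] [] [] (Srch.rep (nat_lit 38) [] [] [] (Srch.rep (nat_lit 160) [] [] [] (Srch.fin [nat_lit 128,nat_lit 4] [nat_lit 0] (((nat_lit 2),(Leaf.pt (nat_lit 17) (nat_lit 12) [nat_lit 470,nat_lit 4]))::(((nat_lit 3),(Leaf.pt (nat_lit 17) (nat_lit 12) [nat_lit 450,nat_lit 4]))::[]))) (Srch.rep (nat_lit 161) [] [] [] (Srch.fin [nat_lit 128,nat_lit 4] [nat_lit 0] (((nat_lit 2),(Leaf.pt (nat_lit 17) (nat_lit 12) [nat_lit 450,nat_lit 4]))::(((nat_lit 3),(Leaf.pt (nat_lit 17) (nat_lit 12) [nat_lit 470,nat_lit 4]))::[]))) Srch.nil)) Srch.nil) Srch.nil)) Srch.nil) (Srch.rep (nat_lit 72) [nat_lit 72] [] [] (Srch.rep (nat_lit 66) [] [] [] Srch.nil Srch.nil) (Srch.rep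 (nat_lit 80) [nat_lit 64] [] [] (Srch.rep (nat_lit 90) [] [] [] Srch.nil Srch.nil) (Srch.rep (nat_lit 88) [nat_lit 72] [] [] (Srch.rep (nat_lit 82) [nat_lit 2] [] [] (Srch.rep (nat_lit 4) [nat_lit 16] [] [] (Srch.rep (nat_lit 36) [] [] [] (Srch.rep (nat_lit 152) [] [] [] (Srch.fin [nat_lit 128,nat_lit 4] [nat_lit 0] (((nat_lit 32),(Leaf.pt (nat_lit 12) (nat_lit 12) [nat_lit 28,nat_lit 384]))::(((nat_lit 33),(Leaf.pt (nat_lit 12) (nat_lit 12) [nat_lit 28,nat_lit 384]))::[]))) (Srch.rep (nat_lit 153) [] [] [] (Srch.fin [nat_lit 128,nat_lit 4] [nat_lit 0] (((nat_lit 32),(Leaf.pt (nat_lit 12) (nat_lit 12) [nat_lit 28,nat_lit 384]))::(((nat_lit 33),(Leaf.pt (nat_lit 12) (nat_lit 12) [nat_lit 28,nat_lit 384]))::[]))) Srch.nil)) Srch.nil) (Srch.rep (nat_lit 6) [nat_lit 16] [] [] (Srch.rep (nat_lit 38) [] [] [] (Srch.rep (nat_lit 152) [] [] [] (Srch.fin [nat_lit 128,nat_lit 4] [nat_lit 0] (((nat_lit 34),(Leaf.pt (nat_lit 3) (nat_lit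 76) [nat_lit 256,nat_lit 70]))::(((nat_lit 35),(Leaf.pt (nat_lit 17) (nat_lit 12) [nat_lit 450,nat_lit 4]))::[]))) (Srch.rep (nat_lit 153) [] [] [] (Srch.fin [nat_lit 128,nat_lit 4] [nat_lit 0] (((nat_lit 34),(Leaf.pt (nat_lit 17) (nat_lit 12) [nat_lit 450,nat_lit 4]))::(((nat_lit 35),(Leaf.pt (nat_lit 3) (nat_lit 76) [nat_lit 256,nat_lit 70]))::[]))) Srch.nil)) Srch.nil) Srch.nil)) Srch.nil) Srch.nil)))) Srch.nil))) (Node.lf (Leaf.au (nat_lit 1) (nat_lit 0) (nat_lit 0) [] [] [nat_lit 3,nat_lit 1] (nat_lit 0) [] (nat_lit 34) [nat_lit 0,nat_lit 2,nat_lit 38,nat_lit 10,nat_lit 10,nat_lit 32,nat_lit 96,nat_lit 128]))))))))))))))))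
noncomputable def t167 : ℕ := nat_lit 0xa000a000a000a000a300a300a200a20099009900990099009a009a009b009b0099009900990099009a009a009b009b00a100a100a100a100a200a200a300a300a000a000a000a000a300a300a200a20099009900990099009a009a009b009b0099009900990099009a009a009b009b00a100a100a100a100a200a200a300a30080008000800080008300830082008200b900b900b900b900ba00ba00bb00bb00b900b900b900b900ba00ba00bb00bb008100810081008100820082008300830080008000800080008300830082008200b900b900b900b900ba00ba00bb00bb00b900b900b900b900ba00ba00bb00bb0081008100810081008200820083008300a200a200a300a300a100a100a100a1009b009b009a009a0098009800980098009b009b009a009a009800980098009800a300a300a200a200a000a000a000a000a200a200a300a300a100a100a100a1009b009b009a009a0098009800980098009b009b009a009a009800980098009800a300a300a200a200a000a000a000a00082008200830083008100810081008100bb00bb00ba00ba00b800b800b800b800bb00bb00ba00ba00b800b800b800b80083008300820082008000800080008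00082008200830083008100810081008100bb00bb00ba00ba00b800b800b800b800bb00bb00ba00ba00b800b800b800b8008300830082008200800080008000800040004000400040004200420043004300410041004100410043004300420042004000400040004000420042004300430041004100410041004300430042004200400040004000400042004200430043004100410041004100430043004200420040004000400040004200420043004300410041004100410043004300420042004300430042004200410041004100410042004200430043004000400040004000430043004200420041004100410041004200420043004300400040004000400043004300420042004100410041004100420042004300430040004000400040004300430042004200410041004100410042004200430043004000400040004000200020002000200020002000200020002100210021002100210021002100210021002100210021002100210021002100200020002000200020002000200020002000200020002000200020002000200021002100210021002100210021002100210021002100210021002100210021002000200020002000200020002000200010001000100010001000100010001000100010001000100010001000100010001000100010001000100010001000100010001000100010001000100010001000090009000900090009000900090009000800080008000800080008000800080004000400050005000500050004000400030003000200020001000100000000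
noncomputable def c167 : Node :=
  (Node.st (nat_lit 0) (nat_lit 10) (nat_lit 0) (Node.st (nat_lit 2) (nat_lit 0) (nat_lit 10) (Node.st (nat_lit 0) (nat_lit 14) (nat_lit 0) (Node.st (nat_lit 2) (nat_lit 1) (nat_lit 10) (Node.st (nat_lit 0) (nat_lit 17) (nat_lit 0) (Node.st (nat_lit 2) (nat_lit 2) (nat_lit 5) (Node.st (nat_lit 0) (nat_lit 78) (nat_lit 0) (Node.sp (nat_lit 1) (Node.lf (Leaf.pt (nat_lit 9) (nat_lit 1) [nat_lit 10])) c167_0))))))))
theorem ok167 : nodeOK DB PT 167 t167 (nat_lit 0xf00000f0f00000f0f00000f0f0f0f0f0fcfc0303fc03fc03) (nat_lit 0x1111000000000000000000001111000011110000000000000000000011110000111100000000000000000000111100001111000011110000111100001111000011112200111122000000003300000033111122000000005511112200000000ff) c167 = true := by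
  decide +kernel
noncomputable def c168_0 : Node :=
  Node.sp (nat_lit 26) (Node.lf (Leaf.pt (nat_lit 9) (nat_lit 26) [nat_lit 10])) (Node.st (nat_lit 0) (nat_lit 26) (nat_lit 0) (Node.sp (nat_lit 28) (Node.lf (Leaf.pt (nat_lit 9) (nat_lit 28) [nat_lit 12])) (Node.st (nat_lit 0) (nat_lit 28) (nat_lit 0) (Node.sp (nat_lit 32) (Node.lf (Leaf.pt (nat_lit 12) (nat_lit 32) [nat_lit 26,nat_lit 196])) (Node.st (nat_lit 0) (nat_lit 32) (nat_lit 0) (Node.sp (nat_lit 58) (Node.lf (Leaf.pt (nat_lit 9) (nat_lit 58) [nat_lit 12])) (Node.st (nat_lit 0) (nat_lit 58) (nat_lit 0) (Node.sp (nat_lit 60) (Node.lf (Leaf.pt (nat_lit 9) (nat_lit 60) [nat_lit 10])) (Node.st (nat_lit 0) (nat_lit 60) (nat_lit 0) (Node.sp (nat_lit 68) (Node.lf (Leaf.pt (nat_lit 9) (nat_lit 68) [nat_lit 10])) (Node.st (nat_lit 0) (nat_lit 68) (nat_lit 0) (Node.sp (nat_lit 92) (Node.lf (Leaf.pt (nat_lit 9) (nat_lit 92) [nat_lit 10])) (Node.st (nat_lit 0) (nat_lit 92)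 (nat_lit 0) (Node.ext [[nat_lit 32,nat_lit 16,nat_lit 8,nat_lit 4,nat_lit 2,nat_lit 1]] (nat_lit 10) [Ins.ts (nat_lit 4) [nat_lit 0] [nat_lit 10,nat_lit 0,nat_lit 0],Ins.fr [nat_lit 0],Ins.ts (nat_lit 1) [nat_lit 0,nat_lit 0] [],Ins.ts (nat_lit 1) [nat_lit 0,nat_lit 0,nat_lit 0,nat_lit 0] [],Ins.fr [nat_lit 1],Ins.ts (nat_lit 1) [nat_lit 0,nat_lit 0] [],Ins.ts (nat_lit 0) [nat_lit 0,nat_lit 1,nat_lit 1,nat_lit 0] [],Ins.ts (nat_lit 0) [nat_lit 1,nat_lit 1,nat_lit 1] [nat_lit 0,nat_lit 1,nat_lit 0],Ins.ts (nat_lit 2) [nat_lit 0,nat_lit 0,nat_lit 1,nat_lit 0] [],Ins.fr [nat_lit 2],Ins.ts (nat_lit 1) [nat_lit 0,nat_lit 0] [],Ins.ts (nat_lit 4) [nat_lit 0] [nat_lit 37,nat_lit 0,nat_lit 0],Ins.ts (nat_lit 2) [nat_lit 1,nat_lit 0] [],Ins.ts (nat_lit 0) [nat_lit 0,nat_lit 2,nat_lit 0,nat_lit 2] [],Ins.ts (nat_lit 2) [nat_lit 1,nat_lit 0,nat_lit 2] [],Ins.fr [nat_lit 0,nat_lit 0,nat_lit 3],Ins.ts (nat_lit 4) [nat_lit 0] [nat_lit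 5,nat_lit 0,nat_lit 0],Ins.ts (nat_lit 1) [nat_lit 0,nat_lit 0] [],Ins.ts (nat_lit 2) [nat_lit 4,nat_lit 0] [],Ins.ts (nat_lit 0) [nat_lit 2,nat_lit 0,nat_lit 2] [nat_lit 0],Ins.ts (nat_lit 0) [nat_lit 1,nat_lit 0] [nat_lit 0,nat_lit 1],Ins.fr [nat_lit 0,nat_lit 1,nat_lit 2,nat_lit 3],Ins.ts (nat_lit 0) [nat_lit 4,nat_lit 4] [nat_lit 0,nat_lit 0],Ins.ts (nat_lit 0) [nat_lit 4,nat_lit 0,nat_lit 3] [nat_lit 5,nat_lit 0],Ins.df [nat_lit 1,nat_lit 1],Ins.df [nat_lit 1,nat_lit 1],Ins.df [nat_lit 0,nat_lit 1,nat_lit 7],Ins.df [nat_lit 1,nat_lit 6,nat_lit 7],Ins.df [nat_lit 3,nat_lit 5,nat_lit 6],Ins.df [nat_lit 0,nat_lit 9]] [nat_lit 96,nat_lit 112,nat_lit 36,nat_lit 4,nat_lit 128] [nat_lit 5,nat_lit 4,nat_lit 7,nat_lit 3,nat_lit 2,nat_lit 1,nat_lit 0,nat_lit 6] (Srch.ex0 [nat_lit 68,nat_lit 36,nat_lit 16,nat_lit 8,nat_lit 2,nat_lit 1] (Srch.rep (nat_lit 12) [] [nat_lit 34,nat_lit 16,nat_lit 8,nat_lit 4,nat_lit 1] [nat_lit 128,nat_lit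 64,nat_lit 2] Srch.nil (Srch.rep (nat_lit 16) [nat_lit 4,nat_lit 8,nat_lit 64] [nat_lit 64,nat_lit 16,nat_lit 8,nat_lit 4,nat_lit 2,nat_lit 1] [nat_lit 128,nat_lit 32] (Srch.rep (nat_lit 64) [nat_lit 64] [] [] (Srch.rep (nat_lit 74) [nat_lit 2] [] [] (Srch.rep (nat_lit 4) [nat_lit 16] [] [] (Srch.rep (nat_lit 36) [] [] [] (Srch.rep (nat_lit 160) [] [] [] (Srch.fin [nat_lit 128,nat_lit 4] [nat_lit 0] (((nat_lit 0),(Leaf.pt (nat_lit 17) (nat_lit 12) [nat_lit 384,nat_lit 4]))::(((nat_lit 1),(Leaf.mp (nat_lit 154) [nat_lit 1,nat_lit 2,nat_lit 4,nat_lit 8,nat_lit 16,nat_lit 32,nat_lit 64,nat_lit 128,nat_lit 256] [[nat_lit 1],[nat_lit 3],[nat_lit 5]]))::[]))) (Srch.rep (nat_lit 161) [] [] [] (Srch.fin [nat_lit 128,nat_lit 4] [nat_lit 0] (((nat_lit 0),(Leaf.mp (nat_lit 122) [nat_lit 1,nat_lit 2,nat_lit 4,nat_lit 8,nat_lit 16,nat_lit 32,nat_lit 64,nat_lit 128,nat_lit 256] [[nat_lit 1],[nat_lit 3],[nat_lit 5]]))::(((nat_lit 1),(Leaf.pt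 (nat_lit 17) (nat_lit 12) [nat_lit 384,nat_lit 4]))::[]))) Srch.nil)) Srch.nil) (Srch.rep (nat_lit 6) [nat_lit 16] [] [] (Srch.rep (nat_lit 38) [] [] [] (Srch.rep (nat_lit 160) [] [] [] (Srch.fin [nat_lit 128,nat_lit 4] [nat_lit 0] (((nat_lit 2),(Leaf.pt (nat_lit 17) (nat_lit 12) [nat_lit 450,nat_lit 4]))::(((nat_lit 3),(Leaf.pt (nat_lit 17) (nat_lit 12) [nat_lit 470,nat_lit 4]))::[]))) (Srch.rep (nat_lit 161) [] [] [] (Srch.fin [nat_lit 128,nat_lit 4] [nat_lit 0] (((nat_lit 2),(Leaf.pt (nat_lit 17) (nat_lit 12) [nat_lit 470,nat_lit 4]))::(((nat_lit 3),(Leaf.pt (nat_lit 17) (nat_lit 12) [nat_lit 450,nat_lit 4]))::[]))) Srch.nil)) Srch.nil) Srch.nil)) Srch.nil) (Srch.rep (nat_lit 72) [nat_lit 72] [] [] (Srch.rep (nat_lit 66) [] [] [] Srch.nil Srch.nil) (Srch.rep (nat_lit 80) [nat_lit 64] [] [] (Srch.rep (nat_lit 90) [] [] [] Srch.nil Srch.nil) (Srch.rep (nat_lit 88) [nat_lit 72] [] [] (Srch.rep (nat_lit 82) [nat_lit 2] []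 [] (Srch.rep (nat_lit 4) [nat_lit 16] [] [] (Srch.rep (nat_lit 36) [] [] [] (Srch.rep (nat_lit 152) [] [] [] (Srch.fin [nat_lit 128,nat_lit 4] [nat_lit 0] (((nat_lit 32),(Leaf.pt (nat_lit 12) (nat_lit 12) [nat_lit 28,nat_lit 384]))::(((nat_lit 33),(Leaf.pt (nat_lit 12) (nat_lit 12) [nat_lit 28,nat_lit 384]))::[]))) (Srch.rep (nat_lit 153) [] [] [] (Srch.fin [nat_lit 128,nat_lit 4] [nat_lit 0] (((nat_lit 32),(Leaf.pt (nat_lit 12) (nat_lit 12) [nat_lit 28,nat_lit 384]))::(((nat_lit 33),(Leaf.pt (nat_lit 12) (nat_lit 12) [nat_lit 28,nat_lit 384]))::[]))) Srch.nil)) Srch.nil) (Srch.rep (nat_lit 6) [nat_lit 16] [] [] (Srch.rep (nat_lit 38) [] [] [] (Srch.rep (nat_lit 152) [] [] [] (Srch.fin [nat_lit 128,nat_lit 4] [nat_lit 0] (((nat_lit 34),(Leaf.pt (nat_lit 17) (nat_lit 12) [nat_lit 450,nat_lit 4]))::(((nat_lit 35),(Leaf.pt (nat_lit 3) (nat_lit 76) [nat_lit 256,nat_lit 70]))::[]))) (Srch.rep (nat_lit 153) [] [] [] (Srch.fin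 [nat_lit 128,nat_lit 4] [nat_lit 0] (((nat_lit 34),(Leaf.pt (nat_lit 3) (nat_lit 76) [nat_lit 256,nat_lit 70]))::(((nat_lit 35),(Leaf.pt (nat_lit 17) (nat_lit 12) [nat_lit 450,nat_lit 4]))::[]))) Srch.nil)) Srch.nil) Srch.nil)) Srch.nil) Srch.nil)))) Srch.nil))) (Node.lf (Leaf.au (nat_lit 1) (nat_lit 0) (nat_lit 0) [] [] [nat_lit 3,nat_lit 1] (nat_lit 0) [] (nat_lit 34) [nat_lit 0,nat_lit 2,nat_lit 38,nat_lit 10,nat_lit 10,nat_lit 32,nat_lit 96,nat_lit 128]))))))))))))))))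
noncomputable def t168 : ℕ := nat_lit 0xa100a100a100a100a200a200a300a30098009800980098009b009b009a009a0098009800980098009b009b009a009a00a000a000a000a000a300a300a200a200a100a100a100a100a200a200a300a30098009800980098009b009b009a009a0098009800980098009b009b009a009a00a000a000a000a000a300a300a200a20081008100810081008200820083008300b800b800b800b800bb00bb00ba00ba00b800b800b800b800bb00bb00ba00ba008000800080008000830083008200820081008100810081008200820083008300b800b800b800b800bb00bb00ba00ba00b800b800b800b800bb00bb00ba00ba0080008000800080008300830082008200a200a200a300a300a100a100a100a1009b009b009a009a0098009800980098009b009b009a009a009800980098009800a300a300a200a200a000a000a000a000a200a200a300a300a100a100a100a1009b009b009a009a0098009800980098009b009b009a009a009800980098009800a300a300a200a200a000a000a000a00082008200830083008100810081008100bb00bb00ba00ba00b800b800b800b800bb00bb00ba00ba00b800b800b800b80083008300820082008000800080008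00082008200830083008100810081008100bb00bb00ba00ba00b800b800b800b800bb00bb00ba00ba00b800b800b800b8008300830082008200800080008000800040004000400040004200420043004300410041004100410043004300420042004000400040004000420042004300430041004100410041004300430042004200400040004000400042004200430043004100410041004100430043004200420040004000400040004200420043004300410041004100410043004300420042004300430042004200410041004100410042004200430043004000400040004000430043004200420041004100410041004200420043004300400040004000400043004300420042004100410041004100420042004300430040004000400040004300430042004200410041004100410042004200430043004000400040004000200020002000200020002000200020002100210021002100210021002100210021002100210021002100210021002100200020002000200020002000200020002000200020002000200020002000200021002100210021002100210021002100210021002100210021002100210021002000200020002000200020002000200010001000100010001000100010001000100010001000100010001000100010001000100010001000100010001000100010001000100010001000100010001000090009000900090009000900090009000800080008000800080008000800080004000400050005000500050004000400030003000200020001000100000000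
noncomputable def c168 : Node :=
  (Node.st (nat_lit 0) (nat_lit 10) (nat_lit 0) (Node.st (nat_lit 2) (nat_lit 0) (nat_lit 10) (Node.st (nat_lit 0) (nat_lit 14) (nat_lit 0) (Node.st (nat_lit 2) (nat_lit 1) (nat_lit 10) (Node.st (nat_lit 0) (nat_lit 17) (nat_lit 0) (Node.st (nat_lit 2) (nat_lit 2) (nat_lit 5) (Node.st (nat_lit 0) (nat_lit 78) (nat_lit 0) (Node.sp (nat_lit 1) (Node.lf (Leaf.pt (nat_lit 9) (nat_lit 1) [nat_lit 10])) c168_0))))))))
theorem ok168 : nodeOK DB PT 168 t168 (nat_lit 0xf00000f0f0f0f0f0fcfc0303fc03fc03) (nat_lit 0x111100000000000000000000111100001111000011110000111100001111000011112200111122000000003300000033111122000000005511112200000000ff) c168 = true := by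
  decide +kernel
noncomputable def c169_0 : Srch :=
  Srch.rep (nat_lit 16) [nat_lit 4,nat_lit 8,nat_lit 64] [nat_lit 64,nat_lit 16,nat_lit 8,nat_lit 4,nat_lit 2,nat_lit 1] [nat_lit 32] (Srch.rep (nat_lit 64) [nat_lit 64] [] [] (Srch.rep (nat_lit 74) [nat_lit 2] [] [] (Srch.rep (nat_lit 4) [nat_lit 16] [] [] (Srch.rep (nat_lit 36) [] [] [] (Srch.fin [nat_lit 4,nat_lit 64] [nat_lit 0] (((nat_lit 0),(Leaf.mp (nat_lit 123) [nat_lit 1,nat_lit 2,nat_lit 4,nat_lit 8,nat_lit 16,nat_lit 32,nat_lit 64,nat_lit 128] [[nat_lit 1],[nat_lit 3],[nat_lit 5]]))::(((nat_lit 1),(Leaf.mp (nat_lit 156) [nat_lit 1,nat_lit 2,nat_lit 4,nat_lit 8,nat_lit 16,nat_lit 32,nat_lit 64,nat_lit 128] [[nat_lit 1],[nat_lit 3],[nat_lit 5]]))::[]))) Srch.nil) (Srch.rep (nat_lit 6) [nat_lit 16] [] [] (Srch.rep (nat_lit 38) [] [] [] (Srch.fin [nat_lit 4,nat_lit 64] [nat_lit 0] (((nat_lit 2),(Leaf.au (nat_lit 3) (nat_lit 16) (nat_lit 0) [[nat_lit 16,nat_lit 11,nat_lit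 69,nat_lit 1]] [nat_lit 68,nat_lit 16,nat_lit 8,nat_lit 2,nat_lit 1] [nat_lit 5,nat_lit 448,nat_lit 5,nat_lit 384,nat_lit 5] (nat_lit 1) [nat_lit 0,nat_lit 1,nat_lit 69,nat_lit 68,nat_lit 11,nat_lit 10,nat_lit 78,nat_lit 79,nat_lit 16,nat_lit 17,nat_lit 85,nat_lit 84,nat_lit 27,nat_lit 26,nat_lit 94,nat_lit 95] (nat_lit 0) [nat_lit 0,nat_lit 0,nat_lit 2,nat_lit 2,nat_lit 0]))::(((nat_lit 3),(Leaf.au (nat_lit 3) (nat_lit 16) (nat_lit 0) [[nat_lit 16,nat_lit 11,nat_lit 69,nat_lit 1]] [nat_lit 68,nat_lit 16,nat_lit 8,nat_lit 2,nat_lit 1] [nat_lit 5,nat_lit 448,nat_lit 5,nat_lit 384,nat_lit 5] (nat_lit 1) [nat_lit 0,nat_lit 1,nat_lit 69,nat_lit 68,nat_lit 11,nat_lit 10,nat_lit 78,nat_lit 79,nat_lit 16,nat_lit 17,nat_lit 85,nat_lit 84,nat_lit 27,nat_lit 26,nat_lit 94,nat_lit 95] (nat_lit 0) [nat_lit 0,nat_lit 0,nat_lit 2,nat_lit 2,nat_lit 0]))::[]))) Srch.nil) Srch.nil)) Srch.nil) (Srch.rep (nat_lit 72) [nat_lit 72] [] [] (Srch.rep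 (nat_lit 66) [] [] [] Srch.nil Srch.nil) (Srch.rep (nat_lit 80) [nat_lit 64] [] [] (Srch.rep (nat_lit 90) [] [] [] Srch.nil Srch.nil) (Srch.rep (nat_lit 88) [nat_lit 72] [] [] (Srch.rep (nat_lit 82) [nat_lit 2] [] [] (Srch.rep (nat_lit 4) [nat_lit 16] [] [] (Srch.rep (nat_lit 36) [] [] [] (Srch.fin [nat_lit 4,nat_lit 64] [nat_lit 0] (((nat_lit 32),(Leaf.pt (nat_lit 12) (nat_lit 76) [nat_lit 70,nat_lit 132]))::(((nat_lit 33),(Leaf.pt (nat_lit 19) (nat_lit 76) [nat_lit 34,nat_lit 142]))::[]))) Srch.nil) (Srch.rep (nat_lit 6) [nat_lit 16] [] [] (Srch.rep (nat_lit 38) [] [] [] (Srch.fin [nat_lit 4,nat_lit 64] [nat_lit 0] (((nat_lit 34),(Leaf.pt (nat_lit 3) (nat_lit 76) [nat_lit 128,nat_lit 70]))::(((nat_lit 35),(Leaf.pt (nat_lit 3) (nat_lit 76) [nat_lit 128,nat_lit 70]))::[]))) Srch.nil) Srch.nil)) Srch.nil) Srch.nil)))) (Srch.rep (nat_lit 40) [nat_lit 4,nat_lit 24,nat_lit 72] [nat_lit 72,nat_lit 40,nat_lit 24,nat_lit 4,nat_lit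 2,nat_lit 1] [nat_lit 8] (Srch.rep (nat_lit 72) [nat_lit 72] [] [] (Srch.rep (nat_lit 122) [] [] [] Srch.nil Srch.nil) (Srch.rep (nat_lit 80) [nat_lit 80] [] [] (Srch.rep (nat_lit 98) [] [] [] Srch.nil Srch.nil) (Srch.rep (nat_lit 96) [nat_lit 72] [] [] (Srch.rep (nat_lit 82) [nat_lit 2] [] [] (Srch.rep (nat_lit 4) [nat_lit 40] [] [] (Srch.rep (nat_lit 36) [] [] [] (Srch.fin [nat_lit 4,nat_lit 64] [nat_lit 0] (((nat_lit 32),(Leaf.pt (nat_lit 17) (nat_lit 12) [nat_lit 212,nat_lit 4]))::(((nat_lit 33),(Leaf.pt (nat_lit 17) (nat_lit 12) [nat_lit 192,nat_lit 4]))::[]))) Srch.nil) (Srch.rep (nat_lit 6) [nat_lit 40] [] [] (Srch.rep (nat_lit 38) [] [] [] (Srch.fin [nat_lit 4,nat_lit 64] [nat_lit 0] (((nat_lit 34),(Leaf.mp (nat_lit 165) [nat_lit 1,nat_lit 2,nat_lit 4,nat_lit 8,nat_lit 16,nat_lit 32,nat_lit 64,nat_lit 128] [[nat_lit 1],[nat_lit 3],[nat_lit 5]]))::(((nat_lit 35),(Leaf.pt (nat_lit 17) (nat_lit 12) [nat_lit 128,nat_lit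 4]))::[]))) Srch.nil) Srch.nil)) Srch.nil) (Srch.rep (nat_lit 120) [nat_lit 80] [] [] (Srch.rep (nat_lit 74) [nat_lit 2] [] [] (Srch.rep (nat_lit 4) [nat_lit 40] [] [] (Srch.rep (nat_lit 36) [] [] [] (Srch.fin [nat_lit 4,nat_lit 64] [nat_lit 0] (((nat_lit 32),(Leaf.pt (nat_lit 12) (nat_lit 12) [nat_lit 28,nat_lit 192]))::(((nat_lit 33),(Leaf.pt (nat_lit 12) (nat_lit 12) [nat_lit 28,nat_lit 192]))::[]))) Srch.nil) (Srch.rep (nat_lit 6) [nat_lit 40] [] [] (Srch.rep (nat_lit 38) [] [] [] (Srch.fin [nat_lit 4,nat_lit 64] [nat_lit 0] (((nat_lit 34),(Leaf.mp (nat_lit 166) [nat_lit 1,nat_lit 2,nat_lit 4,nat_lit 8,nat_lit 16,nat_lit 32,nat_lit 64,nat_lit 128] [[nat_lit 1],[nat_lit 3],[nat_lit 5]]))::(((nat_lit 35),(Leaf.pt (nat_lit 17) (nat_lit 12) [nat_lit 128,nat_lit 4]))::[]))) Srch.nil) Srch.nil)) Srch.nil) Srch.nil)))) (Srch.rep (nat_lit 50) [nat_lit 12,nat_lit 20,nat_lit 64] [nat_lit 64,nat_lit 36,nat_lit 20,nat_lit 12,nat_lit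 2,nat_lit 1] [nat_lit 4] (Srch.rep (nat_lit 64) [nat_lit 64] [] [] (Srch.rep (nat_lit 104) [nat_lit 2] [] [] (Srch.rep (nat_lit 36) [nat_lit 50] [] [] (Srch.rep (nat_lit 4) [] [] [] (Srch.fin [nat_lit 4,nat_lit 64] [nat_lit 0] (((nat_lit 0),(Leaf.au (nat_lit 2) (nat_lit 16) (nat_lit 1) [[nat_lit 32,nat_lit 16,nat_lit 8,nat_lit 4,nat_lit 2,nat_lit 1]] [nat_lit 64,nat_lit 32,nat_lit 16,nat_lit 8,nat_lit 4,nat_lit 2,nat_lit 1] [nat_lit 3,nat_lit 128,nat_lit 3,nat_lit 396,nat_lit 3] (nat_lit 2) [] (nat_lit 2) [nat_lit 64,nat_lit 32,nat_lit 8,nat_lit 8,nat_lit 6,nat_lit 2,nat_lit 0]))::(((nat_lit 1),(Leaf.au (nat_lit 2) (nat_lit 16) (nat_lit 1) [[nat_lit 32,nat_lit 16,nat_lit 8,nat_lit 4,nat_lit 2,nat_lit 1]] [nat_lit 64,nat_lit 32,nat_lit 16,nat_lit 8,nat_lit 4,nat_lit 2,nat_lit 1] [nat_lit 3,nat_lit 128,nat_lit 3,nat_lit 396,nat_lit 3] (nat_lit 2) [] (nat_lit 2) [nat_lit 64,nat_lit 32,nat_lit 8,nat_lit 8,nat_lit 6,nat_lit 2,nat_lit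 0]))::[]))) Srch.nil) (Srch.rep (nat_lit 38) [nat_lit 50] [] [] (Srch.rep (nat_lit 6) [] [] [] (Srch.fin [nat_lit 4,nat_lit 64] [nat_lit 0] (((nat_lit 2),(Leaf.mp (nat_lit 167) [nat_lit 1,nat_lit 2,nat_lit 4,nat_lit 8,nat_lit 16,nat_lit 32,nat_lit 64,nat_lit 128] [[nat_lit 1],[nat_lit 3],[nat_lit 5]]))::(((nat_lit 3),(Leaf.mp (nat_lit 168) [nat_lit 1,nat_lit 2,nat_lit 4,nat_lit 8,nat_lit 16,nat_lit 32,nat_lit 64,nat_lit 128] [[nat_lit 1],[nat_lit 3],[nat_lit 5]]))::[]))) Srch.nil) Srch.nil)) Srch.nil) (Srch.rep (nat_lit 88) [nat_lit 88] [] [] (Srch.rep (nat_lit 112) [nat_lit 2] [] [] (Srch.rep (nat_lit 36) [nat_lit 50] [] [] (Srch.rep (nat_lit 4) [] [] [] (Srch.fin [nat_lit 4,nat_lit 64] [nat_lit 0] (((nat_lit 57),(Leaf.pt (nat_lit 18) (nat_lit 76) [nat_lit 128,nat_lit 26]))::(((nat_lit 56),(Leaf.pt (nat_lit 18) (nat_lit 76) [nat_lit 128,nat_lit 26]))::[]))) Srch.nil) (Srch.rep (nat_lit 38) [nat_lit 50] [] [] (Srch.rep (nat_lit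 6) [] [] [] (Srch.fin [nat_lit 4,nat_lit 64] [nat_lit 0] (((nat_lit 59),(Leaf.au (nat_lit 2) (nat_lit 16) (nat_lit 1) [[nat_lit 32,nat_lit 16,nat_lit 8,nat_lit 4,nat_lit 2,nat_lit 1]] [nat_lit 64,nat_lit 32,nat_lit 16,nat_lit 8,nat_lit 4,nat_lit 2,nat_lit 1] [nat_lit 3,nat_lit 128,nat_lit 3,nat_lit 264,nat_lit 3] (nat_lit 2) [] (nat_lit 2) [nat_lit 64,nat_lit 32,nat_lit 8,nat_lit 8,nat_lit 6,nat_lit 2,nat_lit 0]))::(((nat_lit 58),(Leaf.au (nat_lit 2) (nat_lit 16) (nat_lit 1) [[nat_lit 32,nat_lit 16,nat_lit 8,nat_lit 4,nat_lit 2,nat_lit 1]] [nat_lit 64,nat_lit 32,nat_lit 16,nat_lit 8,nat_lit 4,nat_lit 2,nat_lit 1] [nat_lit 3,nat_lit 128,nat_lit 3,nat_lit 264,nat_lit 3] (nat_lit 2) [] (nat_lit 2) [nat_lit 64,nat_lit 32,nat_lit 8,nat_lit 8,nat_lit 6,nat_lit 2,nat_lit 0]))::[]))) Srch.nil) Srch.nil)) Srch.nil) (Srch.rep (nat_lit 104) [nat_lit 88] [] [] (Srch.rep (nat_lit 64) [] [] [] Srch.nil Srch.nil) (Srch.rep (nat_lit 112)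 [nat_lit 64] [] [] (Srch.rep (nat_lit 88) [] [] [] Srch.nil Srch.nil) Srch.nil)))) (Srch.rep (nat_lit 52) [] [nat_lit 34,nat_lit 18,nat_lit 10,nat_lit 4,nat_lit 1] [nat_lit 64,nat_lit 2] Srch.nil Srch.nil)))
noncomputable def t169 : ℕ := nat_lit 0x40004000400040004200420043004300410041004100410043004300420042004000400040004000420042004300430041004100410041004300430042004200400040004000400042004200430043004100410041004100430043004200420040004000400040004200420043004300410041004100410043004300420042004300430042004200410041004100410042004200430043004000400040004000430043004200420041004100410041004200420043004300400040004000400043004300420042004100410041004100420042004300430040004000400040004300430042004200410041004100410042004200430043004000400040004000200020002000200020002000200020002100210021002100210021002100210021002100210021002100210021002100200020002000200020002000200020002000200020002000200020002000200021002100210021002100210021002100210021002100210021002100210021002000200020002000200020002000200010001000100010001000100010001000100010001000100010001000100010001000100010001000100010001000100010001000100010001000100010001000090009000900090009000900090009000800080008000800080008000800080004000400050005000500050004000400030003000200020001000100000000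
noncomputable def c169 : Node :=
  (Node.st (nat_lit 0) (nat_lit 10) (nat_lit 0) (Node.st (nat_lit 2) (nat_lit 0) (nat_lit 10) (Node.st (nat_lit 0) (nat_lit 14) (nat_lit 0) (Node.st (nat_lit 2) (nat_lit 1) (nat_lit 10) (Node.st (nat_lit 0) (nat_lit 17) (nat_lit 0) (Node.st (nat_lit 2) (nat_lit 1) (nat_lit 12) (Node.st (nat_lit 0) (nat_lit 55) (nat_lit 0) (Node.st (nat_lit 2) (nat_lit 1) (nat_lit 14) (Node.st (nat_lit 0) (nat_lit 51) (nat_lit 0) (Node.st (nat_lit 2) (nat_lit 1) (nat_lit 40) (Node.st (nat_lit 0) (nat_lit 40) (nat_lit 0) (Node.st (nat_lit 2) (nat_lit 2) (nat_lit 5) (Node.st (nat_lit 0) (nat_lit 78) (nat_lit 0) (Node.st (nat_lit 2) (nat_lit 2) (nat_lit 9) (Node.st (nat_lit 0) (nat_lit 85) (nat_lit 0) (Node.sp (nat_lit 1) (Node.lf (Leaf.pt (nat_lit 9) (nat_lit 1) [nat_lit 10])) (Node.sp (nat_lit 26) (Node.lf (Leaf.pt (nat_lit 9) (nat_lit 26) [nat_lit 10])) (Node.st (nat_lit 0) (nat_lit 26) (nat_lit 0) (Node.sp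 (nat_lit 28) (Node.lf (Leaf.pt (nat_lit 9) (nat_lit 28) [nat_lit 12])) (Node.st (nat_lit 0) (nat_lit 28) (nat_lit 0) (Node.sp (nat_lit 58) (Node.lf (Leaf.pt (nat_lit 9) (nat_lit 58) [nat_lit 12])) (Node.st (nat_lit 0) (nat_lit 58) (nat_lit 0) (Node.sp (nat_lit 60) (Node.lf (Leaf.pt (nat_lit 9) (nat_lit 60) [nat_lit 10])) (Node.st (nat_lit 0) (nat_lit 60) (nat_lit 0) (Node.sp (nat_lit 68) (Node.lf (Leaf.pt (nat_lit 9) (nat_lit 68) [nat_lit 10])) (Node.st (nat_lit 0) (nat_lit 68) (nat_lit 0) (Node.sp (nat_lit 92) (Node.lf (Leaf.pt (nat_lit 9) (nat_lit 92) [nat_lit 10])) (Node.st (nat_lit 0) (nat_lit 92) (nat_lit 0) (Node.sp (nat_lit 100) (Node.lf (Leaf.pt (nat_lit 9) (nat_lit 100) [nat_lit 40])) (Node.st (nat_lit 0) (nat_lit 100) (nat_lit 0) (Node.sp (nat_lit 124) (Node.lf (Leaf.pt (nat_lit 9) (nat_lit 124) [nat_lit 40])) (Node.st (nat_lit 0) (nat_lit 124) (nat_lit 0) (Node.sp (nat_lit 32) (Node.lf (Leaf.pt (nat_lit 13) (nat_lit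 32) [nat_lit 26])) (Node.st (nat_lit 0) (nat_lit 32) (nat_lit 0) (Node.ext [[nat_lit 32,nat_lit 16,nat_lit 8,nat_lit 4,nat_lit 2,nat_lit 1]] (nat_lit 10) [Ins.ts (nat_lit 4) [nat_lit 0] [nat_lit 10,nat_lit 0,nat_lit 0],Ins.fr [nat_lit 0],Ins.ts (nat_lit 1) [nat_lit 0,nat_lit 0] [],Ins.ts (nat_lit 1) [nat_lit 0,nat_lit 0,nat_lit 0,nat_lit 0] [],Ins.fr [nat_lit 1],Ins.ts (nat_lit 1) [nat_lit 0,nat_lit 0] [],Ins.ts (nat_lit 0) [nat_lit 0,nat_lit 1,nat_lit 1,nat_lit 0] [],Ins.ts (nat_lit 0) [nat_lit 1,nat_lit 1,nat_lit 1] [nat_lit 0,nat_lit 1,nat_lit 0],Ins.ts (nat_lit 2) [nat_lit 0,nat_lit 0,nat_lit 1,nat_lit 0] [],Ins.fr [nat_lit 2],Ins.ts (nat_lit 1) [nat_lit 0,nat_lit 0] [],Ins.ts (nat_lit 4) [nat_lit 0] [nat_lit 37,nat_lit 0,nat_lit 0],Ins.ts (nat_lit 2) [nat_lit 1,nat_lit 0] [],Ins.ts (nat_lit 0) [nat_lit 0,nat_lit 2,nat_lit 0,nat_lit 2] [],Ins.ts (nat_lit 2) [nat_lit 1,nat_lit 0,nat_lit 2] [],Ins.fr [nat_lit 0,nat_lit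 0,nat_lit 3],Ins.ts (nat_lit 4) [nat_lit 0] [nat_lit 5,nat_lit 0,nat_lit 0],Ins.ts (nat_lit 1) [nat_lit 0,nat_lit 0] [],Ins.ts (nat_lit 2) [nat_lit 4,nat_lit 0] [],Ins.ts (nat_lit 0) [nat_lit 2,nat_lit 0,nat_lit 2] [nat_lit 0],Ins.ts (nat_lit 0) [nat_lit 1,nat_lit 0] [nat_lit 0,nat_lit 1],Ins.df [nat_lit 0,nat_lit 0],Ins.df [nat_lit 4,nat_lit 4],Ins.df [nat_lit 0,nat_lit 1,nat_lit 6],Ins.df [nat_lit 1,nat_lit 5,nat_lit 6],Ins.df [nat_lit 3,nat_lit 4,nat_lit 5],Ins.df [nat_lit 0,nat_lit 8]] [nat_lit 96,nat_lit 112,nat_lit 36,nat_lit 4] [nat_lit 5,nat_lit 4,nat_lit 6,nat_lit 3,nat_lit 2,nat_lit 1,nat_lit 0] (Srch.ex0 [nat_lit 68,nat_lit 36,nat_lit 16,nat_lit 8,nat_lit 2,nat_lit 1] (Srch.rep (nat_lit 12) [] [nat_lit 34,nat_lit 16,nat_lit 8,nat_lit 4,nat_lit 1] [nat_lit 64,nat_lit 2] Srch.nil c169_0)) (Node.lf (Leaf.au (nat_lit 1) (nat_lit 0) (nat_lit 0) [] [] [nat_lit 3,nat_lit 1] (nat_lit 0) [] (nat_lit 34) [nat_lit 0,nat_lit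 2,nat_lit 38,nat_lit 10,nat_lit 10,nat_lit 32,nat_lit 96])))))))))))))))))))))))))))))))))))))
theorem ok169 : nodeOK DB PT 169 t169 (nat_lit 0xf00000f0f0f0f0f0fcfc0303fc03fc03) (nat_lit 0x111100000000000000000000111100001111000011110000111100001111000011112200111122000000003300000033111122000000005511112200000000ff) c169 = true := by
  decide +kernel
noncomputable def c170_0 : Node :=
  Node.ext [[nat_lit 32,nat_lit 16,nat_lit 8,nat_lit 4,nat_lit 2,nat_lit 1]] (nat_lit 10) [Ins.ts (nat_lit 4) [nat_lit 0] [nat_lit 10,nat_lit 0,nat_lit 0],Ins.fr [nat_lit 0],Ins.ts (nat_lit 1) [nat_lit 0,nat_lit 0] [],Ins.ts (nat_lit 1) [nat_lit 0,nat_lit 0,nat_lit 0,nat_lit 0] [],Ins.fr [nat_lit 1],Ins.ts (nat_lit 1) [nat_lit 0,nat_lit 0] [],Ins.ts (nat_lit 0) [nat_lit 0,nat_lit 1,nat_lit 1,nat_lit 0] [],Ins.ts (nat_lit 0) [nat_lit 1,nat_lit 1,nat_lit 1] [nat_lit 0,nat_lit 1,nat_lit 0],Ins.ts (nat_lit 2) [nat_lit 0,nat_lit 0,nat_lit 1,nat_lit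 0] [],Ins.fr [nat_lit 2],Ins.ts (nat_lit 1) [nat_lit 0,nat_lit 0] [],Ins.ts (nat_lit 4) [nat_lit 0] [nat_lit 37,nat_lit 0,nat_lit 0],Ins.ts (nat_lit 2) [nat_lit 1,nat_lit 0] [],Ins.ts (nat_lit 0) [nat_lit 0,nat_lit 2,nat_lit 0,nat_lit 2] [],Ins.ts (nat_lit 2) [nat_lit 1,nat_lit 0,nat_lit 2] [],Ins.fr [nat_lit 0,nat_lit 0,nat_lit 3],Ins.ts (nat_lit 4) [nat_lit 0] [nat_lit 5,nat_lit 0,nat_lit 0],Ins.ts (nat_lit 1) [nat_lit 0,nat_lit 0] [],Ins.ts (nat_lit 2) [nat_lit 4,nat_lit 0] [],Ins.ts (nat_lit 0) [nat_lit 2,nat_lit 0,nat_lit 2] [nat_lit 0],Ins.ts (nat_lit 0) [nat_lit 1,nat_lit 0] [nat_lit 0,nat_lit 1],Ins.fr [nat_lit 0,nat_lit 1,nat_lit 2,nat_lit 2,nat_lit 4],Ins.ts (nat_lit 0) [nat_lit 0,nat_lit 3,nat_lit 0] [nat_lit 3],Ins.ts (nat_lit 0) [nat_lit 4,nat_lit 0] [nat_lit 0,nat_lit 4],Ins.fr [nat_lit 5,nat_lit 1],Ins.ts (nat_lit 0) [nat_lit 5,nat_lit 0] [nat_lit 0,nat_lit 1],Ins.ts (nat_lit 0) [nat_lit 2,nat_lit 0,nat_lit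 0] [nat_lit 1,nat_lit 5],Ins.df [nat_lit 2,nat_lit 2],Ins.df [nat_lit 6,nat_lit 6],Ins.df [nat_lit 0,nat_lit 1,nat_lit 8],Ins.df [nat_lit 1,nat_lit 7,nat_lit 8],Ins.df [nat_lit 2,nat_lit 5,nat_lit 5],Ins.df [nat_lit 0,nat_lit 10]] [nat_lit 96,nat_lit 112,nat_lit 36,nat_lit 4,nat_lit 128,nat_lit 256] [nat_lit 5,nat_lit 4,nat_lit 8,nat_lit 3,nat_lit 2,nat_lit 1,nat_lit 0,nat_lit 7,nat_lit 6] (Srch.ex0 [nat_lit 68,nat_lit 36,nat_lit 16,nat_lit 8,nat_lit 2,nat_lit 1] (Srch.rep (nat_lit 16) [nat_lit 4,nat_lit 8,nat_lit 64] [nat_lit 64,nat_lit 16,nat_lit 8,nat_lit 4,nat_lit 2,nat_lit 1] [nat_lit 256,nat_lit 128,nat_lit 32] (Srch.rep (nat_lit 64) [nat_lit 64] [] [] (Srch.rep (nat_lit 74) [nat_lit 2] [] [] (Srch.rep (nat_lit 4) [nat_lit 16] [] [] (Srch.rep (nat_lit 36) [] [] [] (Srch.rep (nat_lit 160) [] [] [] (Srch.rep (nat_lit 282) [] [] [] (Srch.fin [nat_lit 256] [nat_lit 0] (((nat_lit 0),(Leaf.au (nat_lit 2) (nat_lit 16) (nat_lit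 1) [[nat_lit 32,nat_lit 16,nat_lit 8,nat_lit 4,nat_lit 2,nat_lit 1]] [nat_lit 64,nat_lit 32,nat_lit 16,nat_lit 8,nat_lit 4,nat_lit 2,nat_lit 1] [nat_lit 1,nat_lit 3,nat_lit 1812] (nat_lit 2) [] (nat_lit 0) [nat_lit 64,nat_lit 32,nat_lit 8,nat_lit 8,nat_lit 4,nat_lit 2,nat_lit 0]))::(((nat_lit 1),(Leaf.au (nat_lit 2) (nat_lit 16) (nat_lit 1) [[nat_lit 32,nat_lit 16,nat_lit 8,nat_lit 4,nat_lit 2,nat_lit 1]] [nat_lit 64,nat_lit 32,nat_lit 16,nat_lit 8,nat_lit 4,nat_lit 2,nat_lit 1] [nat_lit 1,nat_lit 3,nat_lit 1812] (nat_lit 2) [] (nat_lit 0) [nat_lit 64,nat_lit 32,nat_lit 8,nat_lit 8,nat_lit 4,nat_lit 2,nat_lit 0]))::[]))) (Srch.rep (nat_lit 283) [] [] [] (Srch.fin [nat_lit 256] [nat_lit 0] (((nat_lit 0),(Leaf.au (nat_lit 2) (nat_lit 16) (nat_lit 1) [[nat_lit 32,nat_lit 16,nat_lit 8,nat_lit 4,nat_lit 2,nat_lit 1]] [nat_lit 64,nat_lit 32,nat_lit 16,nat_lit 8,nat_lit 4,nat_lit 2,nat_lit 1] [nat_lit 1,nat_lit 3,nat_lit 1812]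 (nat_lit 2) [] (nat_lit 0) [nat_lit 64,nat_lit 32,nat_lit 8,nat_lit 8,nat_lit 4,nat_lit 2,nat_lit 0]))::(((nat_lit 1),(Leaf.au (nat_lit 2) (nat_lit 16) (nat_lit 1) [[nat_lit 32,nat_lit 16,nat_lit 8,nat_lit 4,nat_lit 2,nat_lit 1]] [nat_lit 64,nat_lit 32,nat_lit 16,nat_lit 8,nat_lit 4,nat_lit 2,nat_lit 1] [nat_lit 1,nat_lit 3,nat_lit 1812] (nat_lit 2) [] (nat_lit 0) [nat_lit 64,nat_lit 32,nat_lit 8,nat_lit 8,nat_lit 4,nat_lit 2,nat_lit 0]))::[]))) Srch.nil)) (Srch.rep (nat_lit 161) [] [] [] Srch.nil Srch.nil)) Srch.nil) (Srch.rep (nat_lit 6) [nat_lit 16] [] [] (Srch.rep (nat_lit 38) [] [] [] (Srch.rep (nat_lit 160) [] [] [] (Srch.rep (nat_lit 504) [] [] [] (Srch.fin [nat_lit 256] [nat_lit 0] (((nat_lit 2),(Leaf.au (nat_lit 3) (nat_lit 16) (nat_lit 0) [[nat_lit 16,nat_lit 11,nat_lit 69,nat_lit 1]] [nat_lit 68,nat_lit 16,nat_lit 8,nat_lit 2,nat_lit 1] [nat_lit 5,nat_lit 1216,nat_lit 5,nat_lit 1152,nat_lit 5] (nat_lit 1) [nat_lit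 0,nat_lit 1,nat_lit 69,nat_lit 68,nat_lit 11,nat_lit 10,nat_lit 78,nat_lit 79,nat_lit 16,nat_lit 17,nat_lit 85,nat_lit 84,nat_lit 27,nat_lit 26,nat_lit 94,nat_lit 95] (nat_lit 0) [nat_lit 0,nat_lit 0,nat_lit 2,nat_lit 2,nat_lit 0]))::(((nat_lit 3),(Leaf.au (nat_lit 3) (nat_lit 16) (nat_lit 0) [[nat_lit 16,nat_lit 11,nat_lit 69,nat_lit 1]] [nat_lit 68,nat_lit 16,nat_lit 8,nat_lit 2,nat_lit 1] [nat_lit 5,nat_lit 1216,nat_lit 5,nat_lit 1152,nat_lit 5] (nat_lit 1) [nat_lit 0,nat_lit 1,nat_lit 69,nat_lit 68,nat_lit 11,nat_lit 10,nat_lit 78,nat_lit 79,nat_lit 16,nat_lit 17,nat_lit 85,nat_lit 84,nat_lit 27,nat_lit 26,nat_lit 94,nat_lit 95] (nat_lit 0) [nat_lit 0,nat_lit 0,nat_lit 2,nat_lit 2,nat_lit 0]))::[]))) (Srch.rep (nat_lit 505) [] [] [] (Srch.fin [nat_lit 256] [nat_lit 0] (((nat_lit 2),(Leaf.au (nat_lit 3) (nat_lit 16) (nat_lit 0) [[nat_lit 16,nat_lit 11,nat_lit 69,nat_lit 1]] [nat_lit 68,nat_lit 16,nat_lit 8,nat_lit 2,nat_lit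 1] [nat_lit 5,nat_lit 1216,nat_lit 5,nat_lit 1152,nat_lit 5] (nat_lit 1) [nat_lit 0,nat_lit 1,nat_lit 69,nat_lit 68,nat_lit 11,nat_lit 10,nat_lit 78,nat_lit 79,nat_lit 16,nat_lit 17,nat_lit 85,nat_lit 84,nat_lit 27,nat_lit 26,nat_lit 94,nat_lit 95] (nat_lit 0) [nat_lit 0,nat_lit 0,nat_lit 2,nat_lit 2,nat_lit 0]))::(((nat_lit 3),(Leaf.au (nat_lit 3) (nat_lit 16) (nat_lit 0) [[nat_lit 16,nat_lit 11,nat_lit 69,nat_lit 1]] [nat_lit 68,nat_lit 16,nat_lit 8,nat_lit 2,nat_lit 1] [nat_lit 5,nat_lit 1216,nat_lit 5,nat_lit 1152,nat_lit 5] (nat_lit 1) [nat_lit 0,nat_lit 1,nat_lit 69,nat_lit 68,nat_lit 11,nat_lit 10,nat_lit 78,nat_lit 79,nat_lit 16,nat_lit 17,nat_lit 85,nat_lit 84,nat_lit 27,nat_lit 26,nat_lit 94,nat_lit 95] (nat_lit 0) [nat_lit 0,nat_lit 0,nat_lit 2,nat_lit 2,nat_lit 0]))::[]))) Srch.nil)) (Srch.rep (nat_lit 161) [] [] [] Srch.nil Srch.nil)) Srch.nil) Srch.nil)) Srch.nil) (Srch.rep (nat_lit 72) [nat_lit 72] [] [] (Srch.rep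 (nat_lit 66) [] [] [] Srch.nil Srch.nil) (Srch.rep (nat_lit 80) [nat_lit 64] [] [] (Srch.rep (nat_lit 90) [] [] [] Srch.nil Srch.nil) (Srch.rep (nat_lit 88) [nat_lit 72] [] [] (Srch.rep (nat_lit 82) [nat_lit 2] [] [] (Srch.rep (nat_lit 4) [nat_lit 16] [] [] (Srch.rep (nat_lit 36) [] [] [] (Srch.rep (nat_lit 184) [] [] [] (Srch.rep (nat_lit 258) [] [] [] (Srch.fin [nat_lit 256] [nat_lit 0] (((nat_lit 32),(Leaf.pt (nat_lit 12) (nat_lit 76) [nat_lit 70,nat_lit 516]))::(((nat_lit 33),(Leaf.pt (nat_lit 12) (nat_lit 76) [nat_lit 220,nat_lit 526]))::[]))) (Srch.rep (nat_lit 259) [] [] [] (Srch.fin [nat_lit 256] [nat_lit 0] (((nat_lit 32),(Leaf.pt (nat_lit 12) (nat_lit 76) [nat_lit 70,nat_lit 516]))::(((nat_lit 33),(Leaf.pt (nat_lit 12) (nat_lit 76) [nat_lit 220,nat_lit 526]))::[]))) Srch.nil)) (Srch.rep (nat_lit 185) [] [] [] Srch.nil Srch.nil)) Srch.nil) (Srch.rep (nat_lit 6) [nat_lit 16] [] [] (Srch.rep (nat_lit 38) [] [] []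 (Srch.rep (nat_lit 184) [] [] [] (Srch.rep (nat_lit 480) [] [] [] (Srch.fin [nat_lit 256] [nat_lit 0] (((nat_lit 34),(Leaf.pt (nat_lit 3) (nat_lit 76) [nat_lit 512,nat_lit 70]))::(((nat_lit 35),(Leaf.pt (nat_lit 17) (nat_lit 76) [nat_lit 512,nat_lit 138]))::[]))) (Srch.rep (nat_lit 481) [] [] [] (Srch.fin [nat_lit 256] [nat_lit 0] (((nat_lit 34),(Leaf.pt (nat_lit 3) (nat_lit 76) [nat_lit 512,nat_lit 70]))::(((nat_lit 35),(Leaf.pt (nat_lit 17) (nat_lit 76) [nat_lit 512,nat_lit 138]))::[]))) Srch.nil)) (Srch.rep (nat_lit 185) [] [] [] Srch.nil Srch.nil)) Srch.nil) Srch.nil)) Srch.nil) Srch.nil)))) Srch.nil)) (Node.lf (Leaf.au (nat_lit 1) (nat_lit 0) (nat_lit 0) [] [] [nat_lit 3,nat_lit 1] (nat_lit 0) [] (nat_lit 32) [nat_lit 0,nat_lit 2,nat_lit 36,nat_lit 10,nat_lit 10,nat_lit 32,nat_lit 96,nat_lit 160,nat_lit 258]))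
noncomputable def t170 : ℕ := nat_lit 0x1e501e501c401c401e601e601c601c601c201c201e301e301c001c001e001e001c301c301e201e201c101c101e101e101e401e401c501c501e701e701c701c701e401e401c501c501e701e701c701c701c301c301e201e201c101c101e101e101c201c201e301e301c001c001e001e001e501e501c401c401e601e601c601c60105010501240124010601060126012601220122010301030120012001000100012301230102010201210121010101010104010401250125010701070127012701040104012501250107010701270127012301230102010201210121010101010122012201030103012001200100010001050105012401240106010601260126010701070127012701040104012501250120012001000100012201220103010301210121010101010123012301020102010601060126012601050105012401240106010601260126010501050124012401210121010101010123012301020102012001200100010001220122010301030107010701270127010401040125012501e701e701c701c701e401e401c501c501c001c001e001e001c201c201e301e301c101c101e101e101c301c301e201e201e601e601c601c601e501e501c401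c401e601e601c601c601e501e501c401c401c101c101e101e101c301c301e201e201c001c001e001e001c201c201e301e301e701e701c701c701e401e401c501c5012101210100010001230123010301030107010701260126010401040124012401060106012701270105010501250125012001200101010101220122010201020120012001010101012201220102010201060106012701270105010501250125010701070126012601040104012401240121012101000100012301230103010301c001c001e101e101c201c201e201e201e601e601c701c701e501e501c501c501e701e701c601c601e401e401c401c401c101c101e001e001c301c301e301e301c101c101e001e001c301c301e301e301e701e701c601c601e401e401c401c401e601e601c701c701e501e501c501c501c001c001e101e101c201c201e201e201c201c201e201e201c001c001e101e101e401e401c401c401e701e701c601c601e501e501c501c501e601e601c701c701c301c301e301e301c101c101e001e001c301c301e301e301c101c101e001e001e501e501c501c501e601e601c701c701e401e401c401c401e701e701c601c601c201c201e201e201c001c001e101e1012301230103010301210121010001000105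0105012501250106010601270127010401040124012401070107012601260122012201020102012001200101010101220122010201020120012001010101010401040124012401070107012601260105010501250125010601060127012701230123010301030121012101000100008000800080008000a300a300a200a200a200a200a300a3008000800080008000a300a300a200a20081008100810081008100810081008100a200a200a300a3008000800080008000a300a300a200a200a200a200a300a3008000800080008000a300a300a200a20081008100810081008100810081008100a200a200a300a3008000800080008000a300a300a200a200a200a200a300a3008000800080008000a300a300a200a20081008100810081008100810081008100a200a200a300a3008000800080008000a300a300a200a200a200a200a300a3008000800080008000a300a300a200a20081008100810081008100810081008100a200a200a300a300a200a200a300a30081008100810081008100810081008100a300a300a200a2008000800080008000a200a200a300a300a300a300a200a2008000800080008000a200a200a300a30081008100810081008100810081008100a300a300a200a20080008000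80008000a200a200a300a300a300a300a200a2008000800080008000a200a200a300a30081008100810081008100810081008100a300a300a200a2008000800080008000a200a200a300a300a300a300a200a2008000800080008000a200a200a300a30081008100810081008100810081008100a300a300a200a2008000800080008000a200a200a300a300a300a300a200a200800080008000800040004000400040004200420043004300410041004100410043004300420042004000400040004000420042004300430041004100410041004300430042004200400040004000400042004200430043004100410041004100430043004200420040004000400040004200420043004300410041004100410043004300420042004300430042004200410041004100410042004200430043004000400040004000430043004200420041004100410041004200420043004300400040004000400043004300420042004100410041004100420042004300430040004000400040004300430042004200410041004100410042004200430043004000400040004000200020002000200020002000200020002100210021002100210021002100210021002100210021002100210021002100200020002000200020002000200020002000200020002000200020002000200021002100210021002100210021002100210021002100210021002100210021002000200020002000200020002000200010001000100010001000100010001000100010001000100010001000100010001000100010001000100010001000100010001000100010001000100010001000090009000900090009000900090009000800080008000800080008000800080004000400050005000500050004000400030003000200020001000100000000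
noncomputable def c170 : Node :=
  (Node.st (nat_lit 0) (nat_lit 10) (nat_lit 0) (Node.st (nat_lit 2) (nat_lit 1) (nat_lit 10) (Node.st (nat_lit 0) (nat_lit 17) (nat_lit 0) (Node.st (nat_lit 2) (nat_lit 2) (nat_lit 5) (Node.st (nat_lit 0) (nat_lit 78) (nat_lit 0) (Node.st (nat_lit 2) (nat_lit 2) (nat_lit 9) (Node.st (nat_lit 0) (nat_lit 85) (nat_lit 0) (Node.sp (nat_lit 1) (Node.lf (Leaf.pt (nat_lit 9) (nat_lit 1) [nat_lit 10])) (Node.sp (nat_lit 26) (Node.lf (Leaf.pt (nat_lit 9) (nat_lit 26) [nat_lit 10])) (Node.st (nat_lit 0) (nat_lit 26) (nat_lit 0) (Node.sp (nat_lit 28) (Node.lf (Leaf.pt (nat_lit 9) (nat_lit 28) [nat_lit 12])) (Node.st (nat_lit 0) (nat_lit 28) (nat_lit 0) (Node.sp (nat_lit 32) (Node.lf (Leaf.pt (nat_lit 12) (nat_lit 32) [nat_lit 28,nat_lit 196])) (Node.st (nat_lit 0) (nat_lit 32) (nat_lit 0) (Node.sp (nat_lit 68) (Node.lf (Leaf.pt (nat_lit 9) (nat_lit 68) [nat_lit 10])) (Node.st (nat_lit 0) (nat_lit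 68) (nat_lit 0) (Node.sp (nat_lit 92) (Node.lf (Leaf.pt (nat_lit 9) (nat_lit 92) [nat_lit 10])) (Node.st (nat_lit 0) (nat_lit 92) (nat_lit 0) (Node.sp (nat_lit 220) (Node.lf (Leaf.pt (nat_lit 9) (nat_lit 220) [nat_lit 76])) (Node.st (nat_lit 0) (nat_lit 220) (nat_lit 0) (Node.sp (nat_lit 328) (Node.lf (Leaf.pt (nat_lit 19) (nat_lit 328) [nat_lit 24,nat_lit 194])) (Node.st (nat_lit 0) (nat_lit 328) (nat_lit 0) c170_0))))))))))))))))))))))
theorem ok170 : nodeOK DB PT 170 t170 (nat_lit 0xc3000000c30000003300000033000000000000000000f0000000f0000000f00c0cf0f00303f0f00000f0f0f0f0f0fcfc0303fc03fc03) (nat_lit 0x1100001100000000000000000000000011000011000000000000000000000000001100110000000000000000000000000011001100000000000000000000000000000000000000000000000000000000000000000000000011110000000000000000000000000000111100000000000000000000000000001111000000002200000022001111000011110000000000220000002211110000111100000000000000000000111100001111000011110000111100001111000011112200111122000000003300000033111122000000005511112200000000ff)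 c170 = true := by
  decide +kernel
noncomputable def c171_0 : Node :=
  Node.ext [[nat_lit 32,nat_lit 16,nat_lit 8,nat_lit 4,nat_lit 2,nat_lit 1]] (nat_lit 10) [Ins.ts (nat_lit 4) [nat_lit 0] [nat_lit 10,nat_lit 0,nat_lit 0],Ins.fr [nat_lit 0],Ins.ts (nat_lit 1) [nat_lit 0,nat_lit 0] [],Ins.ts (nat_lit 1) [nat_lit 0,nat_lit 0,nat_lit 0,nat_lit 0] [],Ins.fr [nat_lit 1],Ins.ts (nat_lit 1) [nat_lit 0,nat_lit 0] [],Ins.ts (nat_lit 0) [nat_lit 0,nat_lit 1,nat_lit 1,nat_lit 0] [],Ins.ts (nat_lit 0) [nat_lit 1,nat_lit 1,nat_lit 1] [nat_lit 0,nat_lit 1,nat_lit 0],Ins.ts (nat_lit 2) [nat_lit 0,nat_lit 0,nat_lit 1,nat_lit 0] [],Ins.fr [nat_lit 2],Ins.ts (nat_lit 1) [nat_lit 0,nat_lit 0] [],Ins.ts (nat_lit 4) [nat_lit 0] [nat_lit 37,nat_lit 0,nat_lit 0],Ins.ts (nat_lit 2) [nat_lit 1,nat_lit 0] [],Ins.ts (nat_lit 0) [nat_lit 0,nat_lit 2,nat_lit 0,nat_lit 2] [],Ins.ts (nat_lit 2) [nat_lit 1,nat_lit 0,nat_lit 2] [],Ins.fr [nat_lit 0,nat_lit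 0,nat_lit 3],Ins.ts (nat_lit 4) [nat_lit 0] [nat_lit 5,nat_lit 0,nat_lit 0],Ins.ts (nat_lit 1) [nat_lit 0,nat_lit 0] [],Ins.ts (nat_lit 2) [nat_lit 4,nat_lit 0] [],Ins.ts (nat_lit 0) [nat_lit 2,nat_lit 0,nat_lit 2] [nat_lit 0],Ins.ts (nat_lit 0) [nat_lit 1,nat_lit 0] [nat_lit 0,nat_lit 1],Ins.fr [nat_lit 0,nat_lit 1,nat_lit 2,nat_lit 2,nat_lit 4],Ins.ts (nat_lit 0) [nat_lit 0,nat_lit 3,nat_lit 0] [nat_lit 3],Ins.ts (nat_lit 0) [nat_lit 4,nat_lit 0] [nat_lit 0,nat_lit 4],Ins.fr [nat_lit 5,nat_lit 1],Ins.ts (nat_lit 0) [nat_lit 5,nat_lit 0] [nat_lit 0,nat_lit 1],Ins.ts (nat_lit 0) [nat_lit 6,nat_lit 1,nat_lit 2] [nat_lit 0,nat_lit 0,nat_lit 4],Ins.df [nat_lit 2,nat_lit 2],Ins.df [nat_lit 6,nat_lit 6],Ins.df [nat_lit 0,nat_lit 1,nat_lit 8],Ins.df [nat_lit 1,nat_lit 7,nat_lit 8],Ins.df [nat_lit 2,nat_lit 5,nat_lit 5],Ins.df [nat_lit 0,nat_lit 10]] [nat_lit 96,nat_lit 112,nat_lit 36,nat_lit 4,nat_lit 128,nat_lit 256] [nat_lit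 5,nat_lit 4,nat_lit 8,nat_lit 3,nat_lit 2,nat_lit 1,nat_lit 0,nat_lit 7,nat_lit 6] (Srch.ex0 [nat_lit 68,nat_lit 36,nat_lit 16,nat_lit 8,nat_lit 2,nat_lit 1] (Srch.rep (nat_lit 16) [nat_lit 4,nat_lit 8,nat_lit 64] [nat_lit 64,nat_lit 16,nat_lit 8,nat_lit 4,nat_lit 2,nat_lit 1] [nat_lit 256,nat_lit 128,nat_lit 32] (Srch.rep (nat_lit 64) [nat_lit 64] [] [] (Srch.rep (nat_lit 74) [nat_lit 2] [] [] (Srch.rep (nat_lit 4) [nat_lit 16] [] [] (Srch.rep (nat_lit 36) [] [] [] (Srch.rep (nat_lit 160) [] [] [] (Srch.rep (nat_lit 282) [] [] [] (Srch.fin [nat_lit 256] [nat_lit 0] (((nat_lit 0),(Leaf.au (nat_lit 2) (nat_lit 16) (nat_lit 1) [[nat_lit 32,nat_lit 16,nat_lit 8,nat_lit 4,nat_lit 2,nat_lit 1]] [nat_lit 64,nat_lit 32,nat_lit 16,nat_lit 8,nat_lit 4,nat_lit 2,nat_lit 1] [nat_lit 1,nat_lit 3,nat_lit 1812] (nat_lit 2) [] (nat_lit 0) [nat_lit 64,nat_lit 32,nat_lit 8,nat_lit 8,nat_lit 4,nat_lit 2,nat_lit 0]))::(((nat_lit 1),(Leaf.au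 (nat_lit 2) (nat_lit 16) (nat_lit 1) [[nat_lit 32,nat_lit 16,nat_lit 8,nat_lit 4,nat_lit 2,nat_lit 1]] [nat_lit 64,nat_lit 32,nat_lit 16,nat_lit 8,nat_lit 4,nat_lit 2,nat_lit 1] [nat_lit 1,nat_lit 3,nat_lit 1812] (nat_lit 2) [] (nat_lit 0) [nat_lit 64,nat_lit 32,nat_lit 8,nat_lit 8,nat_lit 4,nat_lit 2,nat_lit 0]))::[]))) (Srch.rep (nat_lit 283) [] [] [] (Srch.fin [nat_lit 256] [nat_lit 0] (((nat_lit 0),(Leaf.au (nat_lit 2) (nat_lit 16) (nat_lit 1) [[nat_lit 32,nat_lit 16,nat_lit 8,nat_lit 4,nat_lit 2,nat_lit 1]] [nat_lit 64,nat_lit 32,nat_lit 16,nat_lit 8,nat_lit 4,nat_lit 2,nat_lit 1] [nat_lit 1,nat_lit 3,nat_lit 1812] (nat_lit 2) [] (nat_lit 0) [nat_lit 64,nat_lit 32,nat_lit 8,nat_lit 8,nat_lit 4,nat_lit 2,nat_lit 0]))::(((nat_lit 1),(Leaf.au (nat_lit 2) (nat_lit 16) (nat_lit 1) [[nat_lit 32,nat_lit 16,nat_lit 8,nat_lit 4,nat_lit 2,nat_lit 1]] [nat_lit 64,nat_lit 32,nat_lit 16,nat_lit 8,nat_lit 4,nat_lit 2,nat_lit 1] [nat_lit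 1,nat_lit 3,nat_lit 1812] (nat_lit 2) [] (nat_lit 0) [nat_lit 64,nat_lit 32,nat_lit 8,nat_lit 8,nat_lit 4,nat_lit 2,nat_lit 0]))::[]))) Srch.nil)) (Srch.rep (nat_lit 161) [] [] [] Srch.nil Srch.nil)) Srch.nil) (Srch.rep (nat_lit 6) [nat_lit 16] [] [] (Srch.rep (nat_lit 38) [] [] [] (Srch.rep (nat_lit 160) [] [] [] Srch.nil (Srch.rep (nat_lit 161) [] [] [] (Srch.rep (nat_lit 480) [] [] [] (Srch.fin [nat_lit 256] [nat_lit 0] (((nat_lit 2),(Leaf.au (nat_lit 3) (nat_lit 16) (nat_lit 0) [[nat_lit 16,nat_lit 11,nat_lit 69,nat_lit 1]] [nat_lit 68,nat_lit 16,nat_lit 8,nat_lit 2,nat_lit 1] [nat_lit 5,nat_lit 1216,nat_lit 5,nat_lit 1152,nat_lit 5] (nat_lit 1) [nat_lit 0,nat_lit 1,nat_lit 69,nat_lit 68,nat_lit 11,nat_lit 10,nat_lit 78,nat_lit 79,nat_lit 16,nat_lit 17,nat_lit 85,nat_lit 84,nat_lit 27,nat_lit 26,nat_lit 94,nat_lit 95] (nat_lit 0) [nat_lit 0,nat_lit 0,nat_lit 2,nat_lit 2,nat_lit 0]))::(((nat_lit 3),(Leaf.au (nat_lit 3)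 (nat_lit 16) (nat_lit 0) [[nat_lit 16,nat_lit 11,nat_lit 69,nat_lit 1]] [nat_lit 68,nat_lit 16,nat_lit 8,nat_lit 2,nat_lit 1] [nat_lit 5,nat_lit 1216,nat_lit 5,nat_lit 1152,nat_lit 5] (nat_lit 1) [nat_lit 0,nat_lit 1,nat_lit 69,nat_lit 68,nat_lit 11,nat_lit 10,nat_lit 78,nat_lit 79,nat_lit 16,nat_lit 17,nat_lit 85,nat_lit 84,nat_lit 27,nat_lit 26,nat_lit 94,nat_lit 95] (nat_lit 0) [nat_lit 0,nat_lit 0,nat_lit 2,nat_lit 2,nat_lit 0]))::[]))) (Srch.rep (nat_lit 481) [] [] [] (Srch.fin [nat_lit 256] [nat_lit 0] (((nat_lit 2),(Leaf.au (nat_lit 3) (nat_lit 16) (nat_lit 0) [[nat_lit 16,nat_lit 11,nat_lit 69,nat_lit 1]] [nat_lit 68,nat_lit 16,nat_lit 8,nat_lit 2,nat_lit 1] [nat_lit 5,nat_lit 1216,nat_lit 5,nat_lit 1152,nat_lit 5] (nat_lit 1) [nat_lit 0,nat_lit 1,nat_lit 69,nat_lit 68,nat_lit 11,nat_lit 10,nat_lit 78,nat_lit 79,nat_lit 16,nat_lit 17,nat_lit 85,nat_lit 84,nat_lit 27,nat_lit 26,nat_lit 94,nat_lit 95] (nat_lit 0) [nat_lit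 0,nat_lit 0,nat_lit 2,nat_lit 2,nat_lit 0]))::(((nat_lit 3),(Leaf.au (nat_lit 3) (nat_lit 16) (nat_lit 0) [[nat_lit 16,nat_lit 11,nat_lit 69,nat_lit 1]] [nat_lit 68,nat_lit 16,nat_lit 8,nat_lit 2,nat_lit 1] [nat_lit 5,nat_lit 1216,nat_lit 5,nat_lit 1152,nat_lit 5] (nat_lit 1) [nat_lit 0,nat_lit 1,nat_lit 69,nat_lit 68,nat_lit 11,nat_lit 10,nat_lit 78,nat_lit 79,nat_lit 16,nat_lit 17,nat_lit 85,nat_lit 84,nat_lit 27,nat_lit 26,nat_lit 94,nat_lit 95] (nat_lit 0) [nat_lit 0,nat_lit 0,nat_lit 2,nat_lit 2,nat_lit 0]))::[]))) Srch.nil)) Srch.nil)) Srch.nil) Srch.nil)) Srch.nil) (Srch.rep (nat_lit 72) [nat_lit 72] [] [] (Srch.rep (nat_lit 66) [] [] [] Srch.nil Srch.nil) (Srch.rep (nat_lit 80) [nat_lit 64] [] [] (Srch.rep (nat_lit 90) [] [] [] Srch.nil Srch.nil) (Srch.rep (nat_lit 88) [nat_lit 72] [] [] (Srch.rep (nat_lit 82) [nat_lit 2] [] [] (Srch.rep (nat_lit 4) [nat_lit 16] [] [] (Srch.rep (nat_lit 36) [] [] [] (Srch.rep (nat_lit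 184) [] [] [] Srch.nil (Srch.rep (nat_lit 185) [] [] [] (Srch.rep (nat_lit 282) [] [] [] (Srch.fin [nat_lit 256] [nat_lit 0] (((nat_lit 32),(Leaf.pt (nat_lit 12) (nat_lit 76) [nat_lit 70,nat_lit 516]))::(((nat_lit 33),(Leaf.pt (nat_lit 12) (nat_lit 76) [nat_lit 220,nat_lit 526]))::[]))) (Srch.rep (nat_lit 283) [] [] [] (Srch.fin [nat_lit 256] [nat_lit 0] (((nat_lit 32),(Leaf.pt (nat_lit 12) (nat_lit 76) [nat_lit 70,nat_lit 516]))::(((nat_lit 33),(Leaf.pt (nat_lit 12) (nat_lit 76) [nat_lit 220,nat_lit 526]))::[]))) Srch.nil)) Srch.nil)) Srch.nil) (Srch.rep (nat_lit 6) [nat_lit 16] [] [] (Srch.rep (nat_lit 38) [] [] [] (Srch.rep (nat_lit 184) [] [] [] (Srch.rep (nat_lit 480) [] [] [] (Srch.fin [nat_lit 256] [nat_lit 0] (((nat_lit 34),(Leaf.pt (nat_lit 3) (nat_lit 76) [nat_lit 512,nat_lit 70]))::(((nat_lit 35),(Leaf.pt (nat_lit 17) (nat_lit 76) [nat_lit 512,nat_lit 138]))::[]))) (Srch.rep (nat_lit 481) [] [] [] (Srch.fin [nat_lit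 256] [nat_lit 0] (((nat_lit 34),(Leaf.pt (nat_lit 3) (nat_lit 76) [nat_lit 512,nat_lit 70]))::(((nat_lit 35),(Leaf.pt (nat_lit 17) (nat_lit 76) [nat_lit 512,nat_lit 138]))::[]))) Srch.nil)) (Srch.rep (nat_lit 185) [] [] [] Srch.nil Srch.nil)) Srch.nil) Srch.nil)) Srch.nil) Srch.nil)))) Srch.nil)) (Node.lf (Leaf.au (nat_lit 1) (nat_lit 0) (nat_lit 0) [] [] [nat_lit 3,nat_lit 1] (nat_lit 0) [] (nat_lit 32) [nat_lit 0,nat_lit 2,nat_lit 36,nat_lit 10,nat_lit 10,nat_lit 32,nat_lit 96,nat_lit 160,nat_lit 258]))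
noncomputable def t171 : ℕ := nat_lit 0x1fc01fc01dd01dd01ff01ff01df01df01da01da01fb01fb01d801d801f801f801da01da01fb01fb01d801d801f801f801fc01fc01dd01dd01ff01ff01df01df01fd01fd01dc01dc01fe01fe01de01de01db01db01fa01fa01d901d901f901f901db01db01fa01fa01d901d901f901f901fd01fd01dc01dc01fe01fe01de01de011d011d013c013c011e011e013e013e013b013b011a011a0139013901190119013b013b011a011a0139013901190119011d011d013c013c011e011e013e013e011c011c013d013d011f011f013f013f013a013a011b011b0138013801180118013a013a011b011b0138013801180118011c011c013d013d011f011f013f013f011e011e013e013e011d011d013c013c0138013801180118013a013a011b011b0138013801180118013a013a011b011b011e011e013e013e011d011d013c013c011f011f013f013f011c011c013d013d0139013901190119013b013b011a011a0139013901190119013b013b011a011a011f011f013f013f011c011c013d013d01ff01ff01df01df01fc01fc01dd01dd01d901d901f901f901db01db01fa01fa01d901d901f901f901db01db01fa01fa01ff01ff01df01df01fc01fc01dd01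dd01fe01fe01de01de01fd01fd01dc01dc01d801d801f801f801da01da01fb01fb01d801d801f801f801da01da01fb01fb01fe01fe01de01de01fd01fd01dc01dc012001200101010101220122010201020106010601270127010501050125012501070107012601260104010401240124012101210100010001230123010301030121012101000100012301230103010301070107012601260104010401240124010601060127012701050105012501250120012001010101012201220102010201c101c101e001e001c301c301e301e301e701e701c601c601e401e401c401c401e601e601c701c701e501e501c501c501c001c001e101e101c201c201e201e201c001c001e101e101c201c201e201e201e601e601c701c701e501e501c501c501e701e701c601c601e401e401c401c401c101c101e001e001c301c301e301e301c201c201e201e201c001c001e101e101e401e401c401c401e701e701c601c601e501e501c501c501e601e601c701c701c301c301e301e301c101c101e001e001c301c301e301e301c101c101e001e001e501e501c501c501e601e601c701c701e401e401c401c401e701e701c601c601c201c201e201e201c001c001e101e1012301230103010301210121010001000105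0105012501250106010601270127010401040124012401070107012601260122012201020102012001200101010101220122010201020120012001010101010401040124012401070107012601260105010501250125010601060127012701230123010301030121012101000100008000800080008000a300a300a200a200a200a200a300a3008000800080008000a300a300a200a20081008100810081008100810081008100a200a200a300a3008000800080008000a300a300a200a200a200a200a300a3008000800080008000a300a300a200a20081008100810081008100810081008100a200a200a300a3008000800080008000a300a300a200a200a200a200a300a3008000800080008000a300a300a200a20081008100810081008100810081008100a200a200a300a3008000800080008000a300a300a200a200a200a200a300a3008000800080008000a300a300a200a20081008100810081008100810081008100a200a200a300a300a200a200a300a30081008100810081008100810081008100a300a300a200a2008000800080008000a200a200a300a300a300a300a200a2008000800080008000a200a200a300a30081008100810081008100810081008100a300a300a200a20080008000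80008000a200a200a300a300a300a300a200a2008000800080008000a200a200a300a30081008100810081008100810081008100a300a300a200a2008000800080008000a200a200a300a300a300a300a200a2008000800080008000a200a200a300a30081008100810081008100810081008100a300a300a200a2008000800080008000a200a200a300a300a300a300a200a200800080008000800040004000400040004200420043004300410041004100410043004300420042004000400040004000420042004300430041004100410041004300430042004200400040004000400042004200430043004100410041004100430043004200420040004000400040004200420043004300410041004100410043004300420042004300430042004200410041004100410042004200430043004000400040004000430043004200420041004100410041004200420043004300400040004000400043004300420042004100410041004100420042004300430040004000400040004300430042004200410041004100410042004200430043004000400040004000200020002000200020002000200020002100210021002100210021002100210021002100210021002100210021002100200020002000200020002000200020002000200020002000200020002000200021002100210021002100210021002100210021002100210021002100210021002000200020002000200020002000200010001000100010001000100010001000100010001000100010001000100010001000100010001000100010001000100010001000100010001000100010001000090009000900090009000900090009000800080008000800080008000800080004000400050005000500050004000400030003000200020001000100000000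
noncomputable def c171 : Node :=
  (Node.st (nat_lit 0) (nat_lit 10) (nat_lit 0) (Node.st (nat_lit 2) (nat_lit 1) (nat_lit 10) (Node.st (nat_lit 0) (nat_lit 17) (nat_lit 0) (Node.st (nat_lit 2) (nat_lit 2) (nat_lit 5) (Node.st (nat_lit 0) (nat_lit 78) (nat_lit 0) (Node.st (nat_lit 2) (nat_lit 2) (nat_lit 9) (Node.st (nat_lit 0) (nat_lit 85) (nat_lit 0) (Node.sp (nat_lit 1) (Node.lf (Leaf.pt (nat_lit 9) (nat_lit 1) [nat_lit 10])) (Node.sp (nat_lit 26) (Node.lf (Leaf.pt (nat_lit 9) (nat_lit 26) [nat_lit 10])) (Node.st (nat_lit 0) (nat_lit 26) (nat_lit 0) (Node.sp (nat_lit 28) (Node.lf (Leaf.pt (nat_lit 9) (nat_lit 28) [nat_lit 12])) (Node.st (nat_lit 0) (nat_lit 28) (nat_lit 0) (Node.sp (nat_lit 32) (Node.lf (Leaf.pt (nat_lit 12) (nat_lit 32) [nat_lit 28,nat_lit 196])) (Node.st (nat_lit 0) (nat_lit 32) (nat_lit 0) (Node.sp (nat_lit 68) (Node.lf (Leaf.pt (nat_lit 9) (nat_lit 68) [nat_lit 10])) (Node.st (nat_lit 0) (nat_lit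 68) (nat_lit 0) (Node.sp (nat_lit 92) (Node.lf (Leaf.pt (nat_lit 9) (nat_lit 92) [nat_lit 10])) (Node.st (nat_lit 0) (nat_lit 92) (nat_lit 0) (Node.sp (nat_lit 220) (Node.lf (Leaf.pt (nat_lit 9) (nat_lit 220) [nat_lit 76])) (Node.st (nat_lit 0) (nat_lit 220) (nat_lit 0) c171_0))))))))))))))))))))
theorem ok171 : nodeOK DB PT 171 t171 (nat_lit 0xf0000000f0000000f00c0cf0f00303f0f00000f0f0f0f0f0fcfc0303fc03fc03) (nat_lit 0x11110000000000000000000000000000111100000000000000000000000000001111000000002200000022001111000011110000000000220000002211110000111100000000000000000000111100001111000011110000111100001111000011112200111122000000003300000033111122000000005511112200000000ff) c171 = true := by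
  decide +kernel
noncomputable def c172_0 : Node :=
  Node.ext [[nat_lit 32,nat_lit 16,nat_lit 8,nat_lit 4,nat_lit 2,nat_lit 1]] (nat_lit 10) [Ins.ts (nat_lit 4) [nat_lit 0] [nat_lit 10,nat_lit 0,nat_lit 0],Ins.fr [nat_lit 0],Ins.ts (nat_lit 1) [nat_lit 0,nat_lit 0] [],Ins.ts (nat_lit 1) [nat_lit 0,nat_lit 0,nat_lit 0,nat_lit 0] [],Ins.fr [nat_lit 1],Ins.ts (nat_lit 1) [nat_lit 0,nat_lit 0] [],Ins.ts (nat_lit 0) [nat_lit 0,nat_lit 1,nat_lit 1,nat_lit 0] [],Ins.ts (nat_lit 0) [nat_lit 1,nat_lit 1,nat_lit 1] [nat_lit 0,nat_lit 1,nat_lit 0],Ins.ts (nat_lit 2) [nat_lit 0,nat_lit 0,nat_lit 1,nat_lit 0] [],Ins.fr [nat_lit 2],Ins.ts (nat_lit 1) [nat_lit 0,nat_lit 0] [],Ins.ts (nat_lit 4) [nat_lit 0] [nat_lit 37,nat_lit 0,nat_lit 0],Ins.ts (nat_lit 2) [nat_lit 1,nat_lit 0] [],Ins.ts (nat_lit 0) [nat_lit 0,nat_lit 2,nat_lit 0,nat_lit 2] [],Ins.ts (nat_lit 2) [nat_lit 1,nat_lit 0,nat_lit 2] [],Ins.fr [nat_lit 0,nat_lit 0,nat_lit 3],Ins.ts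 (nat_lit 4) [nat_lit 0] [nat_lit 5,nat_lit 0,nat_lit 0],Ins.ts (nat_lit 1) [nat_lit 0,nat_lit 0] [],Ins.ts (nat_lit 2) [nat_lit 4,nat_lit 0] [],Ins.ts (nat_lit 0) [nat_lit 2,nat_lit 0,nat_lit 2] [nat_lit 0],Ins.ts (nat_lit 0) [nat_lit 1,nat_lit 0] [nat_lit 0,nat_lit 1],Ins.fr [nat_lit 0,nat_lit 1,nat_lit 2,nat_lit 2,nat_lit 4],Ins.ts (nat_lit 0) [nat_lit 0,nat_lit 3,nat_lit 0] [nat_lit 3],Ins.ts (nat_lit 0) [nat_lit 4,nat_lit 0] [nat_lit 0,nat_lit 4],Ins.fr [nat_lit 5,nat_lit 1],Ins.ts (nat_lit 0) [nat_lit 5,nat_lit 0,nat_lit 0] [nat_lit 2,nat_lit 1],Ins.ts (nat_lit 0) [nat_lit 1,nat_lit 0,nat_lit 6] [nat_lit 0,nat_lit 4],Ins.df [nat_lit 2,nat_lit 2],Ins.df [nat_lit 6,nat_lit 6],Ins.df [nat_lit 0,nat_lit 1,nat_lit 8],Ins.df [nat_lit 1,nat_lit 7,nat_lit 8],Ins.df [nat_lit 2,nat_lit 5,nat_lit 5],Ins.df [nat_lit 0,nat_lit 10]] [nat_lit 96,nat_lit 112,nat_lit 36,nat_lit 4,nat_lit 128,nat_lit 256] [nat_lit 5,nat_lit 4,nat_lit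 8,nat_lit 3,nat_lit 2,nat_lit 1,nat_lit 0,nat_lit 7,nat_lit 6] (Srch.ex0 [nat_lit 68,nat_lit 36,nat_lit 16,nat_lit 8,nat_lit 2,nat_lit 1] (Srch.rep (nat_lit 16) [nat_lit 4,nat_lit 8,nat_lit 64] [nat_lit 64,nat_lit 16,nat_lit 8,nat_lit 4,nat_lit 2,nat_lit 1] [nat_lit 256,nat_lit 128,nat_lit 32] (Srch.rep (nat_lit 64) [nat_lit 64] [] [] (Srch.rep (nat_lit 74) [nat_lit 2] [] [] (Srch.rep (nat_lit 4) [nat_lit 16] [] [] (Srch.rep (nat_lit 36) [] [] [] (Srch.rep (nat_lit 160) [] [] [] (Srch.rep (nat_lit 282) [] [] [] (Srch.fin [nat_lit 256] [nat_lit 0] (((nat_lit 0),(Leaf.au (nat_lit 2) (nat_lit 16) (nat_lit 1) [[nat_lit 32,nat_lit 16,nat_lit 8,nat_lit 4,nat_lit 2,nat_lit 1]] [nat_lit 64,nat_lit 32,nat_lit 16,nat_lit 8,nat_lit 4,nat_lit 2,nat_lit 1] [nat_lit 1,nat_lit 3,nat_lit 1812] (nat_lit 2) [] (nat_lit 0) [nat_lit 64,nat_lit 32,nat_lit 8,nat_lit 8,nat_lit 4,nat_lit 2,nat_lit 0]))::(((nat_lit 1),(Leaf.au (nat_lit 2) (nat_lit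 16) (nat_lit 1) [[nat_lit 32,nat_lit 16,nat_lit 8,nat_lit 4,nat_lit 2,nat_lit 1]] [nat_lit 64,nat_lit 32,nat_lit 16,nat_lit 8,nat_lit 4,nat_lit 2,nat_lit 1] [nat_lit 1,nat_lit 3,nat_lit 1812] (nat_lit 2) [] (nat_lit 0) [nat_lit 64,nat_lit 32,nat_lit 8,nat_lit 8,nat_lit 4,nat_lit 2,nat_lit 0]))::[]))) (Srch.rep (nat_lit 283) [] [] [] (Srch.fin [nat_lit 256] [nat_lit 0] (((nat_lit 0),(Leaf.au (nat_lit 2) (nat_lit 16) (nat_lit 1) [[nat_lit 32,nat_lit 16,nat_lit 8,nat_lit 4,nat_lit 2,nat_lit 1]] [nat_lit 64,nat_lit 32,nat_lit 16,nat_lit 8,nat_lit 4,nat_lit 2,nat_lit 1] [nat_lit 1,nat_lit 3,nat_lit 1812] (nat_lit 2) [] (nat_lit 0) [nat_lit 64,nat_lit 32,nat_lit 8,nat_lit 8,nat_lit 4,nat_lit 2,nat_lit 0]))::(((nat_lit 1),(Leaf.au (nat_lit 2) (nat_lit 16) (nat_lit 1) [[nat_lit 32,nat_lit 16,nat_lit 8,nat_lit 4,nat_lit 2,nat_lit 1]] [nat_lit 64,nat_lit 32,nat_lit 16,nat_lit 8,nat_lit 4,nat_lit 2,nat_lit 1] [nat_lit 1,nat_lit 3,nat_lit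 1812] (nat_lit 2) [] (nat_lit 0) [nat_lit 64,nat_lit 32,nat_lit 8,nat_lit 8,nat_lit 4,nat_lit 2,nat_lit 0]))::[]))) Srch.nil)) (Srch.rep (nat_lit 161) [] [] [] Srch.nil Srch.nil)) Srch.nil) (Srch.rep (nat_lit 6) [nat_lit 16] [] [] (Srch.rep (nat_lit 38) [] [] [] (Srch.rep (nat_lit 160) [] [] [] (Srch.rep (nat_lit 504) [] [] [] (Srch.fin [nat_lit 256] [nat_lit 0] (((nat_lit 2),(Leaf.au (nat_lit 3) (nat_lit 16) (nat_lit 0) [[nat_lit 16,nat_lit 11,nat_lit 69,nat_lit 1]] [nat_lit 68,nat_lit 16,nat_lit 8,nat_lit 2,nat_lit 1] [nat_lit 5,nat_lit 1216,nat_lit 5,nat_lit 1152,nat_lit 5] (nat_lit 1) [nat_lit 0,nat_lit 1,nat_lit 69,nat_lit 68,nat_lit 11,nat_lit 10,nat_lit 78,nat_lit 79,nat_lit 16,nat_lit 17,nat_lit 85,nat_lit 84,nat_lit 27,nat_lit 26,nat_lit 94,nat_lit 95] (nat_lit 0) [nat_lit 0,nat_lit 0,nat_lit 2,nat_lit 2,nat_lit 0]))::(((nat_lit 3),(Leaf.au (nat_lit 3) (nat_lit 16) (nat_lit 0) [[nat_lit 16,nat_lit 11,nat_lit 69,nat_lit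 1]] [nat_lit 68,nat_lit 16,nat_lit 8,nat_lit 2,nat_lit 1] [nat_lit 5,nat_lit 1216,nat_lit 5,nat_lit 1152,nat_lit 5] (nat_lit 1) [nat_lit 0,nat_lit 1,nat_lit 69,nat_lit 68,nat_lit 11,nat_lit 10,nat_lit 78,nat_lit 79,nat_lit 16,nat_lit 17,nat_lit 85,nat_lit 84,nat_lit 27,nat_lit 26,nat_lit 94,nat_lit 95] (nat_lit 0) [nat_lit 0,nat_lit 0,nat_lit 2,nat_lit 2,nat_lit 0]))::[]))) (Srch.rep (nat_lit 505) [] [] [] (Srch.fin [nat_lit 256] [nat_lit 0] (((nat_lit 2),(Leaf.au (nat_lit 3) (nat_lit 16) (nat_lit 0) [[nat_lit 16,nat_lit 11,nat_lit 69,nat_lit 1]] [nat_lit 68,nat_lit 16,nat_lit 8,nat_lit 2,nat_lit 1] [nat_lit 5,nat_lit 1216,nat_lit 5,nat_lit 1152,nat_lit 5] (nat_lit 1) [nat_lit 0,nat_lit 1,nat_lit 69,nat_lit 68,nat_lit 11,nat_lit 10,nat_lit 78,nat_lit 79,nat_lit 16,nat_lit 17,nat_lit 85,nat_lit 84,nat_lit 27,nat_lit 26,nat_lit 94,nat_lit 95] (nat_lit 0) [nat_lit 0,nat_lit 0,nat_lit 2,nat_lit 2,nat_lit 0]))::(((nat_lit 3),(Leaf.au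 (nat_lit 3) (nat_lit 16) (nat_lit 0) [[nat_lit 16,nat_lit 11,nat_lit 69,nat_lit 1]] [nat_lit 68,nat_lit 16,nat_lit 8,nat_lit 2,nat_lit 1] [nat_lit 5,nat_lit 1216,nat_lit 5,nat_lit 1152,nat_lit 5] (nat_lit 1) [nat_lit 0,nat_lit 1,nat_lit 69,nat_lit 68,nat_lit 11,nat_lit 10,nat_lit 78,nat_lit 79,nat_lit 16,nat_lit 17,nat_lit 85,nat_lit 84,nat_lit 27,nat_lit 26,nat_lit 94,nat_lit 95] (nat_lit 0) [nat_lit 0,nat_lit 0,nat_lit 2,nat_lit 2,nat_lit 0]))::[]))) Srch.nil)) (Srch.rep (nat_lit 161) [] [] [] Srch.nil Srch.nil)) Srch.nil) Srch.nil)) Srch.nil) (Srch.rep (nat_lit 72) [nat_lit 72] [] [] (Srch.rep (nat_lit 66) [] [] [] Srch.nil Srch.nil) (Srch.rep (nat_lit 80) [nat_lit 64] [] [] (Srch.rep (nat_lit 90) [] [] [] Srch.nil Srch.nil) (Srch.rep (nat_lit 88) [nat_lit 72] [] [] (Srch.rep (nat_lit 82) [nat_lit 2] [] [] (Srch.rep (nat_lit 4) [nat_lit 16] [] [] (Srch.rep (nat_lit 36) [] [] [] (Srch.rep (nat_lit 184) [] [] [] (Srch.rep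 (nat_lit 282) [] [] [] (Srch.fin [nat_lit 256] [nat_lit 0] (((nat_lit 32),(Leaf.pt (nat_lit 12) (nat_lit 76) [nat_lit 70,nat_lit 516]))::(((nat_lit 33),(Leaf.pt (nat_lit 12) (nat_lit 76) [nat_lit 220,nat_lit 526]))::[]))) (Srch.rep (nat_lit 283) [] [] [] (Srch.fin [nat_lit 256] [nat_lit 0] (((nat_lit 32),(Leaf.pt (nat_lit 12) (nat_lit 76) [nat_lit 70,nat_lit 516]))::(((nat_lit 33),(Leaf.pt (nat_lit 12) (nat_lit 76) [nat_lit 220,nat_lit 526]))::[]))) Srch.nil)) (Srch.rep (nat_lit 185) [] [] [] Srch.nil Srch.nil)) Srch.nil) (Srch.rep (nat_lit 6) [nat_lit 16] [] [] (Srch.rep (nat_lit 38) [] [] [] (Srch.rep (nat_lit 184) [] [] [] (Srch.rep (nat_lit 504) [] [] [] (Srch.fin [nat_lit 256] [nat_lit 0] (((nat_lit 34),(Leaf.pt (nat_lit 3) (nat_lit 76) [nat_lit 512,nat_lit 70]))::(((nat_lit 35),(Leaf.pt (nat_lit 17) (nat_lit 76) [nat_lit 512,nat_lit 138]))::[]))) (Srch.rep (nat_lit 505) [] [] [] (Srch.fin [nat_lit 256] [nat_lit 0]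 (((nat_lit 34),(Leaf.pt (nat_lit 3) (nat_lit 76) [nat_lit 512,nat_lit 70]))::(((nat_lit 35),(Leaf.pt (nat_lit 17) (nat_lit 76) [nat_lit 512,nat_lit 138]))::[]))) Srch.nil)) (Srch.rep (nat_lit 185) [] [] [] Srch.nil Srch.nil)) Srch.nil) Srch.nil)) Srch.nil) Srch.nil)))) Srch.nil)) (Node.lf (Leaf.au (nat_lit 1) (nat_lit 0) (nat_lit 0) [] [] [nat_lit 3,nat_lit 1] (nat_lit 0) [] (nat_lit 32) [nat_lit 0,nat_lit 2,nat_lit 36,nat_lit 10,nat_lit 10,nat_lit 32,nat_lit 96,nat_lit 160,nat_lit 258]))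
noncomputable def t172 : ℕ := nat_lit 0x1e501e501c401c401e601e601c601c601c201c201e301e301c001c001e001e001c301c301e201e201c101c101e101e101e401e401c501c501e701e701c701c701e401e401c501c501e701e701c701c701c301c301e201e201c101c101e101e101c201c201e301e301c001c001e001e001e501e501c401c401e601e601c601c6011c011c013d013d011f011f013f013f013a013a011b011b0138013801180118013a013a011b011b0138013801180118011c011c013d013d011f011f013f013f011d011d013c013c011e011e013e013e013b013b011a011a0139013901190119013b013b011a011a0139013901190119011d011d013c013c011e011e013e013e011e011e013e013e011d011d013c013c0138013801180118013a013a011b011b0138013801180118013a013a011b011b011e011e013e013e011d011d013c013c011f011f013f013f011c011c013d013d0139013901190119013b013b011a011a0139013901190119013b013b011a011a011f011f013f013f011c011c013d013d01e701e701c701c701e401e401c501c501c001c001e001e001c201c201e301e301c101c101e101e101c301c301e201e201e601e601c601c601e501e501c401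c401e601e601c601c601e501e501c401c401c101c101e101e101c301c301e201e201c001c001e001e001c201c201e301e301e701e701c701c701e401e401c501c5012101210100010001230123010301030107010701260126010401040124012401060106012701270105010501250125012001200101010101220122010201020120012001010101012201220102010201060106012701270105010501250125010701070126012601040104012401240121012101000100012301230103010301d901d901f801f801db01db01fb01fb01fe01fe01df01df01fd01fd01dd01dd01fe01fe01df01df01fd01fd01dd01dd01d901d901f801f801db01db01fb01fb01d801d801f901f901da01da01fa01fa01ff01ff01de01de01fc01fc01dc01dc01ff01ff01de01de01fc01fc01dc01dc01d801d801f901f901da01da01fa01fa01db01db01fb01fb01d901d901f801f801fc01fc01dc01dc01ff01ff01de01de01fc01fc01dc01dc01ff01ff01de01de01db01db01fb01fb01d901d901f801f801da01da01fa01fa01d801d801f901f901fd01fd01dd01dd01fe01fe01df01df01fd01fd01dd01dd01fe01fe01df01df01da01da01fa01fa01d801d801f901f9012301230103010301210121010001000105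0105012501250106010601270127010401040124012401070107012601260122012201020102012001200101010101220122010201020120012001010101010401040124012401070107012601260105010501250125010601060127012701230123010301030121012101000100008000800080008000a300a300a200a200a200a200a300a3008000800080008000a300a300a200a20081008100810081008100810081008100a200a200a300a3008000800080008000a300a300a200a200a200a200a300a3008000800080008000a300a300a200a20081008100810081008100810081008100a200a200a300a3008000800080008000a300a300a200a200a200a200a300a3008000800080008000a300a300a200a20081008100810081008100810081008100a200a200a300a3008000800080008000a300a300a200a200a200a200a300a3008000800080008000a300a300a200a20081008100810081008100810081008100a200a200a300a300a200a200a300a30081008100810081008100810081008100a300a300a200a2008000800080008000a200a200a300a300a300a300a200a2008000800080008000a200a200a300a30081008100810081008100810081008100a300a300a200a20080008000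80008000a200a200a300a300a300a300a200a2008000800080008000a200a200a300a30081008100810081008100810081008100a300a300a200a2008000800080008000a200a200a300a300a300a300a200a2008000800080008000a200a200a300a30081008100810081008100810081008100a300a300a200a2008000800080008000a200a200a300a300a300a300a200a200800080008000800040004000400040004200420043004300410041004100410043004300420042004000400040004000420042004300430041004100410041004300430042004200400040004000400042004200430043004100410041004100430043004200420040004000400040004200420043004300410041004100410043004300420042004300430042004200410041004100410042004200430043004000400040004000430043004200420041004100410041004200420043004300400040004000400043004300420042004100410041004100420042004300430040004000400040004300430042004200410041004100410042004200430043004000400040004000200020002000200020002000200020002100210021002100210021002100210021002100210021002100210021002100200020002000200020002000200020002000200020002000200020002000200021002100210021002100210021002100210021002100210021002100210021002000200020002000200020002000200010001000100010001000100010001000100010001000100010001000100010001000100010001000100010001000100010001000100010001000100010001000090009000900090009000900090009000800080008000800080008000800080004000400050005000500050004000400030003000200020001000100000000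
noncomputable def c172 : Node :=
  (Node.st (nat_lit 0) (nat_lit 10) (nat_lit 0) (Node.st (nat_lit 2) (nat_lit 1) (nat_lit 10) (Node.st (nat_lit 0) (nat_lit 17) (nat_lit 0) (Node.st (nat_lit 2) (nat_lit 2) (nat_lit 5) (Node.st (nat_lit 0) (nat_lit 78) (nat_lit 0) (Node.st (nat_lit 2) (nat_lit 2) (nat_lit 9) (Node.st (nat_lit 0) (nat_lit 85) (nat_lit 0) (Node.sp (nat_lit 1) (Node.lf (Leaf.pt (nat_lit 9) (nat_lit 1) [nat_lit 10])) (Node.sp (nat_lit 26) (Node.lf (Leaf.pt (nat_lit 9) (nat_lit 26) [nat_lit 10])) (Node.st (nat_lit 0) (nat_lit 26) (nat_lit 0) (Node.sp (nat_lit 28) (Node.lf (Leaf.pt (nat_lit 9) (nat_lit 28) [nat_lit 12])) (Node.st (nat_lit 0) (nat_lit 28) (nat_lit 0) (Node.sp (nat_lit 32) (Node.lf (Leaf.pt (nat_lit 12) (nat_lit 32) [nat_lit 28,nat_lit 196])) (Node.st (nat_lit 0) (nat_lit 32) (nat_lit 0) (Node.sp (nat_lit 68) (Node.lf (Leaf.pt (nat_lit 9) (nat_lit 68) [nat_lit 10])) (Node.st (nat_lit 0) (nat_lit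 68) (nat_lit 0) (Node.sp (nat_lit 92) (Node.lf (Leaf.pt (nat_lit 9) (nat_lit 92) [nat_lit 10])) (Node.st (nat_lit 0) (nat_lit 92) (nat_lit 0) (Node.sp (nat_lit 220) (Node.lf (Leaf.pt (nat_lit 9) (nat_lit 220) [nat_lit 76])) (Node.st (nat_lit 0) (nat_lit 220) (nat_lit 0) c172_0))))))))))))))))))))
theorem ok172 : nodeOK DB PT 172 t172 (nat_lit 0xf0000000f0000000f00c0cf0f00303f0f00000f0f0f0f0f0fcfc0303fc03fc03) (nat_lit 0x11110000000000000000000000000000111100000000000000000000000000001111000000002200000022001111000011110000000000220000002211110000111100000000000000000000111100001111000011110000111100001111000011112200111122000000003300000033111122000000005511112200000000ff) c172 = true := by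
  decide +kernel
noncomputable def c173_0 : Node :=
  Node.ext [[nat_lit 32,nat_lit 16,nat_lit 8,nat_lit 4,nat_lit 2,nat_lit 1]] (nat_lit 10) [Ins.ts (nat_lit 4) [nat_lit 0] [nat_lit 10,nat_lit 0,nat_lit 0],Ins.fr [nat_lit 0],Ins.ts (nat_lit 1) [nat_lit 0,nat_lit 0] [],Ins.ts (nat_lit 1) [nat_lit 0,nat_lit 0,nat_lit 0,nat_lit 0] [],Ins.fr [nat_lit 1],Ins.ts (nat_lit 1) [nat_lit 0,nat_lit 0] [],Ins.ts (nat_lit 0) [nat_lit 0,nat_lit 1,nat_lit 1,nat_lit 0] [],Ins.ts (nat_lit 0) [nat_lit 1,nat_lit 1,nat_lit 1] [nat_lit 0,nat_lit 1,nat_lit 0],Ins.ts (nat_lit 2) [nat_lit 0,nat_lit 0,nat_lit 1,nat_lit 0] [],Ins.fr [nat_lit 2],Ins.ts (nat_lit 1) [nat_lit 0,nat_lit 0] [],Ins.ts (nat_lit 4) [nat_lit 0] [nat_lit 37,nat_lit 0,nat_lit 0],Ins.ts (nat_lit 2) [nat_lit 1,nat_lit 0] [],Ins.ts (nat_lit 0) [nat_lit 0,nat_lit 2,nat_lit 0,nat_lit 2] [],Ins.ts (nat_lit 2) [nat_lit 1,nat_lit 0,nat_lit 2] [],Ins.fr [nat_lit 0,nat_lit 0,nat_lit 3],Ins.ts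 (nat_lit 4) [nat_lit 0] [nat_lit 5,nat_lit 0,nat_lit 0],Ins.ts (nat_lit 1) [nat_lit 0,nat_lit 0] [],Ins.ts (nat_lit 2) [nat_lit 4,nat_lit 0] [],Ins.ts (nat_lit 0) [nat_lit 2,nat_lit 0,nat_lit 2] [nat_lit 0],Ins.ts (nat_lit 0) [nat_lit 1,nat_lit 0] [nat_lit 0,nat_lit 1],Ins.fr [nat_lit 0,nat_lit 1,nat_lit 2,nat_lit 2,nat_lit 4],Ins.ts (nat_lit 0) [nat_lit 0,nat_lit 3,nat_lit 0] [nat_lit 3],Ins.ts (nat_lit 0) [nat_lit 4,nat_lit 0] [nat_lit 0,nat_lit 4],Ins.fr [nat_lit 5,nat_lit 1],Ins.ts (nat_lit 0) [nat_lit 0,nat_lit 1,nat_lit 0] [nat_lit 2,nat_lit 1],Ins.ts (nat_lit 0) [nat_lit 6,nat_lit 1,nat_lit 2] [nat_lit 0,nat_lit 0,nat_lit 4],Ins.df [nat_lit 2,nat_lit 2],Ins.df [nat_lit 6,nat_lit 6],Ins.df [nat_lit 0,nat_lit 1,nat_lit 8],Ins.df [nat_lit 1,nat_lit 7,nat_lit 8],Ins.df [nat_lit 2,nat_lit 5,nat_lit 5],Ins.df [nat_lit 0,nat_lit 10]] [nat_lit 96,nat_lit 112,nat_lit 36,nat_lit 4,nat_lit 128,nat_lit 256] [nat_lit 5,nat_lit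 4,nat_lit 8,nat_lit 3,nat_lit 2,nat_lit 1,nat_lit 0,nat_lit 7,nat_lit 6] (Srch.ex0 [nat_lit 68,nat_lit 36,nat_lit 16,nat_lit 8,nat_lit 2,nat_lit 1] (Srch.rep (nat_lit 16) [nat_lit 4,nat_lit 8,nat_lit 64] [nat_lit 64,nat_lit 16,nat_lit 8,nat_lit 4,nat_lit 2,nat_lit 1] [nat_lit 256,nat_lit 128,nat_lit 32] (Srch.rep (nat_lit 64) [nat_lit 64] [] [] (Srch.rep (nat_lit 74) [nat_lit 2] [] [] (Srch.rep (nat_lit 4) [nat_lit 16] [] [] (Srch.rep (nat_lit 36) [] [] [] (Srch.rep (nat_lit 160) [] [] [] (Srch.rep (nat_lit 282) [] [] [] (Srch.fin [nat_lit 256] [nat_lit 0] (((nat_lit 0),(Leaf.au (nat_lit 2) (nat_lit 16) (nat_lit 1) [[nat_lit 32,nat_lit 16,nat_lit 8,nat_lit 4,nat_lit 2,nat_lit 1]] [nat_lit 64,nat_lit 32,nat_lit 16,nat_lit 8,nat_lit 4,nat_lit 2,nat_lit 1] [nat_lit 1,nat_lit 3,nat_lit 1812] (nat_lit 2) [] (nat_lit 0) [nat_lit 64,nat_lit 32,nat_lit 8,nat_lit 8,nat_lit 4,nat_lit 2,nat_lit 0]))::(((nat_lit 1),(Leaf.au (nat_lit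 2) (nat_lit 16) (nat_lit 1) [[nat_lit 32,nat_lit 16,nat_lit 8,nat_lit 4,nat_lit 2,nat_lit 1]] [nat_lit 64,nat_lit 32,nat_lit 16,nat_lit 8,nat_lit 4,nat_lit 2,nat_lit 1] [nat_lit 1,nat_lit 3,nat_lit 1812] (nat_lit 2) [] (nat_lit 0) [nat_lit 64,nat_lit 32,nat_lit 8,nat_lit 8,nat_lit 4,nat_lit 2,nat_lit 0]))::[]))) (Srch.rep (nat_lit 283) [] [] [] (Srch.fin [nat_lit 256] [nat_lit 0] (((nat_lit 0),(Leaf.au (nat_lit 2) (nat_lit 16) (nat_lit 1) [[nat_lit 32,nat_lit 16,nat_lit 8,nat_lit 4,nat_lit 2,nat_lit 1]] [nat_lit 64,nat_lit 32,nat_lit 16,nat_lit 8,nat_lit 4,nat_lit 2,nat_lit 1] [nat_lit 1,nat_lit 3,nat_lit 1812] (nat_lit 2) [] (nat_lit 0) [nat_lit 64,nat_lit 32,nat_lit 8,nat_lit 8,nat_lit 4,nat_lit 2,nat_lit 0]))::(((nat_lit 1),(Leaf.au (nat_lit 2) (nat_lit 16) (nat_lit 1) [[nat_lit 32,nat_lit 16,nat_lit 8,nat_lit 4,nat_lit 2,nat_lit 1]] [nat_lit 64,nat_lit 32,nat_lit 16,nat_lit 8,nat_lit 4,nat_lit 2,nat_lit 1] [nat_lit 1,nat_lit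 3,nat_lit 1812] (nat_lit 2) [] (nat_lit 0) [nat_lit 64,nat_lit 32,nat_lit 8,nat_lit 8,nat_lit 4,nat_lit 2,nat_lit 0]))::[]))) Srch.nil)) (Srch.rep (nat_lit 161) [] [] [] Srch.nil Srch.nil)) Srch.nil) (Srch.rep (nat_lit 6) [nat_lit 16] [] [] (Srch.rep (nat_lit 38) [] [] [] (Srch.rep (nat_lit 160) [] [] [] Srch.nil (Srch.rep (nat_lit 161) [] [] [] (Srch.rep (nat_lit 480) [] [] [] (Srch.fin [nat_lit 256] [nat_lit 0] (((nat_lit 2),(Leaf.au (nat_lit 3) (nat_lit 16) (nat_lit 0) [[nat_lit 16,nat_lit 11,nat_lit 69,nat_lit 1]] [nat_lit 68,nat_lit 16,nat_lit 8,nat_lit 2,nat_lit 1] [nat_lit 5,nat_lit 1216,nat_lit 5,nat_lit 1152,nat_lit 5] (nat_lit 1) [nat_lit 0,nat_lit 1,nat_lit 69,nat_lit 68,nat_lit 11,nat_lit 10,nat_lit 78,nat_lit 79,nat_lit 16,nat_lit 17,nat_lit 85,nat_lit 84,nat_lit 27,nat_lit 26,nat_lit 94,nat_lit 95] (nat_lit 0) [nat_lit 0,nat_lit 0,nat_lit 2,nat_lit 2,nat_lit 0]))::(((nat_lit 3),(Leaf.au (nat_lit 3) (nat_lit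 16) (nat_lit 0) [[nat_lit 16,nat_lit 11,nat_lit 69,nat_lit 1]] [nat_lit 68,nat_lit 16,nat_lit 8,nat_lit 2,nat_lit 1] [nat_lit 5,nat_lit 1216,nat_lit 5,nat_lit 1152,nat_lit 5] (nat_lit 1) [nat_lit 0,nat_lit 1,nat_lit 69,nat_lit 68,nat_lit 11,nat_lit 10,nat_lit 78,nat_lit 79,nat_lit 16,nat_lit 17,nat_lit 85,nat_lit 84,nat_lit 27,nat_lit 26,nat_lit 94,nat_lit 95] (nat_lit 0) [nat_lit 0,nat_lit 0,nat_lit 2,nat_lit 2,nat_lit 0]))::[]))) (Srch.rep (nat_lit 481) [] [] [] (Srch.fin [nat_lit 256] [nat_lit 0] (((nat_lit 2),(Leaf.au (nat_lit 3) (nat_lit 16) (nat_lit 0) [[nat_lit 16,nat_lit 11,nat_lit 69,nat_lit 1]] [nat_lit 68,nat_lit 16,nat_lit 8,nat_lit 2,nat_lit 1] [nat_lit 5,nat_lit 1216,nat_lit 5,nat_lit 1152,nat_lit 5] (nat_lit 1) [nat_lit 0,nat_lit 1,nat_lit 69,nat_lit 68,nat_lit 11,nat_lit 10,nat_lit 78,nat_lit 79,nat_lit 16,nat_lit 17,nat_lit 85,nat_lit 84,nat_lit 27,nat_lit 26,nat_lit 94,nat_lit 95] (nat_lit 0) [nat_lit 0,nat_lit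 0,nat_lit 2,nat_lit 2,nat_lit 0]))::(((nat_lit 3),(Leaf.au (nat_lit 3) (nat_lit 16) (nat_lit 0) [[nat_lit 16,nat_lit 11,nat_lit 69,nat_lit 1]] [nat_lit 68,nat_lit 16,nat_lit 8,nat_lit 2,nat_lit 1] [nat_lit 5,nat_lit 1216,nat_lit 5,nat_lit 1152,nat_lit 5] (nat_lit 1) [nat_lit 0,nat_lit 1,nat_lit 69,nat_lit 68,nat_lit 11,nat_lit 10,nat_lit 78,nat_lit 79,nat_lit 16,nat_lit 17,nat_lit 85,nat_lit 84,nat_lit 27,nat_lit 26,nat_lit 94,nat_lit 95] (nat_lit 0) [nat_lit 0,nat_lit 0,nat_lit 2,nat_lit 2,nat_lit 0]))::[]))) Srch.nil)) Srch.nil)) Srch.nil) Srch.nil)) Srch.nil) (Srch.rep (nat_lit 72) [nat_lit 72] [] [] (Srch.rep (nat_lit 66) [] [] [] Srch.nil Srch.nil) (Srch.rep (nat_lit 80) [nat_lit 64] [] [] (Srch.rep (nat_lit 90) [] [] [] Srch.nil Srch.nil) (Srch.rep (nat_lit 88) [nat_lit 72] [] [] (Srch.rep (nat_lit 82) [nat_lit 2] [] [] (Srch.rep (nat_lit 4) [nat_lit 16] [] [] (Srch.rep (nat_lit 36) [] [] [] (Srch.rep (nat_lit 184)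 [] [] [] Srch.nil (Srch.rep (nat_lit 185) [] [] [] (Srch.rep (nat_lit 258) [] [] [] (Srch.fin [nat_lit 256] [nat_lit 0] (((nat_lit 32),(Leaf.pt (nat_lit 12) (nat_lit 76) [nat_lit 70,nat_lit 516]))::(((nat_lit 33),(Leaf.pt (nat_lit 12) (nat_lit 76) [nat_lit 220,nat_lit 526]))::[]))) (Srch.rep (nat_lit 259) [] [] [] (Srch.fin [nat_lit 256] [nat_lit 0] (((nat_lit 32),(Leaf.pt (nat_lit 12) (nat_lit 76) [nat_lit 70,nat_lit 516]))::(((nat_lit 33),(Leaf.pt (nat_lit 12) (nat_lit 76) [nat_lit 220,nat_lit 526]))::[]))) Srch.nil)) Srch.nil)) Srch.nil) (Srch.rep (nat_lit 6) [nat_lit 16] [] [] (Srch.rep (nat_lit 38) [] [] [] (Srch.rep (nat_lit 184) [] [] [] (Srch.rep (nat_lit 504) [] [] [] (Srch.fin [nat_lit 256] [nat_lit 0] (((nat_lit 34),(Leaf.pt (nat_lit 3) (nat_lit 76) [nat_lit 512,nat_lit 70]))::(((nat_lit 35),(Leaf.pt (nat_lit 17) (nat_lit 76) [nat_lit 512,nat_lit 138]))::[]))) (Srch.rep (nat_lit 505) [] [] [] (Srch.fin [nat_lit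 256] [nat_lit 0] (((nat_lit 34),(Leaf.pt (nat_lit 3) (nat_lit 76) [nat_lit 512,nat_lit 70]))::(((nat_lit 35),(Leaf.pt (nat_lit 17) (nat_lit 76) [nat_lit 512,nat_lit 138]))::[]))) Srch.nil)) (Srch.rep (nat_lit 185) [] [] [] Srch.nil Srch.nil)) Srch.nil) Srch.nil)) Srch.nil) Srch.nil)))) Srch.nil)) (Node.lf (Leaf.au (nat_lit 1) (nat_lit 0) (nat_lit 0) [] [] [nat_lit 3,nat_lit 1] (nat_lit 0) [] (nat_lit 32) [nat_lit 0,nat_lit 2,nat_lit 36,nat_lit 10,nat_lit 10,nat_lit 32,nat_lit 96,nat_lit 160,nat_lit 258]))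
noncomputable def t173 : ℕ := nat_lit 0x1fc01fc01dd01dd01ff01ff01df01df01da01da01fb01fb01d801d801f801f801da01da01fb01fb01d801d801f801f801fc01fc01dd01dd01ff01ff01df01df01fd01fd01dc01dc01fe01fe01de01de01db01db01fa01fa01d901d901f901f901db01db01fa01fa01d901d901f901f901fd01fd01dc01dc01fe01fe01de01de0105010501240124010601060126012601220122010301030120012001000100012301230102010201210121010101010104010401250125010701070127012701040104012501250107010701270127012301230102010201210121010101010122012201030103012001200100010001050105012401240106010601260126010601060126012601050105012401240121012101010101012301230102010201200120010001000122012201030103010701070127012701040104012501250107010701270127010401040125012501200120010001000122012201030103012101210101010101230123010201020106010601260126010501050124012401ff01ff01df01df01fc01fc01dd01dd01d901d901f901f901db01db01fa01fa01d901d901f901f901db01db01fa01fa01ff01ff01df01df01fc01fc01dd01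dd01fe01fe01de01de01fd01fd01dc01dc01d801d801f801f801da01da01fb01fb01d801d801f801f801da01da01fb01fb01fe01fe01de01de01fd01fd01dc01dc012001200101010101220122010201020106010601270127010501050125012501070107012601260104010401240124012101210100010001230123010301030121012101000100012301230103010301070107012601260104010401240124010601060127012701050105012501250120012001010101012201220102010201d801d801f901f901da01da01fa01fa01ff01ff01de01de01fc01fc01dc01dc01ff01ff01de01de01fc01fc01dc01dc01d801d801f901f901da01da01fa01fa01d901d901f801f801db01db01fb01fb01fe01fe01df01df01fd01fd01dd01dd01fe01fe01df01df01fd01fd01dd01dd01d901d901f801f801db01db01fb01fb01db01db01fb01fb01d901d901f801f801fc01fc01dc01dc01ff01ff01de01de01fc01fc01dc01dc01ff01ff01de01de01db01db01fb01fb01d901d901f801f801da01da01fa01fa01d801d801f901f901fd01fd01dd01dd01fe01fe01df01df01fd01fd01dd01dd01fe01fe01df01df01da01da01fa01fa01d801d801f901f9012301230103010301210121010001000105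0105012501250106010601270127010401040124012401070107012601260122012201020102012001200101010101220122010201020120012001010101010401040124012401070107012601260105010501250125010601060127012701230123010301030121012101000100008000800080008000a300a300a200a200a200a200a300a3008000800080008000a300a300a200a20081008100810081008100810081008100a200a200a300a3008000800080008000a300a300a200a200a200a200a300a3008000800080008000a300a300a200a20081008100810081008100810081008100a200a200a300a3008000800080008000a300a300a200a200a200a200a300a3008000800080008000a300a300a200a20081008100810081008100810081008100a200a200a300a3008000800080008000a300a300a200a200a200a200a300a3008000800080008000a300a300a200a20081008100810081008100810081008100a200a200a300a300a200a200a300a30081008100810081008100810081008100a300a300a200a2008000800080008000a200a200a300a300a300a300a200a2008000800080008000a200a200a300a30081008100810081008100810081008100a300a300a200a20080008000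80008000a200a200a300a300a300a300a200a2008000800080008000a200a200a300a30081008100810081008100810081008100a300a300a200a2008000800080008000a200a200a300a300a300a300a200a2008000800080008000a200a200a300a30081008100810081008100810081008100a300a300a200a2008000800080008000a200a200a300a300a300a300a200a200800080008000800040004000400040004200420043004300410041004100410043004300420042004000400040004000420042004300430041004100410041004300430042004200400040004000400042004200430043004100410041004100430043004200420040004000400040004200420043004300410041004100410043004300420042004300430042004200410041004100410042004200430043004000400040004000430043004200420041004100410041004200420043004300400040004000400043004300420042004100410041004100420042004300430040004000400040004300430042004200410041004100410042004200430043004000400040004000200020002000200020002000200020002100210021002100210021002100210021002100210021002100210021002100200020002000200020002000200020002000200020002000200020002000200021002100210021002100210021002100210021002100210021002100210021002000200020002000200020002000200010001000100010001000100010001000100010001000100010001000100010001000100010001000100010001000100010001000100010001000100010001000090009000900090009000900090009000800080008000800080008000800080004000400050005000500050004000400030003000200020001000100000000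
noncomputable def c173 : Node :=
  (Node.st (nat_lit 0) (nat_lit 10) (nat_lit 0) (Node.st (nat_lit 2) (nat_lit 1) (nat_lit 10) (Node.st (nat_lit 0) (nat_lit 17) (nat_lit 0) (Node.st (nat_lit 2) (nat_lit 2) (nat_lit 5) (Node.st (nat_lit 0) (nat_lit 78) (nat_lit 0) (Node.st (nat_lit 2) (nat_lit 2) (nat_lit 9) (Node.st (nat_lit 0) (nat_lit 85) (nat_lit 0) (Node.sp (nat_lit 1) (Node.lf (Leaf.pt (nat_lit 9) (nat_lit 1) [nat_lit 10])) (Node.sp (nat_lit 26) (Node.lf (Leaf.pt (nat_lit 9) (nat_lit 26) [nat_lit 10])) (Node.st (nat_lit 0) (nat_lit 26) (nat_lit 0) (Node.sp (nat_lit 28) (Node.lf (Leaf.pt (nat_lit 9) (nat_lit 28) [nat_lit 12])) (Node.st (nat_lit 0) (nat_lit 28) (nat_lit 0) (Node.sp (nat_lit 32) (Node.lf (Leaf.pt (nat_lit 12) (nat_lit 32) [nat_lit 28,nat_lit 196])) (Node.st (nat_lit 0) (nat_lit 32) (nat_lit 0) (Node.sp (nat_lit 68) (Node.lf (Leaf.pt (nat_lit 9) (nat_lit 68) [nat_lit 10])) (Node.st (nat_lit 0) (nat_lit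 68) (nat_lit 0) (Node.sp (nat_lit 92) (Node.lf (Leaf.pt (nat_lit 9) (nat_lit 92) [nat_lit 10])) (Node.st (nat_lit 0) (nat_lit 92) (nat_lit 0) (Node.sp (nat_lit 220) (Node.lf (Leaf.pt (nat_lit 9) (nat_lit 220) [nat_lit 76])) (Node.st (nat_lit 0) (nat_lit 220) (nat_lit 0) (Node.sp (nat_lit 336) (Node.lf (Leaf.pt (nat_lit 23) (nat_lit 336) [nat_lit 32,nat_lit 24,nat_lit 222])) (Node.st (nat_lit 0) (nat_lit 336) (nat_lit 0) c173_0))))))))))))))))))))))
theorem ok173 : nodeOK DB PT 173 t173 (nat_lit 0xc3000000c30000330000003300000000000000000000f0000000f0000000f00c0cf0f00303f0f00000f0f0f0f0f0fcfc0303fc03fc03) (nat_lit 0x1100001100000000000000000000000011000011000000000000000000110011000000000000000000000000001100110000000000000000000000000000000000000000000000000000000000000000000000000000000011110000000000000000000000000000111100000000000000000000000000001111000000002200000022001111000011110000000000220000002211110000111100000000000000000000111100001111000011110000111100001111000011112200111122000000003300000033111122000000005511112200000000ff)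 c173 = true := by
  decide +kernel
noncomputable def c174_0 : Srch :=
  Srch.rep (nat_lit 4) [nat_lit 12] [] [] (Srch.rep (nat_lit 36) [] [] [] (Srch.rep (nat_lit 97) [] [] [] (Srch.rep (nat_lit 280) [] [] [] (Srch.fin [nat_lit 256,nat_lit 64] [] []) (Srch.rep (nat_lit 281) [] [] [] (Srch.fin [nat_lit 256,nat_lit 64] [] []) Srch.nil)) (Srch.rep (nat_lit 96) [] [] [] (Srch.rep (nat_lit 256) [] [] [] (Srch.fin [nat_lit 256] [nat_lit 0] (((nat_lit 0),(Leaf.au (nat_lit 2) (nat_lit 16) (nat_lit 1) [[nat_lit 32,nat_lit 16,nat_lit 8,nat_lit 4,nat_lit 2,nat_lit 1]] [nat_lit 64,nat_lit 32,nat_lit 16,nat_lit 8,nat_lit 4,nat_lit 2,nat_lit 1] [nat_lit 1,nat_lit 1928,nat_lit 3] (nat_lit 2) [] (nat_lit 0) [nat_lit 64,nat_lit 32,nat_lit 8,nat_lit 8,nat_lit 4,nat_lit 2,nat_lit 0]))::(((nat_lit 1),(Leaf.au (nat_lit 2) (nat_lit 16) (nat_lit 1) [[nat_lit 32,nat_lit 16,nat_lit 8,nat_lit 4,nat_lit 2,nat_lit 1]] [nat_lit 64,nat_lit 32,nat_lit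 16,nat_lit 8,nat_lit 4,nat_lit 2,nat_lit 1] [nat_lit 1,nat_lit 1928,nat_lit 3] (nat_lit 2) [] (nat_lit 0) [nat_lit 64,nat_lit 32,nat_lit 8,nat_lit 8,nat_lit 4,nat_lit 2,nat_lit 0]))::[]))) (Srch.rep (nat_lit 257) [] [] [] (Srch.fin [nat_lit 256] [nat_lit 0] (((nat_lit 0),(Leaf.au (nat_lit 2) (nat_lit 16) (nat_lit 1) [[nat_lit 32,nat_lit 16,nat_lit 8,nat_lit 4,nat_lit 2,nat_lit 1]] [nat_lit 64,nat_lit 32,nat_lit 16,nat_lit 8,nat_lit 4,nat_lit 2,nat_lit 1] [nat_lit 1,nat_lit 1928,nat_lit 3] (nat_lit 2) [] (nat_lit 0) [nat_lit 64,nat_lit 32,nat_lit 8,nat_lit 8,nat_lit 4,nat_lit 2,nat_lit 0]))::(((nat_lit 1),(Leaf.au (nat_lit 2) (nat_lit 16) (nat_lit 1) [[nat_lit 32,nat_lit 16,nat_lit 8,nat_lit 4,nat_lit 2,nat_lit 1]] [nat_lit 64,nat_lit 32,nat_lit 16,nat_lit 8,nat_lit 4,nat_lit 2,nat_lit 1] [nat_lit 1,nat_lit 1928,nat_lit 3] (nat_lit 2) [] (nat_lit 0) [nat_lit 64,nat_lit 32,nat_lit 8,nat_lit 8,nat_lit 4,nat_lit 2,nat_lit 0]))::[])))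 Srch.nil)) Srch.nil)) Srch.nil) (Srch.rep (nat_lit 38) [nat_lit 12] [] [] (Srch.rep (nat_lit 7) [] [] [] (Srch.rep (nat_lit 98) [] [] [] (Srch.rep (nat_lit 508) [] [] [] (Srch.fin [nat_lit 256] [nat_lit 0] (((nat_lit 196),(Leaf.au (nat_lit 3) (nat_lit 16) (nat_lit 0) [[nat_lit 16,nat_lit 11,nat_lit 69,nat_lit 1]] [nat_lit 68,nat_lit 16,nat_lit 8,nat_lit 2,nat_lit 1] [nat_lit 5,nat_lit 1864,nat_lit 5,nat_lit 1800,nat_lit 5] (nat_lit 1) [nat_lit 0,nat_lit 1,nat_lit 69,nat_lit 68,nat_lit 11,nat_lit 10,nat_lit 78,nat_lit 79,nat_lit 16,nat_lit 17,nat_lit 85,nat_lit 84,nat_lit 27,nat_lit 26,nat_lit 94,nat_lit 95] (nat_lit 0) [nat_lit 0,nat_lit 0,nat_lit 2,nat_lit 2,nat_lit 0]))::(((nat_lit 197),(Leaf.au (nat_lit 3) (nat_lit 16) (nat_lit 0) [[nat_lit 16,nat_lit 11,nat_lit 69,nat_lit 1]] [nat_lit 68,nat_lit 16,nat_lit 8,nat_lit 2,nat_lit 1] [nat_lit 5,nat_lit 1864,nat_lit 5,nat_lit 1800,nat_lit 5] (nat_lit 1) [nat_lit 0,nat_lit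 1,nat_lit 69,nat_lit 68,nat_lit 11,nat_lit 10,nat_lit 78,nat_lit 79,nat_lit 16,nat_lit 17,nat_lit 85,nat_lit 84,nat_lit 27,nat_lit 26,nat_lit 94,nat_lit 95] (nat_lit 0) [nat_lit 0,nat_lit 0,nat_lit 2,nat_lit 2,nat_lit 0]))::[]))) (Srch.rep (nat_lit 509) [] [] [] (Srch.fin [nat_lit 256] [nat_lit 0] (((nat_lit 196),(Leaf.au (nat_lit 3) (nat_lit 16) (nat_lit 0) [[nat_lit 16,nat_lit 11,nat_lit 69,nat_lit 1]] [nat_lit 68,nat_lit 16,nat_lit 8,nat_lit 2,nat_lit 1] [nat_lit 5,nat_lit 1864,nat_lit 5,nat_lit 1800,nat_lit 5] (nat_lit 1) [nat_lit 0,nat_lit 1,nat_lit 69,nat_lit 68,nat_lit 11,nat_lit 10,nat_lit 78,nat_lit 79,nat_lit 16,nat_lit 17,nat_lit 85,nat_lit 84,nat_lit 27,nat_lit 26,nat_lit 94,nat_lit 95] (nat_lit 0) [nat_lit 0,nat_lit 0,nat_lit 2,nat_lit 2,nat_lit 0]))::(((nat_lit 197),(Leaf.au (nat_lit 3) (nat_lit 16) (nat_lit 0) [[nat_lit 16,nat_lit 11,nat_lit 69,nat_lit 1]] [nat_lit 68,nat_lit 16,nat_lit 8,nat_lit 2,nat_lit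 1] [nat_lit 5,nat_lit 1864,nat_lit 5,nat_lit 1800,nat_lit 5] (nat_lit 1) [nat_lit 0,nat_lit 1,nat_lit 69,nat_lit 68,nat_lit 11,nat_lit 10,nat_lit 78,nat_lit 79,nat_lit 16,nat_lit 17,nat_lit 85,nat_lit 84,nat_lit 27,nat_lit 26,nat_lit 94,nat_lit 95] (nat_lit 0) [nat_lit 0,nat_lit 0,nat_lit 2,nat_lit 2,nat_lit 0]))::[]))) Srch.nil)) (Srch.rep (nat_lit 99) [] [] [] (Srch.rep (nat_lit 484) [] [] [] (Srch.fin [nat_lit 256] [nat_lit 0] (((nat_lit 220),(Leaf.au (nat_lit 3) (nat_lit 16) (nat_lit 0) [[nat_lit 16,nat_lit 11,nat_lit 69,nat_lit 1]] [nat_lit 68,nat_lit 16,nat_lit 8,nat_lit 2,nat_lit 1] [nat_lit 5,nat_lit 1864,nat_lit 5,nat_lit 1800,nat_lit 5] (nat_lit 1) [nat_lit 0,nat_lit 1,nat_lit 69,nat_lit 68,nat_lit 11,nat_lit 10,nat_lit 78,nat_lit 79,nat_lit 16,nat_lit 17,nat_lit 85,nat_lit 84,nat_lit 27,nat_lit 26,nat_lit 94,nat_lit 95] (nat_lit 0) [nat_lit 0,nat_lit 0,nat_lit 2,nat_lit 2,nat_lit 0]))::(((nat_lit 221),(Leaf.au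 (nat_lit 3) (nat_lit 16) (nat_lit 0) [[nat_lit 16,nat_lit 11,nat_lit 69,nat_lit 1]] [nat_lit 68,nat_lit 16,nat_lit 8,nat_lit 2,nat_lit 1] [nat_lit 5,nat_lit 1864,nat_lit 5,nat_lit 1800,nat_lit 5] (nat_lit 1) [nat_lit 0,nat_lit 1,nat_lit 69,nat_lit 68,nat_lit 11,nat_lit 10,nat_lit 78,nat_lit 79,nat_lit 16,nat_lit 17,nat_lit 85,nat_lit 84,nat_lit 27,nat_lit 26,nat_lit 94,nat_lit 95] (nat_lit 0) [nat_lit 0,nat_lit 0,nat_lit 2,nat_lit 2,nat_lit 0]))::[]))) (Srch.rep (nat_lit 485) [] [] [] (Srch.fin [nat_lit 256] [nat_lit 0] (((nat_lit 220),(Leaf.au (nat_lit 3) (nat_lit 16) (nat_lit 0) [[nat_lit 16,nat_lit 11,nat_lit 69,nat_lit 1]] [nat_lit 68,nat_lit 16,nat_lit 8,nat_lit 2,nat_lit 1] [nat_lit 5,nat_lit 1864,nat_lit 5,nat_lit 1800,nat_lit 5] (nat_lit 1) [nat_lit 0,nat_lit 1,nat_lit 69,nat_lit 68,nat_lit 11,nat_lit 10,nat_lit 78,nat_lit 79,nat_lit 16,nat_lit 17,nat_lit 85,nat_lit 84,nat_lit 27,nat_lit 26,nat_lit 94,nat_lit 95]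 (nat_lit 0) [nat_lit 0,nat_lit 0,nat_lit 2,nat_lit 2,nat_lit 0]))::(((nat_lit 221),(Leaf.au (nat_lit 3) (nat_lit 16) (nat_lit 0) [[nat_lit 16,nat_lit 11,nat_lit 69,nat_lit 1]] [nat_lit 68,nat_lit 16,nat_lit 8,nat_lit 2,nat_lit 1] [nat_lit 5,nat_lit 1864,nat_lit 5,nat_lit 1800,nat_lit 5] (nat_lit 1) [nat_lit 0,nat_lit 1,nat_lit 69,nat_lit 68,nat_lit 11,nat_lit 10,nat_lit 78,nat_lit 79,nat_lit 16,nat_lit 17,nat_lit 85,nat_lit 84,nat_lit 27,nat_lit 26,nat_lit 94,nat_lit 95] (nat_lit 0) [nat_lit 0,nat_lit 0,nat_lit 2,nat_lit 2,nat_lit 0]))::[]))) Srch.nil)) Srch.nil)) Srch.nil) Srch.nil)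
noncomputable def t174 : ℕ := nat_lit 0x1000100012001200120012001000100011e011e013e013e013f013f011f011f011e011e013e013e013f013f011f011f0101010101210121012101210101010101000100012001200120012001000100011e011e013e013e013f013f011f011f011e011e013e013e013f013f011f011f0101010101210121012101210101010101e301e301c201c201c201c201e301e301fd01fd01dc01dc01dd01dd01fc01fc01fd01fd01dc01dc01dd01dd01fc01fc01e201e201c301c301c301c301e201e201e301e301c201c201c201c201e301e301fd01fd01dc01dc01dd01dd01fc01fc01fd01fd01dc01dc01dd01dd01fc01fc01e201e201c301c301c301c301e201e201c201c201e301e301e301e301c201c201dc01dc01fd01fd01fc01fc01dd01dd01dc01dc01fd01fd01fc01fc01dd01dd01c301c301e201e201e201e201c301c301c201c201e301e301e301e301c201c201dc01dc01fd01fd01fc01fc01dd01dd01dc01dc01fd01fd01fc01fc01dd01dd01c301c301e201e201e201e201c301c301200120010001000100010001200120013e013e011e011e011f011f013f013f013e013e011e011e011f011f013f013f012101210101010101010101012101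2101200120010001000100010001200120013e013e011e011e011f011f013f013f013e013e011e011e011f011f013f013f0121012101010101010101010121012101210121010101010101010101210121013f013f011f011f011e011e013e013e013f013f011f011f011e011e013e013e0120012001000100010001000120012001210121010101010101010101210121013f013f011f011f011e011e013e013e013f013f011f011f011e011e013e013e0120012001000100010001000120012001c201c201e301e301e301e301c201c201dc01dc01fd01fd01fc01fc01dd01dd01dc01dc01fd01fd01fc01fc01dd01dd01c301c301e201e201e201e201c301c301c201c201e301e301e301e301c201c201dc01dc01fd01fd01fc01fc01dd01dd01dc01dc01fd01fd01fc01fc01dd01dd01c301c301e201e201e201e201c301c301e301e301c201c201c201c201e301e301fd01fd01dc01dc01dd01dd01fc01fc01fd01fd01dc01dc01dd01dd01fc01fc01e201e201c301c301c301c301e201e201e301e301c201c201c201c201e301e301fd01fd01dc01dc01dd01dd01fc01fc01fd01fd01dc01dc01dd01dd01fc01fc01e201e201c301c301c301c301e201e201010101012101210121012101010101011f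011f013f013f013e013e011e011e011f011f013f013f013e013e011e011e0100010001200120012001200100010001010101012101210121012101010101011f011f013f013f013e013e011e011e011f011f013f013f013e013e011e011e01000100012001200120012001000100008000800080008000a300a300a200a200a200a200a300a3008000800080008000a300a300a200a20081008100810081008100810081008100a200a200a300a3008000800080008000a300a300a200a200a200a200a300a3008000800080008000a300a300a200a20081008100810081008100810081008100a200a200a300a3008000800080008000a300a300a200a200a200a200a300a3008000800080008000a300a300a200a20081008100810081008100810081008100a200a200a300a3008000800080008000a300a300a200a200a200a200a300a3008000800080008000a300a300a200a20081008100810081008100810081008100a200a200a300a300a200a200a300a30081008100810081008100810081008100a300a300a200a2008000800080008000a200a200a300a300a300a300a200a2008000800080008000a200a200a300a30081008100810081008100810081008100a300a300a200a20080008000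80008000a200a200a300a300a300a300a200a2008000800080008000a200a200a300a30081008100810081008100810081008100a300a300a200a2008000800080008000a200a200a300a300a300a300a200a2008000800080008000a200a200a300a30081008100810081008100810081008100a300a300a200a2008000800080008000a200a200a300a300a300a300a200a200800080008000800040004000400040004200420043004300410041004100410043004300420042004000400040004000420042004300430041004100410041004300430042004200400040004000400042004200430043004100410041004100430043004200420040004000400040004200420043004300410041004100410043004300420042004300430042004200410041004100410042004200430043004000400040004000430043004200420041004100410041004200420043004300400040004000400043004300420042004100410041004100420042004300430040004000400040004300430042004200410041004100410042004200430043004000400040004000200020002000200020002000200020002100210021002100210021002100210021002100210021002100210021002100200020002000200020002000200020002000200020002000200020002000200021002100210021002100210021002100210021002100210021002100210021002000200020002000200020002000200010001000100010001000100010001000100010001000100010001000100010001000100010001000100010001000100010001000100010001000100010001000090009000900090009000900090009000800080008000800080008000800080004000400050005000500050004000400030003000200020001000100000000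
noncomputable def c174 : Node :=
  (Node.st (nat_lit 0) (nat_lit 10) (nat_lit 0) (Node.st (nat_lit 2) (nat_lit 0) (nat_lit 10) (Node.st (nat_lit 0) (nat_lit 14) (nat_lit 0) (Node.st (nat_lit 2) (nat_lit 2) (nat_lit 5) (Node.st (nat_lit 0) (nat_lit 78) (nat_lit 0) (Node.st (nat_lit 2) (nat_lit 2) (nat_lit 9) (Node.st (nat_lit 0) (nat_lit 85) (nat_lit 0) (Node.sp (nat_lit 1) (Node.lf (Leaf.pt (nat_lit 9) (nat_lit 1) [nat_lit 10])) (Node.sp (nat_lit 26) (Node.lf (Leaf.pt (nat_lit 9) (nat_lit 26) [nat_lit 10])) (Node.st (nat_lit 0) (nat_lit 26) (nat_lit 0) (Node.sp (nat_lit 28) (Node.lf (Leaf.pt (nat_lit 9) (nat_lit 28) [nat_lit 12])) (Node.st (nat_lit 0) (nat_lit 28) (nat_lit 0) (Node.sp (nat_lit 32) (Node.lf (Leaf.pt (nat_lit 12) (nat_lit 32) [nat_lit 28,nat_lit 196])) (Node.st (nat_lit 0) (nat_lit 32) (nat_lit 0) (Node.sp (nat_lit 68) (Node.lf (Leaf.pt (nat_lit 9) (nat_lit 68) [nat_lit 10])) (Node.st (nat_lit 0) (nat_lit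 68) (nat_lit 0) (Node.sp (nat_lit 92) (Node.lf (Leaf.pt (nat_lit 9) (nat_lit 92) [nat_lit 10])) (Node.st (nat_lit 0) (nat_lit 92) (nat_lit 0) (Node.sp (nat_lit 220) (Node.lf (Leaf.pt (nat_lit 9) (nat_lit 220) [nat_lit 76])) (Node.st (nat_lit 0) (nat_lit 220) (nat_lit 0) (Node.ext [[nat_lit 32,nat_lit 16,nat_lit 8,nat_lit 4,nat_lit 2,nat_lit 1]] (nat_lit 10) [Ins.ts (nat_lit 4) [nat_lit 0] [nat_lit 10,nat_lit 0,nat_lit 0],Ins.fr [nat_lit 0],Ins.ts (nat_lit 1) [nat_lit 0,nat_lit 0] [],Ins.ts (nat_lit 1) [nat_lit 0,nat_lit 0,nat_lit 0,nat_lit 0] [],Ins.fr [nat_lit 1],Ins.ts (nat_lit 1) [nat_lit 0,nat_lit 0] [],Ins.ts (nat_lit 0) [nat_lit 0,nat_lit 1,nat_lit 1,nat_lit 0] [],Ins.ts (nat_lit 0) [nat_lit 1,nat_lit 1,nat_lit 1] [nat_lit 0,nat_lit 1,nat_lit 0],Ins.ts (nat_lit 2) [nat_lit 0,nat_lit 0,nat_lit 1,nat_lit 0] [],Ins.fr [nat_lit 2],Ins.ts (nat_lit 1) [nat_lit 0,nat_lit 0] [],Ins.ts (nat_lit 4) [nat_lit 0] [nat_lit 37,nat_lit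 0,nat_lit 0],Ins.ts (nat_lit 2) [nat_lit 1,nat_lit 0] [],Ins.ts (nat_lit 0) [nat_lit 0,nat_lit 2,nat_lit 0,nat_lit 2] [],Ins.ts (nat_lit 2) [nat_lit 1,nat_lit 0,nat_lit 2] [],Ins.fr [nat_lit 0,nat_lit 0,nat_lit 3],Ins.ts (nat_lit 4) [nat_lit 0] [nat_lit 5,nat_lit 0,nat_lit 0],Ins.ts (nat_lit 1) [nat_lit 0,nat_lit 0] [],Ins.ts (nat_lit 2) [nat_lit 4,nat_lit 0] [],Ins.ts (nat_lit 0) [nat_lit 2,nat_lit 0,nat_lit 2] [nat_lit 0],Ins.ts (nat_lit 0) [nat_lit 1,nat_lit 0] [nat_lit 0,nat_lit 1],Ins.fr [nat_lit 0,nat_lit 1,nat_lit 2,nat_lit 2,nat_lit 4],Ins.ts (nat_lit 0) [nat_lit 0,nat_lit 3,nat_lit 0] [nat_lit 3],Ins.ts (nat_lit 0) [nat_lit 4,nat_lit 0] [nat_lit 0,nat_lit 4],Ins.fr [nat_lit 3,nat_lit 2,nat_lit 4],Ins.ts (nat_lit 0) [nat_lit 3,nat_lit 2] [nat_lit 0,nat_lit 0],Ins.ts (nat_lit 0) [nat_lit 6,nat_lit 1,nat_lit 6] [nat_lit 0,nat_lit 5,nat_lit 0],Ins.df [nat_lit 2,nat_lit 2],Ins.df [nat_lit 6,nat_lit 6],Ins.df [nat_lit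 0,nat_lit 1,nat_lit 8],Ins.df [nat_lit 1,nat_lit 7,nat_lit 8],Ins.df [nat_lit 2,nat_lit 5,nat_lit 5],Ins.df [nat_lit 0,nat_lit 10]] [nat_lit 96,nat_lit 112,nat_lit 36,nat_lit 4,nat_lit 128,nat_lit 256] [nat_lit 5,nat_lit 4,nat_lit 8,nat_lit 3,nat_lit 2,nat_lit 1,nat_lit 0,nat_lit 7,nat_lit 6] (Srch.ex0 [nat_lit 68,nat_lit 36,nat_lit 16,nat_lit 8,nat_lit 2,nat_lit 1] (Srch.rep (nat_lit 12) [nat_lit 4,nat_lit 16,nat_lit 128] [nat_lit 128,nat_lit 34,nat_lit 16,nat_lit 8,nat_lit 4,nat_lit 1] [nat_lit 256,nat_lit 64,nat_lit 2] (Srch.rep (nat_lit 128) [nat_lit 128] [] [] (Srch.rep (nat_lit 182) [nat_lit 34] [] [] c174_0 Srch.nil) (Srch.rep (nat_lit 140) [nat_lit 128] [] [] (Srch.rep (nat_lit 186) [] [] [] Srch.nil Srch.nil) (Srch.rep (nat_lit 148) [nat_lit 148] [] [] (Srch.rep (nat_lit 162) [] [] [] Srch.nil Srch.nil) (Srch.rep (nat_lit 152) [nat_lit 148] [] [] (Srch.rep (nat_lit 174) [nat_lit 34] [] [] (Srch.rep (nat_lit 4) [nat_lit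 12] [] [] (Srch.rep (nat_lit 36) [] [] [] (Srch.rep (nat_lit 121) [] [] [] (Srch.rep (nat_lit 256) [] [] [] (Srch.fin [nat_lit 256,nat_lit 64] [] []) (Srch.rep (nat_lit 257) [] [] [] (Srch.fin [nat_lit 256,nat_lit 64] [] []) Srch.nil)) (Srch.rep (nat_lit 120) [] [] [] (Srch.rep (nat_lit 280) [] [] [] (Srch.fin [nat_lit 256] [nat_lit 0] (((nat_lit 0),(Leaf.pt (nat_lit 17) (nat_lit 76) [nat_lit 798,nat_lit 128]))::(((nat_lit 1),(Leaf.pt (nat_lit 17) (nat_lit 76) [nat_lit 772,nat_lit 128]))::[]))) (Srch.rep (nat_lit 281) [] [] [] (Srch.fin [nat_lit 256] [nat_lit 0] (((nat_lit 0),(Leaf.pt (nat_lit 17) (nat_lit 76) [nat_lit 772,nat_lit 128]))::(((nat_lit 1),(Leaf.pt (nat_lit 17) (nat_lit 76) [nat_lit 798,nat_lit 128]))::[]))) Srch.nil)) Srch.nil)) Srch.nil) (Srch.rep (nat_lit 38) [nat_lit 12] [] [] (Srch.rep (nat_lit 7) [] [] [] (Srch.rep (nat_lit 122) [] [] [] (Srch.rep (nat_lit 484) [] [] [] (Srch.fin [nat_lit 256] [nat_lit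 0] (((nat_lit 196),(Leaf.pt (nat_lit 12) (nat_lit 76) [nat_lit 70,nat_lit 896]))::(((nat_lit 197),(Leaf.pt (nat_lit 12) (nat_lit 76) [nat_lit 220,nat_lit 896]))::[]))) (Srch.rep (nat_lit 485) [] [] [] (Srch.fin [nat_lit 256] [nat_lit 0] (((nat_lit 196),(Leaf.pt (nat_lit 12) (nat_lit 76) [nat_lit 220,nat_lit 896]))::(((nat_lit 197),(Leaf.pt (nat_lit 12) (nat_lit 76) [nat_lit 70,nat_lit 896]))::[]))) Srch.nil)) (Srch.rep (nat_lit 123) [] [] [] (Srch.rep (nat_lit 508) [] [] [] (Srch.fin [nat_lit 256] [nat_lit 0] (((nat_lit 220),(Leaf.pt (nat_lit 12) (nat_lit 76) [nat_lit 70,nat_lit 896]))::(((nat_lit 221),(Leaf.pt (nat_lit 12) (nat_lit 76) [nat_lit 220,nat_lit 896]))::[]))) (Srch.rep (nat_lit 509) [] [] [] (Srch.fin [nat_lit 256] [nat_lit 0] (((nat_lit 220),(Leaf.pt (nat_lit 12) (nat_lit 76) [nat_lit 220,nat_lit 896]))::(((nat_lit 221),(Leaf.pt (nat_lit 12) (nat_lit 76) [nat_lit 70,nat_lit 896]))::[]))) Srch.nil)) Srch.nil))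 Srch.nil) Srch.nil)) Srch.nil) Srch.nil)))) Srch.nil)) (Node.lf (Leaf.au (nat_lit 1) (nat_lit 0) (nat_lit 0) [] [] [nat_lit 3,nat_lit 1] (nat_lit 0) [] (nat_lit 32) [nat_lit 0,nat_lit 2,nat_lit 36,nat_lit 10,nat_lit 10,nat_lit 32,nat_lit 96,nat_lit 160,nat_lit 288])))))))))))))))))))))))
theorem ok174 : nodeOK DB PT 174 t174 (nat_lit 0xcc0000cccc0000cc000000000000000000000000000000003c00003c3c00003cf0000000f0000000f00c0cf0f00303f0f00000f0f0f0f0f0fcfc0303fc03fc03) (nat_lit 0x110011000000000000000000110011001100110000000000000000001100110000000000000000000000000000000000000000000000000000000000000000000000000000000000000000000000000000000000000000000000000000000000001111000000000000000000001111000011110000000000000000000011110011110000000000000000000000000000111100000000000000000000000000001111000000002200000022001111000011110000000000220000002211110000111100000000000000000000111100001111000011110000111100001111000011112200111122000000003300000033111122000000005511112200000000ff)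 c174 = true := by
  decide +kernel
noncomputable def c175_0 : Srch :=
  Srch.rep (nat_lit 4) [nat_lit 12] [] [] (Srch.rep (nat_lit 36) [] [] [] (Srch.rep (nat_lit 97) [] [] [] (Srch.rep (nat_lit 280) [] [] [] (Srch.fin [nat_lit 256,nat_lit 64] [] []) (Srch.rep (nat_lit 281) [] [] [] (Srch.fin [nat_lit 256,nat_lit 64] [] []) Srch.nil)) (Srch.rep (nat_lit 96) [] [] [] (Srch.rep (nat_lit 256) [] [] [] (Srch.fin [nat_lit 256] [nat_lit 0] (((nat_lit 0),(Leaf.au (nat_lit 2) (nat_lit 16) (nat_lit 1) [[nat_lit 32,nat_lit 16,nat_lit 8,nat_lit 4,nat_lit 2,nat_lit 1]] [nat_lit 64,nat_lit 32,nat_lit 16,nat_lit 8,nat_lit 4,nat_lit 2,nat_lit 1] [nat_lit 1,nat_lit 1928,nat_lit 3] (nat_lit 2) [] (nat_lit 0) [nat_lit 64,nat_lit 32,nat_lit 8,nat_lit 8,nat_lit 4,nat_lit 2,nat_lit 0]))::(((nat_lit 1),(Leaf.au (nat_lit 2) (nat_lit 16) (nat_lit 1) [[nat_lit 32,nat_lit 16,nat_lit 8,nat_lit 4,nat_lit 2,nat_lit 1]] [nat_lit 64,nat_lit 32,nat_lit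 16,nat_lit 8,nat_lit 4,nat_lit 2,nat_lit 1] [nat_lit 1,nat_lit 1928,nat_lit 3] (nat_lit 2) [] (nat_lit 0) [nat_lit 64,nat_lit 32,nat_lit 8,nat_lit 8,nat_lit 4,nat_lit 2,nat_lit 0]))::[]))) (Srch.rep (nat_lit 257) [] [] [] (Srch.fin [nat_lit 256] [nat_lit 0] (((nat_lit 0),(Leaf.au (nat_lit 2) (nat_lit 16) (nat_lit 1) [[nat_lit 32,nat_lit 16,nat_lit 8,nat_lit 4,nat_lit 2,nat_lit 1]] [nat_lit 64,nat_lit 32,nat_lit 16,nat_lit 8,nat_lit 4,nat_lit 2,nat_lit 1] [nat_lit 1,nat_lit 1928,nat_lit 3] (nat_lit 2) [] (nat_lit 0) [nat_lit 64,nat_lit 32,nat_lit 8,nat_lit 8,nat_lit 4,nat_lit 2,nat_lit 0]))::(((nat_lit 1),(Leaf.au (nat_lit 2) (nat_lit 16) (nat_lit 1) [[nat_lit 32,nat_lit 16,nat_lit 8,nat_lit 4,nat_lit 2,nat_lit 1]] [nat_lit 64,nat_lit 32,nat_lit 16,nat_lit 8,nat_lit 4,nat_lit 2,nat_lit 1] [nat_lit 1,nat_lit 1928,nat_lit 3] (nat_lit 2) [] (nat_lit 0) [nat_lit 64,nat_lit 32,nat_lit 8,nat_lit 8,nat_lit 4,nat_lit 2,nat_lit 0]))::[])))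 Srch.nil)) Srch.nil)) Srch.nil) (Srch.rep (nat_lit 38) [nat_lit 12] [] [] (Srch.rep (nat_lit 7) [] [] [] (Srch.rep (nat_lit 98) [] [] [] (Srch.rep (nat_lit 508) [] [] [] (Srch.fin [nat_lit 256] [nat_lit 0] (((nat_lit 196),(Leaf.au (nat_lit 3) (nat_lit 16) (nat_lit 0) [[nat_lit 16,nat_lit 11,nat_lit 69,nat_lit 1]] [nat_lit 68,nat_lit 16,nat_lit 8,nat_lit 2,nat_lit 1] [nat_lit 5,nat_lit 1864,nat_lit 5,nat_lit 1800,nat_lit 5] (nat_lit 1) [nat_lit 0,nat_lit 1,nat_lit 69,nat_lit 68,nat_lit 11,nat_lit 10,nat_lit 78,nat_lit 79,nat_lit 16,nat_lit 17,nat_lit 85,nat_lit 84,nat_lit 27,nat_lit 26,nat_lit 94,nat_lit 95] (nat_lit 0) [nat_lit 0,nat_lit 0,nat_lit 2,nat_lit 2,nat_lit 0]))::(((nat_lit 197),(Leaf.au (nat_lit 3) (nat_lit 16) (nat_lit 0) [[nat_lit 16,nat_lit 11,nat_lit 69,nat_lit 1]] [nat_lit 68,nat_lit 16,nat_lit 8,nat_lit 2,nat_lit 1] [nat_lit 5,nat_lit 1864,nat_lit 5,nat_lit 1800,nat_lit 5] (nat_lit 1) [nat_lit 0,nat_lit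 1,nat_lit 69,nat_lit 68,nat_lit 11,nat_lit 10,nat_lit 78,nat_lit 79,nat_lit 16,nat_lit 17,nat_lit 85,nat_lit 84,nat_lit 27,nat_lit 26,nat_lit 94,nat_lit 95] (nat_lit 0) [nat_lit 0,nat_lit 0,nat_lit 2,nat_lit 2,nat_lit 0]))::[]))) (Srch.rep (nat_lit 509) [] [] [] (Srch.fin [nat_lit 256] [nat_lit 0] (((nat_lit 196),(Leaf.au (nat_lit 3) (nat_lit 16) (nat_lit 0) [[nat_lit 16,nat_lit 11,nat_lit 69,nat_lit 1]] [nat_lit 68,nat_lit 16,nat_lit 8,nat_lit 2,nat_lit 1] [nat_lit 5,nat_lit 1864,nat_lit 5,nat_lit 1800,nat_lit 5] (nat_lit 1) [nat_lit 0,nat_lit 1,nat_lit 69,nat_lit 68,nat_lit 11,nat_lit 10,nat_lit 78,nat_lit 79,nat_lit 16,nat_lit 17,nat_lit 85,nat_lit 84,nat_lit 27,nat_lit 26,nat_lit 94,nat_lit 95] (nat_lit 0) [nat_lit 0,nat_lit 0,nat_lit 2,nat_lit 2,nat_lit 0]))::(((nat_lit 197),(Leaf.au (nat_lit 3) (nat_lit 16) (nat_lit 0) [[nat_lit 16,nat_lit 11,nat_lit 69,nat_lit 1]] [nat_lit 68,nat_lit 16,nat_lit 8,nat_lit 2,nat_lit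 1] [nat_lit 5,nat_lit 1864,nat_lit 5,nat_lit 1800,nat_lit 5] (nat_lit 1) [nat_lit 0,nat_lit 1,nat_lit 69,nat_lit 68,nat_lit 11,nat_lit 10,nat_lit 78,nat_lit 79,nat_lit 16,nat_lit 17,nat_lit 85,nat_lit 84,nat_lit 27,nat_lit 26,nat_lit 94,nat_lit 95] (nat_lit 0) [nat_lit 0,nat_lit 0,nat_lit 2,nat_lit 2,nat_lit 0]))::[]))) Srch.nil)) (Srch.rep (nat_lit 99) [] [] [] (Srch.rep (nat_lit 484) [] [] [] (Srch.fin [nat_lit 256] [nat_lit 0] (((nat_lit 220),(Leaf.au (nat_lit 3) (nat_lit 16) (nat_lit 0) [[nat_lit 16,nat_lit 11,nat_lit 69,nat_lit 1]] [nat_lit 68,nat_lit 16,nat_lit 8,nat_lit 2,nat_lit 1] [nat_lit 5,nat_lit 1864,nat_lit 5,nat_lit 1800,nat_lit 5] (nat_lit 1) [nat_lit 0,nat_lit 1,nat_lit 69,nat_lit 68,nat_lit 11,nat_lit 10,nat_lit 78,nat_lit 79,nat_lit 16,nat_lit 17,nat_lit 85,nat_lit 84,nat_lit 27,nat_lit 26,nat_lit 94,nat_lit 95] (nat_lit 0) [nat_lit 0,nat_lit 0,nat_lit 2,nat_lit 2,nat_lit 0]))::(((nat_lit 221),(Leaf.au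 (nat_lit 3) (nat_lit 16) (nat_lit 0) [[nat_lit 16,nat_lit 11,nat_lit 69,nat_lit 1]] [nat_lit 68,nat_lit 16,nat_lit 8,nat_lit 2,nat_lit 1] [nat_lit 5,nat_lit 1864,nat_lit 5,nat_lit 1800,nat_lit 5] (nat_lit 1) [nat_lit 0,nat_lit 1,nat_lit 69,nat_lit 68,nat_lit 11,nat_lit 10,nat_lit 78,nat_lit 79,nat_lit 16,nat_lit 17,nat_lit 85,nat_lit 84,nat_lit 27,nat_lit 26,nat_lit 94,nat_lit 95] (nat_lit 0) [nat_lit 0,nat_lit 0,nat_lit 2,nat_lit 2,nat_lit 0]))::[]))) (Srch.rep (nat_lit 485) [] [] [] (Srch.fin [nat_lit 256] [nat_lit 0] (((nat_lit 220),(Leaf.au (nat_lit 3) (nat_lit 16) (nat_lit 0) [[nat_lit 16,nat_lit 11,nat_lit 69,nat_lit 1]] [nat_lit 68,nat_lit 16,nat_lit 8,nat_lit 2,nat_lit 1] [nat_lit 5,nat_lit 1864,nat_lit 5,nat_lit 1800,nat_lit 5] (nat_lit 1) [nat_lit 0,nat_lit 1,nat_lit 69,nat_lit 68,nat_lit 11,nat_lit 10,nat_lit 78,nat_lit 79,nat_lit 16,nat_lit 17,nat_lit 85,nat_lit 84,nat_lit 27,nat_lit 26,nat_lit 94,nat_lit 95]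 (nat_lit 0) [nat_lit 0,nat_lit 0,nat_lit 2,nat_lit 2,nat_lit 0]))::(((nat_lit 221),(Leaf.au (nat_lit 3) (nat_lit 16) (nat_lit 0) [[nat_lit 16,nat_lit 11,nat_lit 69,nat_lit 1]] [nat_lit 68,nat_lit 16,nat_lit 8,nat_lit 2,nat_lit 1] [nat_lit 5,nat_lit 1864,nat_lit 5,nat_lit 1800,nat_lit 5] (nat_lit 1) [nat_lit 0,nat_lit 1,nat_lit 69,nat_lit 68,nat_lit 11,nat_lit 10,nat_lit 78,nat_lit 79,nat_lit 16,nat_lit 17,nat_lit 85,nat_lit 84,nat_lit 27,nat_lit 26,nat_lit 94,nat_lit 95] (nat_lit 0) [nat_lit 0,nat_lit 0,nat_lit 2,nat_lit 2,nat_lit 0]))::[]))) Srch.nil)) Srch.nil)) Srch.nil) Srch.nil)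
noncomputable def t175 : ℕ := nat_lit 0x1010101012101210121012101010101011f011f013f013f013e013e011e011e011f011f013f013f013e013e011e011e0100010001200120012001200100010001010101012101210121012101010101011f011f013f013f013e013e011e011e011f011f013f013f013e013e011e011e0100010001200120012001200100010001e201e201c301c301c301c301e201e201fc01fc01dd01dd01dc01dc01fd01fd01fc01fc01dd01dd01dc01dc01fd01fd01e301e301c201c201c201c201e301e301e201e201c301c301c301c301e201e201fc01fc01dd01dd01dc01dc01fd01fd01fc01fc01dd01dd01dc01dc01fd01fd01e301e301c201c201c201c201e301e301c301c301e201e201e201e201c301c301dd01dd01fc01fc01fd01fd01dc01dc01dd01dd01fc01fc01fd01fd01dc01dc01c201c201e301e301e301e301c201c201c301c301e201e201e201e201c301c301dd01dd01fc01fc01fd01fd01dc01dc01dd01dd01fc01fc01fd01fd01dc01dc01c201c201e301e301e301e301c201c201210121010101010101010101210121013f013f011f011f011e011e013e013e013f013f011f011f011e011e013e013e012001200100010001000100012001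2001210121010101010101010101210121013f013f011f011f011e011e013e013e013f013f011f011f011e011e013e013e0120012001000100010001000120012001210121010101010101010101210121013f013f011f011f011e011e013e013e013f013f011f011f011e011e013e013e0120012001000100010001000120012001210121010101010101010101210121013f013f011f011f011e011e013e013e013f013f011f011f011e011e013e013e0120012001000100010001000120012001c201c201e301e301e301e301c201c201dc01dc01fd01fd01fc01fc01dd01dd01dc01dc01fd01fd01fc01fc01dd01dd01c301c301e201e201e201e201c301c301c201c201e301e301e301e301c201c201dc01dc01fd01fd01fc01fc01dd01dd01dc01dc01fd01fd01fc01fc01dd01dd01c301c301e201e201e201e201c301c301e301e301c201c201c201c201e301e301fd01fd01dc01dc01dd01dd01fc01fc01fd01fd01dc01dc01dd01dd01fc01fc01e201e201c301c301c301c301e201e201e301e301c201c201c201c201e301e301fd01fd01dc01dc01dd01dd01fc01fc01fd01fd01dc01dc01dd01dd01fc01fc01e201e201c301c301c301c301e201e201010101012101210121012101010101011f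011f013f013f013e013e011e011e011f011f013f013f013e013e011e011e0100010001200120012001200100010001010101012101210121012101010101011f011f013f013f013e013e011e011e011f011f013f013f013e013e011e011e01000100012001200120012001000100008000800080008000a300a300a200a200a200a200a300a3008000800080008000a300a300a200a20081008100810081008100810081008100a200a200a300a3008000800080008000a300a300a200a200a200a200a300a3008000800080008000a300a300a200a20081008100810081008100810081008100a200a200a300a3008000800080008000a300a300a200a200a200a200a300a3008000800080008000a300a300a200a20081008100810081008100810081008100a200a200a300a3008000800080008000a300a300a200a200a200a200a300a3008000800080008000a300a300a200a20081008100810081008100810081008100a200a200a300a300a200a200a300a30081008100810081008100810081008100a300a300a200a2008000800080008000a200a200a300a300a300a300a200a2008000800080008000a200a200a300a30081008100810081008100810081008100a300a300a200a20080008000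80008000a200a200a300a300a300a300a200a2008000800080008000a200a200a300a30081008100810081008100810081008100a300a300a200a2008000800080008000a200a200a300a300a300a300a200a2008000800080008000a200a200a300a30081008100810081008100810081008100a300a300a200a2008000800080008000a200a200a300a300a300a300a200a200800080008000800040004000400040004200420043004300410041004100410043004300420042004000400040004000420042004300430041004100410041004300430042004200400040004000400042004200430043004100410041004100430043004200420040004000400040004200420043004300410041004100410043004300420042004300430042004200410041004100410042004200430043004000400040004000430043004200420041004100410041004200420043004300400040004000400043004300420042004100410041004100420042004300430040004000400040004300430042004200410041004100410042004200430043004000400040004000200020002000200020002000200020002100210021002100210021002100210021002100210021002100210021002100200020002000200020002000200020002000200020002000200020002000200021002100210021002100210021002100210021002100210021002100210021002000200020002000200020002000200010001000100010001000100010001000100010001000100010001000100010001000100010001000100010001000100010001000100010001000100010001000090009000900090009000900090009000800080008000800080008000800080004000400050005000500050004000400030003000200020001000100000000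
noncomputable def c175 : Node :=
  (Node.st (nat_lit 0) (nat_lit 10) (nat_lit 0) (Node.st (nat_lit 2) (nat_lit 0) (nat_lit 10) (Node.st (nat_lit 0) (nat_lit 14) (nat_lit 0) (Node.st (nat_lit 2) (nat_lit 2) (nat_lit 5) (Node.st (nat_lit 0) (nat_lit 78) (nat_lit 0) (Node.st (nat_lit 2) (nat_lit 2) (nat_lit 9) (Node.st (nat_lit 0) (nat_lit 85) (nat_lit 0) (Node.sp (nat_lit 1) (Node.lf (Leaf.pt (nat_lit 9) (nat_lit 1) [nat_lit 10])) (Node.sp (nat_lit 26) (Node.lf (Leaf.pt (nat_lit 9) (nat_lit 26) [nat_lit 10])) (Node.st (nat_lit 0) (nat_lit 26) (nat_lit 0) (Node.sp (nat_lit 28) (Node.lf (Leaf.pt (nat_lit 9) (nat_lit 28) [nat_lit 12])) (Node.st (nat_lit 0) (nat_lit 28) (nat_lit 0) (Node.sp (nat_lit 32) (Node.lf (Leaf.pt (nat_lit 12) (nat_lit 32) [nat_lit 28,nat_lit 196])) (Node.st (nat_lit 0) (nat_lit 32) (nat_lit 0) (Node.sp (nat_lit 68) (Node.lf (Leaf.pt (nat_lit 9) (nat_lit 68) [nat_lit 10])) (Node.st (nat_lit 0) (nat_lit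 68) (nat_lit 0) (Node.sp (nat_lit 92) (Node.lf (Leaf.pt (nat_lit 9) (nat_lit 92) [nat_lit 10])) (Node.st (nat_lit 0) (nat_lit 92) (nat_lit 0) (Node.sp (nat_lit 220) (Node.lf (Leaf.pt (nat_lit 9) (nat_lit 220) [nat_lit 76])) (Node.st (nat_lit 0) (nat_lit 220) (nat_lit 0) (Node.ext [[nat_lit 32,nat_lit 16,nat_lit 8,nat_lit 4,nat_lit 2,nat_lit 1]] (nat_lit 10) [Ins.ts (nat_lit 4) [nat_lit 0] [nat_lit 10,nat_lit 0,nat_lit 0],Ins.fr [nat_lit 0],Ins.ts (nat_lit 1) [nat_lit 0,nat_lit 0] [],Ins.ts (nat_lit 1) [nat_lit 0,nat_lit 0,nat_lit 0,nat_lit 0] [],Ins.fr [nat_lit 1],Ins.ts (nat_lit 1) [nat_lit 0,nat_lit 0] [],Ins.ts (nat_lit 0) [nat_lit 0,nat_lit 1,nat_lit 1,nat_lit 0] [],Ins.ts (nat_lit 0) [nat_lit 1,nat_lit 1,nat_lit 1] [nat_lit 0,nat_lit 1,nat_lit 0],Ins.ts (nat_lit 2) [nat_lit 0,nat_lit 0,nat_lit 1,nat_lit 0] [],Ins.fr [nat_lit 2],Ins.ts (nat_lit 1) [nat_lit 0,nat_lit 0] [],Ins.ts (nat_lit 4) [nat_lit 0] [nat_lit 37,nat_lit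 0,nat_lit 0],Ins.ts (nat_lit 2) [nat_lit 1,nat_lit 0] [],Ins.ts (nat_lit 0) [nat_lit 0,nat_lit 2,nat_lit 0,nat_lit 2] [],Ins.ts (nat_lit 2) [nat_lit 1,nat_lit 0,nat_lit 2] [],Ins.fr [nat_lit 0,nat_lit 0,nat_lit 3],Ins.ts (nat_lit 4) [nat_lit 0] [nat_lit 5,nat_lit 0,nat_lit 0],Ins.ts (nat_lit 1) [nat_lit 0,nat_lit 0] [],Ins.ts (nat_lit 2) [nat_lit 4,nat_lit 0] [],Ins.ts (nat_lit 0) [nat_lit 2,nat_lit 0,nat_lit 2] [nat_lit 0],Ins.ts (nat_lit 0) [nat_lit 1,nat_lit 0] [nat_lit 0,nat_lit 1],Ins.fr [nat_lit 0,nat_lit 1,nat_lit 2,nat_lit 2,nat_lit 4],Ins.ts (nat_lit 0) [nat_lit 0,nat_lit 3,nat_lit 0] [nat_lit 3],Ins.ts (nat_lit 0) [nat_lit 4,nat_lit 0] [nat_lit 0,nat_lit 4],Ins.fr [nat_lit 3,nat_lit 2,nat_lit 4],Ins.ts (nat_lit 0) [nat_lit 0,nat_lit 0,nat_lit 3] [nat_lit 2],Ins.ts (nat_lit 0) [nat_lit 0,nat_lit 1,nat_lit 0,nat_lit 5] [],Ins.df [nat_lit 2,nat_lit 2],Ins.df [nat_lit 6,nat_lit 6],Ins.df [nat_lit 2,nat_lit 2],Ins.df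 [nat_lit 0,nat_lit 8],Ins.df [nat_lit 0,nat_lit 10,nat_lit 0],Ins.df [nat_lit 3,nat_lit 9,nat_lit 10]] [nat_lit 96,nat_lit 112,nat_lit 36,nat_lit 4,nat_lit 128,nat_lit 256] [nat_lit 5,nat_lit 4,nat_lit 8,nat_lit 1,nat_lit 0,nat_lit 3,nat_lit 2,nat_lit 7,nat_lit 6] (Srch.ex0 [nat_lit 68,nat_lit 36,nat_lit 16,nat_lit 8,nat_lit 2,nat_lit 1] (Srch.rep (nat_lit 12) [nat_lit 4,nat_lit 16,nat_lit 128] [nat_lit 128,nat_lit 34,nat_lit 16,nat_lit 8,nat_lit 4,nat_lit 1] [nat_lit 256,nat_lit 64,nat_lit 2] (Srch.rep (nat_lit 128) [nat_lit 128] [] [] (Srch.rep (nat_lit 182) [nat_lit 34] [] [] c175_0 Srch.nil) (Srch.rep (nat_lit 140) [nat_lit 128] [] [] (Srch.rep (nat_lit 186) [] [] [] Srch.nil Srch.nil) (Srch.rep (nat_lit 148) [nat_lit 148] [] [] (Srch.rep (nat_lit 162) [] [] [] Srch.nil Srch.nil) (Srch.rep (nat_lit 152) [nat_lit 148] [] [] (Srch.rep (nat_lit 174) [nat_lit 34] [] [] (Srch.rep (nat_lit 4) [nat_lit 12] [] [] (Srch.rep (nat_lit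 36) [] [] [] (Srch.rep (nat_lit 121) [] [] [] (Srch.rep (nat_lit 256) [] [] [] (Srch.fin [nat_lit 256,nat_lit 64] [] []) (Srch.rep (nat_lit 257) [] [] [] (Srch.fin [nat_lit 256,nat_lit 64] [] []) Srch.nil)) (Srch.rep (nat_lit 120) [] [] [] (Srch.rep (nat_lit 280) [] [] [] (Srch.fin [nat_lit 256] [nat_lit 0] (((nat_lit 0),(Leaf.pt (nat_lit 17) (nat_lit 76) [nat_lit 772,nat_lit 128]))::(((nat_lit 1),(Leaf.pt (nat_lit 17) (nat_lit 76) [nat_lit 798,nat_lit 128]))::[]))) (Srch.rep (nat_lit 281) [] [] [] (Srch.fin [nat_lit 256] [nat_lit 0] (((nat_lit 0),(Leaf.pt (nat_lit 17) (nat_lit 76) [nat_lit 798,nat_lit 128]))::(((nat_lit 1),(Leaf.pt (nat_lit 17) (nat_lit 76) [nat_lit 772,nat_lit 128]))::[]))) Srch.nil)) Srch.nil)) Srch.nil) (Srch.rep (nat_lit 38) [nat_lit 12] [] [] (Srch.rep (nat_lit 7) [] [] [] (Srch.rep (nat_lit 122) [] [] [] (Srch.rep (nat_lit 484) [] [] [] (Srch.fin [nat_lit 256] [nat_lit 0] (((nat_lit 196),(Leaf.pt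 (nat_lit 12) (nat_lit 76) [nat_lit 220,nat_lit 896]))::(((nat_lit 197),(Leaf.pt (nat_lit 12) (nat_lit 76) [nat_lit 70,nat_lit 896]))::[]))) (Srch.rep (nat_lit 485) [] [] [] (Srch.fin [nat_lit 256] [nat_lit 0] (((nat_lit 196),(Leaf.pt (nat_lit 12) (nat_lit 76) [nat_lit 70,nat_lit 896]))::(((nat_lit 197),(Leaf.pt (nat_lit 12) (nat_lit 76) [nat_lit 220,nat_lit 896]))::[]))) Srch.nil)) (Srch.rep (nat_lit 123) [] [] [] (Srch.rep (nat_lit 508) [] [] [] (Srch.fin [nat_lit 256] [nat_lit 0] (((nat_lit 220),(Leaf.pt (nat_lit 12) (nat_lit 76) [nat_lit 220,nat_lit 896]))::(((nat_lit 221),(Leaf.pt (nat_lit 12) (nat_lit 76) [nat_lit 70,nat_lit 896]))::[]))) (Srch.rep (nat_lit 509) [] [] [] (Srch.fin [nat_lit 256] [nat_lit 0] (((nat_lit 220),(Leaf.pt (nat_lit 12) (nat_lit 76) [nat_lit 70,nat_lit 896]))::(((nat_lit 221),(Leaf.pt (nat_lit 12) (nat_lit 76) [nat_lit 220,nat_lit 896]))::[]))) Srch.nil)) Srch.nil)) Srch.nil) Srch.nil)) Srch.nil)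 Srch.nil)))) Srch.nil)) (Node.lf (Leaf.au (nat_lit 1) (nat_lit 0) (nat_lit 0) [] [] [nat_lit 3,nat_lit 1] (nat_lit 0) [] (nat_lit 32) [nat_lit 0,nat_lit 2,nat_lit 36,nat_lit 10,nat_lit 10,nat_lit 32,nat_lit 96,nat_lit 160,nat_lit 288])))))))))))))))))))))))
theorem ok175 : nodeOK DB PT 175 t175 (nat_lit 0xf0000000f0000000f00c0cf0f00303f0f00000f0f0f0f0f0fcfc0303fc03fc03) (nat_lit 0x11110000000000000000000000000000111100000000000000000000000000001111000000002200000022001111000011110000000000220000002211110000111100000000000000000000111100001111000011110000111100001111000011112200111122000000003300000033111122000000005511112200000000ff) c175 = true := by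
  decide +kernel
noncomputable def c176_0 : Srch :=
  Srch.rep (nat_lit 4) [nat_lit 12] [] [] (Srch.rep (nat_lit 36) [] [] [] (Srch.rep (nat_lit 121) [] [] [] (Srch.rep (nat_lit 455) [] [] [] (Srch.fin [nat_lit 256] [] []) (Srch.rep (nat_lit 454) [] [] [] (Srch.fin [nat_lit 256] [] []) Srch.nil)) (Srch.rep (nat_lit 120) [] [] [] (Srch.rep (nat_lit 479) [] [] [] (Srch.fin [nat_lit 256] [nat_lit 0] (((nat_lit 0),(Leaf.au (nat_lit 2) (nat_lit 16) (nat_lit 1) [[nat_lit 32,nat_lit 16,nat_lit 8,nat_lit 4,nat_lit 2,nat_lit 1]] [nat_lit 64,nat_lit 32,nat_lit 16,nat_lit 8,nat_lit 4,nat_lit 2,nat_lit 1] [nat_lit 1,nat_lit 1684,nat_lit 3] (nat_lit 2) [] (nat_lit 0) [nat_lit 64,nat_lit 32,nat_lit 8,nat_lit 8,nat_lit 4,nat_lit 2,nat_lit 0]))::(((nat_lit 1),(Leaf.au (nat_lit 2) (nat_lit 16) (nat_lit 1) [[nat_lit 32,nat_lit 16,nat_lit 8,nat_lit 4,nat_lit 2,nat_lit 1]] [nat_lit 64,nat_lit 32,nat_lit 16,nat_lit 8,nat_lit 4,nat_lit 2,nat_lit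 1] [nat_lit 1,nat_lit 1684,nat_lit 3] (nat_lit 2) [] (nat_lit 0) [nat_lit 64,nat_lit 32,nat_lit 8,nat_lit 8,nat_lit 4,nat_lit 2,nat_lit 0]))::[]))) (Srch.rep (nat_lit 478) [] [] [] (Srch.fin [nat_lit 256] [nat_lit 0] (((nat_lit 0),(Leaf.au (nat_lit 2) (nat_lit 16) (nat_lit 1) [[nat_lit 32,nat_lit 16,nat_lit 8,nat_lit 4,nat_lit 2,nat_lit 1]] [nat_lit 64,nat_lit 32,nat_lit 16,nat_lit 8,nat_lit 4,nat_lit 2,nat_lit 1] [nat_lit 1,nat_lit 1684,nat_lit 3] (nat_lit 2) [] (nat_lit 0) [nat_lit 64,nat_lit 32,nat_lit 8,nat_lit 8,nat_lit 4,nat_lit 2,nat_lit 0]))::(((nat_lit 1),(Leaf.au (nat_lit 2) (nat_lit 16) (nat_lit 1) [[nat_lit 32,nat_lit 16,nat_lit 8,nat_lit 4,nat_lit 2,nat_lit 1]] [nat_lit 64,nat_lit 32,nat_lit 16,nat_lit 8,nat_lit 4,nat_lit 2,nat_lit 1] [nat_lit 1,nat_lit 1684,nat_lit 3] (nat_lit 2) [] (nat_lit 0) [nat_lit 64,nat_lit 32,nat_lit 8,nat_lit 8,nat_lit 4,nat_lit 2,nat_lit 0]))::[]))) Srch.nil)) Srch.nil)) Srch.nil)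 (Srch.rep (nat_lit 38) [nat_lit 12] [] [] (Srch.rep (nat_lit 7) [] [] [] (Srch.rep (nat_lit 122) [] [] [] (Srch.rep (nat_lit 290) [] [] [] (Srch.fin [nat_lit 256] [nat_lit 0] (((nat_lit 196),(Leaf.au (nat_lit 3) (nat_lit 16) (nat_lit 0) [[nat_lit 16,nat_lit 11,nat_lit 69,nat_lit 1]] [nat_lit 68,nat_lit 16,nat_lit 8,nat_lit 2,nat_lit 1] [nat_lit 5,nat_lit 1604,nat_lit 5,nat_lit 1540,nat_lit 5] (nat_lit 1) [nat_lit 0,nat_lit 1,nat_lit 69,nat_lit 68,nat_lit 11,nat_lit 10,nat_lit 78,nat_lit 79,nat_lit 16,nat_lit 17,nat_lit 85,nat_lit 84,nat_lit 27,nat_lit 26,nat_lit 94,nat_lit 95] (nat_lit 0) [nat_lit 0,nat_lit 0,nat_lit 2,nat_lit 2,nat_lit 0]))::(((nat_lit 197),(Leaf.au (nat_lit 3) (nat_lit 16) (nat_lit 0) [[nat_lit 16,nat_lit 11,nat_lit 69,nat_lit 1]] [nat_lit 68,nat_lit 16,nat_lit 8,nat_lit 2,nat_lit 1] [nat_lit 5,nat_lit 1604,nat_lit 5,nat_lit 1540,nat_lit 5] (nat_lit 1) [nat_lit 0,nat_lit 1,nat_lit 69,nat_lit 68,nat_lit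 11,nat_lit 10,nat_lit 78,nat_lit 79,nat_lit 16,nat_lit 17,nat_lit 85,nat_lit 84,nat_lit 27,nat_lit 26,nat_lit 94,nat_lit 95] (nat_lit 0) [nat_lit 0,nat_lit 0,nat_lit 2,nat_lit 2,nat_lit 0]))::[]))) (Srch.rep (nat_lit 291) [] [] [] (Srch.fin [nat_lit 256] [nat_lit 0] (((nat_lit 196),(Leaf.au (nat_lit 3) (nat_lit 16) (nat_lit 0) [[nat_lit 16,nat_lit 11,nat_lit 69,nat_lit 1]] [nat_lit 68,nat_lit 16,nat_lit 8,nat_lit 2,nat_lit 1] [nat_lit 5,nat_lit 1604,nat_lit 5,nat_lit 1540,nat_lit 5] (nat_lit 1) [nat_lit 0,nat_lit 1,nat_lit 69,nat_lit 68,nat_lit 11,nat_lit 10,nat_lit 78,nat_lit 79,nat_lit 16,nat_lit 17,nat_lit 85,nat_lit 84,nat_lit 27,nat_lit 26,nat_lit 94,nat_lit 95] (nat_lit 0) [nat_lit 0,nat_lit 0,nat_lit 2,nat_lit 2,nat_lit 0]))::(((nat_lit 197),(Leaf.au (nat_lit 3) (nat_lit 16) (nat_lit 0) [[nat_lit 16,nat_lit 11,nat_lit 69,nat_lit 1]] [nat_lit 68,nat_lit 16,nat_lit 8,nat_lit 2,nat_lit 1] [nat_lit 5,nat_lit 1604,nat_lit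 5,nat_lit 1540,nat_lit 5] (nat_lit 1) [nat_lit 0,nat_lit 1,nat_lit 69,nat_lit 68,nat_lit 11,nat_lit 10,nat_lit 78,nat_lit 79,nat_lit 16,nat_lit 17,nat_lit 85,nat_lit 84,nat_lit 27,nat_lit 26,nat_lit 94,nat_lit 95] (nat_lit 0) [nat_lit 0,nat_lit 0,nat_lit 2,nat_lit 2,nat_lit 0]))::[]))) Srch.nil)) (Srch.rep (nat_lit 123) [] [] [] (Srch.rep (nat_lit 314) [] [] [] (Srch.fin [nat_lit 256] [nat_lit 0] (((nat_lit 220),(Leaf.au (nat_lit 3) (nat_lit 16) (nat_lit 0) [[nat_lit 16,nat_lit 11,nat_lit 69,nat_lit 1]] [nat_lit 68,nat_lit 16,nat_lit 8,nat_lit 2,nat_lit 1] [nat_lit 5,nat_lit 1604,nat_lit 5,nat_lit 1540,nat_lit 5] (nat_lit 1) [nat_lit 0,nat_lit 1,nat_lit 69,nat_lit 68,nat_lit 11,nat_lit 10,nat_lit 78,nat_lit 79,nat_lit 16,nat_lit 17,nat_lit 85,nat_lit 84,nat_lit 27,nat_lit 26,nat_lit 94,nat_lit 95] (nat_lit 0) [nat_lit 0,nat_lit 0,nat_lit 2,nat_lit 2,nat_lit 0]))::(((nat_lit 221),(Leaf.au (nat_lit 3) (nat_lit 16) (nat_lit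 0) [[nat_lit 16,nat_lit 11,nat_lit 69,nat_lit 1]] [nat_lit 68,nat_lit 16,nat_lit 8,nat_lit 2,nat_lit 1] [nat_lit 5,nat_lit 1604,nat_lit 5,nat_lit 1540,nat_lit 5] (nat_lit 1) [nat_lit 0,nat_lit 1,nat_lit 69,nat_lit 68,nat_lit 11,nat_lit 10,nat_lit 78,nat_lit 79,nat_lit 16,nat_lit 17,nat_lit 85,nat_lit 84,nat_lit 27,nat_lit 26,nat_lit 94,nat_lit 95] (nat_lit 0) [nat_lit 0,nat_lit 0,nat_lit 2,nat_lit 2,nat_lit 0]))::[]))) (Srch.rep (nat_lit 315) [] [] [] (Srch.fin [nat_lit 256] [nat_lit 0] (((nat_lit 220),(Leaf.au (nat_lit 3) (nat_lit 16) (nat_lit 0) [[nat_lit 16,nat_lit 11,nat_lit 69,nat_lit 1]] [nat_lit 68,nat_lit 16,nat_lit 8,nat_lit 2,nat_lit 1] [nat_lit 5,nat_lit 1604,nat_lit 5,nat_lit 1540,nat_lit 5] (nat_lit 1) [nat_lit 0,nat_lit 1,nat_lit 69,nat_lit 68,nat_lit 11,nat_lit 10,nat_lit 78,nat_lit 79,nat_lit 16,nat_lit 17,nat_lit 85,nat_lit 84,nat_lit 27,nat_lit 26,nat_lit 94,nat_lit 95] (nat_lit 0) [nat_lit 0,nat_lit 0,nat_lit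 2,nat_lit 2,nat_lit 0]))::(((nat_lit 221),(Leaf.au (nat_lit 3) (nat_lit 16) (nat_lit 0) [[nat_lit 16,nat_lit 11,nat_lit 69,nat_lit 1]] [nat_lit 68,nat_lit 16,nat_lit 8,nat_lit 2,nat_lit 1] [nat_lit 5,nat_lit 1604,nat_lit 5,nat_lit 1540,nat_lit 5] (nat_lit 1) [nat_lit 0,nat_lit 1,nat_lit 69,nat_lit 68,nat_lit 11,nat_lit 10,nat_lit 78,nat_lit 79,nat_lit 16,nat_lit 17,nat_lit 85,nat_lit 84,nat_lit 27,nat_lit 26,nat_lit 94,nat_lit 95] (nat_lit 0) [nat_lit 0,nat_lit 0,nat_lit 2,nat_lit 2,nat_lit 0]))::[]))) Srch.nil)) Srch.nil)) Srch.nil) Srch.nil)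
noncomputable def t176 : ℕ := nat_lit 0x1e701e701c601c601e401e401c401c401f801f801d901d901fa01fa01da01da01f901f901d801d801fb01fb01db01db01e701e701c601c601e401e401c401c401e601e601c701c701e501e501c501c501f901f901d801d801fb01fb01db01db01f801f801d901d901fa01fa01da01da01e601e601c701c701e501e501c501c5011c011c013c013c011f011f013e013e0103010301230123010101010120012001030103012301230101010101200120011d011d013d013d011e011e013f013f011d011d013d013d011e011e013f013f0102010201220122010001000121012101020102012201220100010001210121011c011c013c013c011f011f013e013e013e013e011f011f013d013d011d011d0121012101000100012301230103010301210121010001000123012301030103013f013f011e011e013c013c011c011c013f013f011e011e013c013c011c011c0120012001010101012201220102010201200120010101010122012201020102013e013e011f011f013d013d011d011d01c501c501e501e501c601c601e701e701da01da01fa01fa01d801d801f901f901db01db01fb01fb01d901d901f801f801c501c501e501e501c601c601e701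e701c401c401e401e401c701c701e601e601db01db01fb01fb01d901d901f801f801da01da01fa01fa01d801d801f901f901c401c401e401e401c701c701e601e601000100012001200102010201230123011e011e013e013e011d011d013c013c011f011f013f013f011c011c013d013d0100010001200120010201020123012301010101012101210103010301220122011f011f013f013f011c011c013d013d011e011e013e013e011d011d013c013c0101010101210121010301030122012201fb01fb01da01da01f901f901d901d901e501e501c401c401e601e601c601c601e501e501c401c401e601e601c601c601fa01fa01db01db01f801f801d801d801fa01fa01db01db01f801f801d801d801e401e401c501c501e701e701c701c701e401e401c501c501e701e701c701c701fb01fb01da01da01f901f901d901d901d801d801f801f801da01da01fb01fb01c601c601e601e601c501c501e401e401c601c601e601e601c501c501e401e401d901d901f901f901db01db01fa01fa01d901d901f901f901db01db01fa01fa01c701c701e701e701c401c401e501e501c701c701e701e701c401c401e501e501d801d801f801f801da01da01fb01fb01230123010201020121012101010101013d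013d011c011c013e013e011e011e013c013c011d011d013f013f011f011f0123012301020102012101210101010101220122010301030120012001000100013c013c011d011d013f013f011f011f013d013d011c011c013e013e011e011e01220122010301030120012001000100008000800080008000a300a300a200a200a200a200a300a3008000800080008000a300a300a200a20081008100810081008100810081008100a200a200a300a3008000800080008000a300a300a200a200a200a200a300a3008000800080008000a300a300a200a20081008100810081008100810081008100a200a200a300a3008000800080008000a300a300a200a200a200a200a300a3008000800080008000a300a300a200a20081008100810081008100810081008100a200a200a300a3008000800080008000a300a300a200a200a200a200a300a3008000800080008000a300a300a200a20081008100810081008100810081008100a200a200a300a300a200a200a300a30081008100810081008100810081008100a300a300a200a2008000800080008000a200a200a300a300a300a300a200a2008000800080008000a200a200a300a30081008100810081008100810081008100a300a300a200a20080008000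80008000a200a200a300a300a300a300a200a2008000800080008000a200a200a300a30081008100810081008100810081008100a300a300a200a2008000800080008000a200a200a300a300a300a300a200a2008000800080008000a200a200a300a30081008100810081008100810081008100a300a300a200a2008000800080008000a200a200a300a300a300a300a200a200800080008000800040004000400040004200420043004300410041004100410043004300420042004000400040004000420042004300430041004100410041004300430042004200400040004000400042004200430043004100410041004100430043004200420040004000400040004200420043004300410041004100410043004300420042004300430042004200410041004100410042004200430043004000400040004000430043004200420041004100410041004200420043004300400040004000400043004300420042004100410041004100420042004300430040004000400040004300430042004200410041004100410042004200430043004000400040004000200020002000200020002000200020002100210021002100210021002100210021002100210021002100210021002100200020002000200020002000200020002000200020002000200020002000200021002100210021002100210021002100210021002100210021002100210021002000200020002000200020002000200010001000100010001000100010001000100010001000100010001000100010001000100010001000100010001000100010001000100010001000100010001000090009000900090009000900090009000800080008000800080008000800080004000400050005000500050004000400030003000200020001000100000000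
noncomputable def c176 : Node :=
  (Node.st (nat_lit 0) (nat_lit 10) (nat_lit 0) (Node.st (nat_lit 2) (nat_lit 0) (nat_lit 10) (Node.st (nat_lit 0) (nat_lit 14) (nat_lit 0) (Node.st (nat_lit 2) (nat_lit 2) (nat_lit 5) (Node.st (nat_lit 0) (nat_lit 78) (nat_lit 0) (Node.st (nat_lit 2) (nat_lit 2) (nat_lit 9) (Node.st (nat_lit 0) (nat_lit 85) (nat_lit 0) (Node.sp (nat_lit 1) (Node.lf (Leaf.pt (nat_lit 9) (nat_lit 1) [nat_lit 10])) (Node.sp (nat_lit 26) (Node.lf (Leaf.pt (nat_lit 9) (nat_lit 26) [nat_lit 10])) (Node.st (nat_lit 0) (nat_lit 26) (nat_lit 0) (Node.sp (nat_lit 28) (Node.lf (Leaf.pt (nat_lit 9) (nat_lit 28) [nat_lit 12])) (Node.st (nat_lit 0) (nat_lit 28) (nat_lit 0) (Node.sp (nat_lit 32) (Node.lf (Leaf.pt (nat_lit 12) (nat_lit 32) [nat_lit 28,nat_lit 196])) (Node.st (nat_lit 0) (nat_lit 32) (nat_lit 0) (Node.sp (nat_lit 68) (Node.lf (Leaf.pt (nat_lit 9) (nat_lit 68) [nat_lit 10])) (Node.st (nat_lit 0) (nat_lit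 68) (nat_lit 0) (Node.sp (nat_lit 92) (Node.lf (Leaf.pt (nat_lit 9) (nat_lit 92) [nat_lit 10])) (Node.st (nat_lit 0) (nat_lit 92) (nat_lit 0) (Node.sp (nat_lit 220) (Node.lf (Leaf.pt (nat_lit 9) (nat_lit 220) [nat_lit 76])) (Node.st (nat_lit 0) (nat_lit 220) (nat_lit 0) (Node.ext [[nat_lit 32,nat_lit 16,nat_lit 8,nat_lit 4,nat_lit 2,nat_lit 1]] (nat_lit 10) [Ins.ts (nat_lit 4) [nat_lit 0] [nat_lit 10,nat_lit 0,nat_lit 0],Ins.fr [nat_lit 0],Ins.ts (nat_lit 1) [nat_lit 0,nat_lit 0] [],Ins.ts (nat_lit 1) [nat_lit 0,nat_lit 0,nat_lit 0,nat_lit 0] [],Ins.fr [nat_lit 1],Ins.ts (nat_lit 1) [nat_lit 0,nat_lit 0] [],Ins.ts (nat_lit 0) [nat_lit 0,nat_lit 1,nat_lit 1,nat_lit 0] [],Ins.ts (nat_lit 0) [nat_lit 1,nat_lit 1,nat_lit 1] [nat_lit 0,nat_lit 1,nat_lit 0],Ins.ts (nat_lit 2) [nat_lit 0,nat_lit 0,nat_lit 1,nat_lit 0] [],Ins.fr [nat_lit 2],Ins.ts (nat_lit 1) [nat_lit 0,nat_lit 0] [],Ins.ts (nat_lit 4) [nat_lit 0] [nat_lit 37,nat_lit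 0,nat_lit 0],Ins.ts (nat_lit 2) [nat_lit 1,nat_lit 0] [],Ins.ts (nat_lit 0) [nat_lit 0,nat_lit 2,nat_lit 0,nat_lit 2] [],Ins.ts (nat_lit 2) [nat_lit 1,nat_lit 0,nat_lit 2] [],Ins.fr [nat_lit 0,nat_lit 0,nat_lit 3],Ins.ts (nat_lit 4) [nat_lit 0] [nat_lit 5,nat_lit 0,nat_lit 0],Ins.ts (nat_lit 1) [nat_lit 0,nat_lit 0] [],Ins.ts (nat_lit 2) [nat_lit 4,nat_lit 0] [],Ins.ts (nat_lit 0) [nat_lit 2,nat_lit 0,nat_lit 2] [nat_lit 0],Ins.ts (nat_lit 0) [nat_lit 1,nat_lit 0] [nat_lit 0,nat_lit 1],Ins.fr [nat_lit 0,nat_lit 1,nat_lit 2,nat_lit 2,nat_lit 4],Ins.ts (nat_lit 0) [nat_lit 0,nat_lit 3,nat_lit 0] [nat_lit 3],Ins.ts (nat_lit 0) [nat_lit 4,nat_lit 0] [nat_lit 0,nat_lit 4],Ins.fr [nat_lit 2,nat_lit 3,nat_lit 4],Ins.ts (nat_lit 0) [nat_lit 5,nat_lit 3,nat_lit 1] [nat_lit 0,nat_lit 0],Ins.df [nat_lit 2,nat_lit 2],Ins.df [nat_lit 6,nat_lit 6],Ins.df [nat_lit 0,nat_lit 1,nat_lit 8],Ins.df [nat_lit 1,nat_lit 7,nat_lit 8],Ins.df [nat_lit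 2,nat_lit 5,nat_lit 5],Ins.df [nat_lit 0,nat_lit 10]] [nat_lit 96,nat_lit 112,nat_lit 36,nat_lit 4,nat_lit 128,nat_lit 256] [nat_lit 5,nat_lit 4,nat_lit 8,nat_lit 3,nat_lit 2,nat_lit 1,nat_lit 0,nat_lit 7,nat_lit 6] (Srch.ex0 [nat_lit 68,nat_lit 36,nat_lit 16,nat_lit 8,nat_lit 2,nat_lit 1] (Srch.rep (nat_lit 12) [nat_lit 4,nat_lit 16,nat_lit 128] [nat_lit 128,nat_lit 34,nat_lit 16,nat_lit 8,nat_lit 4,nat_lit 1] [nat_lit 256,nat_lit 64,nat_lit 2] (Srch.rep (nat_lit 128) [nat_lit 128] [] [] (Srch.rep (nat_lit 182) [nat_lit 34] [] [] (Srch.rep (nat_lit 4) [nat_lit 12] [] [] (Srch.rep (nat_lit 36) [] [] [] (Srch.rep (nat_lit 97) [] [] [] (Srch.rep (nat_lit 455) [] [] [] (Srch.fin [nat_lit 256] [] []) (Srch.rep (nat_lit 454) [] [] [] (Srch.fin [nat_lit 256] [] []) Srch.nil)) (Srch.rep (nat_lit 96) [] [] [] (Srch.rep (nat_lit 479) [] [] [] (Srch.fin [nat_lit 256] [nat_lit 0] (((nat_lit 0),(Leaf.pt (nat_lit 17) (nat_lit 76) [nat_lit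 778,nat_lit 138]))::(((nat_lit 1),(Leaf.pt (nat_lit 3) (nat_lit 76) [nat_lit 768,nat_lit 70]))::[]))) (Srch.rep (nat_lit 478) [] [] [] (Srch.fin [nat_lit 256] [nat_lit 0] (((nat_lit 0),(Leaf.pt (nat_lit 3) (nat_lit 76) [nat_lit 768,nat_lit 70]))::(((nat_lit 1),(Leaf.pt (nat_lit 17) (nat_lit 76) [nat_lit 778,nat_lit 138]))::[]))) Srch.nil)) Srch.nil)) Srch.nil) (Srch.rep (nat_lit 38) [nat_lit 12] [] [] (Srch.rep (nat_lit 7) [] [] [] (Srch.rep (nat_lit 98) [] [] [] (Srch.rep (nat_lit 290) [] [] [] (Srch.fin [nat_lit 256] [nat_lit 0] (((nat_lit 196),(Leaf.pt (nat_lit 12) (nat_lit 76) [nat_lit 220,nat_lit 782]))::(((nat_lit 197),(Leaf.pt (nat_lit 12) (nat_lit 76) [nat_lit 70,nat_lit 772]))::[]))) (Srch.rep (nat_lit 291) [] [] [] (Srch.fin [nat_lit 256] [nat_lit 0] (((nat_lit 196),(Leaf.pt (nat_lit 12) (nat_lit 76) [nat_lit 70,nat_lit 772]))::(((nat_lit 197),(Leaf.pt (nat_lit 12) (nat_lit 76) [nat_lit 220,nat_lit 782]))::[])))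 Srch.nil)) (Srch.rep (nat_lit 99) [] [] [] (Srch.rep (nat_lit 314) [] [] [] (Srch.fin [nat_lit 256] [nat_lit 0] (((nat_lit 220),(Leaf.pt (nat_lit 12) (nat_lit 76) [nat_lit 220,nat_lit 782]))::(((nat_lit 221),(Leaf.pt (nat_lit 12) (nat_lit 76) [nat_lit 70,nat_lit 772]))::[]))) (Srch.rep (nat_lit 315) [] [] [] (Srch.fin [nat_lit 256] [nat_lit 0] (((nat_lit 220),(Leaf.pt (nat_lit 12) (nat_lit 76) [nat_lit 70,nat_lit 772]))::(((nat_lit 221),(Leaf.pt (nat_lit 12) (nat_lit 76) [nat_lit 220,nat_lit 782]))::[]))) Srch.nil)) Srch.nil)) Srch.nil) Srch.nil)) Srch.nil) (Srch.rep (nat_lit 140) [nat_lit 128] [] [] (Srch.rep (nat_lit 186) [] [] [] Srch.nil Srch.nil) (Srch.rep (nat_lit 148) [nat_lit 148] [] [] (Srch.rep (nat_lit 162) [] [] [] Srch.nil Srch.nil) (Srch.rep (nat_lit 152) [nat_lit 148] [] [] (Srch.rep (nat_lit 174) [nat_lit 34] [] [] c176_0 Srch.nil) Srch.nil)))) Srch.nil)) (Node.lf (Leaf.au (nat_lit 1) (nat_lit 0) (nat_lit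 0) [] [] [nat_lit 3,nat_lit 1] (nat_lit 0) [] (nat_lit 32) [nat_lit 0,nat_lit 2,nat_lit 36,nat_lit 10,nat_lit 10,nat_lit 32,nat_lit 96,nat_lit 160,nat_lit 290])))))))))))))))))))))))
theorem ok176 : nodeOK DB PT 176 t176 (nat_lit 0xf0000000f0000000f00c0cf0f00303f0f00000f0f0f0f0f0fcfc0303fc03fc03) (nat_lit 0x11110000000000000000000000000000111100000000000000000000000000001111000000002200000022001111000011110000000000220000002211110000111100000000000000000000111100001111000011110000111100001111000011112200111122000000003300000033111122000000005511112200000000ff) c176 = true := by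
  decide +kernel
noncomputable def c177_0 : Srch :=
  Srch.rep (nat_lit 4) [nat_lit 12] [] [] (Srch.rep (nat_lit 36) [] [] [] (Srch.rep (nat_lit 121) [] [] [] (Srch.rep (nat_lit 455) [] [] [] (Srch.fin [nat_lit 256] [] []) (Srch.rep (nat_lit 454) [] [] [] (Srch.fin [nat_lit 256] [] []) Srch.nil)) (Srch.rep (nat_lit 120) [] [] [] (Srch.rep (nat_lit 479) [] [] [] (Srch.fin [nat_lit 256] [nat_lit 0] (((nat_lit 0),(Leaf.au (nat_lit 2) (nat_lit 16) (nat_lit 1) [[nat_lit 32,nat_lit 16,nat_lit 8,nat_lit 4,nat_lit 2,nat_lit 1]] [nat_lit 64,nat_lit 32,nat_lit 16,nat_lit 8,nat_lit 4,nat_lit 2,nat_lit 1] [nat_lit 1,nat_lit 1684,nat_lit 3] (nat_lit 2) [] (nat_lit 0) [nat_lit 64,nat_lit 32,nat_lit 8,nat_lit 8,nat_lit 4,nat_lit 2,nat_lit 0]))::(((nat_lit 1),(Leaf.au (nat_lit 2) (nat_lit 16) (nat_lit 1) [[nat_lit 32,nat_lit 16,nat_lit 8,nat_lit 4,nat_lit 2,nat_lit 1]] [nat_lit 64,nat_lit 32,nat_lit 16,nat_lit 8,nat_lit 4,nat_lit 2,nat_lit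 1] [nat_lit 1,nat_lit 1684,nat_lit 3] (nat_lit 2) [] (nat_lit 0) [nat_lit 64,nat_lit 32,nat_lit 8,nat_lit 8,nat_lit 4,nat_lit 2,nat_lit 0]))::[]))) (Srch.rep (nat_lit 478) [] [] [] (Srch.fin [nat_lit 256] [nat_lit 0] (((nat_lit 0),(Leaf.au (nat_lit 2) (nat_lit 16) (nat_lit 1) [[nat_lit 32,nat_lit 16,nat_lit 8,nat_lit 4,nat_lit 2,nat_lit 1]] [nat_lit 64,nat_lit 32,nat_lit 16,nat_lit 8,nat_lit 4,nat_lit 2,nat_lit 1] [nat_lit 1,nat_lit 1684,nat_lit 3] (nat_lit 2) [] (nat_lit 0) [nat_lit 64,nat_lit 32,nat_lit 8,nat_lit 8,nat_lit 4,nat_lit 2,nat_lit 0]))::(((nat_lit 1),(Leaf.au (nat_lit 2) (nat_lit 16) (nat_lit 1) [[nat_lit 32,nat_lit 16,nat_lit 8,nat_lit 4,nat_lit 2,nat_lit 1]] [nat_lit 64,nat_lit 32,nat_lit 16,nat_lit 8,nat_lit 4,nat_lit 2,nat_lit 1] [nat_lit 1,nat_lit 1684,nat_lit 3] (nat_lit 2) [] (nat_lit 0) [nat_lit 64,nat_lit 32,nat_lit 8,nat_lit 8,nat_lit 4,nat_lit 2,nat_lit 0]))::[]))) Srch.nil)) Srch.nil)) Srch.nil)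 (Srch.rep (nat_lit 38) [nat_lit 12] [] [] (Srch.rep (nat_lit 7) [] [] [] (Srch.rep (nat_lit 122) [] [] [] (Srch.rep (nat_lit 290) [] [] [] (Srch.fin [nat_lit 256] [nat_lit 0] (((nat_lit 196),(Leaf.au (nat_lit 3) (nat_lit 16) (nat_lit 0) [[nat_lit 16,nat_lit 11,nat_lit 69,nat_lit 1]] [nat_lit 68,nat_lit 16,nat_lit 8,nat_lit 2,nat_lit 1] [nat_lit 5,nat_lit 1604,nat_lit 5,nat_lit 1540,nat_lit 5] (nat_lit 1) [nat_lit 0,nat_lit 1,nat_lit 69,nat_lit 68,nat_lit 11,nat_lit 10,nat_lit 78,nat_lit 79,nat_lit 16,nat_lit 17,nat_lit 85,nat_lit 84,nat_lit 27,nat_lit 26,nat_lit 94,nat_lit 95] (nat_lit 0) [nat_lit 0,nat_lit 0,nat_lit 2,nat_lit 2,nat_lit 0]))::(((nat_lit 197),(Leaf.au (nat_lit 3) (nat_lit 16) (nat_lit 0) [[nat_lit 16,nat_lit 11,nat_lit 69,nat_lit 1]] [nat_lit 68,nat_lit 16,nat_lit 8,nat_lit 2,nat_lit 1] [nat_lit 5,nat_lit 1604,nat_lit 5,nat_lit 1540,nat_lit 5] (nat_lit 1) [nat_lit 0,nat_lit 1,nat_lit 69,nat_lit 68,nat_lit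 11,nat_lit 10,nat_lit 78,nat_lit 79,nat_lit 16,nat_lit 17,nat_lit 85,nat_lit 84,nat_lit 27,nat_lit 26,nat_lit 94,nat_lit 95] (nat_lit 0) [nat_lit 0,nat_lit 0,nat_lit 2,nat_lit 2,nat_lit 0]))::[]))) (Srch.rep (nat_lit 291) [] [] [] (Srch.fin [nat_lit 256] [nat_lit 0] (((nat_lit 196),(Leaf.au (nat_lit 3) (nat_lit 16) (nat_lit 0) [[nat_lit 16,nat_lit 11,nat_lit 69,nat_lit 1]] [nat_lit 68,nat_lit 16,nat_lit 8,nat_lit 2,nat_lit 1] [nat_lit 5,nat_lit 1604,nat_lit 5,nat_lit 1540,nat_lit 5] (nat_lit 1) [nat_lit 0,nat_lit 1,nat_lit 69,nat_lit 68,nat_lit 11,nat_lit 10,nat_lit 78,nat_lit 79,nat_lit 16,nat_lit 17,nat_lit 85,nat_lit 84,nat_lit 27,nat_lit 26,nat_lit 94,nat_lit 95] (nat_lit 0) [nat_lit 0,nat_lit 0,nat_lit 2,nat_lit 2,nat_lit 0]))::(((nat_lit 197),(Leaf.au (nat_lit 3) (nat_lit 16) (nat_lit 0) [[nat_lit 16,nat_lit 11,nat_lit 69,nat_lit 1]] [nat_lit 68,nat_lit 16,nat_lit 8,nat_lit 2,nat_lit 1] [nat_lit 5,nat_lit 1604,nat_lit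 5,nat_lit 1540,nat_lit 5] (nat_lit 1) [nat_lit 0,nat_lit 1,nat_lit 69,nat_lit 68,nat_lit 11,nat_lit 10,nat_lit 78,nat_lit 79,nat_lit 16,nat_lit 17,nat_lit 85,nat_lit 84,nat_lit 27,nat_lit 26,nat_lit 94,nat_lit 95] (nat_lit 0) [nat_lit 0,nat_lit 0,nat_lit 2,nat_lit 2,nat_lit 0]))::[]))) Srch.nil)) (Srch.rep (nat_lit 123) [] [] [] (Srch.rep (nat_lit 314) [] [] [] (Srch.fin [nat_lit 256] [nat_lit 0] (((nat_lit 220),(Leaf.au (nat_lit 3) (nat_lit 16) (nat_lit 0) [[nat_lit 16,nat_lit 11,nat_lit 69,nat_lit 1]] [nat_lit 68,nat_lit 16,nat_lit 8,nat_lit 2,nat_lit 1] [nat_lit 5,nat_lit 1604,nat_lit 5,nat_lit 1540,nat_lit 5] (nat_lit 1) [nat_lit 0,nat_lit 1,nat_lit 69,nat_lit 68,nat_lit 11,nat_lit 10,nat_lit 78,nat_lit 79,nat_lit 16,nat_lit 17,nat_lit 85,nat_lit 84,nat_lit 27,nat_lit 26,nat_lit 94,nat_lit 95] (nat_lit 0) [nat_lit 0,nat_lit 0,nat_lit 2,nat_lit 2,nat_lit 0]))::(((nat_lit 221),(Leaf.au (nat_lit 3) (nat_lit 16) (nat_lit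 0) [[nat_lit 16,nat_lit 11,nat_lit 69,nat_lit 1]] [nat_lit 68,nat_lit 16,nat_lit 8,nat_lit 2,nat_lit 1] [nat_lit 5,nat_lit 1604,nat_lit 5,nat_lit 1540,nat_lit 5] (nat_lit 1) [nat_lit 0,nat_lit 1,nat_lit 69,nat_lit 68,nat_lit 11,nat_lit 10,nat_lit 78,nat_lit 79,nat_lit 16,nat_lit 17,nat_lit 85,nat_lit 84,nat_lit 27,nat_lit 26,nat_lit 94,nat_lit 95] (nat_lit 0) [nat_lit 0,nat_lit 0,nat_lit 2,nat_lit 2,nat_lit 0]))::[]))) (Srch.rep (nat_lit 315) [] [] [] (Srch.fin [nat_lit 256] [nat_lit 0] (((nat_lit 220),(Leaf.au (nat_lit 3) (nat_lit 16) (nat_lit 0) [[nat_lit 16,nat_lit 11,nat_lit 69,nat_lit 1]] [nat_lit 68,nat_lit 16,nat_lit 8,nat_lit 2,nat_lit 1] [nat_lit 5,nat_lit 1604,nat_lit 5,nat_lit 1540,nat_lit 5] (nat_lit 1) [nat_lit 0,nat_lit 1,nat_lit 69,nat_lit 68,nat_lit 11,nat_lit 10,nat_lit 78,nat_lit 79,nat_lit 16,nat_lit 17,nat_lit 85,nat_lit 84,nat_lit 27,nat_lit 26,nat_lit 94,nat_lit 95] (nat_lit 0) [nat_lit 0,nat_lit 0,nat_lit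 2,nat_lit 2,nat_lit 0]))::(((nat_lit 221),(Leaf.au (nat_lit 3) (nat_lit 16) (nat_lit 0) [[nat_lit 16,nat_lit 11,nat_lit 69,nat_lit 1]] [nat_lit 68,nat_lit 16,nat_lit 8,nat_lit 2,nat_lit 1] [nat_lit 5,nat_lit 1604,nat_lit 5,nat_lit 1540,nat_lit 5] (nat_lit 1) [nat_lit 0,nat_lit 1,nat_lit 69,nat_lit 68,nat_lit 11,nat_lit 10,nat_lit 78,nat_lit 79,nat_lit 16,nat_lit 17,nat_lit 85,nat_lit 84,nat_lit 27,nat_lit 26,nat_lit 94,nat_lit 95] (nat_lit 0) [nat_lit 0,nat_lit 0,nat_lit 2,nat_lit 2,nat_lit 0]))::[]))) Srch.nil)) Srch.nil)) Srch.nil) Srch.nil)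
noncomputable def t177 : ℕ := nat_lit 0x1e601e601c701c701e501e501c501c501f901f901d801d801fb01fb01db01db01f801f801d901d901fa01fa01da01da01e601e601c701c701e501e501c501c501e701e701c601c601e401e401c401c401f801f801d901d901fa01fa01da01da01f901f901d801d801fb01fb01db01db01e701e701c601c601e401e401c401c4011d011d013d013d011e011e013f013f0102010201220122010001000121012101020102012201220100010001210121011c011c013c013c011f011f013e013e011c011c013c013c011f011f013e013e0103010301230123010101010120012001030103012301230101010101200120011d011d013d013d011e011e013f013f013f013f011e011e013c013c011c011c0120012001010101012201220102010201200120010101010122012201020102013e013e011f011f013d013d011d011d013e013e011f011f013d013d011d011d0121012101000100012301230103010301210121010001000123012301030103013f013f011e011e013c013c011c011c01c401c401e401e401c701c701e601e601db01db01fb01fb01d901d901f801f801da01da01fa01fa01d801d801f901f901c401c401e401e401c701c701e601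e601c501c501e501e501c601c601e701e701da01da01fa01fa01d801d801f901f901db01db01fb01fb01d901d901f801f801c501c501e501e501c601c601e701e701000100012001200102010201230123011e011e013e013e011d011d013c013c011f011f013f013f011c011c013d013d0100010001200120010201020123012301010101012101210103010301220122011f011f013f013f011c011c013d013d011e011e013e013e011d011d013c013c0101010101210121010301030122012201fb01fb01da01da01f901f901d901d901e501e501c401c401e601e601c601c601e501e501c401c401e601e601c601c601fa01fa01db01db01f801f801d801d801fa01fa01db01db01f801f801d801d801e401e401c501c501e701e701c701c701e401e401c501c501e701e701c701c701fb01fb01da01da01f901f901d901d901d801d801f801f801da01da01fb01fb01c601c601e601e601c501c501e401e401c601c601e601e601c501c501e401e401d901d901f901f901db01db01fa01fa01d901d901f901f901db01db01fa01fa01c701c701e701e701c401c401e501e501c701c701e701e701c401c401e501e501d801d801f801f801da01da01fb01fb01230123010201020121012101010101013d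013d011c011c013e013e011e011e013c013c011d011d013f013f011f011f0123012301020102012101210101010101220122010301030120012001000100013c013c011d011d013f013f011f011f013d013d011c011c013e013e011e011e01220122010301030120012001000100008000800080008000a300a300a200a200a200a200a300a3008000800080008000a300a300a200a20081008100810081008100810081008100a200a200a300a3008000800080008000a300a300a200a200a200a200a300a3008000800080008000a300a300a200a20081008100810081008100810081008100a200a200a300a3008000800080008000a300a300a200a200a200a200a300a3008000800080008000a300a300a200a20081008100810081008100810081008100a200a200a300a3008000800080008000a300a300a200a200a200a200a300a3008000800080008000a300a300a200a20081008100810081008100810081008100a200a200a300a300a200a200a300a30081008100810081008100810081008100a300a300a200a2008000800080008000a200a200a300a300a300a300a200a2008000800080008000a200a200a300a30081008100810081008100810081008100a300a300a200a20080008000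80008000a200a200a300a300a300a300a200a2008000800080008000a200a200a300a30081008100810081008100810081008100a300a300a200a2008000800080008000a200a200a300a300a300a300a200a2008000800080008000a200a200a300a30081008100810081008100810081008100a300a300a200a2008000800080008000a200a200a300a300a300a300a200a200800080008000800040004000400040004200420043004300410041004100410043004300420042004000400040004000420042004300430041004100410041004300430042004200400040004000400042004200430043004100410041004100430043004200420040004000400040004200420043004300410041004100410043004300420042004300430042004200410041004100410042004200430043004000400040004000430043004200420041004100410041004200420043004300400040004000400043004300420042004100410041004100420042004300430040004000400040004300430042004200410041004100410042004200430043004000400040004000200020002000200020002000200020002100210021002100210021002100210021002100210021002100210021002100200020002000200020002000200020002000200020002000200020002000200021002100210021002100210021002100210021002100210021002100210021002000200020002000200020002000200010001000100010001000100010001000100010001000100010001000100010001000100010001000100010001000100010001000100010001000100010001000090009000900090009000900090009000800080008000800080008000800080004000400050005000500050004000400030003000200020001000100000000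
noncomputable def c177 : Node :=
  (Node.st (nat_lit 0) (nat_lit 10) (nat_lit 0) (Node.st (nat_lit 2) (nat_lit 0) (nat_lit 10) (Node.st (nat_lit 0) (nat_lit 14) (nat_lit 0) (Node.st (nat_lit 2) (nat_lit 2) (nat_lit 5) (Node.st (nat_lit 0) (nat_lit 78) (nat_lit 0) (Node.st (nat_lit 2) (nat_lit 2) (nat_lit 9) (Node.st (nat_lit 0) (nat_lit 85) (nat_lit 0) (Node.sp (nat_lit 1) (Node.lf (Leaf.pt (nat_lit 9) (nat_lit 1) [nat_lit 10])) (Node.sp (nat_lit 26) (Node.lf (Leaf.pt (nat_lit 9) (nat_lit 26) [nat_lit 10])) (Node.st (nat_lit 0) (nat_lit 26) (nat_lit 0) (Node.sp (nat_lit 28) (Node.lf (Leaf.pt (nat_lit 9) (nat_lit 28) [nat_lit 12])) (Node.st (nat_lit 0) (nat_lit 28) (nat_lit 0) (Node.sp (nat_lit 32) (Node.lf (Leaf.pt (nat_lit 12) (nat_lit 32) [nat_lit 28,nat_lit 196])) (Node.st (nat_lit 0) (nat_lit 32) (nat_lit 0) (Node.sp (nat_lit 68) (Node.lf (Leaf.pt (nat_lit 9) (nat_lit 68) [nat_lit 10])) (Node.st (nat_lit 0) (nat_lit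 68) (nat_lit 0) (Node.sp (nat_lit 92) (Node.lf (Leaf.pt (nat_lit 9) (nat_lit 92) [nat_lit 10])) (Node.st (nat_lit 0) (nat_lit 92) (nat_lit 0) (Node.sp (nat_lit 220) (Node.lf (Leaf.pt (nat_lit 9) (nat_lit 220) [nat_lit 76])) (Node.st (nat_lit 0) (nat_lit 220) (nat_lit 0) (Node.ext [[nat_lit 32,nat_lit 16,nat_lit 8,nat_lit 4,nat_lit 2,nat_lit 1]] (nat_lit 10) [Ins.ts (nat_lit 4) [nat_lit 0] [nat_lit 10,nat_lit 0,nat_lit 0],Ins.fr [nat_lit 0],Ins.ts (nat_lit 1) [nat_lit 0,nat_lit 0] [],Ins.ts (nat_lit 1) [nat_lit 0,nat_lit 0,nat_lit 0,nat_lit 0] [],Ins.fr [nat_lit 1],Ins.ts (nat_lit 1) [nat_lit 0,nat_lit 0] [],Ins.ts (nat_lit 0) [nat_lit 0,nat_lit 1,nat_lit 1,nat_lit 0] [],Ins.ts (nat_lit 0) [nat_lit 1,nat_lit 1,nat_lit 1] [nat_lit 0,nat_lit 1,nat_lit 0],Ins.ts (nat_lit 2) [nat_lit 0,nat_lit 0,nat_lit 1,nat_lit 0] [],Ins.fr [nat_lit 2],Ins.ts (nat_lit 1) [nat_lit 0,nat_lit 0] [],Ins.ts (nat_lit 4) [nat_lit 0] [nat_lit 37,nat_lit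 0,nat_lit 0],Ins.ts (nat_lit 2) [nat_lit 1,nat_lit 0] [],Ins.ts (nat_lit 0) [nat_lit 0,nat_lit 2,nat_lit 0,nat_lit 2] [],Ins.ts (nat_lit 2) [nat_lit 1,nat_lit 0,nat_lit 2] [],Ins.fr [nat_lit 0,nat_lit 0,nat_lit 3],Ins.ts (nat_lit 4) [nat_lit 0] [nat_lit 5,nat_lit 0,nat_lit 0],Ins.ts (nat_lit 1) [nat_lit 0,nat_lit 0] [],Ins.ts (nat_lit 2) [nat_lit 4,nat_lit 0] [],Ins.ts (nat_lit 0) [nat_lit 2,nat_lit 0,nat_lit 2] [nat_lit 0],Ins.ts (nat_lit 0) [nat_lit 1,nat_lit 0] [nat_lit 0,nat_lit 1],Ins.fr [nat_lit 0,nat_lit 1,nat_lit 2,nat_lit 2,nat_lit 4],Ins.ts (nat_lit 0) [nat_lit 0,nat_lit 3,nat_lit 0] [nat_lit 3],Ins.ts (nat_lit 0) [nat_lit 4,nat_lit 0] [nat_lit 0,nat_lit 4],Ins.fr [nat_lit 2,nat_lit 3,nat_lit 4],Ins.ts (nat_lit 0) [nat_lit 1,nat_lit 2,nat_lit 5] [nat_lit 0,nat_lit 0],Ins.df [nat_lit 2,nat_lit 2],Ins.df [nat_lit 6,nat_lit 6],Ins.df [nat_lit 0,nat_lit 1,nat_lit 8],Ins.df [nat_lit 1,nat_lit 7,nat_lit 8],Ins.df [nat_lit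 2,nat_lit 5,nat_lit 5],Ins.df [nat_lit 0,nat_lit 10]] [nat_lit 96,nat_lit 112,nat_lit 36,nat_lit 4,nat_lit 128,nat_lit 256] [nat_lit 5,nat_lit 4,nat_lit 8,nat_lit 3,nat_lit 2,nat_lit 1,nat_lit 0,nat_lit 7,nat_lit 6] (Srch.ex0 [nat_lit 68,nat_lit 36,nat_lit 16,nat_lit 8,nat_lit 2,nat_lit 1] (Srch.rep (nat_lit 12) [nat_lit 4,nat_lit 16,nat_lit 128] [nat_lit 128,nat_lit 34,nat_lit 16,nat_lit 8,nat_lit 4,nat_lit 1] [nat_lit 256,nat_lit 64,nat_lit 2] (Srch.rep (nat_lit 128) [nat_lit 128] [] [] (Srch.rep (nat_lit 182) [nat_lit 34] [] [] (Srch.rep (nat_lit 4) [nat_lit 12] [] [] (Srch.rep (nat_lit 36) [] [] [] (Srch.rep (nat_lit 97) [] [] [] (Srch.rep (nat_lit 455) [] [] [] (Srch.fin [nat_lit 256] [] []) (Srch.rep (nat_lit 454) [] [] [] (Srch.fin [nat_lit 256] [] []) Srch.nil)) (Srch.rep (nat_lit 96) [] [] [] (Srch.rep (nat_lit 479) [] [] [] (Srch.fin [nat_lit 256] [nat_lit 0] (((nat_lit 0),(Leaf.pt (nat_lit 3) (nat_lit 76) [nat_lit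 768,nat_lit 70]))::(((nat_lit 1),(Leaf.pt (nat_lit 17) (nat_lit 76) [nat_lit 778,nat_lit 138]))::[]))) (Srch.rep (nat_lit 478) [] [] [] (Srch.fin [nat_lit 256] [nat_lit 0] (((nat_lit 0),(Leaf.pt (nat_lit 17) (nat_lit 76) [nat_lit 778,nat_lit 138]))::(((nat_lit 1),(Leaf.pt (nat_lit 3) (nat_lit 76) [nat_lit 768,nat_lit 70]))::[]))) Srch.nil)) Srch.nil)) Srch.nil) (Srch.rep (nat_lit 38) [nat_lit 12] [] [] (Srch.rep (nat_lit 7) [] [] [] (Srch.rep (nat_lit 98) [] [] [] (Srch.rep (nat_lit 290) [] [] [] (Srch.fin [nat_lit 256] [nat_lit 0] (((nat_lit 196),(Leaf.pt (nat_lit 12) (nat_lit 76) [nat_lit 70,nat_lit 772]))::(((nat_lit 197),(Leaf.pt (nat_lit 12) (nat_lit 76) [nat_lit 220,nat_lit 782]))::[]))) (Srch.rep (nat_lit 291) [] [] [] (Srch.fin [nat_lit 256] [nat_lit 0] (((nat_lit 196),(Leaf.pt (nat_lit 12) (nat_lit 76) [nat_lit 220,nat_lit 782]))::(((nat_lit 197),(Leaf.pt (nat_lit 12) (nat_lit 76) [nat_lit 70,nat_lit 772]))::[])))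 Srch.nil)) (Srch.rep (nat_lit 99) [] [] [] (Srch.rep (nat_lit 314) [] [] [] (Srch.fin [nat_lit 256] [nat_lit 0] (((nat_lit 220),(Leaf.pt (nat_lit 12) (nat_lit 76) [nat_lit 70,nat_lit 772]))::(((nat_lit 221),(Leaf.pt (nat_lit 12) (nat_lit 76) [nat_lit 220,nat_lit 782]))::[]))) (Srch.rep (nat_lit 315) [] [] [] (Srch.fin [nat_lit 256] [nat_lit 0] (((nat_lit 220),(Leaf.pt (nat_lit 12) (nat_lit 76) [nat_lit 220,nat_lit 782]))::(((nat_lit 221),(Leaf.pt (nat_lit 12) (nat_lit 76) [nat_lit 70,nat_lit 772]))::[]))) Srch.nil)) Srch.nil)) Srch.nil) Srch.nil)) Srch.nil) (Srch.rep (nat_lit 140) [nat_lit 128] [] [] (Srch.rep (nat_lit 186) [] [] [] Srch.nil Srch.nil) (Srch.rep (nat_lit 148) [nat_lit 148] [] [] (Srch.rep (nat_lit 162) [] [] [] Srch.nil Srch.nil) (Srch.rep (nat_lit 152) [nat_lit 148] [] [] (Srch.rep (nat_lit 174) [nat_lit 34] [] [] c177_0 Srch.nil) Srch.nil)))) Srch.nil)) (Node.lf (Leaf.au (nat_lit 1) (nat_lit 0) (nat_lit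 0) [] [] [nat_lit 3,nat_lit 1] (nat_lit 0) [] (nat_lit 32) [nat_lit 0,nat_lit 2,nat_lit 36,nat_lit 10,nat_lit 10,nat_lit 32,nat_lit 96,nat_lit 160,nat_lit 290])))))))))))))))))))))))
theorem ok177 : nodeOK DB PT 177 t177 (nat_lit 0x3c3c00003c3c0000333300003333000000000000000000f0000000f0000000f00c0cf0f00303f0f00000f0f0f0f0f0fcfc0303fc03fc03) (nat_lit 0x1111000011110000000000000000000011110000111100000000000000000000110011001100110000000000000000001100110011001100000000000000000000000000000000000000000000000000000000000000000000000011110000000000000000000000000000111100000000000000000000000000001111000000002200000022001111000011110000000000220000002211110000111100000000000000000000111100001111000011110000111100001111000011112200111122000000003300000033111122000000005511112200000000ff) c177 = true := by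
  decide +kernel

end Cfsg.Agent.L33.Dat
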