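import Mathlib
import Cfsg.Agent.L33.DH

/-!
Certificates.
-/

set_option autoImplicit false
set_option maxRecDepth 100000

namespace Cfsg.Agent.L33.Dat

open Cfsg.Agent.L33

noncomputable def c178_0 : Srch :=
  Srch.rep (nat_lit 16) [nat_lit 4,nat_lit 8,nat_lit 64] [nat_lit 64,nat_lit 16,nat_lit 8,nat_lit 4,nat_lit 2,nat_lit 1] [nat_lit 128,nat_lit 32] (Srch.rep (nat_lit 64) [nat_lit 64] [] [] (Srch.rep (nat_lit 74) [nat_lit 2] [] [] (Srch.rep (nat_lit 4) [nat_lit 16] [] [] (Srch.rep (nat_lit 36) [] [] [] (Srch.rep (nat_lit 160) [] [] [] (Srch.fin [nat_lit 4,nat_lit 64] [nat_lit 0] (((nat_lit 0),(Leaf.au (nat_lit 2) (nat_lit 16) (nat_lit 1) [[nat_lit 32,nat_lit 16,nat_lit 8,nat_lit 4,nat_lit 2,nat_lit 1]] [nat_lit 64,nat_lit 32,nat_lit 16,nat_lit 8,nat_lit 4,nat_lit 2,nat_lit 1] [nat_lit 1,nat_lit 512,nat_lit 3] (nat_lit 2) [] (nat_lit 0) [nat_lit 64,nat_lit 32,nat_lit 8,nat_lit 8,nat_lit 4,nat_lit 2,nat_lit 0]))::(((nat_lit 1),(Leaf.au (nat_lit 2) (nat_lit 16) (nat_lit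 1) [[nat_lit 32,nat_lit 16,nat_lit 8,nat_lit 4,nat_lit 2,nat_lit 1]] [nat_lit 64,nat_lit 32,nat_lit 16,nat_lit 8,nat_lit 4,nat_lit 2,nat_lit 1] [nat_lit 1,nat_lit 512,nat_lit 3] (nat_lit 2) [] (nat_lit 0) [nat_lit 64,nat_lit 32,nat_lit 8,nat_lit 8,nat_lit 4,nat_lit 2,nat_lit 0]))::[]))) (Srch.rep (nat_lit 161) [] [] [] (Srch.fin [nat_lit 4,nat_lit 64] [nat_lit 0] (((nat_lit 0),(Leaf.au (nat_lit 2) (nat_lit 16) (nat_lit 1) [[nat_lit 32,nat_lit 16,nat_lit 8,nat_lit 4,nat_lit 2,nat_lit 1]] [nat_lit 64,nat_lit 32,nat_lit 16,nat_lit 8,nat_lit 4,nat_lit 2,nat_lit 1] [nat_lit 1,nat_lit 512,nat_lit 3] (nat_lit 2) [] (nat_lit 0) [nat_lit 64,nat_lit 32,nat_lit 8,nat_lit 8,nat_lit 4,nat_lit 2,nat_lit 0]))::(((nat_lit 1),(Leaf.au (nat_lit 2) (nat_lit 16) (nat_lit 1) [[nat_lit 32,nat_lit 16,nat_lit 8,nat_lit 4,nat_lit 2,nat_lit 1]] [nat_lit 64,nat_lit 32,nat_lit 16,nat_lit 8,nat_lit 4,nat_lit 2,nat_lit 1] [nat_lit 1,nat_lit 512,nat_lit 3] (nat_lit 2) [] (nat_lit 0) [nat_lit 64,nat_lit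 32,nat_lit 8,nat_lit 8,nat_lit 4,nat_lit 2,nat_lit 0]))::[]))) Srch.nil)) Srch.nil) (Srch.rep (nat_lit 6) [nat_lit 16] [] [] (Srch.rep (nat_lit 38) [] [] [] (Srch.rep (nat_lit 160) [] [] [] (Srch.fin [nat_lit 4,nat_lit 64] [nat_lit 0] (((nat_lit 2),(Leaf.au (nat_lit 3) (nat_lit 16) (nat_lit 0) [[nat_lit 16,nat_lit 11,nat_lit 69,nat_lit 1]] [nat_lit 68,nat_lit 16,nat_lit 8,nat_lit 2,nat_lit 1] [nat_lit 5,nat_lit 704,nat_lit 5,nat_lit 640,nat_lit 5] (nat_lit 1) [nat_lit 0,nat_lit 1,nat_lit 69,nat_lit 68,nat_lit 11,nat_lit 10,nat_lit 78,nat_lit 79,nat_lit 16,nat_lit 17,nat_lit 85,nat_lit 84,nat_lit 27,nat_lit 26,nat_lit 94,nat_lit 95] (nat_lit 0) [nat_lit 0,nat_lit 0,nat_lit 2,nat_lit 2,nat_lit 0]))::(((nat_lit 3),(Leaf.au (nat_lit 3) (nat_lit 16) (nat_lit 0) [[nat_lit 16,nat_lit 11,nat_lit 69,nat_lit 1]] [nat_lit 68,nat_lit 16,nat_lit 8,nat_lit 2,nat_lit 1] [nat_lit 5,nat_lit 704,nat_lit 5,nat_lit 640,nat_lit 5] (nat_lit 1) [nat_lit 0,nat_lit 1,nat_lit 69,nat_lit 68,nat_lit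 11,nat_lit 10,nat_lit 78,nat_lit 79,nat_lit 16,nat_lit 17,nat_lit 85,nat_lit 84,nat_lit 27,nat_lit 26,nat_lit 94,nat_lit 95] (nat_lit 0) [nat_lit 0,nat_lit 0,nat_lit 2,nat_lit 2,nat_lit 0]))::[]))) (Srch.rep (nat_lit 161) [] [] [] (Srch.fin [nat_lit 4,nat_lit 64] [nat_lit 0] (((nat_lit 2),(Leaf.au (nat_lit 3) (nat_lit 16) (nat_lit 0) [[nat_lit 16,nat_lit 11,nat_lit 69,nat_lit 1]] [nat_lit 68,nat_lit 16,nat_lit 8,nat_lit 2,nat_lit 1] [nat_lit 5,nat_lit 704,nat_lit 5,nat_lit 640,nat_lit 5] (nat_lit 1) [nat_lit 0,nat_lit 1,nat_lit 69,nat_lit 68,nat_lit 11,nat_lit 10,nat_lit 78,nat_lit 79,nat_lit 16,nat_lit 17,nat_lit 85,nat_lit 84,nat_lit 27,nat_lit 26,nat_lit 94,nat_lit 95] (nat_lit 0) [nat_lit 0,nat_lit 0,nat_lit 2,nat_lit 2,nat_lit 0]))::(((nat_lit 3),(Leaf.au (nat_lit 3) (nat_lit 16) (nat_lit 0) [[nat_lit 16,nat_lit 11,nat_lit 69,nat_lit 1]] [nat_lit 68,nat_lit 16,nat_lit 8,nat_lit 2,nat_lit 1] [nat_lit 5,nat_lit 704,nat_lit 5,nat_lit 640,nat_lit 5] (nat_lit 1) [nat_lit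 0,nat_lit 1,nat_lit 69,nat_lit 68,nat_lit 11,nat_lit 10,nat_lit 78,nat_lit 79,nat_lit 16,nat_lit 17,nat_lit 85,nat_lit 84,nat_lit 27,nat_lit 26,nat_lit 94,nat_lit 95] (nat_lit 0) [nat_lit 0,nat_lit 0,nat_lit 2,nat_lit 2,nat_lit 0]))::[]))) Srch.nil)) Srch.nil) Srch.nil)) Srch.nil) (Srch.rep (nat_lit 72) [nat_lit 72] [] [] (Srch.rep (nat_lit 66) [] [] [] Srch.nil Srch.nil) (Srch.rep (nat_lit 80) [nat_lit 64] [] [] (Srch.rep (nat_lit 90) [] [] [] Srch.nil Srch.nil) (Srch.rep (nat_lit 88) [nat_lit 72] [] [] (Srch.rep (nat_lit 82) [nat_lit 2] [] [] (Srch.rep (nat_lit 4) [nat_lit 16] [] [] (Srch.rep (nat_lit 36) [] [] [] (Srch.rep (nat_lit 184) [] [] [] (Srch.fin [nat_lit 4,nat_lit 64] [nat_lit 0] (((nat_lit 32),(Leaf.pt (nat_lit 12) (nat_lit 76) [nat_lit 70,nat_lit 260]))::(((nat_lit 33),(Leaf.pt (nat_lit 19) (nat_lit 76) [nat_lit 34,nat_lit 270]))::[]))) (Srch.rep (nat_lit 185) [] [] [] (Srch.fin [nat_lit 4,nat_lit 64] [nat_lit 0] (((nat_lit 32),(Leaf.pt (nat_lit 12) (nat_lit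 76) [nat_lit 70,nat_lit 260]))::(((nat_lit 33),(Leaf.pt (nat_lit 19) (nat_lit 76) [nat_lit 34,nat_lit 270]))::[]))) Srch.nil)) Srch.nil) (Srch.rep (nat_lit 6) [nat_lit 16] [] [] (Srch.rep (nat_lit 38) [] [] [] (Srch.rep (nat_lit 184) [] [] [] (Srch.fin [nat_lit 4,nat_lit 64] [nat_lit 0] (((nat_lit 34),(Leaf.pt (nat_lit 3) (nat_lit 76) [nat_lit 256,nat_lit 70]))::(((nat_lit 35),(Leaf.pt (nat_lit 17) (nat_lit 76) [nat_lit 256,nat_lit 138]))::[]))) (Srch.rep (nat_lit 185) [] [] [] (Srch.fin [nat_lit 4,nat_lit 64] [nat_lit 0] (((nat_lit 34),(Leaf.pt (nat_lit 17) (nat_lit 76) [nat_lit 256,nat_lit 138]))::(((nat_lit 35),(Leaf.pt (nat_lit 3) (nat_lit 76) [nat_lit 256,nat_lit 70]))::[]))) Srch.nil)) Srch.nil) Srch.nil)) Srch.nil) Srch.nil)))) (Srch.rep (nat_lit 52) [nat_lit 4,nat_lit 10,nat_lit 130] [nat_lit 130,nat_lit 34,nat_lit 18,nat_lit 10,nat_lit 4,nat_lit 1] [nat_lit 64,nat_lit 2] (Srch.rep (nat_lit 130) [nat_lit 130] [] [] (Srch.rep (nat_lit 140) [nat_lit 22] [] [] (Srch.rep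 (nat_lit 4) [nat_lit 52] [] [] (Srch.rep (nat_lit 36) [] [] [] (Srch.rep (nat_lit 66) [] [] [] (Srch.fin [nat_lit 64,nat_lit 4] [] []) (Srch.rep (nat_lit 67) [] [] [] (Srch.fin [nat_lit 4,nat_lit 64] [nat_lit 0] (((nat_lit 33),(Leaf.mp (nat_lit 174) [nat_lit 1,nat_lit 2,nat_lit 4,nat_lit 8,nat_lit 16,nat_lit 32,nat_lit 64,nat_lit 128,nat_lit 256] [[nat_lit 1],[nat_lit 3],[nat_lit 5]]))::(((nat_lit 32),(Leaf.mp (nat_lit 175) [nat_lit 1,nat_lit 2,nat_lit 4,nat_lit 8,nat_lit 16,nat_lit 32,nat_lit 64,nat_lit 128,nat_lit 256] [[nat_lit 1],[nat_lit 3],[nat_lit 5]]))::[]))) Srch.nil)) Srch.nil) (Srch.rep (nat_lit 38) [nat_lit 52] [] [] (Srch.rep (nat_lit 7) [] [] [] (Srch.rep (nat_lit 64) [] [] [] (Srch.fin [nat_lit 4,nat_lit 64] [nat_lit 0] (((nat_lit 198),(Leaf.au (nat_lit 2) (nat_lit 16) (nat_lit 1) [[nat_lit 32,nat_lit 16,nat_lit 8,nat_lit 4,nat_lit 2,nat_lit 1]] [nat_lit 64,nat_lit 32,nat_lit 16,nat_lit 8,nat_lit 4,nat_lit 2,nat_lit 1] [nat_lit 1,nat_lit 3,nat_lit 732] (nat_lit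 2) [] (nat_lit 0) [nat_lit 64,nat_lit 32,nat_lit 8,nat_lit 8,nat_lit 4,nat_lit 2,nat_lit 0]))::(((nat_lit 199),(Leaf.au (nat_lit 2) (nat_lit 16) (nat_lit 1) [[nat_lit 32,nat_lit 16,nat_lit 8,nat_lit 4,nat_lit 2,nat_lit 1]] [nat_lit 64,nat_lit 32,nat_lit 16,nat_lit 8,nat_lit 4,nat_lit 2,nat_lit 1] [nat_lit 1,nat_lit 3,nat_lit 732] (nat_lit 2) [] (nat_lit 0) [nat_lit 64,nat_lit 32,nat_lit 8,nat_lit 8,nat_lit 4,nat_lit 2,nat_lit 0]))::[]))) (Srch.rep (nat_lit 65) [] [] [] (Srch.fin [nat_lit 4,nat_lit 64] [nat_lit 0] (((nat_lit 222),(Leaf.au (nat_lit 2) (nat_lit 16) (nat_lit 1) [[nat_lit 32,nat_lit 16,nat_lit 8,nat_lit 4,nat_lit 2,nat_lit 1]] [nat_lit 64,nat_lit 32,nat_lit 16,nat_lit 8,nat_lit 4,nat_lit 2,nat_lit 1] [nat_lit 1,nat_lit 3,nat_lit 732] (nat_lit 2) [] (nat_lit 0) [nat_lit 64,nat_lit 32,nat_lit 8,nat_lit 8,nat_lit 4,nat_lit 2,nat_lit 0]))::(((nat_lit 223),(Leaf.au (nat_lit 2) (nat_lit 16) (nat_lit 1) [[nat_lit 32,nat_lit 16,nat_lit 8,nat_lit 4,nat_lit 2,nat_lit 1]]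 [nat_lit 64,nat_lit 32,nat_lit 16,nat_lit 8,nat_lit 4,nat_lit 2,nat_lit 1] [nat_lit 1,nat_lit 3,nat_lit 732] (nat_lit 2) [] (nat_lit 0) [nat_lit 64,nat_lit 32,nat_lit 8,nat_lit 8,nat_lit 4,nat_lit 2,nat_lit 0]))::[]))) Srch.nil)) Srch.nil) Srch.nil)) Srch.nil) (Srch.rep (nat_lit 140) [nat_lit 140] [] [] (Srch.rep (nat_lit 130) [nat_lit 22] [] [] (Srch.rep (nat_lit 4) [] [] [] Srch.nil (Srch.rep (nat_lit 38) [] [] [] Srch.nil Srch.nil)) Srch.nil) (Srch.rep (nat_lit 148) [nat_lit 130] [] [] (Srch.rep (nat_lit 154) [nat_lit 22] [] [] (Srch.rep (nat_lit 4) [] [] [] Srch.nil (Srch.rep (nat_lit 38) [] [] [] Srch.nil Srch.nil)) Srch.nil) (Srch.rep (nat_lit 154) [nat_lit 140] [] [] (Srch.rep (nat_lit 148) [nat_lit 22] [] [] (Srch.rep (nat_lit 4) [nat_lit 52] [] [] (Srch.rep (nat_lit 36) [] [] [] (Srch.rep (nat_lit 90) [] [] [] (Srch.fin [nat_lit 64,nat_lit 4] [nat_lit 0] (((nat_lit 0),(Leaf.au (nat_lit 2) (nat_lit 16) (nat_lit 1) [[nat_lit 32,nat_lit 16,nat_lit 8,nat_lit 4,nat_lit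 2,nat_lit 1]] [nat_lit 64,nat_lit 32,nat_lit 16,nat_lit 8,nat_lit 4,nat_lit 2,nat_lit 1] [nat_lit 1,nat_lit 3,nat_lit 960] (nat_lit 2) [] (nat_lit 0) [nat_lit 64,nat_lit 32,nat_lit 8,nat_lit 8,nat_lit 4,nat_lit 2,nat_lit 0]))::(((nat_lit 1),(Leaf.au (nat_lit 2) (nat_lit 16) (nat_lit 1) [[nat_lit 32,nat_lit 16,nat_lit 8,nat_lit 4,nat_lit 2,nat_lit 1]] [nat_lit 64,nat_lit 32,nat_lit 16,nat_lit 8,nat_lit 4,nat_lit 2,nat_lit 1] [nat_lit 1,nat_lit 3,nat_lit 960] (nat_lit 2) [] (nat_lit 0) [nat_lit 64,nat_lit 32,nat_lit 8,nat_lit 8,nat_lit 4,nat_lit 2,nat_lit 0]))::[]))) (Srch.rep (nat_lit 91) [] [] [] (Srch.fin [nat_lit 64,nat_lit 4] [nat_lit 0] (((nat_lit 24),(Leaf.au (nat_lit 2) (nat_lit 16) (nat_lit 1) [[nat_lit 32,nat_lit 16,nat_lit 8,nat_lit 4,nat_lit 2,nat_lit 1]] [nat_lit 64,nat_lit 32,nat_lit 16,nat_lit 8,nat_lit 4,nat_lit 2,nat_lit 1] [nat_lit 1,nat_lit 3,nat_lit 960] (nat_lit 2) [] (nat_lit 0) [nat_lit 64,nat_lit 32,nat_lit 8,nat_lit 8,nat_lit 4,nat_lit 2,nat_lit 0]))::(((nat_lit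 25),(Leaf.au (nat_lit 2) (nat_lit 16) (nat_lit 1) [[nat_lit 32,nat_lit 16,nat_lit 8,nat_lit 4,nat_lit 2,nat_lit 1]] [nat_lit 64,nat_lit 32,nat_lit 16,nat_lit 8,nat_lit 4,nat_lit 2,nat_lit 1] [nat_lit 1,nat_lit 3,nat_lit 960] (nat_lit 2) [] (nat_lit 0) [nat_lit 64,nat_lit 32,nat_lit 8,nat_lit 8,nat_lit 4,nat_lit 2,nat_lit 0]))::[]))) Srch.nil)) Srch.nil) (Srch.rep (nat_lit 38) [nat_lit 52] [] [] (Srch.rep (nat_lit 7) [] [] [] (Srch.rep (nat_lit 88) [] [] [] (Srch.fin [nat_lit 4,nat_lit 64] [] []) (Srch.rep (nat_lit 89) [] [] [] (Srch.fin [nat_lit 64,nat_lit 4] [nat_lit 0] (((nat_lit 231),(Leaf.mp (nat_lit 176) [nat_lit 1,nat_lit 2,nat_lit 4,nat_lit 8,nat_lit 16,nat_lit 32,nat_lit 64,nat_lit 128,nat_lit 256] [[nat_lit 1],[nat_lit 3],[nat_lit 5]]))::(((nat_lit 230),(Leaf.mp (nat_lit 177) [nat_lit 1,nat_lit 2,nat_lit 4,nat_lit 8,nat_lit 16,nat_lit 32,nat_lit 64,nat_lit 128,nat_lit 256] [[nat_lit 1],[nat_lit 3],[nat_lit 5]]))::[]))) Srch.nil)) Srch.nil) Srch.nil)) Srch.nil) Srch.nil))))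 Srch.nil)
noncomputable def c178_1 : Node :=
  Node.ext [[nat_lit 32,nat_lit 16,nat_lit 8,nat_lit 4,nat_lit 2,nat_lit 1]] (nat_lit 10) [Ins.ts (nat_lit 4) [nat_lit 0] [nat_lit 10,nat_lit 0,nat_lit 0],Ins.fr [nat_lit 0],Ins.ts (nat_lit 1) [nat_lit 0,nat_lit 0] [],Ins.ts (nat_lit 1) [nat_lit 0,nat_lit 0,nat_lit 0,nat_lit 0] [],Ins.fr [nat_lit 1],Ins.ts (nat_lit 1) [nat_lit 0,nat_lit 0] [],Ins.ts (nat_lit 0) [nat_lit 0,nat_lit 1,nat_lit 1,nat_lit 0] [],Ins.ts (nat_lit 0) [nat_lit 1,nat_lit 1,nat_lit 1] [nat_lit 0,nat_lit 1,nat_lit 0],Ins.ts (nat_lit 2) [nat_lit 0,nat_lit 0,nat_lit 1,nat_lit 0] [],Ins.fr [nat_lit 2],Ins.ts (nat_lit 4) [nat_lit 0] [nat_lit 37,nat_lit 0,nat_lit 0],Ins.ts (nat_lit 1) [nat_lit 0,nat_lit 0] [],Ins.ts (nat_lit 2) [nat_lit 1,nat_lit 0,nat_lit 2] [],Ins.ts (nat_lit 0) [nat_lit 0,nat_lit 2,nat_lit 0,nat_lit 2] [],Ins.ts (nat_lit 2) [nat_lit 1,nat_lit 0] [],Ins.fr [nat_lit 0,nat_lit 0,nat_lit 3],Ins.ts (nat_lit 4) [nat_lit 0] [nat_lit 5,nat_lit 0,nat_lit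 0],Ins.ts (nat_lit 1) [nat_lit 0,nat_lit 0] [],Ins.ts (nat_lit 2) [nat_lit 4,nat_lit 0] [],Ins.ts (nat_lit 0) [nat_lit 2,nat_lit 0,nat_lit 2] [nat_lit 0],Ins.ts (nat_lit 0) [nat_lit 1,nat_lit 0] [nat_lit 0,nat_lit 1],Ins.fr [nat_lit 0,nat_lit 1,nat_lit 2,nat_lit 2,nat_lit 4],Ins.ts (nat_lit 0) [nat_lit 0,nat_lit 3,nat_lit 0] [nat_lit 3],Ins.ts (nat_lit 0) [nat_lit 4,nat_lit 0] [nat_lit 0,nat_lit 4],Ins.df [nat_lit 1,nat_lit 1],Ins.df [nat_lit 5,nat_lit 5],Ins.df [nat_lit 0,nat_lit 1,nat_lit 7],Ins.df [nat_lit 1,nat_lit 6,nat_lit 7],Ins.df [nat_lit 2,nat_lit 4,nat_lit 4],Ins.df [nat_lit 0,nat_lit 9]] [nat_lit 96,nat_lit 112,nat_lit 36,nat_lit 4,nat_lit 128] [nat_lit 5,nat_lit 4,nat_lit 7,nat_lit 3,nat_lit 2,nat_lit 1,nat_lit 0,nat_lit 6] (Srch.ex0 [nat_lit 68,nat_lit 36,nat_lit 16,nat_lit 8,nat_lit 2,nat_lit 1] (Srch.rep (nat_lit 12) [nat_lit 4,nat_lit 16,nat_lit 128] [nat_lit 128,nat_lit 34,nat_lit 16,nat_lit 8,nat_lit 4,nat_lit 1] [nat_lit 64,nat_lit 2] (Srch.rep (nat_lit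 128) [nat_lit 128] [] [] (Srch.rep (nat_lit 182) [nat_lit 34] [] [] (Srch.rep (nat_lit 4) [nat_lit 12] [] [] (Srch.rep (nat_lit 36) [] [] [] (Srch.rep (nat_lit 97) [] [] [] (Srch.fin [nat_lit 64,nat_lit 4] [] []) (Srch.rep (nat_lit 96) [] [] [] (Srch.fin [nat_lit 4,nat_lit 64] [nat_lit 0] (((nat_lit 0),(Leaf.au (nat_lit 2) (nat_lit 16) (nat_lit 1) [[nat_lit 32,nat_lit 16,nat_lit 8,nat_lit 4,nat_lit 2,nat_lit 1]] [nat_lit 64,nat_lit 32,nat_lit 16,nat_lit 8,nat_lit 4,nat_lit 2,nat_lit 1] [nat_lit 3,nat_lit 832,nat_lit 3] (nat_lit 2) [] (nat_lit 2) [nat_lit 64,nat_lit 32,nat_lit 8,nat_lit 8,nat_lit 6,nat_lit 2,nat_lit 0]))::(((nat_lit 1),(Leaf.au (nat_lit 2) (nat_lit 16) (nat_lit 1) [[nat_lit 32,nat_lit 16,nat_lit 8,nat_lit 4,nat_lit 2,nat_lit 1]] [nat_lit 64,nat_lit 32,nat_lit 16,nat_lit 8,nat_lit 4,nat_lit 2,nat_lit 1] [nat_lit 3,nat_lit 832,nat_lit 3] (nat_lit 2) [] (nat_lit 2) [nat_lit 64,nat_lit 32,nat_lit 8,nat_lit 8,nat_lit 6,nat_lit 2,nat_lit 0]))::[]))) Srch.nil))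 Srch.nil) (Srch.rep (nat_lit 38) [nat_lit 12] [] [] (Srch.rep (nat_lit 7) [] [] [] (Srch.rep (nat_lit 98) [] [] [] (Srch.fin [nat_lit 4,nat_lit 64] [nat_lit 0] (((nat_lit 196),(Leaf.mp (nat_lit 170) [nat_lit 1,nat_lit 2,nat_lit 4,nat_lit 8,nat_lit 16,nat_lit 32,nat_lit 64,nat_lit 128,nat_lit 256] [[nat_lit 1],[nat_lit 3],[nat_lit 5]]))::(((nat_lit 197),(Leaf.mp (nat_lit 170) [nat_lit 1,nat_lit 2,nat_lit 4,nat_lit 8,nat_lit 16,nat_lit 32,nat_lit 64,nat_lit 129,nat_lit 280] [[nat_lit 1],[nat_lit 3],[nat_lit 5]]))::[]))) (Srch.rep (nat_lit 99) [] [] [] (Srch.fin [nat_lit 4,nat_lit 64] [nat_lit 0] (((nat_lit 220),(Leaf.mp (nat_lit 171) [nat_lit 1,nat_lit 2,nat_lit 4,nat_lit 8,nat_lit 16,nat_lit 32,nat_lit 64,nat_lit 128,nat_lit 256] [[nat_lit 1],[nat_lit 3],[nat_lit 5]]))::(((nat_lit 221),(Leaf.mp (nat_lit 171) [nat_lit 1,nat_lit 2,nat_lit 4,nat_lit 8,nat_lit 16,nat_lit 32,nat_lit 64,nat_lit 129,nat_lit 280] [[nat_lit 1],[nat_lit 3],[nat_lit 5]]))::[]))) Srch.nil)) Srch.nil)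 Srch.nil)) Srch.nil) (Srch.rep (nat_lit 140) [nat_lit 128] [] [] (Srch.rep (nat_lit 186) [nat_lit 34] [] [] (Srch.rep (nat_lit 4) [] [] [] Srch.nil (Srch.rep (nat_lit 38) [] [] [] Srch.nil Srch.nil)) Srch.nil) (Srch.rep (nat_lit 148) [nat_lit 148] [] [] (Srch.rep (nat_lit 162) [nat_lit 34] [] [] (Srch.rep (nat_lit 4) [] [] [] Srch.nil (Srch.rep (nat_lit 38) [] [] [] Srch.nil Srch.nil)) Srch.nil) (Srch.rep (nat_lit 152) [nat_lit 148] [] [] (Srch.rep (nat_lit 174) [nat_lit 34] [] [] (Srch.rep (nat_lit 4) [nat_lit 12] [] [] (Srch.rep (nat_lit 36) [] [] [] (Srch.rep (nat_lit 121) [] [] [] (Srch.fin [nat_lit 64,nat_lit 4] [] []) (Srch.rep (nat_lit 120) [] [] [] (Srch.fin [nat_lit 4,nat_lit 64] [nat_lit 0] (((nat_lit 0),(Leaf.au (nat_lit 2) (nat_lit 16) (nat_lit 1) [[nat_lit 32,nat_lit 16,nat_lit 8,nat_lit 4,nat_lit 2,nat_lit 1]] [nat_lit 64,nat_lit 32,nat_lit 16,nat_lit 8,nat_lit 4,nat_lit 2,nat_lit 1] [nat_lit 3,nat_lit 832,nat_lit 3] (nat_lit 2) [] (nat_lit 2) [nat_lit 64,nat_lit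 32,nat_lit 8,nat_lit 8,nat_lit 6,nat_lit 2,nat_lit 0]))::(((nat_lit 1),(Leaf.au (nat_lit 2) (nat_lit 16) (nat_lit 1) [[nat_lit 32,nat_lit 16,nat_lit 8,nat_lit 4,nat_lit 2,nat_lit 1]] [nat_lit 64,nat_lit 32,nat_lit 16,nat_lit 8,nat_lit 4,nat_lit 2,nat_lit 1] [nat_lit 3,nat_lit 832,nat_lit 3] (nat_lit 2) [] (nat_lit 2) [nat_lit 64,nat_lit 32,nat_lit 8,nat_lit 8,nat_lit 6,nat_lit 2,nat_lit 0]))::[]))) Srch.nil)) Srch.nil) (Srch.rep (nat_lit 38) [nat_lit 12] [] [] (Srch.rep (nat_lit 7) [] [] [] (Srch.rep (nat_lit 122) [] [] [] (Srch.fin [nat_lit 4,nat_lit 64] [nat_lit 0] (((nat_lit 196),(Leaf.mp (nat_lit 172) [nat_lit 1,nat_lit 2,nat_lit 4,nat_lit 8,nat_lit 16,nat_lit 32,nat_lit 64,nat_lit 128,nat_lit 256] [[nat_lit 1],[nat_lit 3],[nat_lit 5]]))::(((nat_lit 197),(Leaf.mp (nat_lit 172) [nat_lit 1,nat_lit 2,nat_lit 4,nat_lit 8,nat_lit 16,nat_lit 32,nat_lit 64,nat_lit 129,nat_lit 280] [[nat_lit 1],[nat_lit 3],[nat_lit 5]]))::[]))) (Srch.rep (nat_lit 123) [] [] [] (Srch.fin [nat_lit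 4,nat_lit 64] [nat_lit 0] (((nat_lit 220),(Leaf.mp (nat_lit 173) [nat_lit 1,nat_lit 2,nat_lit 4,nat_lit 8,nat_lit 16,nat_lit 32,nat_lit 64,nat_lit 128,nat_lit 256] [[nat_lit 1],[nat_lit 3],[nat_lit 5]]))::(((nat_lit 221),(Leaf.mp (nat_lit 173) [nat_lit 1,nat_lit 2,nat_lit 4,nat_lit 8,nat_lit 16,nat_lit 32,nat_lit 64,nat_lit 129,nat_lit 280] [[nat_lit 1],[nat_lit 3],[nat_lit 5]]))::[]))) Srch.nil)) Srch.nil) Srch.nil)) Srch.nil) Srch.nil)))) c178_0)) (Node.lf (Leaf.au (nat_lit 1) (nat_lit 0) (nat_lit 0) [] [] [nat_lit 3,nat_lit 1] (nat_lit 0) [] (nat_lit 32) [nat_lit 0,nat_lit 2,nat_lit 36,nat_lit 10,nat_lit 10,nat_lit 32,nat_lit 96,nat_lit 160]))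
noncomputable def t178 : ℕ := nat_lit 0x8000800080008000a300a300a200a200a200a200a300a3008000800080008000a300a300a200a20081008100810081008100810081008100a200a200a300a3008000800080008000a300a300a200a200a200a200a300a3008000800080008000a300a300a200a20081008100810081008100810081008100a200a200a300a3008000800080008000a300a300a200a200a200a200a300a3008000800080008000a300a300a200a20081008100810081008100810081008100a200a200a300a3008000800080008000a300a300a200a200a200a200a300a3008000800080008000a300a300a200a20081008100810081008100810081008100a200a200a300a300a200a200a300a30081008100810081008100810081008100a300a300a200a2008000800080008000a200a200a300a300a300a300a200a2008000800080008000a200a200a300a30081008100810081008100810081008100a300a300a200a2008000800080008000a200a200a300a300a300a300a200a2008000800080008000a200a200a300a30081008100810081008100810081008100a300a300a200a2008000800080008000a200a200a300a300a300a300a200a2008000800080008000a200a200a300a30081008100810081008100810081008100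a300a300a200a2008000800080008000a200a200a300a300a300a300a200a200800080008000800040004000400040004200420043004300410041004100410043004300420042004000400040004000420042004300430041004100410041004300430042004200400040004000400042004200430043004100410041004100430043004200420040004000400040004200420043004300410041004100410043004300420042004300430042004200410041004100410042004200430043004000400040004000430043004200420041004100410041004200420043004300400040004000400043004300420042004100410041004100420042004300430040004000400040004300430042004200410041004100410042004200430043004000400040004000200020002000200020002000200020002100210021002100210021002100210021002100210021002100210021002100200020002000200020002000200020002000200020002000200020002000200021002100210021002100210021002100210021002100210021002100210021002000200020002000200020002000200010001000100010001000100010001000100010001000100010001000100010001000100010001000100010001000100010001000100010001000100010001000090009000900090009000900090009000800080008000800080008000800080004000400050005000500050004000400030003000200020001000100000000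
noncomputable def c178 : Node :=
  (Node.st (nat_lit 0) (nat_lit 10) (nat_lit 0) (Node.st (nat_lit 2) (nat_lit 0) (nat_lit 10) (Node.st (nat_lit 0) (nat_lit 14) (nat_lit 0) (Node.st (nat_lit 2) (nat_lit 1) (nat_lit 10) (Node.st (nat_lit 0) (nat_lit 17) (nat_lit 0) (Node.st (nat_lit 2) (nat_lit 1) (nat_lit 14) (Node.st (nat_lit 0) (nat_lit 55) (nat_lit 0) (Node.st (nat_lit 2) (nat_lit 2) (nat_lit 5) (Node.st (nat_lit 0) (nat_lit 78) (nat_lit 0) (Node.st (nat_lit 2) (nat_lit 2) (nat_lit 9) (Node.st (nat_lit 0) (nat_lit 85) (nat_lit 0) (Node.sp (nat_lit 1) (Node.lf (Leaf.pt (nat_lit 9) (nat_lit 1) [nat_lit 10])) (Node.sp (nat_lit 26) (Node.lf (Leaf.pt (nat_lit 9) (nat_lit 26) [nat_lit 10])) (Node.st (nat_lit 0) (nat_lit 26) (nat_lit 0) (Node.sp (nat_lit 28) (Node.lf (Leaf.pt (nat_lit 9) (nat_lit 28) [nat_lit 12])) (Node.st (nat_lit 0) (nat_lit 28) (nat_lit 0) (Node.sp (nat_lit 32) (Node.lf (Leaf.pt (nat_lit 12) (nat_lit 32) [nat_lit 28,nat_lit 196])) (Node.st (nat_lit 0) (nat_lit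 32) (nat_lit 0) (Node.sp (nat_lit 58) (Node.lf (Leaf.pt (nat_lit 9) (nat_lit 58) [nat_lit 12])) (Node.st (nat_lit 0) (nat_lit 58) (nat_lit 0) (Node.sp (nat_lit 68) (Node.lf (Leaf.pt (nat_lit 9) (nat_lit 68) [nat_lit 10])) (Node.st (nat_lit 0) (nat_lit 68) (nat_lit 0) (Node.sp (nat_lit 92) (Node.lf (Leaf.pt (nat_lit 9) (nat_lit 92) [nat_lit 10])) (Node.st (nat_lit 0) (nat_lit 92) (nat_lit 0) c178_1))))))))))))))))))))))))
theorem ok178 : nodeOK DB PT 178 t178 (nat_lit 0xf0000000f0000000f00c0cf0f00303f0f00000f0f0f0f0f0fcfc0303fc03fc03) (nat_lit 0x11110000000000000000000000000000111100000000000000000000000000001111000000002200000022001111000011110000000000220000002211110000111100000000000000000000111100001111000011110000111100001111000011112200111122000000003300000033111122000000005511112200000000ff) c178 = true := by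
  decide +kernel
noncomputable def t179 : ℕ := nat_lit 0x11901190139013901390139011901190107010701270127012601260106010601060106012601260127012701070107011901190139013901390139011901190119011901390139013901390119011901070107012701270126012601060106010601060126012601270127010701070119011901390139013901390119011901e301e301c201c201c201c201e301e301fd01fd01dc01dc01dd01dd01fc01fc01fd01fd01dc01dc01dd01dd01fc01fc01e201e201c301c301c301c301e201e201e301e301c201c201c201c201e301e301fd01fd01dc01dc01dd01dd01fc01fc01fd01fd01dc01dc01dd01dd01fc01fc01e201e201c301c301c301c301e201e201c201c201e301e301e301e301c201c201dc01dc01fd01fd01fc01fc01dd01dd01dc01dc01fd01fd01fc01fc01dd01dd01c301c301e201e201e201e201c301c301c201c201e301e301e301e301c201c201dc01dc01fd01fd01fc01fc01dd01dd01dc01dc01fd01fd01fc01fc01dd01dd01c301c301e201e201e201e201c301c301200120010001000100010001200120013e013e011e011e011f011f013f013f013e013e011e011e011f011f013f013f0121012101010101010101010121012101200120010001000100010001200120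013e013e011e011e011f011f013f013f013e013e011e011e011f011f013f013f01210121010101010101010101210121013801380118011801180118013801380126012601060106010701070127012701270127010701070106010601260126013801380118011801180118013801380138013801180118011801180138013801260126010601060107010701270127012701270107010701060106012601260138013801180118011801180138013801c201c201e301e301e301e301c201c201dc01dc01fd01fd01fc01fc01dd01dd01dc01dc01fd01fd01fc01fc01dd01dd01c301c301e201e201e201e201c301c301c201c201e301e301e301e301c201c201dc01dc01fd01fd01fc01fc01dd01dd01dc01dc01fd01fd01fc01fc01dd01dd01c301c301e201e201e201e201c301c301e301e301c201c201c201c201e301e301fd01fd01dc01dc01dd01dd01fc01fc01fd01fd01dc01dc01dd01dd01fc01fc01e201e201c301c301c301c301e201e201e301e301c201c201c201c201e301e301fd01fd01dc01dc01dd01dd01fc01fc01fd01fd01dc01dc01dd01dd01fc01fc01e201e201c301c301c301c301e201e201010101012101210121012101010101011f011f013f013f013e013e011e011e011f011f013f013f013e013e011e011e0100010001200120012001200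100010001010101012101210121012101010101011f011f013f013f013e013e011e011e011f011f013f013f013e013e011e011e01000100012001200120012001000100009900990099009900ba00ba00bb00bb00ba00ba00bb00bb009800980098009800ba00ba00bb00bb0098009800980098009900990099009900ba00ba00bb00bb009900990099009900ba00ba00bb00bb00ba00ba00bb00bb009800980098009800ba00ba00bb00bb0098009800980098009900990099009900ba00ba00bb00bb008000800080008000a300a300a200a200a200a200a300a3008000800080008000a300a300a200a20081008100810081008100810081008100a200a200a300a3008000800080008000a300a300a200a200a200a200a300a3008000800080008000a300a300a200a20081008100810081008100810081008100a200a200a300a300bb00bb00ba00ba0098009800980098009900990099009900bb00bb00ba00ba009900990099009900bb00bb00ba00ba00bb00bb00ba00ba009800980098009800bb00bb00ba00ba0098009800980098009900990099009900bb00bb00ba00ba009900990099009900bb00bb00ba00ba00bb00bb00ba00ba009800980098009800a200a200a300a30081008100810081008100810081008100a300a300a200a2008000800080008000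a200a200a300a300a300a300a200a2008000800080008000a200a200a300a30081008100810081008100810081008100a300a300a200a2008000800080008000a200a200a300a300a300a300a200a200800080008000800040004000400040004200420043004300410041004100410043004300420042004000400040004000420042004300430041004100410041004300430042004200400040004000400042004200430043004100410041004100430043004200420040004000400040004200420043004300410041004100410043004300420042004300430042004200410041004100410042004200430043004000400040004000430043004200420041004100410041004200420043004300400040004000400043004300420042004100410041004100420042004300430040004000400040004300430042004200410041004100410042004200430043004000400040004000200020002000200020002000200020002100210021002100210021002100210021002100210021002100210021002100200020002000200020002000200020002000200020002000200020002000200021002100210021002100210021002100210021002100210021002100210021002000200020002000200020002000200010001000100010001000100010001000100010001000100010001000100010001000100010001000100010001000100010001000100010001000100010001000090009000900090009000900090009000800080008000800080008000800080004000400050005000500050004000400030003000200020001000100000000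
noncomputable def c179 : Node :=
  (Node.st (nat_lit 0) (nat_lit 10) (nat_lit 0) (Node.st (nat_lit 2) (nat_lit 0) (nat_lit 10) (Node.st (nat_lit 0) (nat_lit 14) (nat_lit 0) (Node.st (nat_lit 2) (nat_lit 2) (nat_lit 5) (Node.st (nat_lit 0) (nat_lit 78) (nat_lit 0) (Node.sp (nat_lit 1) (Node.lf (Leaf.pt (nat_lit 9) (nat_lit 1) [nat_lit 10])) (Node.sp (nat_lit 26) (Node.lf (Leaf.pt (nat_lit 9) (nat_lit 26) [nat_lit 10])) (Node.st (nat_lit 0) (nat_lit 26) (nat_lit 0) (Node.sp (nat_lit 28) (Node.lf (Leaf.pt (nat_lit 9) (nat_lit 28) [nat_lit 12])) (Node.st (nat_lit 0) (nat_lit 28) (nat_lit 0) (Node.sp (nat_lit 32) (Node.lf (Leaf.pt (nat_lit 13) (nat_lit 32) [nat_lit 26])) (Node.st (nat_lit 0) (nat_lit 32) (nat_lit 0) (Node.sp (nat_lit 68) (Node.lf (Leaf.pt (nat_lit 9) (nat_lit 68) [nat_lit 10])) (Node.st (nat_lit 0) (nat_lit 68) (nat_lit 0) (Node.sp (nat_lit 92) (Node.lf (Leaf.pt (nat_lit 9) (nat_lit 92) [nat_lit 10])) (Node.st (nat_lit 0) (nat_lit 92) (nat_lit 0) (Node.ext [[nat_lit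 32,nat_lit 16,nat_lit 8,nat_lit 4,nat_lit 2,nat_lit 1]] (nat_lit 10) [Ins.ts (nat_lit 4) [nat_lit 0] [nat_lit 10,nat_lit 0,nat_lit 0],Ins.fr [nat_lit 0],Ins.ts (nat_lit 1) [nat_lit 0,nat_lit 0] [],Ins.ts (nat_lit 1) [nat_lit 0,nat_lit 0,nat_lit 0,nat_lit 0] [],Ins.fr [nat_lit 1],Ins.ts (nat_lit 1) [nat_lit 0,nat_lit 0] [],Ins.ts (nat_lit 0) [nat_lit 0,nat_lit 1,nat_lit 1,nat_lit 0] [],Ins.ts (nat_lit 0) [nat_lit 1,nat_lit 1,nat_lit 1] [nat_lit 0,nat_lit 1,nat_lit 0],Ins.ts (nat_lit 2) [nat_lit 0,nat_lit 0,nat_lit 1,nat_lit 0] [],Ins.fr [nat_lit 2],Ins.ts (nat_lit 1) [nat_lit 0,nat_lit 0] [],Ins.ts (nat_lit 4) [nat_lit 0] [nat_lit 37,nat_lit 0,nat_lit 0],Ins.ts (nat_lit 2) [nat_lit 1,nat_lit 0] [],Ins.ts (nat_lit 0) [nat_lit 0,nat_lit 2,nat_lit 0,nat_lit 2] [],Ins.ts (nat_lit 2) [nat_lit 1,nat_lit 0,nat_lit 2] [],Ins.fr [nat_lit 0,nat_lit 0,nat_lit 3],Ins.ts (nat_lit 4) [nat_lit 0] [nat_lit 5,nat_lit 0,nat_lit 0],Ins.ts (nat_lit 1) [nat_lit 0,nat_lit 0] [],Ins.ts (nat_lit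 2) [nat_lit 4,nat_lit 0] [],Ins.ts (nat_lit 0) [nat_lit 2,nat_lit 0,nat_lit 2] [nat_lit 0],Ins.ts (nat_lit 0) [nat_lit 1,nat_lit 0] [nat_lit 0,nat_lit 1],Ins.fr [nat_lit 0,nat_lit 1,nat_lit 2,nat_lit 2,nat_lit 4],Ins.ts (nat_lit 0) [nat_lit 0,nat_lit 3,nat_lit 0,nat_lit 4] [nat_lit 5],Ins.ts (nat_lit 0) [nat_lit 5,nat_lit 0,nat_lit 5] [nat_lit 0,nat_lit 0,nat_lit 0],Ins.fr [nat_lit 3,nat_lit 2,nat_lit 4],Ins.ts (nat_lit 0) [nat_lit 3,nat_lit 2] [nat_lit 0,nat_lit 0],Ins.ts (nat_lit 0) [nat_lit 6,nat_lit 1,nat_lit 6] [nat_lit 0,nat_lit 5,nat_lit 0],Ins.df [nat_lit 2,nat_lit 2],Ins.df [nat_lit 6,nat_lit 6],Ins.df [nat_lit 0,nat_lit 1,nat_lit 8],Ins.df [nat_lit 1,nat_lit 7,nat_lit 8],Ins.df [nat_lit 2,nat_lit 5,nat_lit 5],Ins.df [nat_lit 0,nat_lit 10]] [nat_lit 96,nat_lit 112,nat_lit 36,nat_lit 4,nat_lit 128,nat_lit 256] [nat_lit 5,nat_lit 4,nat_lit 8,nat_lit 3,nat_lit 2,nat_lit 1,nat_lit 0,nat_lit 7,nat_lit 6] (Srch.ex0 [nat_lit 68,nat_lit 36,nat_lit 16,nat_lit 8,nat_lit 2,nat_lit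 1] (Srch.rep (nat_lit 12) [nat_lit 4,nat_lit 16,nat_lit 128] [nat_lit 128,nat_lit 34,nat_lit 16,nat_lit 8,nat_lit 4,nat_lit 1] [nat_lit 256,nat_lit 64,nat_lit 2] (Srch.rep (nat_lit 128) [nat_lit 128] [] [] (Srch.rep (nat_lit 182) [nat_lit 34] [] [] (Srch.rep (nat_lit 4) [nat_lit 12] [] [] (Srch.rep (nat_lit 36) [] [] [] (Srch.rep (nat_lit 97) [] [] [] (Srch.rep (nat_lit 280) [] [] [] (Srch.fin [nat_lit 256,nat_lit 64] [] []) (Srch.rep (nat_lit 281) [] [] [] (Srch.fin [nat_lit 256,nat_lit 64] [] []) Srch.nil)) (Srch.rep (nat_lit 96) [] [] [] (Srch.rep (nat_lit 256) [] [] [] (Srch.fin [nat_lit 256] [nat_lit 0] (((nat_lit 0),(Leaf.pt (nat_lit 3) (nat_lit 76) [nat_lit 900,nat_lit 70]))::(((nat_lit 1),(Leaf.pt (nat_lit 3) (nat_lit 76) [nat_lit 900,nat_lit 70]))::[]))) (Srch.rep (nat_lit 257) [] [] [] (Srch.fin [nat_lit 256] [nat_lit 0] (((nat_lit 0),(Leaf.pt (nat_lit 3) (nat_lit 76) [nat_lit 900,nat_lit 70]))::(((nat_lit 1),(Leaf.pt (nat_lit 3) (nat_lit 76) [nat_lit 900,nat_lit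 70]))::[]))) Srch.nil)) Srch.nil)) Srch.nil) (Srch.rep (nat_lit 38) [nat_lit 12] [] [] (Srch.rep (nat_lit 7) [] [] [] (Srch.rep (nat_lit 98) [] [] [] Srch.nil (Srch.rep (nat_lit 99) [] [] [] Srch.nil Srch.nil)) Srch.nil) Srch.nil)) Srch.nil) (Srch.rep (nat_lit 140) [nat_lit 128] [] [] (Srch.rep (nat_lit 186) [] [] [] Srch.nil Srch.nil) (Srch.rep (nat_lit 148) [nat_lit 148] [] [] (Srch.rep (nat_lit 162) [] [] [] Srch.nil Srch.nil) (Srch.rep (nat_lit 152) [nat_lit 148] [] [] (Srch.rep (nat_lit 174) [nat_lit 34] [] [] (Srch.rep (nat_lit 4) [nat_lit 12] [] [] (Srch.rep (nat_lit 36) [] [] [] (Srch.rep (nat_lit 121) [] [] [] (Srch.rep (nat_lit 256) [] [] [] (Srch.fin [nat_lit 256,nat_lit 64] [] []) (Srch.rep (nat_lit 257) [] [] [] (Srch.fin [nat_lit 256,nat_lit 64] [] []) Srch.nil)) (Srch.rep (nat_lit 120) [] [] [] (Srch.rep (nat_lit 280) [] [] [] (Srch.fin [nat_lit 256] [nat_lit 0] (((nat_lit 0),(Leaf.pt (nat_lit 18) (nat_lit 76) [nat_lit 772,nat_lit 26]))::(((nat_lit 1),(Leaf.pt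 (nat_lit 18) (nat_lit 76) [nat_lit 772,nat_lit 26]))::[]))) (Srch.rep (nat_lit 281) [] [] [] (Srch.fin [nat_lit 256] [nat_lit 0] (((nat_lit 0),(Leaf.pt (nat_lit 18) (nat_lit 76) [nat_lit 772,nat_lit 26]))::(((nat_lit 1),(Leaf.pt (nat_lit 18) (nat_lit 76) [nat_lit 772,nat_lit 26]))::[]))) Srch.nil)) Srch.nil)) Srch.nil) (Srch.rep (nat_lit 38) [nat_lit 12] [] [] (Srch.rep (nat_lit 7) [] [] [] (Srch.rep (nat_lit 122) [] [] [] Srch.nil (Srch.rep (nat_lit 123) [] [] [] Srch.nil Srch.nil)) Srch.nil) Srch.nil)) Srch.nil) Srch.nil)))) Srch.nil)) (Node.lf (Leaf.au (nat_lit 1) (nat_lit 0) (nat_lit 0) [] [] [nat_lit 3,nat_lit 1] (nat_lit 0) [] (nat_lit 32) [nat_lit 0,nat_lit 2,nat_lit 36,nat_lit 10,nat_lit 10,nat_lit 32,nat_lit 96,nat_lit 160,nat_lit 288])))))))))))))))))))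
theorem ok179 : nodeOK DB PT 179 t179 (nat_lit 0xcc0000cccc0000cc000000000000000000000000000000003c00003c3c00003c0000000000000000f00c0cf0f00303f0f00000f0f0f0f0f0fcfc0303fc03fc03) (nat_lit 0x110011000000000000000000110011001100110000000000000000001100110000000000000000000000000000000000000000000000000000000000000000000000000000000000000000000000000000000000000000000000000000000000001111000000000000000000001111000011110000000000000000000011110000000000000000000000000000000000000000000000000000000000000000001111000000002200000022001111000011110000000000220000002211110000111100000000000000000000111100001111000011110000111100001111000011112200111122000000003300000033111122000000005511112200000000ff) c179 = true := by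
  decide +kernel
noncomputable def t180 : ℕ := nat_lit 0x11801180138013801380138011801180106010601260126012701270107010701070107012701270126012601060106011801180138013801380138011801180118011801380138013801380118011801060106012601260127012701070107010701070127012701260126010601060118011801380138013801380118011801e201e201c301c301c301c301e201e201fc01fc01dd01dd01dc01dc01fd01fd01fc01fc01dd01dd01dc01dc01fd01fd01e301e301c201c201c201c201e301e301e201e201c301c301c301c301e201e201fc01fc01dd01dd01dc01dc01fd01fd01fc01fc01dd01dd01dc01dc01fd01fd01e301e301c201c201c201c201e301e301c301c301e201e201e201e201c301c301dd01dd01fc01fc01fd01fd01dc01dc01dd01dd01fc01fc01fd01fd01dc01dc01c201c201e301e301e301e301c201c201c301c301e201e201e201e201c301c301dd01dd01fc01fc01fd01fd01dc01dc01dd01dd01fc01fc01fd01fd01dc01dc01c201c201e301e301e301e301c201c201210121010101010101010101210121013f013f011f011f011e011e013e013e013f013f011f011f011e011e013e013e0120012001000100010001000120012001210121010101010101010101210121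013f013f011f011f011e011e013e013e013f013f011f011f011e011e013e013e01200120010001000100010001200120013801380118011801180118013801380126012601060106010701070127012701270127010701070106010601260126013801380118011801180118013801380138013801180118011801180138013801260126010601060107010701270127012701270107010701060106012601260138013801180118011801180138013801c201c201e301e301e301e301c201c201dc01dc01fd01fd01fc01fc01dd01dd01dc01dc01fd01fd01fc01fc01dd01dd01c301c301e201e201e201e201c301c301c201c201e301e301e301e301c201c201dc01dc01fd01fd01fc01fc01dd01dd01dc01dc01fd01fd01fc01fc01dd01dd01c301c301e201e201e201e201c301c301e301e301c201c201c201c201e301e301fd01fd01dc01dc01dd01dd01fc01fc01fd01fd01dc01dc01dd01dd01fc01fc01e201e201c301c301c301c301e201e201e301e301c201c201c201c201e301e301fd01fd01dc01dc01dd01dd01fc01fc01fd01fd01dc01dc01dd01dd01fc01fc01e201e201c301c301c301c301e201e201010101012101210121012101010101011f011f013f013f013e013e011e011e011f011f013f013f013e013e011e011e0100010001200120012001200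100010001010101012101210121012101010101011f011f013f013f013e013e011e011e011f011f013f013f013e013e011e011e01000100012001200120012001000100009900990099009900ba00ba00bb00bb00ba00ba00bb00bb009800980098009800ba00ba00bb00bb0098009800980098009900990099009900ba00ba00bb00bb009900990099009900ba00ba00bb00bb00ba00ba00bb00bb009800980098009800ba00ba00bb00bb0098009800980098009900990099009900ba00ba00bb00bb008000800080008000a300a300a200a200a200a200a300a3008000800080008000a300a300a200a20081008100810081008100810081008100a200a200a300a3008000800080008000a300a300a200a200a200a200a300a3008000800080008000a300a300a200a20081008100810081008100810081008100a200a200a300a300bb00bb00ba00ba0098009800980098009900990099009900bb00bb00ba00ba009900990099009900bb00bb00ba00ba00bb00bb00ba00ba009800980098009800bb00bb00ba00ba0098009800980098009900990099009900bb00bb00ba00ba009900990099009900bb00bb00ba00ba00bb00bb00ba00ba009800980098009800a200a200a300a30081008100810081008100810081008100a300a300a200a2008000800080008000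a200a200a300a300a300a300a200a2008000800080008000a200a200a300a30081008100810081008100810081008100a300a300a200a2008000800080008000a200a200a300a300a300a300a200a200800080008000800040004000400040004200420043004300410041004100410043004300420042004000400040004000420042004300430041004100410041004300430042004200400040004000400042004200430043004100410041004100430043004200420040004000400040004200420043004300410041004100410043004300420042004300430042004200410041004100410042004200430043004000400040004000430043004200420041004100410041004200420043004300400040004000400043004300420042004100410041004100420042004300430040004000400040004300430042004200410041004100410042004200430043004000400040004000200020002000200020002000200020002100210021002100210021002100210021002100210021002100210021002100200020002000200020002000200020002000200020002000200020002000200021002100210021002100210021002100210021002100210021002100210021002000200020002000200020002000200010001000100010001000100010001000100010001000100010001000100010001000100010001000100010001000100010001000100010001000100010001000090009000900090009000900090009000800080008000800080008000800080004000400050005000500050004000400030003000200020001000100000000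
noncomputable def c180 : Node :=
  (Node.st (nat_lit 0) (nat_lit 10) (nat_lit 0) (Node.st (nat_lit 2) (nat_lit 0) (nat_lit 10) (Node.st (nat_lit 0) (nat_lit 14) (nat_lit 0) (Node.st (nat_lit 2) (nat_lit 2) (nat_lit 5) (Node.st (nat_lit 0) (nat_lit 78) (nat_lit 0) (Node.sp (nat_lit 1) (Node.lf (Leaf.pt (nat_lit 9) (nat_lit 1) [nat_lit 10])) (Node.sp (nat_lit 26) (Node.lf (Leaf.pt (nat_lit 9) (nat_lit 26) [nat_lit 10])) (Node.st (nat_lit 0) (nat_lit 26) (nat_lit 0) (Node.sp (nat_lit 28) (Node.lf (Leaf.pt (nat_lit 9) (nat_lit 28) [nat_lit 12])) (Node.st (nat_lit 0) (nat_lit 28) (nat_lit 0) (Node.sp (nat_lit 32) (Node.lf (Leaf.pt (nat_lit 13) (nat_lit 32) [nat_lit 26])) (Node.st (nat_lit 0) (nat_lit 32) (nat_lit 0) (Node.sp (nat_lit 68) (Node.lf (Leaf.pt (nat_lit 9) (nat_lit 68) [nat_lit 10])) (Node.st (nat_lit 0) (nat_lit 68) (nat_lit 0) (Node.sp (nat_lit 92) (Node.lf (Leaf.pt (nat_lit 9) (nat_lit 92) [nat_lit 10])) (Node.st (nat_lit 0) (nat_lit 92) (nat_lit 0) (Node.ext [[nat_lit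 32,nat_lit 16,nat_lit 8,nat_lit 4,nat_lit 2,nat_lit 1]] (nat_lit 10) [Ins.ts (nat_lit 4) [nat_lit 0] [nat_lit 10,nat_lit 0,nat_lit 0],Ins.fr [nat_lit 0],Ins.ts (nat_lit 1) [nat_lit 0,nat_lit 0] [],Ins.ts (nat_lit 1) [nat_lit 0,nat_lit 0,nat_lit 0,nat_lit 0] [],Ins.fr [nat_lit 1],Ins.ts (nat_lit 1) [nat_lit 0,nat_lit 0] [],Ins.ts (nat_lit 0) [nat_lit 0,nat_lit 1,nat_lit 1,nat_lit 0] [],Ins.ts (nat_lit 0) [nat_lit 1,nat_lit 1,nat_lit 1] [nat_lit 0,nat_lit 1,nat_lit 0],Ins.ts (nat_lit 2) [nat_lit 0,nat_lit 0,nat_lit 1,nat_lit 0] [],Ins.fr [nat_lit 2],Ins.ts (nat_lit 1) [nat_lit 0,nat_lit 0] [],Ins.ts (nat_lit 4) [nat_lit 0] [nat_lit 37,nat_lit 0,nat_lit 0],Ins.ts (nat_lit 2) [nat_lit 1,nat_lit 0] [],Ins.ts (nat_lit 0) [nat_lit 0,nat_lit 2,nat_lit 0,nat_lit 2] [],Ins.ts (nat_lit 2) [nat_lit 1,nat_lit 0,nat_lit 2] [],Ins.fr [nat_lit 0,nat_lit 0,nat_lit 3],Ins.ts (nat_lit 4) [nat_lit 0] [nat_lit 5,nat_lit 0,nat_lit 0],Ins.ts (nat_lit 1) [nat_lit 0,nat_lit 0] [],Ins.ts (nat_lit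 2) [nat_lit 4,nat_lit 0] [],Ins.ts (nat_lit 0) [nat_lit 2,nat_lit 0,nat_lit 2] [nat_lit 0],Ins.ts (nat_lit 0) [nat_lit 1,nat_lit 0] [nat_lit 0,nat_lit 1],Ins.fr [nat_lit 0,nat_lit 1,nat_lit 2,nat_lit 2,nat_lit 4],Ins.ts (nat_lit 0) [nat_lit 0,nat_lit 3,nat_lit 0,nat_lit 4] [nat_lit 5],Ins.ts (nat_lit 0) [nat_lit 5,nat_lit 0,nat_lit 5] [nat_lit 0,nat_lit 0,nat_lit 0],Ins.fr [nat_lit 3,nat_lit 2,nat_lit 4],Ins.ts (nat_lit 0) [nat_lit 0,nat_lit 0,nat_lit 3] [nat_lit 2],Ins.ts (nat_lit 0) [nat_lit 0,nat_lit 1,nat_lit 0,nat_lit 5] [],Ins.df [nat_lit 2,nat_lit 2],Ins.df [nat_lit 6,nat_lit 6],Ins.df [nat_lit 2,nat_lit 2],Ins.df [nat_lit 0,nat_lit 8],Ins.df [nat_lit 0,nat_lit 10,nat_lit 0],Ins.df [nat_lit 3,nat_lit 9,nat_lit 10]] [nat_lit 96,nat_lit 112,nat_lit 36,nat_lit 4,nat_lit 128,nat_lit 256] [nat_lit 5,nat_lit 4,nat_lit 8,nat_lit 1,nat_lit 0,nat_lit 3,nat_lit 2,nat_lit 7,nat_lit 6] (Srch.ex0 [nat_lit 68,nat_lit 36,nat_lit 16,nat_lit 8,nat_lit 2,nat_lit 1] (Srch.rep (nat_lit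 12) [nat_lit 4,nat_lit 16,nat_lit 128] [nat_lit 128,nat_lit 34,nat_lit 16,nat_lit 8,nat_lit 4,nat_lit 1] [nat_lit 256,nat_lit 64,nat_lit 2] (Srch.rep (nat_lit 128) [nat_lit 128] [] [] (Srch.rep (nat_lit 182) [nat_lit 34] [] [] (Srch.rep (nat_lit 4) [nat_lit 12] [] [] (Srch.rep (nat_lit 36) [] [] [] (Srch.rep (nat_lit 97) [] [] [] (Srch.rep (nat_lit 280) [] [] [] (Srch.fin [nat_lit 256,nat_lit 64] [] []) (Srch.rep (nat_lit 281) [] [] [] (Srch.fin [nat_lit 256,nat_lit 64] [] []) Srch.nil)) (Srch.rep (nat_lit 96) [] [] [] (Srch.rep (nat_lit 256) [] [] [] (Srch.fin [nat_lit 256] [nat_lit 0] (((nat_lit 0),(Leaf.pt (nat_lit 3) (nat_lit 76) [nat_lit 900,nat_lit 70]))::(((nat_lit 1),(Leaf.pt (nat_lit 3) (nat_lit 76) [nat_lit 900,nat_lit 70]))::[]))) (Srch.rep (nat_lit 257) [] [] [] (Srch.fin [nat_lit 256] [nat_lit 0] (((nat_lit 0),(Leaf.pt (nat_lit 3) (nat_lit 76) [nat_lit 900,nat_lit 70]))::(((nat_lit 1),(Leaf.pt (nat_lit 3) (nat_lit 76) [nat_lit 900,nat_lit 70]))::[]))) Srch.nil))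 Srch.nil)) Srch.nil) (Srch.rep (nat_lit 38) [nat_lit 12] [] [] (Srch.rep (nat_lit 7) [] [] [] (Srch.rep (nat_lit 98) [] [] [] Srch.nil (Srch.rep (nat_lit 99) [] [] [] Srch.nil Srch.nil)) Srch.nil) Srch.nil)) Srch.nil) (Srch.rep (nat_lit 140) [nat_lit 128] [] [] (Srch.rep (nat_lit 186) [] [] [] Srch.nil Srch.nil) (Srch.rep (nat_lit 148) [nat_lit 148] [] [] (Srch.rep (nat_lit 162) [] [] [] Srch.nil Srch.nil) (Srch.rep (nat_lit 152) [nat_lit 148] [] [] (Srch.rep (nat_lit 174) [nat_lit 34] [] [] (Srch.rep (nat_lit 4) [nat_lit 12] [] [] (Srch.rep (nat_lit 36) [] [] [] (Srch.rep (nat_lit 121) [] [] [] (Srch.rep (nat_lit 256) [] [] [] (Srch.fin [nat_lit 256,nat_lit 64] [] []) (Srch.rep (nat_lit 257) [] [] [] (Srch.fin [nat_lit 256,nat_lit 64] [] []) Srch.nil)) (Srch.rep (nat_lit 120) [] [] [] (Srch.rep (nat_lit 280) [] [] [] (Srch.fin [nat_lit 256] [nat_lit 0] (((nat_lit 0),(Leaf.pt (nat_lit 18) (nat_lit 76) [nat_lit 772,nat_lit 26]))::(((nat_lit 1),(Leaf.pt (nat_lit 18) (nat_lit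 76) [nat_lit 772,nat_lit 26]))::[]))) (Srch.rep (nat_lit 281) [] [] [] (Srch.fin [nat_lit 256] [nat_lit 0] (((nat_lit 0),(Leaf.pt (nat_lit 18) (nat_lit 76) [nat_lit 772,nat_lit 26]))::(((nat_lit 1),(Leaf.pt (nat_lit 18) (nat_lit 76) [nat_lit 772,nat_lit 26]))::[]))) Srch.nil)) Srch.nil)) Srch.nil) (Srch.rep (nat_lit 38) [nat_lit 12] [] [] (Srch.rep (nat_lit 7) [] [] [] (Srch.rep (nat_lit 122) [] [] [] Srch.nil (Srch.rep (nat_lit 123) [] [] [] Srch.nil Srch.nil)) Srch.nil) Srch.nil)) Srch.nil) Srch.nil)))) Srch.nil)) (Node.lf (Leaf.au (nat_lit 1) (nat_lit 0) (nat_lit 0) [] [] [nat_lit 3,nat_lit 1] (nat_lit 0) [] (nat_lit 32) [nat_lit 0,nat_lit 2,nat_lit 36,nat_lit 10,nat_lit 10,nat_lit 32,nat_lit 96,nat_lit 160,nat_lit 288])))))))))))))))))))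
theorem ok180 : nodeOK DB PT 180 t180 (nat_lit 0xf00c0cf0f00303f0f00000f0f0f0f0f0fcfc0303fc03fc03) (nat_lit 0x1111000000002200000022001111000011110000000000220000002211110000111100000000000000000000111100001111000011110000111100001111000011112200111122000000003300000033111122000000005511112200000000ff) c180 = true := by
  decide +kernel
noncomputable def t181 : ℕ := nat_lit 0x1e601e601c701c701e501e501c501c501f901f901d801d801fb01fb01db01db01f801f801d901d901fa01fa01da01da01e601e601c701c701e501e501c501c501e701e701c601c601e401e401c401c401f801f801d901d901fa01fa01da01da01f901f901d801d801fb01fb01db01db01e701e701c601c601e401e401c401c4011d011d013d013d011e011e013f013f0102010201220122010001000121012101020102012201220100010001210121011c011c013c013c011f011f013e013e011c011c013c013c011f011f013e013e0103010301230123010101010120012001030103012301230101010101200120011d011d013d013d011e011e013f013f013f013f011e011e013c013c011c011c01200120010101010122012201020102012001200101010101220122010201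02013e013e011f011f013d013d011d011d013e013e011f011f013d013d011d011d0121012101000100012301230103010301210121010001000123012301030103013f013f011e011e013c013c011c011c01dd01dd01fd01fd01de01de01ff01ff01c201c201e201e201c001c001e101e101c201c201e201e201c001c001e101e101dc01dc01fc01fc01df01df01fe01fe01dc01dc01fc01fc01df01df01fe01fe01c301c301e301e301c101c101e001e001c301c301e301e301c101c101e001e001dd01dd01fd01fd01de01de01ff01ff01000100012001200102010201230123011e011e013e013e011d011d013c013c011f011f013f013f011c011c013d013d0100010001200120010201020123012301010101012101210103010301220122011f011f013f013f011c011c013d013d011e011e013e013e011d011d013c013c0101010101210121010301030122012201e301e301c201c201e101e101c101c101fd01fd01dc01dc01fe01fe01de01de01fc01fc01dd01dd01ff01ff01df01df01e301e301c201c201e101e101c101c101e201e201c301c301e001e001c001c001fc01fc01dd01dd01ff01ff01df01df01fd01fd01dc01dc01fe01fe01de01de01e201e201c301c301e001e001c001c001d801d801f801f801da01da01fb01fb01c601c601e601e601c501c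501e401e401c601c601e601e601c501c501e401e401d901d901f901f901db01db01fa01fa01d901d901f901f901db01db01fa01fa01c701c701e701e701c401c401e501e501c701c701e701e701c401c401e501e501d801d801f801f801da01da01fb01fb01230123010201020121012101010101013d013d011c011c013e013e011e011e013c013c011d011d013f013f011f011f0123012301020102012101210101010101220122010301030120012001000100013c013c011d011d013f013f011f011f013d013d011c011c013e013e011e011e01220122010301030120012001000100009900990099009900ba00ba00bb00bb00ba00ba00bb00bb009800980098009800ba00ba00bb00bb0098009800980098009900990099009900ba00ba00bb00bb009900990099009900ba00ba00bb00bb00ba00ba00bb00bb009800980098009800ba00ba00bb00bb0098009800980098009900990099009900ba00ba00bb00bb008000800080008000a300a300a200a200a200a200a300a3008000800080008000a300a300a200a20081008100810081008100810081008100a200a200a300a3008000800080008000a300a300a200a200a200a200a300a3008000800080008000a300a300a200a20081008100810081008100810081008100a200a200a300a300bb00bb00ba00ba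0098009800980098009900990099009900bb00bb00ba00ba009900990099009900bb00bb00ba00ba00bb00bb00ba00ba009800980098009800bb00bb00ba00ba0098009800980098009900990099009900bb00bb00ba00ba009900990099009900bb00bb00ba00ba00bb00bb00ba00ba009800980098009800a200a200a300a30081008100810081008100810081008100a300a300a200a2008000800080008000a200a200a300a300a300a300a200a2008000800080008000a200a200a300a30081008100810081008100810081008100a300a300a200a2008000800080008000a200a200a300a300a300a300a200a20080008000800080004000400040004000420042004300430041004100410041004300430042004200400040004000400042004200430043004100410041004100430043004200420040004000400040004200420043004300410041004100410043004300420042004000400040004000420042004300430041004100410041004300430042004200430043004200420041004100410041004200420043004300400040004000400043004300420042004100410041004100420042004300430040004000400040004300430042004200410041004100410042004200430043004000400040004000430043004200420041004100410041004200420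0430043004000400040004000200020002000200020002000200020002100210021002100210021002100210021002100210021002100210021002100200020002000200020002000200020002000200020002000200020002000200021002100210021002100210021002100210021002100210021002100210021002000200020002000200020002000200010001000100010001000100010001000100010001000100010001000100010001000100010001000100010001000100010001000100010001000100010001000090009000900090009000900090009000800080008000800080008000800080004000400050005000500050004000400030003000200020001000100000000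
noncomputable def c181 : Node :=
  (Node.st (nat_lit 0) (nat_lit 10) (nat_lit 0) (Node.st (nat_lit 2) (nat_lit 0) (nat_lit 10) (Node.st (nat_lit 0) (nat_lit 14) (nat_lit 0) (Node.st (nat_lit 2) (nat_lit 2) (nat_lit 5) (Node.st (nat_lit 0) (nat_lit 78) (nat_lit 0) (Node.sp (nat_lit 1) (Node.lf (Leaf.pt (nat_lit 9) (nat_lit 1) [nat_lit 10])) (Node.sp (nat_lit 26) (Node.lf (Leaf.pt (nat_lit 9) (nat_lit 26) [nat_lit 10])) (Node.st (nat_lit 0) (nat_lit 26) (nat_lit 0) (Node.sp (nat_lit 28) (Node.lf (Leaf.pt (nat_lit 9) (nat_lit 28) [nat_lit 12])) (Node.st (nat_lit 0) (nat_lit 28) (nat_lit 0) (Node.sp (nat_lit 32) (Node.lf (Leaf.pt (nat_lit 13) (nat_lit 32) [nat_lit 26])) (Node.st (nat_lit 0) (nat_lit 32) (nat_lit 0) (Node.sp (nat_lit 68) (Node.lf (Leaf.pt (nat_lit 9) (nat_lit 68) [nat_lit 10])) (Node.st (nat_lit 0) (nat_lit 68) (nat_lit 0) (Node.sp (nat_lit 92) (Node.lf (Leaf.pt (nat_lit 9) (nat_lit 92) [nat_lit 10])) (Node.st (nat_lit 0) (nat_lit 92) (nat_lit 0) (Node.ext [[nat_lit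 32,nat_lit 16,nat_lit 8,nat_lit 4,nat_lit 2,nat_lit 1]] (nat_lit 10) [Ins.ts (nat_lit 4) [nat_lit 0] [nat_lit 10,nat_lit 0,nat_lit 0],Ins.fr [nat_lit 0],Ins.ts (nat_lit 1) [nat_lit 0,nat_lit 0] [],Ins.ts (nat_lit 1) [nat_lit 0,nat_lit 0,nat_lit 0,nat_lit 0] [],Ins.fr [nat_lit 1],Ins.ts (nat_lit 1) [nat_lit 0,nat_lit 0] [],Ins.ts (nat_lit 0) [nat_lit 0,nat_lit 1,nat_lit 1,nat_lit 0] [],Ins.ts (nat_lit 0) [nat_lit 1,nat_lit 1,nat_lit 1] [nat_lit 0,nat_lit 1,nat_lit 0],Ins.ts (nat_lit 2) [nat_lit 0,nat_lit 0,nat_lit 1,nat_lit 0] [],Ins.fr [nat_lit 2],Ins.ts (nat_lit 1) [nat_lit 0,nat_lit 0] [],Ins.ts (nat_lit 4) [nat_lit 0] [nat_lit 37,nat_lit 0,nat_lit 0],Ins.ts (nat_lit 2) [nat_lit 1,nat_lit 0] [],Ins.ts (nat_lit 0) [nat_lit 0,nat_lit 2,nat_lit 0,nat_lit 2] [],Ins.ts (nat_lit 2) [nat_lit 1,nat_lit 0,nat_lit 2] [],Ins.fr [nat_lit 0,nat_lit 0,nat_lit 3],Ins.ts (nat_lit 4) [nat_lit 0] [nat_lit 5,nat_lit 0,nat_lit 0],Ins.ts (nat_lit 1) [nat_lit 0,nat_lit 0] [],Ins.ts (nat_lit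 2) [nat_lit 4,nat_lit 0] [],Ins.ts (nat_lit 0) [nat_lit 2,nat_lit 0,nat_lit 2] [nat_lit 0],Ins.ts (nat_lit 0) [nat_lit 1,nat_lit 0] [nat_lit 0,nat_lit 1],Ins.fr [nat_lit 0,nat_lit 1,nat_lit 2,nat_lit 2,nat_lit 4],Ins.ts (nat_lit 0) [nat_lit 0,nat_lit 3,nat_lit 0,nat_lit 4] [nat_lit 5],Ins.ts (nat_lit 0) [nat_lit 5,nat_lit 0,nat_lit 5] [nat_lit 0,nat_lit 0,nat_lit 0],Ins.fr [nat_lit 2,nat_lit 3,nat_lit 4],Ins.ts (nat_lit 0) [nat_lit 6,nat_lit 2,nat_lit 1] [nat_lit 0,nat_lit 0,nat_lit 4],Ins.df [nat_lit 2,nat_lit 2],Ins.df [nat_lit 6,nat_lit 6],Ins.df [nat_lit 0,nat_lit 1,nat_lit 8],Ins.df [nat_lit 1,nat_lit 7,nat_lit 8],Ins.df [nat_lit 2,nat_lit 5,nat_lit 5],Ins.df [nat_lit 0,nat_lit 10]] [nat_lit 96,nat_lit 112,nat_lit 36,nat_lit 4,nat_lit 128,nat_lit 256] [nat_lit 5,nat_lit 4,nat_lit 8,nat_lit 3,nat_lit 2,nat_lit 1,nat_lit 0,nat_lit 7,nat_lit 6] (Srch.ex0 [nat_lit 68,nat_lit 36,nat_lit 16,nat_lit 8,nat_lit 2,nat_lit 1] (Srch.rep (nat_lit 12) [nat_lit 4,nat_lit 16,nat_lit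 128] [nat_lit 128,nat_lit 34,nat_lit 16,nat_lit 8,nat_lit 4,nat_lit 1] [nat_lit 256,nat_lit 64,nat_lit 2] (Srch.rep (nat_lit 128) [nat_lit 128] [] [] (Srch.rep (nat_lit 182) [nat_lit 34] [] [] (Srch.rep (nat_lit 4) [nat_lit 12] [] [] (Srch.rep (nat_lit 36) [] [] [] (Srch.rep (nat_lit 97) [] [] [] (Srch.rep (nat_lit 454) [] [] [] (Srch.fin [nat_lit 256] [] []) (Srch.rep (nat_lit 455) [] [] [] (Srch.fin [nat_lit 256] [] []) Srch.nil)) (Srch.rep (nat_lit 96) [] [] [] (Srch.rep (nat_lit 479) [] [] [] (Srch.fin [nat_lit 256] [nat_lit 0] (((nat_lit 0),(Leaf.pt (nat_lit 18) (nat_lit 76) [nat_lit 906,nat_lit 26]))::(((nat_lit 1),(Leaf.pt (nat_lit 18) (nat_lit 76) [nat_lit 906,nat_lit 26]))::[]))) (Srch.rep (nat_lit 478) [] [] [] (Srch.fin [nat_lit 256] [nat_lit 0] (((nat_lit 0),(Leaf.pt (nat_lit 18) (nat_lit 76) [nat_lit 906,nat_lit 26]))::(((nat_lit 1),(Leaf.pt (nat_lit 18) (nat_lit 76) [nat_lit 906,nat_lit 26]))::[]))) Srch.nil)) Srch.nil)) Srch.nil) (Srch.rep (nat_lit 38) [nat_lit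 12] [] [] (Srch.rep (nat_lit 7) [] [] [] (Srch.rep (nat_lit 98) [] [] [] Srch.nil (Srch.rep (nat_lit 99) [] [] [] Srch.nil Srch.nil)) Srch.nil) Srch.nil)) Srch.nil) (Srch.rep (nat_lit 140) [nat_lit 128] [] [] (Srch.rep (nat_lit 186) [] [] [] Srch.nil Srch.nil) (Srch.rep (nat_lit 148) [nat_lit 148] [] [] (Srch.rep (nat_lit 162) [] [] [] Srch.nil Srch.nil) (Srch.rep (nat_lit 152) [nat_lit 148] [] [] (Srch.rep (nat_lit 174) [nat_lit 34] [] [] (Srch.rep (nat_lit 4) [nat_lit 12] [] [] (Srch.rep (nat_lit 36) [] [] [] (Srch.rep (nat_lit 121) [] [] [] (Srch.rep (nat_lit 454) [] [] [] (Srch.fin [nat_lit 256] [] []) (Srch.rep (nat_lit 455) [] [] [] (Srch.fin [nat_lit 256] [] []) Srch.nil)) (Srch.rep (nat_lit 120) [] [] [] (Srch.rep (nat_lit 479) [] [] [] (Srch.fin [nat_lit 256] [nat_lit 0] (((nat_lit 0),(Leaf.pt (nat_lit 3) (nat_lit 76) [nat_lit 770,nat_lit 70]))::(((nat_lit 1),(Leaf.pt (nat_lit 3) (nat_lit 76) [nat_lit 770,nat_lit 70]))::[]))) (Srch.rep (nat_lit 478) [] [] [] (Srch.fin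 [nat_lit 256] [nat_lit 0] (((nat_lit 0),(Leaf.pt (nat_lit 3) (nat_lit 76) [nat_lit 770,nat_lit 70]))::(((nat_lit 1),(Leaf.pt (nat_lit 3) (nat_lit 76) [nat_lit 770,nat_lit 70]))::[]))) Srch.nil)) Srch.nil)) Srch.nil) (Srch.rep (nat_lit 38) [nat_lit 12] [] [] (Srch.rep (nat_lit 7) [] [] [] (Srch.rep (nat_lit 122) [] [] [] Srch.nil (Srch.rep (nat_lit 123) [] [] [] Srch.nil Srch.nil)) Srch.nil) Srch.nil)) Srch.nil) Srch.nil)))) Srch.nil)) (Node.lf (Leaf.au (nat_lit 1) (nat_lit 0) (nat_lit 0) [] [] [nat_lit 3,nat_lit 1] (nat_lit 0) [] (nat_lit 32) [nat_lit 0,nat_lit 2,nat_lit 36,nat_lit 10,nat_lit 10,nat_lit 32,nat_lit 96,nat_lit 160,nat_lit 290])))))))))))))))))))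
theorem ok181 : nodeOK DB PT 181 t181 (nat_lit 0x3c3c00003c3c00003333000033330000000000000000000000000000000000f00c0cf0f00303f0f00000f0f0f0f0f0fcfc0303fc03fc03) (nat_lit 0x1111000011110000000000000000000011110000111100000000000000000000110011001100110000000000000000001100110011001100000000000000000000000000000000000000000000000000000000000000000000000000000000000000000000000000000000000000000000000000000000000000001111000000002200000022001111000011110000000000220000002211110000111100000000000000000000111100001111000011110000111100001111000011112200111122000000003300000033111122000000005511112200000000ff) c181 = true := by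
  decide +kernel
noncomputable def t182 : ℕ := nat_lit 0x1e701e701c601c601e401e401c401c401f801f801d901d901fa01fa01da01da01f901f901d801d801fb01fb01db01db01e701e701c601c601e401e401c401c401e601e601c701c701e501e501c501c501f901f901d801d801fb01fb01db01db01f801f801d901d901fa01fa01da01da01e601e601c701c701e501e501c501c5011c011c013c013c011f011f013e013e0103010301230123010101010120012001030103012301230101010101200120011d011d013d013d011e011e013f013f011d011d013d013d011e011e013f013f0102010201220122010001000121012101020102012201220100010001210121011c011c013c013c011f011f013e013e013e013e011f011f013d013d011d011d0121012101000100012301230103010301210121010001000123012301030103013f013f011e011e013c013c011c011c013f013f011e011e013c013c011c011c0120012001010101012201220102010201200120010101010122012201020102013e013e011f011f013d013d011d011d01dc01dc01fc01fc01df01df01fe01fe01c301c301e301e301c101c101e001e001c301c301e301e301c101c101e001e001dd01dd01fd01fd01de01de01ff01ff01dd01dd01fd01fd01de01de01ff01ff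01c201c201e201e201c001c001e101e101c201c201e201e201c001c001e101e101dc01dc01fc01fc01df01df01fe01fe01000100012001200102010201230123011e011e013e013e011d011d013c013c011f011f013f013f011c011c013d013d0100010001200120010201020123012301010101012101210103010301220122011f011f013f013f011c011c013d013d011e011e013e013e011d011d013c013c0101010101210121010301030122012201e301e301c201c201e101e101c101c101fd01fd01dc01dc01fe01fe01de01de01fc01fc01dd01dd01ff01ff01df01df01e301e301c201c201e101e101c101c101e201e201c301c301e001e001c001c001fc01fc01dd01dd01ff01ff01df01df01fd01fd01dc01dc01fe01fe01de01de01e201e201c301c301e001e001c001c001d801d801f801f801da01da01fb01fb01c601c601e601e601c501c501e401e401c601c601e601e601c501c501e401e401d901d901f901f901db01db01fa01fa01d901d901f901f901db01db01fa01fa01c701c701e701e701c401c401e501e501c701c701e701e701c401c401e501e501d801d801f801f801da01da01fb01fb01230123010201020121012101010101013d013d011c011c013e013e011e011e013c013c011d011d013f013f011f011f0123012301020102012101210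101010101220122010301030120012001000100013c013c011d011d013f013f011f011f013d013d011c011c013e013e011e011e01220122010301030120012001000100009900990099009900ba00ba00bb00bb00ba00ba00bb00bb009800980098009800ba00ba00bb00bb0098009800980098009900990099009900ba00ba00bb00bb009900990099009900ba00ba00bb00bb00ba00ba00bb00bb009800980098009800ba00ba00bb00bb0098009800980098009900990099009900ba00ba00bb00bb008000800080008000a300a300a200a200a200a200a300a3008000800080008000a300a300a200a20081008100810081008100810081008100a200a200a300a3008000800080008000a300a300a200a200a200a200a300a3008000800080008000a300a300a200a20081008100810081008100810081008100a200a200a300a300bb00bb00ba00ba0098009800980098009900990099009900bb00bb00ba00ba009900990099009900bb00bb00ba00ba00bb00bb00ba00ba009800980098009800bb00bb00ba00ba0098009800980098009900990099009900bb00bb00ba00ba009900990099009900bb00bb00ba00ba00bb00bb00ba00ba009800980098009800a200a200a300a30081008100810081008100810081008100a300a300a200a2008000800080008000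a200a200a300a300a300a300a200a2008000800080008000a200a200a300a30081008100810081008100810081008100a300a300a200a2008000800080008000a200a200a300a300a300a300a200a200800080008000800040004000400040004200420043004300410041004100410043004300420042004000400040004000420042004300430041004100410041004300430042004200400040004000400042004200430043004100410041004100430043004200420040004000400040004200420043004300410041004100410043004300420042004300430042004200410041004100410042004200430043004000400040004000430043004200420041004100410041004200420043004300400040004000400043004300420042004100410041004100420042004300430040004000400040004300430042004200410041004100410042004200430043004000400040004000200020002000200020002000200020002100210021002100210021002100210021002100210021002100210021002100200020002000200020002000200020002000200020002000200020002000200021002100210021002100210021002100210021002100210021002100210021002000200020002000200020002000200010001000100010001000100010001000100010001000100010001000100010001000100010001000100010001000100010001000100010001000100010001000090009000900090009000900090009000800080008000800080008000800080004000400050005000500050004000400030003000200020001000100000000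
noncomputable def c182 : Node :=
  (Node.st (nat_lit 0) (nat_lit 10) (nat_lit 0) (Node.st (nat_lit 2) (nat_lit 0) (nat_lit 10) (Node.st (nat_lit 0) (nat_lit 14) (nat_lit 0) (Node.st (nat_lit 2) (nat_lit 2) (nat_lit 5) (Node.st (nat_lit 0) (nat_lit 78) (nat_lit 0) (Node.sp (nat_lit 1) (Node.lf (Leaf.pt (nat_lit 9) (nat_lit 1) [nat_lit 10])) (Node.sp (nat_lit 26) (Node.lf (Leaf.pt (nat_lit 9) (nat_lit 26) [nat_lit 10])) (Node.st (nat_lit 0) (nat_lit 26) (nat_lit 0) (Node.sp (nat_lit 28) (Node.lf (Leaf.pt (nat_lit 9) (nat_lit 28) [nat_lit 12])) (Node.st (nat_lit 0) (nat_lit 28) (nat_lit 0) (Node.sp (nat_lit 32) (Node.lf (Leaf.pt (nat_lit 13) (nat_lit 32) [nat_lit 26])) (Node.st (nat_lit 0) (nat_lit 32) (nat_lit 0) (Node.sp (nat_lit 68) (Node.lf (Leaf.pt (nat_lit 9) (nat_lit 68) [nat_lit 10])) (Node.st (nat_lit 0) (nat_lit 68) (nat_lit 0) (Node.sp (nat_lit 92) (Node.lf (Leaf.pt (nat_lit 9) (nat_lit 92) [nat_lit 10])) (Node.st (nat_lit 0) (nat_lit 92) (nat_lit 0) (Node.ext [[nat_lit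 32,nat_lit 16,nat_lit 8,nat_lit 4,nat_lit 2,nat_lit 1]] (nat_lit 10) [Ins.ts (nat_lit 4) [nat_lit 0] [nat_lit 10,nat_lit 0,nat_lit 0],Ins.fr [nat_lit 0],Ins.ts (nat_lit 1) [nat_lit 0,nat_lit 0] [],Ins.ts (nat_lit 1) [nat_lit 0,nat_lit 0,nat_lit 0,nat_lit 0] [],Ins.fr [nat_lit 1],Ins.ts (nat_lit 1) [nat_lit 0,nat_lit 0] [],Ins.ts (nat_lit 0) [nat_lit 0,nat_lit 1,nat_lit 1,nat_lit 0] [],Ins.ts (nat_lit 0) [nat_lit 1,nat_lit 1,nat_lit 1] [nat_lit 0,nat_lit 1,nat_lit 0],Ins.ts (nat_lit 2) [nat_lit 0,nat_lit 0,nat_lit 1,nat_lit 0] [],Ins.fr [nat_lit 2],Ins.ts (nat_lit 1) [nat_lit 0,nat_lit 0] [],Ins.ts (nat_lit 4) [nat_lit 0] [nat_lit 37,nat_lit 0,nat_lit 0],Ins.ts (nat_lit 2) [nat_lit 1,nat_lit 0] [],Ins.ts (nat_lit 0) [nat_lit 0,nat_lit 2,nat_lit 0,nat_lit 2] [],Ins.ts (nat_lit 2) [nat_lit 1,nat_lit 0,nat_lit 2] [],Ins.fr [nat_lit 0,nat_lit 0,nat_lit 3],Ins.ts (nat_lit 4) [nat_lit 0] [nat_lit 5,nat_lit 0,nat_lit 0],Ins.ts (nat_lit 1) [nat_lit 0,nat_lit 0] [],Ins.ts (nat_lit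 2) [nat_lit 4,nat_lit 0] [],Ins.ts (nat_lit 0) [nat_lit 2,nat_lit 0,nat_lit 2] [nat_lit 0],Ins.ts (nat_lit 0) [nat_lit 1,nat_lit 0] [nat_lit 0,nat_lit 1],Ins.fr [nat_lit 0,nat_lit 1,nat_lit 2,nat_lit 2,nat_lit 4],Ins.ts (nat_lit 0) [nat_lit 0,nat_lit 3,nat_lit 0,nat_lit 4] [nat_lit 5],Ins.ts (nat_lit 0) [nat_lit 5,nat_lit 0,nat_lit 5] [nat_lit 0,nat_lit 0,nat_lit 0],Ins.fr [nat_lit 2,nat_lit 3,nat_lit 4],Ins.ts (nat_lit 0) [nat_lit 5,nat_lit 3,nat_lit 1] [nat_lit 0,nat_lit 0],Ins.df [nat_lit 2,nat_lit 2],Ins.df [nat_lit 6,nat_lit 6],Ins.df [nat_lit 0,nat_lit 1,nat_lit 8],Ins.df [nat_lit 1,nat_lit 7,nat_lit 8],Ins.df [nat_lit 2,nat_lit 5,nat_lit 5],Ins.df [nat_lit 0,nat_lit 10]] [nat_lit 96,nat_lit 112,nat_lit 36,nat_lit 4,nat_lit 128,nat_lit 256] [nat_lit 5,nat_lit 4,nat_lit 8,nat_lit 3,nat_lit 2,nat_lit 1,nat_lit 0,nat_lit 7,nat_lit 6] (Srch.ex0 [nat_lit 68,nat_lit 36,nat_lit 16,nat_lit 8,nat_lit 2,nat_lit 1] (Srch.rep (nat_lit 12) [nat_lit 4,nat_lit 16,nat_lit 128] [nat_lit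 128,nat_lit 34,nat_lit 16,nat_lit 8,nat_lit 4,nat_lit 1] [nat_lit 256,nat_lit 64,nat_lit 2] (Srch.rep (nat_lit 128) [nat_lit 128] [] [] (Srch.rep (nat_lit 182) [nat_lit 34] [] [] (Srch.rep (nat_lit 4) [nat_lit 12] [] [] (Srch.rep (nat_lit 36) [] [] [] (Srch.rep (nat_lit 97) [] [] [] (Srch.rep (nat_lit 454) [] [] [] (Srch.fin [nat_lit 256] [] []) (Srch.rep (nat_lit 455) [] [] [] (Srch.fin [nat_lit 256] [] []) Srch.nil)) (Srch.rep (nat_lit 96) [] [] [] (Srch.rep (nat_lit 479) [] [] [] (Srch.fin [nat_lit 256] [nat_lit 0] (((nat_lit 0),(Leaf.pt (nat_lit 18) (nat_lit 76) [nat_lit 906,nat_lit 26]))::(((nat_lit 1),(Leaf.pt (nat_lit 18) (nat_lit 76) [nat_lit 906,nat_lit 26]))::[]))) (Srch.rep (nat_lit 478) [] [] [] (Srch.fin [nat_lit 256] [nat_lit 0] (((nat_lit 0),(Leaf.pt (nat_lit 18) (nat_lit 76) [nat_lit 906,nat_lit 26]))::(((nat_lit 1),(Leaf.pt (nat_lit 18) (nat_lit 76) [nat_lit 906,nat_lit 26]))::[]))) Srch.nil)) Srch.nil)) Srch.nil) (Srch.rep (nat_lit 38) [nat_lit 12] [] []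 (Srch.rep (nat_lit 7) [] [] [] (Srch.rep (nat_lit 98) [] [] [] Srch.nil (Srch.rep (nat_lit 99) [] [] [] Srch.nil Srch.nil)) Srch.nil) Srch.nil)) Srch.nil) (Srch.rep (nat_lit 140) [nat_lit 128] [] [] (Srch.rep (nat_lit 186) [] [] [] Srch.nil Srch.nil) (Srch.rep (nat_lit 148) [nat_lit 148] [] [] (Srch.rep (nat_lit 162) [] [] [] Srch.nil Srch.nil) (Srch.rep (nat_lit 152) [nat_lit 148] [] [] (Srch.rep (nat_lit 174) [nat_lit 34] [] [] (Srch.rep (nat_lit 4) [nat_lit 12] [] [] (Srch.rep (nat_lit 36) [] [] [] (Srch.rep (nat_lit 121) [] [] [] (Srch.rep (nat_lit 454) [] [] [] (Srch.fin [nat_lit 256] [] []) (Srch.rep (nat_lit 455) [] [] [] (Srch.fin [nat_lit 256] [] []) Srch.nil)) (Srch.rep (nat_lit 120) [] [] [] (Srch.rep (nat_lit 479) [] [] [] (Srch.fin [nat_lit 256] [nat_lit 0] (((nat_lit 0),(Leaf.pt (nat_lit 3) (nat_lit 76) [nat_lit 770,nat_lit 70]))::(((nat_lit 1),(Leaf.pt (nat_lit 3) (nat_lit 76) [nat_lit 770,nat_lit 70]))::[]))) (Srch.rep (nat_lit 478) [] [] [] (Srch.fin [nat_lit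 256] [nat_lit 0] (((nat_lit 0),(Leaf.pt (nat_lit 3) (nat_lit 76) [nat_lit 770,nat_lit 70]))::(((nat_lit 1),(Leaf.pt (nat_lit 3) (nat_lit 76) [nat_lit 770,nat_lit 70]))::[]))) Srch.nil)) Srch.nil)) Srch.nil) (Srch.rep (nat_lit 38) [nat_lit 12] [] [] (Srch.rep (nat_lit 7) [] [] [] (Srch.rep (nat_lit 122) [] [] [] Srch.nil (Srch.rep (nat_lit 123) [] [] [] Srch.nil Srch.nil)) Srch.nil) Srch.nil)) Srch.nil) Srch.nil)))) Srch.nil)) (Node.lf (Leaf.au (nat_lit 1) (nat_lit 0) (nat_lit 0) [] [] [nat_lit 3,nat_lit 1] (nat_lit 0) [] (nat_lit 32) [nat_lit 0,nat_lit 2,nat_lit 36,nat_lit 10,nat_lit 10,nat_lit 32,nat_lit 96,nat_lit 160,nat_lit 290])))))))))))))))))))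
theorem ok182 : nodeOK DB PT 182 t182 (nat_lit 0xf00c0cf0f00303f0f00000f0f0f0f0f0fcfc0303fc03fc03) (nat_lit 0x1111000000002200000022001111000011110000000000220000002211110000111100000000000000000000111100001111000011110000111100001111000011112200111122000000003300000033111122000000005511112200000000ff) c182 = true := by
  decide +kernel
noncomputable def c183_0 : Srch :=
  Srch.rep (nat_lit 16) [nat_lit 4,nat_lit 8,nat_lit 64] [nat_lit 64,nat_lit 16,nat_lit 8,nat_lit 4,nat_lit 2,nat_lit 1] [nat_lit 128,nat_lit 32] (Srch.rep (nat_lit 64) [nat_lit 64] [] [] (Srch.rep (nat_lit 74) [nat_lit 2] [] [] (Srch.rep (nat_lit 4) [nat_lit 16] [] [] (Srch.rep (nat_lit 36) [] [] [] (Srch.rep (nat_lit 160) [] [] [] (Srch.fin [nat_lit 128,nat_lit 68] [nat_lit 0] (((nat_lit 0),(Leaf.pt (nat_lit 18) (nat_lit 76) [nat_lit 396,nat_lit 26]))::(((nat_lit 1),(Leaf.pt (nat_lit 18) (nat_lit 76) [nat_lit 396,nat_lit 26]))::[]))) (Srch.rep (nat_lit 161) [] [] [] (Srch.fin [nat_lit 128,nat_lit 68] [nat_lit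 0] (((nat_lit 0),(Leaf.pt (nat_lit 18) (nat_lit 76) [nat_lit 396,nat_lit 26]))::(((nat_lit 1),(Leaf.pt (nat_lit 18) (nat_lit 76) [nat_lit 396,nat_lit 26]))::[]))) Srch.nil)) Srch.nil) (Srch.rep (nat_lit 6) [nat_lit 16] [] [] (Srch.rep (nat_lit 38) [] [] [] (Srch.rep (nat_lit 160) [] [] [] (Srch.fin [nat_lit 128,nat_lit 68] [nat_lit 0] (((nat_lit 2),(Leaf.sp (nat_lit 386) (Leaf.pt (nat_lit 17) (nat_lit 386) [nat_lit 72,nat_lit 36]) (Leaf.sp (nat_lit 463) (Leaf.pt (nat_lit 17) (nat_lit 463) [nat_lit 198,nat_lit 110]) (Leaf.pt (nat_lit 13) (nat_lit 76) [nat_lit 386]))))::(((nat_lit 3),(Leaf.au (nat_lit 3) (nat_lit 16) (nat_lit 0) [[nat_lit 16,nat_lit 11,nat_lit 69,nat_lit 1]] [nat_lit 68,nat_lit 16,nat_lit 8,nat_lit 2,nat_lit 1] [nat_lit 5,nat_lit 704,nat_lit 5,nat_lit 640,nat_lit 5] (nat_lit 1) [nat_lit 0,nat_lit 1,nat_lit 69,nat_lit 68,nat_lit 11,nat_lit 10,nat_lit 78,nat_lit 79,nat_lit 16,nat_lit 17,nat_lit 85,nat_lit 84,nat_lit 27,nat_lit 26,nat_lit 94,nat_lit 95] (nat_lit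 0) [nat_lit 0,nat_lit 0,nat_lit 2,nat_lit 2,nat_lit 0]))::[]))) (Srch.rep (nat_lit 161) [] [] [] (Srch.fin [nat_lit 128,nat_lit 68] [nat_lit 0] (((nat_lit 2),(Leaf.sp (nat_lit 408) (Leaf.sp (nat_lit 389) (Leaf.pt (nat_lit 12) (nat_lit 389) [nat_lit 26,nat_lit 204]) (Leaf.pt (nat_lit 13) (nat_lit 408) [nat_lit 28])) (Leaf.sp (nat_lit 468) (Leaf.pt (nat_lit 17) (nat_lit 468) [nat_lit 198,nat_lit 110]) (Leaf.pt (nat_lit 13) (nat_lit 76) [nat_lit 408]))))::(((nat_lit 3),(Leaf.au (nat_lit 3) (nat_lit 16) (nat_lit 0) [[nat_lit 16,nat_lit 11,nat_lit 69,nat_lit 1]] [nat_lit 68,nat_lit 16,nat_lit 8,nat_lit 2,nat_lit 1] [nat_lit 5,nat_lit 704,nat_lit 5,nat_lit 640,nat_lit 5] (nat_lit 1) [nat_lit 0,nat_lit 1,nat_lit 69,nat_lit 68,nat_lit 11,nat_lit 10,nat_lit 78,nat_lit 79,nat_lit 16,nat_lit 17,nat_lit 85,nat_lit 84,nat_lit 27,nat_lit 26,nat_lit 94,nat_lit 95] (nat_lit 0) [nat_lit 0,nat_lit 0,nat_lit 2,nat_lit 2,nat_lit 0]))::[]))) Srch.nil)) Srch.nil) Srch.nil)) Srch.nil) (Srch.rep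 (nat_lit 72) [nat_lit 72] [] [] (Srch.rep (nat_lit 66) [] [] [] Srch.nil Srch.nil) (Srch.rep (nat_lit 80) [nat_lit 64] [] [] (Srch.rep (nat_lit 90) [] [] [] Srch.nil Srch.nil) (Srch.rep (nat_lit 88) [nat_lit 72] [] [] (Srch.rep (nat_lit 82) [nat_lit 2] [] [] (Srch.rep (nat_lit 4) [nat_lit 16] [] [] (Srch.rep (nat_lit 36) [] [] [] (Srch.rep (nat_lit 160) [] [] [] (Srch.fin [nat_lit 128,nat_lit 68] [nat_lit 0] (((nat_lit 32),(Leaf.pt (nat_lit 12) (nat_lit 76) [nat_lit 70,nat_lit 260]))::(((nat_lit 33),(Leaf.pt (nat_lit 19) (nat_lit 76) [nat_lit 34,nat_lit 270]))::[]))) (Srch.rep (nat_lit 161) [] [] [] (Srch.fin [nat_lit 128,nat_lit 68] [nat_lit 0] (((nat_lit 32),(Leaf.pt (nat_lit 12) (nat_lit 76) [nat_lit 70,nat_lit 260]))::(((nat_lit 33),(Leaf.pt (nat_lit 19) (nat_lit 76) [nat_lit 34,nat_lit 270]))::[]))) Srch.nil)) Srch.nil) (Srch.rep (nat_lit 6) [nat_lit 16] [] [] (Srch.rep (nat_lit 38) [] [] [] (Srch.rep (nat_lit 160) [] [] [] (Srch.fin [nat_lit 128,nat_lit 68] [nat_lit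 0] (((nat_lit 34),(Leaf.pt (nat_lit 3) (nat_lit 76) [nat_lit 256,nat_lit 70]))::(((nat_lit 35),(Leaf.pt (nat_lit 3) (nat_lit 76) [nat_lit 256,nat_lit 70]))::[]))) (Srch.rep (nat_lit 161) [] [] [] (Srch.fin [nat_lit 128,nat_lit 68] [nat_lit 0] (((nat_lit 34),(Leaf.pt (nat_lit 3) (nat_lit 76) [nat_lit 256,nat_lit 70]))::(((nat_lit 35),(Leaf.pt (nat_lit 3) (nat_lit 76) [nat_lit 256,nat_lit 70]))::[]))) Srch.nil)) Srch.nil) Srch.nil)) Srch.nil) Srch.nil)))) (Srch.rep (nat_lit 52) [nat_lit 4,nat_lit 10,nat_lit 130] [nat_lit 130,nat_lit 34,nat_lit 18,nat_lit 10,nat_lit 4,nat_lit 1] [nat_lit 64,nat_lit 2] (Srch.rep (nat_lit 130) [nat_lit 130] [] [] (Srch.rep (nat_lit 140) [nat_lit 22] [] [] (Srch.rep (nat_lit 4) [nat_lit 52] [] [] (Srch.rep (nat_lit 36) [] [] [] (Srch.rep (nat_lit 66) [] [] [] (Srch.fin [nat_lit 64] [] []) (Srch.rep (nat_lit 67) [] [] [] (Srch.fin [nat_lit 64] [nat_lit 0] (((nat_lit 33),(Leaf.mp (nat_lit 179) [nat_lit 1,nat_lit 2,nat_lit 4,nat_lit 8,nat_lit 16,nat_lit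 32,nat_lit 64,nat_lit 128,nat_lit 256] [[nat_lit 1],[nat_lit 3],[nat_lit 5]]))::(((nat_lit 32),(Leaf.mp (nat_lit 180) [nat_lit 1,nat_lit 2,nat_lit 4,nat_lit 8,nat_lit 16,nat_lit 32,nat_lit 64,nat_lit 128,nat_lit 256] [[nat_lit 1],[nat_lit 3],[nat_lit 5]]))::[]))) Srch.nil)) Srch.nil) (Srch.rep (nat_lit 38) [nat_lit 52] [] [] (Srch.rep (nat_lit 7) [] [] [] (Srch.rep (nat_lit 64) [] [] [] (Srch.fin [nat_lit 128] [] []) (Srch.rep (nat_lit 65) [] [] [] (Srch.fin [nat_lit 128] [] []) Srch.nil)) Srch.nil) Srch.nil)) Srch.nil) (Srch.rep (nat_lit 140) [nat_lit 140] [] [] (Srch.rep (nat_lit 130) [nat_lit 22] [] [] (Srch.rep (nat_lit 4) [] [] [] Srch.nil (Srch.rep (nat_lit 38) [] [] [] Srch.nil Srch.nil)) Srch.nil) (Srch.rep (nat_lit 148) [nat_lit 130] [] [] (Srch.rep (nat_lit 154) [nat_lit 22] [] [] (Srch.rep (nat_lit 4) [] [] [] Srch.nil (Srch.rep (nat_lit 38) [] [] [] Srch.nil Srch.nil)) Srch.nil) (Srch.rep (nat_lit 154) [nat_lit 140] [] [] (Srch.rep (nat_lit 148) [nat_lit 22]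 [] [] (Srch.rep (nat_lit 4) [nat_lit 52] [] [] (Srch.rep (nat_lit 36) [] [] [] (Srch.rep (nat_lit 66) [] [] [] (Srch.fin [nat_lit 128] [] []) (Srch.rep (nat_lit 67) [] [] [] (Srch.fin [nat_lit 128] [] []) Srch.nil)) Srch.nil) (Srch.rep (nat_lit 38) [nat_lit 52] [] [] (Srch.rep (nat_lit 7) [] [] [] (Srch.rep (nat_lit 64) [] [] [] (Srch.fin [nat_lit 64] [nat_lit 0] (((nat_lit 230),(Leaf.mp (nat_lit 181) [nat_lit 1,nat_lit 2,nat_lit 4,nat_lit 8,nat_lit 16,nat_lit 32,nat_lit 64,nat_lit 128,nat_lit 256] [[nat_lit 1],[nat_lit 3],[nat_lit 5]]))::(((nat_lit 231),(Leaf.mp (nat_lit 182) [nat_lit 1,nat_lit 2,nat_lit 4,nat_lit 8,nat_lit 16,nat_lit 32,nat_lit 64,nat_lit 128,nat_lit 256] [[nat_lit 1],[nat_lit 3],[nat_lit 5]]))::[]))) (Srch.rep (nat_lit 65) [] [] [] (Srch.fin [nat_lit 64] [] []) Srch.nil)) Srch.nil) Srch.nil)) Srch.nil) Srch.nil)))) Srch.nil)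
noncomputable def c183_1 : Node :=
  Node.st (nat_lit 0) (nat_lit 55) (nat_lit 0) (Node.st (nat_lit 2) (nat_lit 2) (nat_lit 5) (Node.st (nat_lit 0) (nat_lit 78) (nat_lit 0) (Node.sp (nat_lit 1) (Node.lf (Leaf.pt (nat_lit 9) (nat_lit 1) [nat_lit 10])) (Node.sp (nat_lit 26) (Node.lf (Leaf.pt (nat_lit 9) (nat_lit 26) [nat_lit 10])) (Node.st (nat_lit 0) (nat_lit 26) (nat_lit 0) (Node.sp (nat_lit 28) (Node.lf (Leaf.pt (nat_lit 9) (nat_lit 28) [nat_lit 12])) (Node.st (nat_lit 0) (nat_lit 28) (nat_lit 0) (Node.sp (nat_lit 32) (Node.lf (Leaf.pt (nat_lit 13) (nat_lit 32) [nat_lit 28])) (Node.st (nat_lit 0) (nat_lit 32) (nat_lit 0) (Node.sp (nat_lit 58) (Node.lf (Leaf.pt (nat_lit 9) (nat_lit 58) [nat_lit 12])) (Node.st (nat_lit 0) (nat_lit 58) (nat_lit 0) (Node.sp (nat_lit 68) (Node.lf (Leaf.pt (nat_lit 9) (nat_lit 68) [nat_lit 10])) (Node.st (nat_lit 0) (nat_lit 68) (nat_lit 0) (Node.sp (nat_lit 92) (Node.lf (Leaf.pt (nat_lit 9) (nat_lit 92) [nat_lit 10])) (Node.st (nat_lit 0) (nat_lit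 92) (nat_lit 0) (Node.ext [[nat_lit 32,nat_lit 16,nat_lit 8,nat_lit 4,nat_lit 2,nat_lit 1]] (nat_lit 10) [Ins.ts (nat_lit 4) [nat_lit 0] [nat_lit 10,nat_lit 0,nat_lit 0],Ins.fr [nat_lit 0],Ins.ts (nat_lit 1) [nat_lit 0,nat_lit 0] [],Ins.ts (nat_lit 1) [nat_lit 0,nat_lit 0,nat_lit 0,nat_lit 0] [],Ins.fr [nat_lit 1],Ins.ts (nat_lit 1) [nat_lit 0,nat_lit 0] [],Ins.ts (nat_lit 0) [nat_lit 0,nat_lit 1,nat_lit 1,nat_lit 0] [],Ins.ts (nat_lit 0) [nat_lit 1,nat_lit 1,nat_lit 1] [nat_lit 0,nat_lit 1,nat_lit 0],Ins.ts (nat_lit 2) [nat_lit 0,nat_lit 0,nat_lit 1,nat_lit 0] [],Ins.fr [nat_lit 2],Ins.ts (nat_lit 4) [nat_lit 0] [nat_lit 37,nat_lit 0,nat_lit 0],Ins.ts (nat_lit 1) [nat_lit 0,nat_lit 0] [],Ins.ts (nat_lit 2) [nat_lit 1,nat_lit 0,nat_lit 2] [],Ins.ts (nat_lit 0) [nat_lit 0,nat_lit 2,nat_lit 0,nat_lit 2] [],Ins.ts (nat_lit 2) [nat_lit 1,nat_lit 0] [],Ins.fr [nat_lit 0,nat_lit 0,nat_lit 3],Ins.ts (nat_lit 4) [nat_lit 0] [nat_lit 5,nat_lit 0,nat_lit 0],Ins.ts (nat_lit 1) [nat_lit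 0,nat_lit 0] [],Ins.ts (nat_lit 2) [nat_lit 4,nat_lit 0] [],Ins.ts (nat_lit 0) [nat_lit 2,nat_lit 0,nat_lit 2] [nat_lit 0],Ins.ts (nat_lit 0) [nat_lit 1,nat_lit 0] [nat_lit 0,nat_lit 1],Ins.fr [nat_lit 0,nat_lit 1,nat_lit 2,nat_lit 2,nat_lit 4],Ins.ts (nat_lit 0) [nat_lit 4,nat_lit 4,nat_lit 2] [nat_lit 1,nat_lit 0,nat_lit 0],Ins.ts (nat_lit 0) [nat_lit 0,nat_lit 3,nat_lit 0,nat_lit 4] [nat_lit 5],Ins.df [nat_lit 1,nat_lit 1],Ins.df [nat_lit 5,nat_lit 5],Ins.df [nat_lit 0,nat_lit 1,nat_lit 7],Ins.df [nat_lit 1,nat_lit 6,nat_lit 7],Ins.df [nat_lit 2,nat_lit 4,nat_lit 4],Ins.df [nat_lit 0,nat_lit 9]] [nat_lit 96,nat_lit 112,nat_lit 36,nat_lit 4,nat_lit 128] [nat_lit 5,nat_lit 4,nat_lit 7,nat_lit 3,nat_lit 2,nat_lit 1,nat_lit 0,nat_lit 6] (Srch.ex0 [nat_lit 68,nat_lit 36,nat_lit 16,nat_lit 8,nat_lit 2,nat_lit 1] (Srch.rep (nat_lit 12) [nat_lit 4,nat_lit 16,nat_lit 128] [nat_lit 128,nat_lit 34,nat_lit 16,nat_lit 8,nat_lit 4,nat_lit 1] [nat_lit 64,nat_lit 2] (Srch.rep (nat_lit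 128) [nat_lit 128] [] [] (Srch.rep (nat_lit 182) [nat_lit 34] [] [] (Srch.rep (nat_lit 4) [nat_lit 12] [] [] (Srch.rep (nat_lit 36) [] [] [] (Srch.rep (nat_lit 97) [] [] [] (Srch.fin [nat_lit 64] [] []) (Srch.rep (nat_lit 96) [] [] [] (Srch.fin [nat_lit 64] [nat_lit 0] (((nat_lit 0),(Leaf.au (nat_lit 2) (nat_lit 16) (nat_lit 1) [[nat_lit 32,nat_lit 16,nat_lit 8,nat_lit 4,nat_lit 2,nat_lit 1]] [nat_lit 64,nat_lit 32,nat_lit 16,nat_lit 8,nat_lit 4,nat_lit 2,nat_lit 1] [nat_lit 3,nat_lit 832,nat_lit 3] (nat_lit 2) [] (nat_lit 2) [nat_lit 64,nat_lit 32,nat_lit 8,nat_lit 8,nat_lit 6,nat_lit 2,nat_lit 0]))::(((nat_lit 1),(Leaf.au (nat_lit 2) (nat_lit 16) (nat_lit 1) [[nat_lit 32,nat_lit 16,nat_lit 8,nat_lit 4,nat_lit 2,nat_lit 1]] [nat_lit 64,nat_lit 32,nat_lit 16,nat_lit 8,nat_lit 4,nat_lit 2,nat_lit 1] [nat_lit 3,nat_lit 832,nat_lit 3] (nat_lit 2) [] (nat_lit 2) [nat_lit 64,nat_lit 32,nat_lit 8,nat_lit 8,nat_lit 6,nat_lit 2,nat_lit 0]))::[]))) Srch.nil)) Srch.nil) (Srch.rep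 (nat_lit 38) [nat_lit 12] [] [] (Srch.rep (nat_lit 7) [] [] [] (Srch.rep (nat_lit 98) [] [] [] (Srch.fin [nat_lit 128] [] []) (Srch.rep (nat_lit 99) [] [] [] (Srch.fin [nat_lit 128] [] []) Srch.nil)) Srch.nil) Srch.nil)) Srch.nil) (Srch.rep (nat_lit 140) [nat_lit 128] [] [] (Srch.rep (nat_lit 186) [nat_lit 34] [] [] (Srch.rep (nat_lit 4) [] [] [] Srch.nil (Srch.rep (nat_lit 38) [] [] [] Srch.nil Srch.nil)) Srch.nil) (Srch.rep (nat_lit 148) [nat_lit 148] [] [] (Srch.rep (nat_lit 162) [nat_lit 34] [] [] (Srch.rep (nat_lit 4) [] [] [] Srch.nil (Srch.rep (nat_lit 38) [] [] [] Srch.nil Srch.nil)) Srch.nil) (Srch.rep (nat_lit 152) [nat_lit 148] [] [] (Srch.rep (nat_lit 174) [nat_lit 34] [] [] (Srch.rep (nat_lit 4) [nat_lit 12] [] [] (Srch.rep (nat_lit 36) [] [] [] (Srch.rep (nat_lit 121) [] [] [] (Srch.fin [nat_lit 64] [] []) (Srch.rep (nat_lit 120) [] [] [] (Srch.fin [nat_lit 64] [nat_lit 0] (((nat_lit 0),(Leaf.au (nat_lit 2) (nat_lit 16) (nat_lit 1) [[nat_lit 32,nat_lit 16,nat_lit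 8,nat_lit 4,nat_lit 2,nat_lit 1]] [nat_lit 64,nat_lit 32,nat_lit 16,nat_lit 8,nat_lit 4,nat_lit 2,nat_lit 1] [nat_lit 3,nat_lit 832,nat_lit 3] (nat_lit 2) [] (nat_lit 2) [nat_lit 64,nat_lit 32,nat_lit 8,nat_lit 8,nat_lit 6,nat_lit 2,nat_lit 0]))::(((nat_lit 1),(Leaf.au (nat_lit 2) (nat_lit 16) (nat_lit 1) [[nat_lit 32,nat_lit 16,nat_lit 8,nat_lit 4,nat_lit 2,nat_lit 1]] [nat_lit 64,nat_lit 32,nat_lit 16,nat_lit 8,nat_lit 4,nat_lit 2,nat_lit 1] [nat_lit 3,nat_lit 832,nat_lit 3] (nat_lit 2) [] (nat_lit 2) [nat_lit 64,nat_lit 32,nat_lit 8,nat_lit 8,nat_lit 6,nat_lit 2,nat_lit 0]))::[]))) Srch.nil)) Srch.nil) (Srch.rep (nat_lit 38) [nat_lit 12] [] [] (Srch.rep (nat_lit 7) [] [] [] (Srch.rep (nat_lit 122) [] [] [] (Srch.fin [nat_lit 128] [] []) (Srch.rep (nat_lit 123) [] [] [] (Srch.fin [nat_lit 128] [] []) Srch.nil)) Srch.nil) Srch.nil)) Srch.nil) Srch.nil)))) c183_0)) (Node.lf (Leaf.au (nat_lit 1) (nat_lit 0) (nat_lit 0) [] [] [nat_lit 3,nat_lit 1] (nat_lit 0) [] (nat_lit 32)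 [nat_lit 0,nat_lit 2,nat_lit 36,nat_lit 10,nat_lit 10,nat_lit 32,nat_lit 96,nat_lit 160]))))))))))))))))))
noncomputable def t183 : ℕ := nat_lit 0x9900990099009900ba00ba00bb00bb00ba00ba00bb00bb009800980098009800ba00ba00bb00bb0098009800980098009900990099009900ba00ba00bb00bb009900990099009900ba00ba00bb00bb00ba00ba00bb00bb009800980098009800ba00ba00bb00bb0098009800980098009900990099009900ba00ba00bb00bb008000800080008000a300a300a200a200a200a200a300a3008000800080008000a300a300a200a20081008100810081008100810081008100a200a200a300a3008000800080008000a300a300a200a200a200a200a300a3008000800080008000a300a300a200a20081008100810081008100810081008100a200a200a300a300bb00bb00ba00ba0098009800980098009900990099009900bb00bb00ba00ba009900990099009900bb00bb00ba00ba00bb00bb00ba00ba009800980098009800bb00bb00ba00ba0098009800980098009900990099009900bb00bb00ba00ba009900990099009900bb00bb00ba00ba00bb00bb00ba00ba009800980098009800a200a200a300a30081008100810081008100810081008100a300a300a200a20080008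00080008000a200a200a300a300a300a300a200a2008000800080008000a200a200a300a30081008100810081008100810081008100a300a300a200a2008000800080008000a200a200a300a300a300a300a200a200800080008000800040004000400040004200420043004300410041004100410043004300420042004000400040004000420042004300430041004100410041004300430042004200400040004000400042004200430043004100410041004100430043004200420040004000400040004200420043004300410041004100410043004300420042004300430042004200410041004100410042004200430043004000400040004000430043004200420041004100410041004200420043004300400040004000400043004300420042004100410041004100420042004300430040004000400040004300430042004200410041004100410042004200430043004000400040004000200020002000200020002000200020002100210021002100210021002100210021002100210021002100210021002100200020002000200020002000200020002000200020002000200020002000200021002100210021002100210021002100210021002100210021002100210021002000200020002000200020002000200010001000100010001000100010001000100010001000100010001000100010001000100010001000100010001000100010001000100010001000100010001000090009000900090009000900090009000800080008000800080008000800080004000400050005000500050004000400030003000200020001000100000000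
noncomputable def c183 : Node :=
  (Node.st (nat_lit 0) (nat_lit 10) (nat_lit 0) (Node.st (nat_lit 2) (nat_lit 0) (nat_lit 10) (Node.st (nat_lit 0) (nat_lit 14) (nat_lit 0) (Node.st (nat_lit 2) (nat_lit 1) (nat_lit 10) (Node.st (nat_lit 0) (nat_lit 17) (nat_lit 0) (Node.st (nat_lit 2) (nat_lit 1) (nat_lit 14) c183_1))))))
theorem ok183 : nodeOK DB PT 183 t183 (nat_lit 0xf00c0cf0f00303f0f00000f0f0f0f0f0fcfc0303fc03fc03) (nat_lit 0x1111000000002200000022001111000011110000000000220000002211110000111100000000000000000000111100001111000011110000111100001111000011112200111122000000003300000033111122000000005511112200000000ff) c183 = true := by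
  decide +kernel
noncomputable def c184_0 : Node :=
  Node.st (nat_lit 0) (nat_lit 68) (nat_lit 0) (Node.sp (nat_lit 92) (Node.lf (Leaf.pt (nat_lit 9) (nat_lit 92) [nat_lit 10])) (Node.st (nat_lit 0) (nat_lit 92) (nat_lit 0) (Node.sp (nat_lit 128) (Node.lf (Leaf.pt (nat_lit 22) (nat_lit 128) [nat_lit 32,nat_lit 2,nat_lit 4])) (Node.st (nat_lit 0) (nat_lit 128) (nat_lit 0) (Node.ext [[nat_lit 32,nat_lit 16,nat_lit 8,nat_lit 4,nat_lit 2,nat_lit 1]] (nat_lit 10) [Ins.ts (nat_lit 4) [nat_lit 0] [nat_lit 10,nat_lit 0,nat_lit 0],Ins.fr [nat_lit 0],Ins.ts (nat_lit 1) [nat_lit 0,nat_lit 0] [],Ins.ts (nat_lit 1) [nat_lit 0,nat_lit 0,nat_lit 0,nat_lit 0] [],Ins.fr [nat_lit 1],Ins.ts (nat_lit 1) [nat_lit 0,nat_lit 0] [],Ins.ts (nat_lit 0) [nat_lit 0,nat_lit 1,nat_lit 1,nat_lit 0] [],Ins.ts (nat_lit 0) [nat_lit 1,nat_lit 1,nat_lit 1] [nat_lit 0,nat_lit 1,nat_lit 0],Ins.ts (nat_lit 2) [nat_lit 0,nat_lit 0,nat_lit 1,nat_lit 0] [],Ins.fr [nat_lit 2],Ins.ts (nat_lit 1) [nat_lit 0,nat_lit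 0] [],Ins.ts (nat_lit 4) [nat_lit 0] [nat_lit 37,nat_lit 0,nat_lit 0],Ins.ts (nat_lit 2) [nat_lit 1,nat_lit 0] [],Ins.ts (nat_lit 0) [nat_lit 0,nat_lit 2,nat_lit 0,nat_lit 2] [],Ins.ts (nat_lit 2) [nat_lit 1,nat_lit 0,nat_lit 2] [],Ins.fr [nat_lit 0,nat_lit 0,nat_lit 3],Ins.ts (nat_lit 4) [nat_lit 0] [nat_lit 5,nat_lit 0,nat_lit 0],Ins.ts (nat_lit 1) [nat_lit 0,nat_lit 0] [],Ins.ts (nat_lit 2) [nat_lit 4,nat_lit 0] [],Ins.ts (nat_lit 0) [nat_lit 2,nat_lit 0,nat_lit 2] [nat_lit 0],Ins.ts (nat_lit 0) [nat_lit 1,nat_lit 0] [nat_lit 0,nat_lit 1],Ins.fr [nat_lit 0,nat_lit 1,nat_lit 2,nat_lit 3],Ins.ts (nat_lit 0) [nat_lit 0,nat_lit 0] [],Ins.ts (nat_lit 0) [nat_lit 4,nat_lit 0,nat_lit 3] [nat_lit 5,nat_lit 0],Ins.df [nat_lit 1,nat_lit 1],Ins.df [nat_lit 5,nat_lit 5],Ins.df [nat_lit 0,nat_lit 1,nat_lit 7],Ins.df [nat_lit 1,nat_lit 6,nat_lit 7],Ins.df [nat_lit 3,nat_lit 5,nat_lit 6],Ins.df [nat_lit 0,nat_lit 9]] [nat_lit 96,nat_lit 112,nat_lit 36,nat_lit 4,nat_lit 128] [nat_lit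 5,nat_lit 4,nat_lit 7,nat_lit 3,nat_lit 2,nat_lit 1,nat_lit 0,nat_lit 6] (Srch.ex0 [nat_lit 68,nat_lit 36,nat_lit 16,nat_lit 8,nat_lit 2,nat_lit 1] (Srch.rep (nat_lit 12) [] [nat_lit 34,nat_lit 16,nat_lit 8,nat_lit 4,nat_lit 1] [nat_lit 128,nat_lit 64,nat_lit 2] Srch.nil (Srch.rep (nat_lit 16) [nat_lit 4,nat_lit 8,nat_lit 64] [nat_lit 64,nat_lit 16,nat_lit 8,nat_lit 4,nat_lit 2,nat_lit 1] [nat_lit 128,nat_lit 32] (Srch.rep (nat_lit 64) [nat_lit 64] [] [] (Srch.rep (nat_lit 74) [nat_lit 2] [] [] (Srch.rep (nat_lit 4) [nat_lit 16] [] [] (Srch.rep (nat_lit 36) [] [] [] (Srch.rep (nat_lit 160) [] [] [] (Srch.fin [nat_lit 128,nat_lit 68] [nat_lit 0] (((nat_lit 0),(Leaf.pt (nat_lit 17) (nat_lit 12) [nat_lit 468,nat_lit 4]))::(((nat_lit 1),(Leaf.pt (nat_lit 17) (nat_lit 12) [nat_lit 448,nat_lit 4]))::[]))) (Srch.rep (nat_lit 161) [] [] [] (Srch.fin [nat_lit 128,nat_lit 68] [nat_lit 0] (((nat_lit 0),(Leaf.pt (nat_lit 17) (nat_lit 12) [nat_lit 448,nat_lit 4]))::(((nat_lit 1),(Leaf.pt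 (nat_lit 17) (nat_lit 12) [nat_lit 468,nat_lit 4]))::[]))) Srch.nil)) Srch.nil) (Srch.rep (nat_lit 6) [nat_lit 16] [] [] (Srch.rep (nat_lit 38) [] [] [] (Srch.rep (nat_lit 160) [] [] [] (Srch.fin [nat_lit 128,nat_lit 68] [nat_lit 0] (((nat_lit 2),(Leaf.au (nat_lit 3) (nat_lit 16) (nat_lit 0) [[nat_lit 16,nat_lit 11,nat_lit 69,nat_lit 1]] [nat_lit 68,nat_lit 16,nat_lit 8,nat_lit 2,nat_lit 1] [nat_lit 5,nat_lit 704,nat_lit 5,nat_lit 640,nat_lit 5] (nat_lit 1) [nat_lit 0,nat_lit 1,nat_lit 69,nat_lit 68,nat_lit 11,nat_lit 10,nat_lit 78,nat_lit 79,nat_lit 16,nat_lit 17,nat_lit 85,nat_lit 84,nat_lit 27,nat_lit 26,nat_lit 94,nat_lit 95] (nat_lit 0) [nat_lit 0,nat_lit 0,nat_lit 2,nat_lit 2,nat_lit 0]))::(((nat_lit 3),(Leaf.pt (nat_lit 17) (nat_lit 12) [nat_lit 384,nat_lit 4]))::[]))) (Srch.rep (nat_lit 161) [] [] [] (Srch.fin [nat_lit 128,nat_lit 68] [nat_lit 0] (((nat_lit 2),(Leaf.pt (nat_lit 17) (nat_lit 12) [nat_lit 384,nat_lit 4]))::(((nat_lit 3),(Leaf.au (nat_lit 3) (nat_lit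 16) (nat_lit 0) [[nat_lit 16,nat_lit 11,nat_lit 69,nat_lit 1]] [nat_lit 68,nat_lit 16,nat_lit 8,nat_lit 2,nat_lit 1] [nat_lit 5,nat_lit 704,nat_lit 5,nat_lit 640,nat_lit 5] (nat_lit 1) [nat_lit 0,nat_lit 1,nat_lit 69,nat_lit 68,nat_lit 11,nat_lit 10,nat_lit 78,nat_lit 79,nat_lit 16,nat_lit 17,nat_lit 85,nat_lit 84,nat_lit 27,nat_lit 26,nat_lit 94,nat_lit 95] (nat_lit 0) [nat_lit 0,nat_lit 0,nat_lit 2,nat_lit 2,nat_lit 0]))::[]))) Srch.nil)) Srch.nil) Srch.nil)) Srch.nil) (Srch.rep (nat_lit 72) [nat_lit 72] [] [] (Srch.rep (nat_lit 66) [] [] [] Srch.nil Srch.nil) (Srch.rep (nat_lit 80) [nat_lit 64] [] [] (Srch.rep (nat_lit 90) [] [] [] Srch.nil Srch.nil) (Srch.rep (nat_lit 88) [nat_lit 72] [] [] (Srch.rep (nat_lit 82) [nat_lit 2] [] [] (Srch.rep (nat_lit 4) [nat_lit 16] [] [] (Srch.rep (nat_lit 36) [] [] [] (Srch.rep (nat_lit 152) [] [] [] (Srch.fin [nat_lit 128,nat_lit 68] [nat_lit 0] (((nat_lit 32),(Leaf.pt (nat_lit 12) (nat_lit 76) [nat_lit 70,nat_lit 260]))::(((nat_lit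 33),(Leaf.pt (nat_lit 17) (nat_lit 12) [nat_lit 448,nat_lit 4]))::[]))) (Srch.rep (nat_lit 153) [] [] [] (Srch.fin [nat_lit 128,nat_lit 68] [nat_lit 0] (((nat_lit 32),(Leaf.pt (nat_lit 17) (nat_lit 12) [nat_lit 448,nat_lit 4]))::(((nat_lit 33),(Leaf.pt (nat_lit 19) (nat_lit 76) [nat_lit 34,nat_lit 270]))::[]))) Srch.nil)) Srch.nil) (Srch.rep (nat_lit 6) [nat_lit 16] [] [] (Srch.rep (nat_lit 38) [] [] [] (Srch.rep (nat_lit 152) [] [] [] (Srch.fin [nat_lit 128,nat_lit 68] [nat_lit 0] (((nat_lit 34),(Leaf.pt (nat_lit 12) (nat_lit 12) [nat_lit 28,nat_lit 384]))::(((nat_lit 35),(Leaf.pt (nat_lit 12) (nat_lit 12) [nat_lit 28,nat_lit 384]))::[]))) (Srch.rep (nat_lit 153) [] [] [] (Srch.fin [nat_lit 128,nat_lit 68] [nat_lit 0] (((nat_lit 34),(Leaf.pt (nat_lit 12) (nat_lit 12) [nat_lit 28,nat_lit 384]))::(((nat_lit 35),(Leaf.pt (nat_lit 12) (nat_lit 12) [nat_lit 28,nat_lit 384]))::[]))) Srch.nil)) Srch.nil) Srch.nil)) Srch.nil) Srch.nil)))) Srch.nil))) (Node.lf (Leaf.au (nat_lit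 1) (nat_lit 0) (nat_lit 0) [] [] [nat_lit 3,nat_lit 1] (nat_lit 0) [] (nat_lit 32) [nat_lit 0,nat_lit 2,nat_lit 36,nat_lit 10,nat_lit 10,nat_lit 32,nat_lit 96,nat_lit 128])))))))
noncomputable def t184 : ℕ := nat_lit 0xa100a100a100a100a100a100a100a1009800980098009800980098009800980098009800980098009800980098009800a000a000a000a000a000a000a000a000a100a100a100a100a100a100a100a1009800980098009800980098009800980098009800980098009800980098009800a000a000a000a000a000a000a000a00081008100810081008100810081008100b800b800b800b800b800b800b800b800b800b800b800b800b800b800b800b8008000800080008000800080008000800081008100810081008100810081008100b800b800b800b800b800b800b800b800b800b800b800b800b800b800b800b80080008000800080008000800080008000a100a100a100a100a100a100a100a1009800980098009800980098009800980098009800980098009800980098009800a000a000a000a000a000a000a000a000a100a100a100a100a100a100a100a1009800980098009800980098009800980098009800980098009800980098009800a000a000a000a000a000a000a000a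00081008100810081008100810081008100b800b800b800b800b800b800b800b800b800b800b800b800b800b800b800b8008000800080008000800080008000800081008100810081008100810081008100b800b800b800b800b800b800b800b800b800b800b800b800b800b800b800b8008000800080008000800080008000800040004000400040004200420043004300410041004100410043004300420042004000400040004000420042004300430041004100410041004300430042004200400040004000400042004200430043004100410041004100430043004200420040004000400040004200420043004300410041004100410043004300420042004300430042004200410041004100410042004200430043004000400040004000430043004200420041004100410041004200420043004300400040004000400043004300420042004100410041004100420042004300430040004000400040004300430042004200410041004100410042004200430043004000400040004000200020002000200020002000200020002100210021002100210021002100210021002100210021002100210021002100200020002000200020002000200020002000200020002000200020002000200021002100210021002100210021002100210021002100210021002100210021002000200020002000200020002000200010001000100010001000100010001000100010001000100010001000100010001000100010001000100010001000100010001000100010001000100010001000090009000900090009000900090009000800080008000800080008000800080004000400050005000500050004000400030003000200020001000100000000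
noncomputable def c184 : Node :=
  (Node.st (nat_lit 0) (nat_lit 10) (nat_lit 0) (Node.st (nat_lit 2) (nat_lit 0) (nat_lit 10) (Node.st (nat_lit 0) (nat_lit 14) (nat_lit 0) (Node.st (nat_lit 2) (nat_lit 1) (nat_lit 10) (Node.st (nat_lit 0) (nat_lit 17) (nat_lit 0) (Node.st (nat_lit 2) (nat_lit 2) (nat_lit 5) (Node.st (nat_lit 0) (nat_lit 78) (nat_lit 0) (Node.sp (nat_lit 1) (Node.lf (Leaf.pt (nat_lit 9) (nat_lit 1) [nat_lit 10])) (Node.sp (nat_lit 26) (Node.lf (Leaf.pt (nat_lit 9) (nat_lit 26) [nat_lit 10])) (Node.st (nat_lit 0) (nat_lit 26) (nat_lit 0) (Node.sp (nat_lit 28) (Node.lf (Leaf.pt (nat_lit 9) (nat_lit 28) [nat_lit 12])) (Node.st (nat_lit 0) (nat_lit 28) (nat_lit 0) (Node.sp (nat_lit 32) (Node.lf (Leaf.pt (nat_lit 12) (nat_lit 32) [nat_lit 26,nat_lit 196])) (Node.st (nat_lit 0) (nat_lit 32) (nat_lit 0) (Node.sp (nat_lit 58) (Node.lf (Leaf.pt (nat_lit 9) (nat_lit 58) [nat_lit 12])) (Node.st (nat_lit 0) (nat_lit 58) (nat_lit 0) (Node.sp (nat_lit 60) (Node.lf (Leaf.pt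 (nat_lit 9) (nat_lit 60) [nat_lit 10])) (Node.st (nat_lit 0) (nat_lit 60) (nat_lit 0) (Node.sp (nat_lit 68) (Node.lf (Leaf.pt (nat_lit 9) (nat_lit 68) [nat_lit 10])) c184_0)))))))))))))))))))
theorem ok184 : nodeOK DB PT 184 t184 (nat_lit 0x300000303000003f00000f0f0f0f0f0fcfc0303fc03fc03) (nat_lit 0x3300000000000000000000003300000033000000000000000000000033111100000000000000000000111100001111000011110000111100001111000011112200111122000000003300000033111122000000005511112200000000ff) c184 = true := by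
  decide +kernel
noncomputable def c185_0 : Node :=
  Node.st (nat_lit 0) (nat_lit 60) (nat_lit 0) (Node.sp (nat_lit 68) (Node.lf (Leaf.pt (nat_lit 9) (nat_lit 68) [nat_lit 10])) (Node.st (nat_lit 0) (nat_lit 68) (nat_lit 0) (Node.sp (nat_lit 92) (Node.lf (Leaf.pt (nat_lit 9) (nat_lit 92) [nat_lit 10])) (Node.st (nat_lit 0) (nat_lit 92) (nat_lit 0) (Node.ext [[nat_lit 32,nat_lit 16,nat_lit 8,nat_lit 4,nat_lit 2,nat_lit 1]] (nat_lit 10) [Ins.ts (nat_lit 4) [nat_lit 0] [nat_lit 10,nat_lit 0,nat_lit 0],Ins.fr [nat_lit 0],Ins.ts (nat_lit 1) [nat_lit 0,nat_lit 0] [],Ins.ts (nat_lit 1) [nat_lit 0,nat_lit 0,nat_lit 0,nat_lit 0] [],Ins.fr [nat_lit 1],Ins.ts (nat_lit 1) [nat_lit 0,nat_lit 0] [],Ins.ts (nat_lit 0) [nat_lit 0,nat_lit 1,nat_lit 1,nat_lit 0] [],Ins.ts (nat_lit 0) [nat_lit 1,nat_lit 1,nat_lit 1] [nat_lit 0,nat_lit 1,nat_lit 0],Ins.ts (nat_lit 2) [nat_lit 0,nat_lit 0,nat_lit 1,nat_lit 0] [],Ins.fr [nat_lit 2],Ins.ts (nat_lit 1) [nat_lit 0,nat_lit 0] [],Ins.ts (nat_lit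 4) [nat_lit 0] [nat_lit 37,nat_lit 0,nat_lit 0],Ins.ts (nat_lit 2) [nat_lit 1,nat_lit 0] [],Ins.ts (nat_lit 0) [nat_lit 0,nat_lit 2,nat_lit 0,nat_lit 2] [],Ins.ts (nat_lit 2) [nat_lit 1,nat_lit 0,nat_lit 2] [],Ins.fr [nat_lit 0,nat_lit 0,nat_lit 3],Ins.ts (nat_lit 4) [nat_lit 0] [nat_lit 5,nat_lit 0,nat_lit 0],Ins.ts (nat_lit 1) [nat_lit 0,nat_lit 0] [],Ins.ts (nat_lit 2) [nat_lit 4,nat_lit 0] [],Ins.ts (nat_lit 0) [nat_lit 2,nat_lit 0,nat_lit 2] [nat_lit 0],Ins.ts (nat_lit 0) [nat_lit 1,nat_lit 0] [nat_lit 0,nat_lit 1],Ins.fr [nat_lit 0,nat_lit 1,nat_lit 2,nat_lit 3],Ins.ts (nat_lit 0) [nat_lit 2,nat_lit 2] [nat_lit 0,nat_lit 0],Ins.ts (nat_lit 0) [nat_lit 4,nat_lit 0,nat_lit 3] [nat_lit 5,nat_lit 0],Ins.df [nat_lit 0,nat_lit 0],Ins.df [nat_lit 5,nat_lit 5],Ins.df [nat_lit 0,nat_lit 1,nat_lit 7],Ins.df [nat_lit 1,nat_lit 6,nat_lit 7],Ins.df [nat_lit 3,nat_lit 5,nat_lit 6],Ins.df [nat_lit 0,nat_lit 9]] [nat_lit 96,nat_lit 112,nat_lit 36,nat_lit 4,nat_lit 128] [nat_lit 5,nat_lit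 4,nat_lit 7,nat_lit 3,nat_lit 2,nat_lit 1,nat_lit 0,nat_lit 6] (Srch.ex0 [nat_lit 68,nat_lit 36,nat_lit 16,nat_lit 8,nat_lit 2,nat_lit 1] (Srch.rep (nat_lit 12) [] [nat_lit 34,nat_lit 16,nat_lit 8,nat_lit 4,nat_lit 1] [nat_lit 128,nat_lit 64,nat_lit 2] Srch.nil (Srch.rep (nat_lit 16) [nat_lit 4,nat_lit 8,nat_lit 64] [nat_lit 64,nat_lit 16,nat_lit 8,nat_lit 4,nat_lit 2,nat_lit 1] [nat_lit 128,nat_lit 32] (Srch.rep (nat_lit 64) [nat_lit 64] [] [] (Srch.rep (nat_lit 74) [nat_lit 2] [] [] (Srch.rep (nat_lit 4) [nat_lit 16] [] [] (Srch.rep (nat_lit 36) [] [] [] (Srch.rep (nat_lit 160) [] [] [] (Srch.fin [nat_lit 128,nat_lit 68] [nat_lit 0] (((nat_lit 0),(Leaf.pt (nat_lit 17) (nat_lit 12) [nat_lit 448,nat_lit 4]))::(((nat_lit 1),(Leaf.pt (nat_lit 17) (nat_lit 12) [nat_lit 468,nat_lit 4]))::[]))) (Srch.rep (nat_lit 161) [] [] [] (Srch.fin [nat_lit 128,nat_lit 68] [nat_lit 0] (((nat_lit 0),(Leaf.pt (nat_lit 17) (nat_lit 12) [nat_lit 468,nat_lit 4]))::(((nat_lit 1),(Leaf.pt (nat_lit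 17) (nat_lit 12) [nat_lit 448,nat_lit 4]))::[]))) Srch.nil)) Srch.nil) (Srch.rep (nat_lit 6) [nat_lit 16] [] [] (Srch.rep (nat_lit 38) [] [] [] (Srch.rep (nat_lit 160) [] [] [] (Srch.fin [nat_lit 128,nat_lit 68] [nat_lit 0] (((nat_lit 2),(Leaf.pt (nat_lit 17) (nat_lit 12) [nat_lit 384,nat_lit 4]))::(((nat_lit 3),(Leaf.au (nat_lit 3) (nat_lit 16) (nat_lit 0) [[nat_lit 16,nat_lit 11,nat_lit 69,nat_lit 1]] [nat_lit 68,nat_lit 16,nat_lit 8,nat_lit 2,nat_lit 1] [nat_lit 5,nat_lit 704,nat_lit 5,nat_lit 640,nat_lit 5] (nat_lit 1) [nat_lit 0,nat_lit 1,nat_lit 69,nat_lit 68,nat_lit 11,nat_lit 10,nat_lit 78,nat_lit 79,nat_lit 16,nat_lit 17,nat_lit 85,nat_lit 84,nat_lit 27,nat_lit 26,nat_lit 94,nat_lit 95] (nat_lit 0) [nat_lit 0,nat_lit 0,nat_lit 2,nat_lit 2,nat_lit 0]))::[]))) (Srch.rep (nat_lit 161) [] [] [] (Srch.fin [nat_lit 128,nat_lit 68] [nat_lit 0] (((nat_lit 2),(Leaf.au (nat_lit 3) (nat_lit 16) (nat_lit 0) [[nat_lit 16,nat_lit 11,nat_lit 69,nat_lit 1]] [nat_lit 68,nat_lit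 16,nat_lit 8,nat_lit 2,nat_lit 1] [nat_lit 5,nat_lit 704,nat_lit 5,nat_lit 640,nat_lit 5] (nat_lit 1) [nat_lit 0,nat_lit 1,nat_lit 69,nat_lit 68,nat_lit 11,nat_lit 10,nat_lit 78,nat_lit 79,nat_lit 16,nat_lit 17,nat_lit 85,nat_lit 84,nat_lit 27,nat_lit 26,nat_lit 94,nat_lit 95] (nat_lit 0) [nat_lit 0,nat_lit 0,nat_lit 2,nat_lit 2,nat_lit 0]))::(((nat_lit 3),(Leaf.pt (nat_lit 17) (nat_lit 12) [nat_lit 384,nat_lit 4]))::[]))) Srch.nil)) Srch.nil) Srch.nil)) Srch.nil) (Srch.rep (nat_lit 72) [nat_lit 72] [] [] (Srch.rep (nat_lit 66) [] [] [] Srch.nil Srch.nil) (Srch.rep (nat_lit 80) [nat_lit 64] [] [] (Srch.rep (nat_lit 90) [] [] [] Srch.nil Srch.nil) (Srch.rep (nat_lit 88) [nat_lit 72] [] [] (Srch.rep (nat_lit 82) [nat_lit 2] [] [] (Srch.rep (nat_lit 4) [nat_lit 16] [] [] (Srch.rep (nat_lit 36) [] [] [] (Srch.rep (nat_lit 152) [] [] [] (Srch.fin [nat_lit 128,nat_lit 68] [nat_lit 0] (((nat_lit 32),(Leaf.pt (nat_lit 17) (nat_lit 12) [nat_lit 448,nat_lit 4]))::(((nat_lit 33),(Leaf.pt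 (nat_lit 19) (nat_lit 76) [nat_lit 34,nat_lit 270]))::[]))) (Srch.rep (nat_lit 153) [] [] [] (Srch.fin [nat_lit 128,nat_lit 68] [nat_lit 0] (((nat_lit 32),(Leaf.pt (nat_lit 12) (nat_lit 76) [nat_lit 70,nat_lit 260]))::(((nat_lit 33),(Leaf.pt (nat_lit 17) (nat_lit 12) [nat_lit 448,nat_lit 4]))::[]))) Srch.nil)) Srch.nil) (Srch.rep (nat_lit 6) [nat_lit 16] [] [] (Srch.rep (nat_lit 38) [] [] [] (Srch.rep (nat_lit 152) [] [] [] (Srch.fin [nat_lit 128,nat_lit 68] [nat_lit 0] (((nat_lit 34),(Leaf.pt (nat_lit 12) (nat_lit 12) [nat_lit 28,nat_lit 384]))::(((nat_lit 35),(Leaf.pt (nat_lit 12) (nat_lit 12) [nat_lit 28,nat_lit 384]))::[]))) (Srch.rep (nat_lit 153) [] [] [] (Srch.fin [nat_lit 128,nat_lit 68] [nat_lit 0] (((nat_lit 34),(Leaf.pt (nat_lit 12) (nat_lit 12) [nat_lit 28,nat_lit 384]))::(((nat_lit 35),(Leaf.pt (nat_lit 12) (nat_lit 12) [nat_lit 28,nat_lit 384]))::[]))) Srch.nil)) Srch.nil) Srch.nil)) Srch.nil) Srch.nil)))) Srch.nil))) (Node.lf (Leaf.au (nat_lit 1) (nat_lit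 0) (nat_lit 0) [] [] [nat_lit 3,nat_lit 1] (nat_lit 0) [] (nat_lit 32) [nat_lit 0,nat_lit 2,nat_lit 36,nat_lit 10,nat_lit 10,nat_lit 32,nat_lit 96,nat_lit 128])))))))
noncomputable def t185 : ℕ := nat_lit 0xa000a000a000a000a000a000a000a0009900990099009900990099009900990099009900990099009900990099009900a100a100a100a100a100a100a100a100a000a000a000a000a000a000a000a0009900990099009900990099009900990099009900990099009900990099009900a100a100a100a100a100a100a100a10080008000800080008000800080008000b900b900b900b900b900b900b900b900b900b900b900b900b900b900b900b9008100810081008100810081008100810080008000800080008000800080008000b900b900b900b900b900b900b900b900b900b900b900b900b900b900b900b90081008100810081008100810081008100a100a100a100a100a100a100a100a1009800980098009800980098009800980098009800980098009800980098009800a000a000a000a000a000a000a000a000a100a100a100a100a100a100a100a1009800980098009800980098009800980098009800980098009800980098009800a000a000a000a000a000a000a000a000810081008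10081008100810081008100b800b800b800b800b800b800b800b800b800b800b800b800b800b800b800b8008000800080008000800080008000800081008100810081008100810081008100b800b800b800b800b800b800b800b800b800b800b800b800b800b800b800b8008000800080008000800080008000800040004000400040004200420043004300410041004100410043004300420042004000400040004000420042004300430041004100410041004300430042004200400040004000400042004200430043004100410041004100430043004200420040004000400040004200420043004300410041004100410043004300420042004300430042004200410041004100410042004200430043004000400040004000430043004200420041004100410041004200420043004300400040004000400043004300420042004100410041004100420042004300430040004000400040004300430042004200410041004100410042004200430043004000400040004000200020002000200020002000200020002100210021002100210021002100210021002100210021002100210021002100200020002000200020002000200020002000200020002000200020002000200021002100210021002100210021002100210021002100210021002100210021002000200020002000200020002000200010001000100010001000100010001000100010001000100010001000100010001000100010001000100010001000100010001000100010001000100010001000090009000900090009000900090009000800080008000800080008000800080004000400050005000500050004000400030003000200020001000100000000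
noncomputable def c185 : Node :=
  (Node.st (nat_lit 0) (nat_lit 10) (nat_lit 0) (Node.st (nat_lit 2) (nat_lit 0) (nat_lit 10) (Node.st (nat_lit 0) (nat_lit 14) (nat_lit 0) (Node.st (nat_lit 2) (nat_lit 1) (nat_lit 10) (Node.st (nat_lit 0) (nat_lit 17) (nat_lit 0) (Node.st (nat_lit 2) (nat_lit 2) (nat_lit 5) (Node.st (nat_lit 0) (nat_lit 78) (nat_lit 0) (Node.sp (nat_lit 1) (Node.lf (Leaf.pt (nat_lit 9) (nat_lit 1) [nat_lit 10])) (Node.sp (nat_lit 26) (Node.lf (Leaf.pt (nat_lit 9) (nat_lit 26) [nat_lit 10])) (Node.st (nat_lit 0) (nat_lit 26) (nat_lit 0) (Node.sp (nat_lit 28) (Node.lf (Leaf.pt (nat_lit 9) (nat_lit 28) [nat_lit 12])) (Node.st (nat_lit 0) (nat_lit 28) (nat_lit 0) (Node.sp (nat_lit 32) (Node.lf (Leaf.pt (nat_lit 12) (nat_lit 32) [nat_lit 26,nat_lit 196])) (Node.st (nat_lit 0) (nat_lit 32) (nat_lit 0) (Node.sp (nat_lit 58) (Node.lf (Leaf.pt (nat_lit 9) (nat_lit 58) [nat_lit 12])) (Node.st (nat_lit 0) (nat_lit 58) (nat_lit 0) (Node.sp (nat_lit 60) (Node.lf (Leaf.pt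 (nat_lit 9) (nat_lit 60) [nat_lit 10])) c185_0)))))))))))))))))
theorem ok185 : nodeOK DB PT 185 t185 (nat_lit 0xfc0000fcfc0000fcf00000f0f0f0f0f0fcfc0303fc03fc03) (nat_lit 0x1111220000000000000000001111220011112200000000000000000011112200111100000000000000000000111100001111000011110000111100001111000011112200111122000000003300000033111122000000005511112200000000ff) c185 = true := by
  decide +kernel
noncomputable def c186_0 : Node :=
  Node.st (nat_lit 0) (nat_lit 60) (nat_lit 0) (Node.sp (nat_lit 68) (Node.lf (Leaf.pt (nat_lit 9) (nat_lit 68) [nat_lit 10])) (Node.st (nat_lit 0) (nat_lit 68) (nat_lit 0) (Node.sp (nat_lit 92) (Node.lf (Leaf.pt (nat_lit 9) (nat_lit 92) [nat_lit 10])) (Node.st (nat_lit 0) (nat_lit 92) (nat_lit 0) (Node.sp (nat_lit 192) (Node.lf (Leaf.pt (nat_lit 17) (nat_lit 192) [nat_lit 80,nat_lit 36])) (Node.st (nat_lit 0) (nat_lit 192) (nat_lit 0) (Node.sp (nat_lit 216) (Node.lf (Leaf.pt (nat_lit 17) (nat_lit 216) [nat_lit 72,nat_lit 36])) (Node.st (nat_lit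 0) (nat_lit 216) (nat_lit 0) (Node.ext [[nat_lit 32,nat_lit 16,nat_lit 8,nat_lit 4,nat_lit 2,nat_lit 1]] (nat_lit 10) [Ins.ts (nat_lit 4) [nat_lit 0] [nat_lit 10,nat_lit 0,nat_lit 0],Ins.fr [nat_lit 0],Ins.ts (nat_lit 1) [nat_lit 0,nat_lit 0] [],Ins.ts (nat_lit 1) [nat_lit 0,nat_lit 0,nat_lit 0,nat_lit 0] [],Ins.fr [nat_lit 1],Ins.ts (nat_lit 1) [nat_lit 0,nat_lit 0] [],Ins.ts (nat_lit 0) [nat_lit 0,nat_lit 1,nat_lit 1,nat_lit 0] [],Ins.ts (nat_lit 0) [nat_lit 1,nat_lit 1,nat_lit 1] [nat_lit 0,nat_lit 1,nat_lit 0],Ins.ts (nat_lit 2) [nat_lit 0,nat_lit 0,nat_lit 1,nat_lit 0] [],Ins.fr [nat_lit 2],Ins.ts (nat_lit 1) [nat_lit 0,nat_lit 0] [],Ins.ts (nat_lit 4) [nat_lit 0] [nat_lit 37,nat_lit 0,nat_lit 0],Ins.ts (nat_lit 2) [nat_lit 1,nat_lit 0] [],Ins.ts (nat_lit 0) [nat_lit 0,nat_lit 2,nat_lit 0,nat_lit 2] [],Ins.ts (nat_lit 2) [nat_lit 1,nat_lit 0,nat_lit 2] [],Ins.fr [nat_lit 0,nat_lit 0,nat_lit 3],Ins.ts (nat_lit 4) [nat_lit 0] [nat_lit 5,nat_lit 0,nat_lit 0],Ins.ts (nat_lit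 1) [nat_lit 0,nat_lit 0] [],Ins.ts (nat_lit 2) [nat_lit 4,nat_lit 0] [],Ins.ts (nat_lit 0) [nat_lit 2,nat_lit 0,nat_lit 2] [nat_lit 0],Ins.ts (nat_lit 0) [nat_lit 1,nat_lit 0] [nat_lit 0,nat_lit 1],Ins.fr [nat_lit 0,nat_lit 1,nat_lit 3,nat_lit 2],Ins.ts (nat_lit 0) [nat_lit 3,nat_lit 0] [nat_lit 0,nat_lit 3],Ins.ts (nat_lit 0) [nat_lit 4,nat_lit 3,nat_lit 3] [nat_lit 0,nat_lit 4,nat_lit 0],Ins.df [nat_lit 1,nat_lit 1],Ins.df [nat_lit 5,nat_lit 5],Ins.df [nat_lit 0,nat_lit 1,nat_lit 7],Ins.df [nat_lit 1,nat_lit 6,nat_lit 7],Ins.df [nat_lit 3,nat_lit 5,nat_lit 6],Ins.df [nat_lit 0,nat_lit 9]] [nat_lit 96,nat_lit 112,nat_lit 36,nat_lit 4,nat_lit 128] [nat_lit 5,nat_lit 4,nat_lit 7,nat_lit 3,nat_lit 2,nat_lit 1,nat_lit 0,nat_lit 6] (Srch.ex0 [nat_lit 68,nat_lit 36,nat_lit 16,nat_lit 8,nat_lit 2,nat_lit 1] (Srch.rep (nat_lit 12) [] [nat_lit 34,nat_lit 16,nat_lit 8,nat_lit 4,nat_lit 1] [nat_lit 128,nat_lit 64,nat_lit 2] Srch.nil (Srch.rep (nat_lit 16) [nat_lit 4,nat_lit 8,nat_lit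 64] [nat_lit 64,nat_lit 16,nat_lit 8,nat_lit 4,nat_lit 2,nat_lit 1] [nat_lit 128,nat_lit 32] (Srch.rep (nat_lit 64) [nat_lit 64] [] [] (Srch.rep (nat_lit 74) [nat_lit 2] [] [] (Srch.rep (nat_lit 4) [nat_lit 16] [] [] (Srch.rep (nat_lit 36) [] [] [] (Srch.rep (nat_lit 128) [] [] [] (Srch.fin [nat_lit 4,nat_lit 64] [nat_lit 0] (((nat_lit 0),(Leaf.pt (nat_lit 12) (nat_lit 12) [nat_lit 28,nat_lit 386]))::(((nat_lit 1),(Leaf.pt (nat_lit 12) (nat_lit 12) [nat_lit 28,nat_lit 386]))::[]))) (Srch.rep (nat_lit 129) [] [] [] (Srch.fin [nat_lit 4,nat_lit 64] [nat_lit 0] (((nat_lit 0),(Leaf.pt (nat_lit 12) (nat_lit 12) [nat_lit 28,nat_lit 386]))::(((nat_lit 1),(Leaf.pt (nat_lit 12) (nat_lit 12) [nat_lit 28,nat_lit 386]))::[]))) Srch.nil)) Srch.nil) (Srch.rep (nat_lit 6) [nat_lit 16] [] [] (Srch.rep (nat_lit 38) [] [] [] (Srch.rep (nat_lit 128) [] [] [] (Srch.fin [nat_lit 4,nat_lit 64] [nat_lit 0] (((nat_lit 2),(Leaf.sp (nat_lit 150) (Leaf.pt (nat_lit 17) (nat_lit 150) [nat_lit 264,nat_lit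 110]) (Leaf.pt (nat_lit 13) (nat_lit 76) [nat_lit 150])))::(((nat_lit 3),(Leaf.pt (nat_lit 17) (nat_lit 12) [nat_lit 448,nat_lit 4]))::[]))) (Srch.rep (nat_lit 129) [] [] [] (Srch.fin [nat_lit 4,nat_lit 64] [nat_lit 0] (((nat_lit 2),(Leaf.pt (nat_lit 17) (nat_lit 12) [nat_lit 448,nat_lit 4]))::(((nat_lit 3),(Leaf.au (nat_lit 3) (nat_lit 16) (nat_lit 0) [[nat_lit 16,nat_lit 11,nat_lit 69,nat_lit 1]] [nat_lit 68,nat_lit 16,nat_lit 8,nat_lit 2,nat_lit 1] [nat_lit 5,nat_lit 704,nat_lit 5,nat_lit 640,nat_lit 5] (nat_lit 1) [nat_lit 0,nat_lit 1,nat_lit 69,nat_lit 68,nat_lit 11,nat_lit 10,nat_lit 78,nat_lit 79,nat_lit 16,nat_lit 17,nat_lit 85,nat_lit 84,nat_lit 27,nat_lit 26,nat_lit 94,nat_lit 95] (nat_lit 0) [nat_lit 0,nat_lit 0,nat_lit 2,nat_lit 2,nat_lit 0]))::[]))) Srch.nil)) Srch.nil) Srch.nil)) Srch.nil) (Srch.rep (nat_lit 72) [nat_lit 72] [] [] (Srch.rep (nat_lit 66) [] [] [] Srch.nil Srch.nil) (Srch.rep (nat_lit 80) [nat_lit 64] [] [] (Srch.rep (nat_lit 90) [] [] [] Srch.nil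 Srch.nil) (Srch.rep (nat_lit 88) [nat_lit 72] [] [] (Srch.rep (nat_lit 82) [nat_lit 2] [] [] (Srch.rep (nat_lit 4) [nat_lit 16] [] [] (Srch.rep (nat_lit 36) [] [] [] (Srch.rep (nat_lit 184) [] [] [] (Srch.fin [nat_lit 4,nat_lit 64] [nat_lit 0] (((nat_lit 32),(Leaf.pt (nat_lit 17) (nat_lit 12) [nat_lit 386,nat_lit 4]))::(((nat_lit 33),(Leaf.pt (nat_lit 12) (nat_lit 76) [nat_lit 216,nat_lit 270]))::[]))) (Srch.rep (nat_lit 185) [] [] [] (Srch.fin [nat_lit 4,nat_lit 64] [nat_lit 0] (((nat_lit 32),(Leaf.pt (nat_lit 12) (nat_lit 76) [nat_lit 70,nat_lit 260]))::(((nat_lit 33),(Leaf.pt (nat_lit 17) (nat_lit 12) [nat_lit 386,nat_lit 4]))::[]))) Srch.nil)) Srch.nil) (Srch.rep (nat_lit 6) [nat_lit 16] [] [] (Srch.rep (nat_lit 38) [] [] [] (Srch.rep (nat_lit 184) [] [] [] (Srch.fin [nat_lit 4,nat_lit 64] [nat_lit 0] (((nat_lit 34),(Leaf.pt (nat_lit 17) (nat_lit 12) [nat_lit 468,nat_lit 4]))::(((nat_lit 35),(Leaf.pt (nat_lit 17) (nat_lit 12) [nat_lit 448,nat_lit 4]))::[]))) (Srch.rep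 (nat_lit 185) [] [] [] (Srch.fin [nat_lit 4,nat_lit 64] [nat_lit 0] (((nat_lit 34),(Leaf.pt (nat_lit 17) (nat_lit 12) [nat_lit 448,nat_lit 4]))::(((nat_lit 35),(Leaf.pt (nat_lit 17) (nat_lit 12) [nat_lit 468,nat_lit 4]))::[]))) Srch.nil)) Srch.nil) Srch.nil)) Srch.nil) Srch.nil)))) Srch.nil))) (Node.lf (Leaf.au (nat_lit 1) (nat_lit 0) (nat_lit 0) [] [] [nat_lit 3,nat_lit 1] (nat_lit 0) [] (nat_lit 32) [nat_lit 0,nat_lit 2,nat_lit 36,nat_lit 10,nat_lit 10,nat_lit 32,nat_lit 96,nat_lit 160])))))))))))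
noncomputable def t186 : ℕ := nat_lit 0x81008100810081008200820083008300b800b800b800b800bb00bb00ba00ba00b900b900b900b900ba00ba00bb00bb008100810081008100820082008300830081008100810081008200820083008300b800b800b800b800bb00bb00ba00ba00b900b900b900b900ba00ba00bb00bb0081008100810081008200820083008300b800b800b800b800bb00bb00ba00ba008100810081008100820082008300830081008100810081008200820083008300b900b900b900b900ba00ba00bb00bb00b800b800b800b800bb00bb00ba00ba008100810081008100820082008300830081008100810081008200820083008300b900b900b900b900ba00ba00bb00bb00ba00ba00bb00bb00b900b900b900b9008300830082008200800080008000800083008300820082008000800080008000bb00bb00ba00ba00b800b800b800b800ba00ba00bb00bb00b900b900b900b9008300830082008200800080008000800083008300820082008000800080008000bb00bb00ba00ba00b800b800b800b80083008300820082008000800080008000ba00ba00bb00bb00b900b900b900b900bb00bb00ba00ba00b800b800b800b8008300830082008200800080008000800083008300820082008000800080008000ba00ba00bb00bb00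b900b900b900b900bb00bb00ba00ba00b800b800b800b8008300830082008200800080008000800040004000400040004200420043004300410041004100410043004300420042004000400040004000420042004300430041004100410041004300430042004200400040004000400042004200430043004100410041004100430043004200420040004000400040004200420043004300410041004100410043004300420042004300430042004200410041004100410042004200430043004000400040004000430043004200420041004100410041004200420043004300400040004000400043004300420042004100410041004100420042004300430040004000400040004300430042004200410041004100410042004200430043004000400040004000200020002000200020002000200020002100210021002100210021002100210021002100210021002100210021002100200020002000200020002000200020002000200020002000200020002000200021002100210021002100210021002100210021002100210021002100210021002000200020002000200020002000200010001000100010001000100010001000100010001000100010001000100010001000100010001000100010001000100010001000100010001000100010001000090009000900090009000900090009000800080008000800080008000800080004000400050005000500050004000400030003000200020001000100000000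
noncomputable def c186 : Node :=
  (Node.st (nat_lit 0) (nat_lit 10) (nat_lit 0) (Node.st (nat_lit 2) (nat_lit 0) (nat_lit 10) (Node.st (nat_lit 0) (nat_lit 14) (nat_lit 0) (Node.st (nat_lit 2) (nat_lit 1) (nat_lit 10) (Node.st (nat_lit 0) (nat_lit 17) (nat_lit 0) (Node.st (nat_lit 2) (nat_lit 2) (nat_lit 5) (Node.st (nat_lit 0) (nat_lit 78) (nat_lit 0) (Node.st (nat_lit 2) (nat_lit 2) (nat_lit 9) (Node.st (nat_lit 0) (nat_lit 85) (nat_lit 0) (Node.sp (nat_lit 1) (Node.lf (Leaf.pt (nat_lit 9) (nat_lit 1) [nat_lit 10])) (Node.sp (nat_lit 26) (Node.lf (Leaf.pt (nat_lit 9) (nat_lit 26) [nat_lit 10])) (Node.st (nat_lit 0) (nat_lit 26) (nat_lit 0) (Node.sp (nat_lit 28) (Node.lf (Leaf.pt (nat_lit 9) (nat_lit 28) [nat_lit 12])) (Node.st (nat_lit 0) (nat_lit 28) (nat_lit 0) (Node.sp (nat_lit 32) (Node.lf (Leaf.pt (nat_lit 12) (nat_lit 32) [nat_lit 28,nat_lit 128])) (Node.st (nat_lit 0) (nat_lit 32) (nat_lit 0) (Node.sp (nat_lit 58) (Node.lf (Leaf.pt (nat_lit 9) (nat_lit 58) [nat_lit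 12])) (Node.st (nat_lit 0) (nat_lit 58) (nat_lit 0) (Node.sp (nat_lit 60) (Node.lf (Leaf.pt (nat_lit 9) (nat_lit 60) [nat_lit 10])) c186_0)))))))))))))))))))
theorem ok186 : nodeOK DB PT 186 t186 (nat_lit 0x3000003030000030000f00000f00000f00000f0f0f0f0f0fcfc0303fc03fc03) (nat_lit 0x33000000000000000000000033000000330000000000000000000000330000000000000000111100000000000000000000111100000000000000000000111100000000000000000000111100001111000011110000111100001111000011112200111122000000003300000033111122000000005511112200000000ff) c186 = true := by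
  decide +kernel
noncomputable def c187_0 : Node :=
  Node.st (nat_lit 0) (nat_lit 58) (nat_lit 0) (Node.sp (nat_lit 60) (Node.lf (Leaf.pt (nat_lit 9) (nat_lit 60) [nat_lit 10])) (Node.st (nat_lit 0) (nat_lit 60) (nat_lit 0) (Node.sp (nat_lit 68) (Node.lf (Leaf.pt (nat_lit 9) (nat_lit 68) [nat_lit 10])) (Node.st (nat_lit 0) (nat_lit 68) (nat_lit 0) (Node.sp (nat_lit 92) (Node.lf (Leaf.pt (nat_lit 9) (nat_lit 92) [nat_lit 10])) (Node.st (nat_lit 0) (nat_lit 92) (nat_lit 0) (Node.ext [[nat_lit 32,nat_lit 16,nat_lit 8,nat_lit 4,nat_lit 2,nat_lit 1]] (nat_lit 10) [Ins.ts (nat_lit 4) [nat_lit 0] [nat_lit 10,nat_lit 0,nat_lit 0],Ins.fr [nat_lit 0],Ins.ts (nat_lit 1) [nat_lit 0,nat_lit 0] [],Ins.ts (nat_lit 1) [nat_lit 0,nat_lit 0,nat_lit 0,nat_lit 0] [],Ins.fr [nat_lit 1],Ins.ts (nat_lit 1) [nat_lit 0,nat_lit 0] [],Ins.ts (nat_lit 0) [nat_lit 0,nat_lit 1,nat_lit 1,nat_lit 0] [],Ins.ts (nat_lit 0) [nat_lit 1,nat_lit 1,nat_lit 1] [nat_lit 0,nat_lit 1,nat_lit 0],Ins.ts (nat_lit 2)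 [nat_lit 0,nat_lit 0,nat_lit 1,nat_lit 0] [],Ins.fr [nat_lit 2],Ins.ts (nat_lit 1) [nat_lit 0,nat_lit 0] [],Ins.ts (nat_lit 4) [nat_lit 0] [nat_lit 37,nat_lit 0,nat_lit 0],Ins.ts (nat_lit 2) [nat_lit 1,nat_lit 0] [],Ins.ts (nat_lit 0) [nat_lit 0,nat_lit 2,nat_lit 0,nat_lit 2] [],Ins.ts (nat_lit 2) [nat_lit 1,nat_lit 0,nat_lit 2] [],Ins.fr [nat_lit 0,nat_lit 0,nat_lit 3],Ins.ts (nat_lit 4) [nat_lit 0] [nat_lit 5,nat_lit 0,nat_lit 0],Ins.ts (nat_lit 1) [nat_lit 0,nat_lit 0] [],Ins.ts (nat_lit 2) [nat_lit 4,nat_lit 0] [],Ins.ts (nat_lit 0) [nat_lit 2,nat_lit 0,nat_lit 2] [nat_lit 0],Ins.ts (nat_lit 0) [nat_lit 1,nat_lit 0] [nat_lit 0,nat_lit 1],Ins.fr [nat_lit 0,nat_lit 1,nat_lit 3,nat_lit 2],Ins.ts (nat_lit 0) [nat_lit 3,nat_lit 0] [nat_lit 0,nat_lit 3],Ins.ts (nat_lit 0) [nat_lit 4,nat_lit 5,nat_lit 4] [nat_lit 0,nat_lit 5,nat_lit 0],Ins.df [nat_lit 1,nat_lit 1],Ins.df [nat_lit 5,nat_lit 5],Ins.df [nat_lit 0,nat_lit 1,nat_lit 7],Ins.df [nat_lit 1,nat_lit 6,nat_lit 7],Ins.df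 [nat_lit 3,nat_lit 5,nat_lit 6],Ins.df [nat_lit 0,nat_lit 9]] [nat_lit 96,nat_lit 112,nat_lit 36,nat_lit 4,nat_lit 128] [nat_lit 5,nat_lit 4,nat_lit 7,nat_lit 3,nat_lit 2,nat_lit 1,nat_lit 0,nat_lit 6] (Srch.ex0 [nat_lit 68,nat_lit 36,nat_lit 16,nat_lit 8,nat_lit 2,nat_lit 1] (Srch.rep (nat_lit 12) [] [nat_lit 34,nat_lit 16,nat_lit 8,nat_lit 4,nat_lit 1] [nat_lit 128,nat_lit 64,nat_lit 2] Srch.nil (Srch.rep (nat_lit 16) [nat_lit 4,nat_lit 8,nat_lit 64] [nat_lit 64,nat_lit 16,nat_lit 8,nat_lit 4,nat_lit 2,nat_lit 1] [nat_lit 128,nat_lit 32] (Srch.rep (nat_lit 64) [nat_lit 64] [] [] (Srch.rep (nat_lit 74) [nat_lit 2] [] [] (Srch.rep (nat_lit 4) [nat_lit 16] [] [] (Srch.rep (nat_lit 36) [] [] [] (Srch.rep (nat_lit 128) [] [] [] (Srch.fin [nat_lit 4,nat_lit 64] [nat_lit 0] (((nat_lit 0),(Leaf.pt (nat_lit 12) (nat_lit 12) [nat_lit 28,nat_lit 386]))::(((nat_lit 1),(Leaf.pt (nat_lit 12) (nat_lit 12) [nat_lit 28,nat_lit 386]))::[]))) (Srch.rep (nat_lit 129) [] [] [] (Srch.fin [nat_lit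 4,nat_lit 64] [nat_lit 0] (((nat_lit 0),(Leaf.pt (nat_lit 12) (nat_lit 12) [nat_lit 28,nat_lit 386]))::(((nat_lit 1),(Leaf.pt (nat_lit 12) (nat_lit 12) [nat_lit 28,nat_lit 386]))::[]))) Srch.nil)) Srch.nil) (Srch.rep (nat_lit 6) [nat_lit 16] [] [] (Srch.rep (nat_lit 38) [] [] [] (Srch.rep (nat_lit 128) [] [] [] (Srch.fin [nat_lit 4,nat_lit 64] [nat_lit 0] (((nat_lit 2),(Leaf.pt (nat_lit 17) (nat_lit 12) [nat_lit 448,nat_lit 4]))::(((nat_lit 3),(Leaf.au (nat_lit 3) (nat_lit 16) (nat_lit 0) [[nat_lit 16,nat_lit 11,nat_lit 69,nat_lit 1]] [nat_lit 68,nat_lit 16,nat_lit 8,nat_lit 2,nat_lit 1] [nat_lit 5,nat_lit 704,nat_lit 5,nat_lit 640,nat_lit 5] (nat_lit 1) [nat_lit 0,nat_lit 1,nat_lit 69,nat_lit 68,nat_lit 11,nat_lit 10,nat_lit 78,nat_lit 79,nat_lit 16,nat_lit 17,nat_lit 85,nat_lit 84,nat_lit 27,nat_lit 26,nat_lit 94,nat_lit 95] (nat_lit 0) [nat_lit 0,nat_lit 0,nat_lit 2,nat_lit 2,nat_lit 0]))::[]))) (Srch.rep (nat_lit 129) [] [] [] (Srch.fin [nat_lit 4,nat_lit 64] [nat_lit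 0] (((nat_lit 2),(Leaf.sp (nat_lit 140) (Leaf.pt (nat_lit 17) (nat_lit 140) [nat_lit 266,nat_lit 110]) (Leaf.sp (nat_lit 195) (Leaf.sp (nat_lit 222) (Leaf.pt (nat_lit 12) (nat_lit 222) [nat_lit 26,nat_lit 330]) (Leaf.pt (nat_lit 13) (nat_lit 195) [nat_lit 28])) (Leaf.pt (nat_lit 13) (nat_lit 76) [nat_lit 140]))))::(((nat_lit 3),(Leaf.pt (nat_lit 17) (nat_lit 12) [nat_lit 448,nat_lit 4]))::[]))) Srch.nil)) Srch.nil) Srch.nil)) Srch.nil) (Srch.rep (nat_lit 72) [nat_lit 72] [] [] (Srch.rep (nat_lit 66) [] [] [] Srch.nil Srch.nil) (Srch.rep (nat_lit 80) [nat_lit 64] [] [] (Srch.rep (nat_lit 90) [] [] [] Srch.nil Srch.nil) (Srch.rep (nat_lit 88) [nat_lit 72] [] [] (Srch.rep (nat_lit 82) [nat_lit 2] [] [] (Srch.rep (nat_lit 4) [nat_lit 16] [] [] (Srch.rep (nat_lit 36) [] [] [] (Srch.rep (nat_lit 184) [] [] [] (Srch.fin [nat_lit 4,nat_lit 64] [nat_lit 0] (((nat_lit 32),(Leaf.pt (nat_lit 12) (nat_lit 76) [nat_lit 70,nat_lit 260]))::(((nat_lit 33),(Leaf.pt (nat_lit 17) (nat_lit 12)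 [nat_lit 386,nat_lit 4]))::[]))) (Srch.rep (nat_lit 185) [] [] [] (Srch.fin [nat_lit 4,nat_lit 64] [nat_lit 0] (((nat_lit 32),(Leaf.pt (nat_lit 17) (nat_lit 12) [nat_lit 386,nat_lit 4]))::(((nat_lit 33),(Leaf.pt (nat_lit 19) (nat_lit 76) [nat_lit 34,nat_lit 270]))::[]))) Srch.nil)) Srch.nil) (Srch.rep (nat_lit 6) [nat_lit 16] [] [] (Srch.rep (nat_lit 38) [] [] [] (Srch.rep (nat_lit 184) [] [] [] (Srch.fin [nat_lit 4,nat_lit 64] [nat_lit 0] (((nat_lit 34),(Leaf.pt (nat_lit 17) (nat_lit 12) [nat_lit 448,nat_lit 4]))::(((nat_lit 35),(Leaf.pt (nat_lit 17) (nat_lit 12) [nat_lit 468,nat_lit 4]))::[]))) (Srch.rep (nat_lit 185) [] [] [] (Srch.fin [nat_lit 4,nat_lit 64] [nat_lit 0] (((nat_lit 34),(Leaf.pt (nat_lit 17) (nat_lit 12) [nat_lit 468,nat_lit 4]))::(((nat_lit 35),(Leaf.pt (nat_lit 17) (nat_lit 12) [nat_lit 448,nat_lit 4]))::[]))) Srch.nil)) Srch.nil) Srch.nil)) Srch.nil) Srch.nil)))) Srch.nil))) (Node.lf (Leaf.au (nat_lit 1) (nat_lit 0) (nat_lit 0) [] [] [nat_lit 3,nat_lit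 1] (nat_lit 0) [] (nat_lit 32) [nat_lit 0,nat_lit 2,nat_lit 36,nat_lit 10,nat_lit 10,nat_lit 32,nat_lit 96,nat_lit 160])))))))))
noncomputable def t187 : ℕ := nat_lit 0x80008000800080008300830082008200b900b900b900b900ba00ba00bb00bb00b800b800b800b800bb00bb00ba00ba008000800080008000830083008200820080008000800080008300830082008200b900b900b900b900ba00ba00bb00bb00b800b800b800b800bb00bb00ba00ba0080008000800080008300830082008200b900b900b900b900ba00ba00bb00bb008000800080008000830083008200820080008000800080008300830082008200b800b800b800b800bb00bb00ba00ba00b900b900b900b900ba00ba00bb00bb008000800080008000830083008200820080008000800080008300830082008200b800b800b800b800bb00bb00ba00ba00ba00ba00bb00bb00b900b900b900b9008300830082008200800080008000800083008300820082008000800080008000bb00bb00ba00ba00b800b800b800b800ba00ba00bb00bb00b900b900b900b9008300830082008200800080008000800083008300820082008000800080008000bb00bb00ba00ba00b800b800b800b80083008300820082008000800080008000ba00ba00bb00bb0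0b900b900b900b900bb00bb00ba00ba00b800b800b800b8008300830082008200800080008000800083008300820082008000800080008000ba00ba00bb00bb00b900b900b900b900bb00bb00ba00ba00b800b800b800b8008300830082008200800080008000800040004000400040004200420043004300410041004100410043004300420042004000400040004000420042004300430041004100410041004300430042004200400040004000400042004200430043004100410041004100430043004200420040004000400040004200420043004300410041004100410043004300420042004300430042004200410041004100410042004200430043004000400040004000430043004200420041004100410041004200420043004300400040004000400043004300420042004100410041004100420042004300430040004000400040004300430042004200410041004100410042004200430043004000400040004000200020002000200020002000200020002100210021002100210021002100210021002100210021002100210021002100200020002000200020002000200020002000200020002000200020002000200021002100210021002100210021002100210021002100210021002100210021002000200020002000200020002000200010001000100010001000100010001000100010001000100010001000100010001000100010001000100010001000100010001000100010001000100010001000090009000900090009000900090009000800080008000800080008000800080004000400050005000500050004000400030003000200020001000100000000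
noncomputable def c187 : Node :=
  (Node.st (nat_lit 0) (nat_lit 10) (nat_lit 0) (Node.st (nat_lit 2) (nat_lit 0) (nat_lit 10) (Node.st (nat_lit 0) (nat_lit 14) (nat_lit 0) (Node.st (nat_lit 2) (nat_lit 1) (nat_lit 10) (Node.st (nat_lit 0) (nat_lit 17) (nat_lit 0) (Node.st (nat_lit 2) (nat_lit 2) (nat_lit 5) (Node.st (nat_lit 0) (nat_lit 78) (nat_lit 0) (Node.st (nat_lit 2) (nat_lit 2) (nat_lit 9) (Node.st (nat_lit 0) (nat_lit 85) (nat_lit 0) (Node.sp (nat_lit 1) (Node.lf (Leaf.pt (nat_lit 9) (nat_lit 1) [nat_lit 10])) (Node.sp (nat_lit 26) (Node.lf (Leaf.pt (nat_lit 9) (nat_lit 26) [nat_lit 10])) (Node.st (nat_lit 0) (nat_lit 26) (nat_lit 0) (Node.sp (nat_lit 28) (Node.lf (Leaf.pt (nat_lit 9) (nat_lit 28) [nat_lit 12])) (Node.st (nat_lit 0) (nat_lit 28) (nat_lit 0) (Node.sp (nat_lit 32) (Node.lf (Leaf.pt (nat_lit 12) (nat_lit 32) [nat_lit 28,nat_lit 128])) (Node.st (nat_lit 0) (nat_lit 32) (nat_lit 0) (Node.sp (nat_lit 58) (Node.lf (Leaf.pt (nat_lit 9) (nat_lit 58) [nat_lit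 12])) c187_0)))))))))))))))))
theorem ok187 : nodeOK DB PT 187 t187 (nat_lit 0xfc0000fcfc0000fc00f000000000f000f00000f0f0f0f0f0fcfc0303fc03fc03) (nat_lit 0x11112200000000000000000011112200111122000000000000000000111122000000000011110000000000000000000000000000000000001111000000000000111100000000000000000000111100001111000011110000111100001111000011112200111122000000003300000033111122000000005511112200000000ff) c187 = true := by
  decide +kernel
noncomputable def c188_0 : Srch :=
  Srch.rep (nat_lit 16) [nat_lit 4,nat_lit 8,nat_lit 64] [nat_lit 64,nat_lit 16,nat_lit 8,nat_lit 4,nat_lit 2,nat_lit 1] [nat_lit 32] (Srch.rep (nat_lit 64) [nat_lit 64] [] [] (Srch.rep (nat_lit 74) [nat_lit 2] [] [] (Srch.rep (nat_lit 4) [nat_lit 16] [] [] (Srch.rep (nat_lit 36) [] [] [] (Srch.fin [nat_lit 4,nat_lit 64] [nat_lit 0] (((nat_lit 0),(Leaf.au (nat_lit 2) (nat_lit 16) (nat_lit 1) [[nat_lit 32,nat_lit 16,nat_lit 8,nat_lit 4,nat_lit 2,nat_lit 1]] [nat_lit 64,nat_lit 32,nat_lit 16,nat_lit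 8,nat_lit 4,nat_lit 2,nat_lit 1] [nat_lit 1,nat_lit 256,nat_lit 3] (nat_lit 2) [] (nat_lit 0) [nat_lit 64,nat_lit 32,nat_lit 8,nat_lit 8,nat_lit 4,nat_lit 2,nat_lit 0]))::(((nat_lit 1),(Leaf.au (nat_lit 2) (nat_lit 16) (nat_lit 1) [[nat_lit 32,nat_lit 16,nat_lit 8,nat_lit 4,nat_lit 2,nat_lit 1]] [nat_lit 64,nat_lit 32,nat_lit 16,nat_lit 8,nat_lit 4,nat_lit 2,nat_lit 1] [nat_lit 1,nat_lit 256,nat_lit 3] (nat_lit 2) [] (nat_lit 0) [nat_lit 64,nat_lit 32,nat_lit 8,nat_lit 8,nat_lit 4,nat_lit 2,nat_lit 0]))::[]))) Srch.nil) (Srch.rep (nat_lit 6) [nat_lit 16] [] [] (Srch.rep (nat_lit 38) [] [] [] (Srch.fin [nat_lit 4,nat_lit 64] [nat_lit 0] (((nat_lit 2),(Leaf.au (nat_lit 3) (nat_lit 16) (nat_lit 0) [[nat_lit 16,nat_lit 11,nat_lit 69,nat_lit 1]] [nat_lit 68,nat_lit 16,nat_lit 8,nat_lit 2,nat_lit 1] [nat_lit 5,nat_lit 448,nat_lit 5,nat_lit 384,nat_lit 5] (nat_lit 1) [nat_lit 0,nat_lit 1,nat_lit 69,nat_lit 68,nat_lit 11,nat_lit 10,nat_lit 78,nat_lit 79,nat_lit 16,nat_lit 17,nat_lit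 85,nat_lit 84,nat_lit 27,nat_lit 26,nat_lit 94,nat_lit 95] (nat_lit 0) [nat_lit 0,nat_lit 0,nat_lit 2,nat_lit 2,nat_lit 0]))::(((nat_lit 3),(Leaf.au (nat_lit 3) (nat_lit 16) (nat_lit 0) [[nat_lit 16,nat_lit 11,nat_lit 69,nat_lit 1]] [nat_lit 68,nat_lit 16,nat_lit 8,nat_lit 2,nat_lit 1] [nat_lit 5,nat_lit 448,nat_lit 5,nat_lit 384,nat_lit 5] (nat_lit 1) [nat_lit 0,nat_lit 1,nat_lit 69,nat_lit 68,nat_lit 11,nat_lit 10,nat_lit 78,nat_lit 79,nat_lit 16,nat_lit 17,nat_lit 85,nat_lit 84,nat_lit 27,nat_lit 26,nat_lit 94,nat_lit 95] (nat_lit 0) [nat_lit 0,nat_lit 0,nat_lit 2,nat_lit 2,nat_lit 0]))::[]))) Srch.nil) Srch.nil)) Srch.nil) (Srch.rep (nat_lit 72) [nat_lit 72] [] [] (Srch.rep (nat_lit 66) [] [] [] Srch.nil Srch.nil) (Srch.rep (nat_lit 80) [nat_lit 64] [] [] (Srch.rep (nat_lit 90) [] [] [] Srch.nil Srch.nil) (Srch.rep (nat_lit 88) [nat_lit 72] [] [] (Srch.rep (nat_lit 82) [nat_lit 2] [] [] (Srch.rep (nat_lit 4) [nat_lit 16] [] [] (Srch.rep (nat_lit 36) [] [] [] (Srch.fin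 [nat_lit 4,nat_lit 64] [nat_lit 0] (((nat_lit 32),(Leaf.pt (nat_lit 12) (nat_lit 76) [nat_lit 70,nat_lit 132]))::(((nat_lit 33),(Leaf.pt (nat_lit 19) (nat_lit 76) [nat_lit 34,nat_lit 142]))::[]))) Srch.nil) (Srch.rep (nat_lit 6) [nat_lit 16] [] [] (Srch.rep (nat_lit 38) [] [] [] (Srch.fin [nat_lit 4,nat_lit 64] [nat_lit 0] (((nat_lit 34),(Leaf.pt (nat_lit 3) (nat_lit 76) [nat_lit 128,nat_lit 70]))::(((nat_lit 35),(Leaf.pt (nat_lit 3) (nat_lit 76) [nat_lit 128,nat_lit 70]))::[]))) Srch.nil) Srch.nil)) Srch.nil) Srch.nil)))) (Srch.rep (nat_lit 40) [nat_lit 4,nat_lit 24,nat_lit 72] [nat_lit 72,nat_lit 40,nat_lit 24,nat_lit 4,nat_lit 2,nat_lit 1] [nat_lit 8] (Srch.rep (nat_lit 72) [nat_lit 72] [] [] (Srch.rep (nat_lit 122) [] [] [] Srch.nil Srch.nil) (Srch.rep (nat_lit 80) [nat_lit 80] [] [] (Srch.rep (nat_lit 98) [] [] [] Srch.nil Srch.nil) (Srch.rep (nat_lit 96) [nat_lit 72] [] [] (Srch.rep (nat_lit 82) [nat_lit 2] [] [] (Srch.rep (nat_lit 4) [nat_lit 40] [] [] (Srch.rep (nat_lit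 36) [] [] [] (Srch.fin [nat_lit 4,nat_lit 64] [nat_lit 0] (((nat_lit 32),(Leaf.pt (nat_lit 17) (nat_lit 12) [nat_lit 212,nat_lit 4]))::(((nat_lit 33),(Leaf.pt (nat_lit 17) (nat_lit 12) [nat_lit 192,nat_lit 4]))::[]))) Srch.nil) (Srch.rep (nat_lit 6) [nat_lit 40] [] [] (Srch.rep (nat_lit 38) [] [] [] (Srch.fin [nat_lit 4,nat_lit 64] [nat_lit 0] (((nat_lit 34),(Leaf.mp (nat_lit 178) [nat_lit 1,nat_lit 2,nat_lit 4,nat_lit 8,nat_lit 16,nat_lit 32,nat_lit 64,nat_lit 128] [[nat_lit 1],[nat_lit 3],[nat_lit 5]]))::(((nat_lit 35),(Leaf.pt (nat_lit 17) (nat_lit 12) [nat_lit 128,nat_lit 4]))::[]))) Srch.nil) Srch.nil)) Srch.nil) (Srch.rep (nat_lit 120) [nat_lit 80] [] [] (Srch.rep (nat_lit 74) [nat_lit 2] [] [] (Srch.rep (nat_lit 4) [nat_lit 40] [] [] (Srch.rep (nat_lit 36) [] [] [] (Srch.fin [nat_lit 4,nat_lit 64] [nat_lit 0] (((nat_lit 32),(Leaf.pt (nat_lit 12) (nat_lit 12) [nat_lit 28,nat_lit 192]))::(((nat_lit 33),(Leaf.pt (nat_lit 12) (nat_lit 12) [nat_lit 28,nat_lit 192]))::[])))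 Srch.nil) (Srch.rep (nat_lit 6) [nat_lit 40] [] [] (Srch.rep (nat_lit 38) [] [] [] (Srch.fin [nat_lit 4,nat_lit 64] [nat_lit 0] (((nat_lit 34),(Leaf.mp (nat_lit 183) [nat_lit 1,nat_lit 2,nat_lit 4,nat_lit 8,nat_lit 16,nat_lit 32,nat_lit 64,nat_lit 128] [[nat_lit 1],[nat_lit 3],[nat_lit 5]]))::(((nat_lit 35),(Leaf.pt (nat_lit 17) (nat_lit 12) [nat_lit 128,nat_lit 4]))::[]))) Srch.nil) Srch.nil)) Srch.nil) Srch.nil)))) (Srch.rep (nat_lit 50) [nat_lit 12,nat_lit 20,nat_lit 64] [nat_lit 64,nat_lit 36,nat_lit 20,nat_lit 12,nat_lit 2,nat_lit 1] [nat_lit 4] (Srch.rep (nat_lit 64) [nat_lit 64] [] [] (Srch.rep (nat_lit 104) [nat_lit 2] [] [] (Srch.rep (nat_lit 36) [nat_lit 50] [] [] (Srch.rep (nat_lit 4) [] [] [] (Srch.fin [nat_lit 4,nat_lit 64] [nat_lit 0] (((nat_lit 0),(Leaf.mp (nat_lit 184) [nat_lit 1,nat_lit 2,nat_lit 4,nat_lit 8,nat_lit 16,nat_lit 32,nat_lit 64,nat_lit 128] [[nat_lit 1],[nat_lit 3],[nat_lit 5]]))::(((nat_lit 1),(Leaf.mp (nat_lit 185) [nat_lit 1,nat_lit 2,nat_lit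 4,nat_lit 8,nat_lit 16,nat_lit 32,nat_lit 64,nat_lit 128] [[nat_lit 1],[nat_lit 3],[nat_lit 5]]))::[]))) Srch.nil) (Srch.rep (nat_lit 38) [nat_lit 50] [] [] (Srch.rep (nat_lit 6) [] [] [] (Srch.fin [nat_lit 4,nat_lit 64] [nat_lit 0] (((nat_lit 2),(Leaf.au (nat_lit 2) (nat_lit 16) (nat_lit 1) [[nat_lit 32,nat_lit 16,nat_lit 8,nat_lit 4,nat_lit 2,nat_lit 1]] [nat_lit 64,nat_lit 32,nat_lit 16,nat_lit 8,nat_lit 4,nat_lit 2,nat_lit 1] [nat_lit 3,nat_lit 3,nat_lit 3,nat_lit 448] (nat_lit 2) [] (nat_lit 0) [nat_lit 64,nat_lit 32,nat_lit 8,nat_lit 8,nat_lit 4,nat_lit 2,nat_lit 0]))::(((nat_lit 3),(Leaf.au (nat_lit 2) (nat_lit 16) (nat_lit 1) [[nat_lit 32,nat_lit 16,nat_lit 8,nat_lit 4,nat_lit 2,nat_lit 1]] [nat_lit 64,nat_lit 32,nat_lit 16,nat_lit 8,nat_lit 4,nat_lit 2,nat_lit 1] [nat_lit 3,nat_lit 3,nat_lit 3,nat_lit 448] (nat_lit 2) [] (nat_lit 0) [nat_lit 64,nat_lit 32,nat_lit 8,nat_lit 8,nat_lit 4,nat_lit 2,nat_lit 0]))::[]))) Srch.nil) Srch.nil)) Srch.nil) (Srch.rep (nat_lit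 88) [nat_lit 88] [] [] (Srch.rep (nat_lit 112) [nat_lit 2] [] [] (Srch.rep (nat_lit 36) [nat_lit 50] [] [] (Srch.rep (nat_lit 4) [] [] [] (Srch.fin [nat_lit 4,nat_lit 64] [nat_lit 0] (((nat_lit 57),(Leaf.pt (nat_lit 18) (nat_lit 76) [nat_lit 128,nat_lit 26]))::(((nat_lit 56),(Leaf.pt (nat_lit 18) (nat_lit 76) [nat_lit 128,nat_lit 26]))::[]))) Srch.nil) (Srch.rep (nat_lit 38) [nat_lit 50] [] [] (Srch.rep (nat_lit 6) [] [] [] (Srch.fin [nat_lit 4,nat_lit 64] [nat_lit 0] (((nat_lit 59),(Leaf.mp (nat_lit 186) [nat_lit 1,nat_lit 2,nat_lit 4,nat_lit 8,nat_lit 16,nat_lit 32,nat_lit 64,nat_lit 128] [[nat_lit 1],[nat_lit 3],[nat_lit 5]]))::(((nat_lit 58),(Leaf.mp (nat_lit 187) [nat_lit 1,nat_lit 2,nat_lit 4,nat_lit 8,nat_lit 16,nat_lit 32,nat_lit 64,nat_lit 128] [[nat_lit 1],[nat_lit 3],[nat_lit 5]]))::[]))) Srch.nil) Srch.nil)) Srch.nil) (Srch.rep (nat_lit 104) [nat_lit 88] [] [] (Srch.rep (nat_lit 64) [] [] [] Srch.nil Srch.nil) (Srch.rep (nat_lit 112) [nat_lit 64] [] [] (Srch.rep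 (nat_lit 88) [] [] [] Srch.nil Srch.nil) Srch.nil)))) (Srch.rep (nat_lit 52) [] [nat_lit 34,nat_lit 18,nat_lit 10,nat_lit 4,nat_lit 1] [nat_lit 64,nat_lit 2] Srch.nil Srch.nil)))
noncomputable def t188 : ℕ := nat_lit 0x40004000400040004200420043004300410041004100410043004300420042004000400040004000420042004300430041004100410041004300430042004200400040004000400042004200430043004100410041004100430043004200420040004000400040004200420043004300410041004100410043004300420042004300430042004200410041004100410042004200430043004000400040004000430043004200420041004100410041004200420043004300400040004000400043004300420042004100410041004100420042004300430040004000400040004300430042004200410041004100410042004200430043004000400040004000200020002000200020002000200020002100210021002100210021002100210021002100210021002100210021002100200020002000200020002000200020002000200020002000200020002000200021002100210021002100210021002100210021002100210021002100210021002000200020002000200020002000200010001000100010001000100010001000100010001000100010001000100010001000100010001000100010001000100010001000100010001000100010001000090009000900090009000900090009000800080008000800080008000800080004000400050005000500050004000400030003000200020001000100000000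
noncomputable def c188 : Node :=
  (Node.st (nat_lit 0) (nat_lit 10) (nat_lit 0) (Node.st (nat_lit 2) (nat_lit 0) (nat_lit 10) (Node.st (nat_lit 0) (nat_lit 14) (nat_lit 0) (Node.st (nat_lit 2) (nat_lit 1) (nat_lit 10) (Node.st (nat_lit 0) (nat_lit 17) (nat_lit 0) (Node.st (nat_lit 2) (nat_lit 1) (nat_lit 12) (Node.st (nat_lit 0) (nat_lit 50) (nat_lit 0) (Node.st (nat_lit 2) (nat_lit 1) (nat_lit 14) (Node.st (nat_lit 0) (nat_lit 55) (nat_lit 0) (Node.st (nat_lit 2) (nat_lit 1) (nat_lit 40) (Node.st (nat_lit 0) (nat_lit 40) (nat_lit 0) (Node.st (nat_lit 2) (nat_lit 2) (nat_lit 5) (Node.st (nat_lit 0) (nat_lit 78) (nat_lit 0) (Node.st (nat_lit 2) (nat_lit 2) (nat_lit 9) (Node.st (nat_lit 0) (nat_lit 85) (nat_lit 0) (Node.sp (nat_lit 1) (Node.lf (Leaf.pt (nat_lit 9) (nat_lit 1) [nat_lit 10])) (Node.sp (nat_lit 26) (Node.lf (Leaf.pt (nat_lit 9) (nat_lit 26) [nat_lit 10])) (Node.st (nat_lit 0) (nat_lit 26) (nat_lit 0) (Node.sp (nat_lit 28) (Node.lf (Leaf.pt (nat_lit 9) (nat_lit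 28) [nat_lit 12])) (Node.st (nat_lit 0) (nat_lit 28) (nat_lit 0) (Node.sp (nat_lit 58) (Node.lf (Leaf.pt (nat_lit 9) (nat_lit 58) [nat_lit 12])) (Node.st (nat_lit 0) (nat_lit 58) (nat_lit 0) (Node.sp (nat_lit 60) (Node.lf (Leaf.pt (nat_lit 9) (nat_lit 60) [nat_lit 10])) (Node.st (nat_lit 0) (nat_lit 60) (nat_lit 0) (Node.sp (nat_lit 68) (Node.lf (Leaf.pt (nat_lit 9) (nat_lit 68) [nat_lit 10])) (Node.st (nat_lit 0) (nat_lit 68) (nat_lit 0) (Node.sp (nat_lit 92) (Node.lf (Leaf.pt (nat_lit 9) (nat_lit 92) [nat_lit 10])) (Node.st (nat_lit 0) (nat_lit 92) (nat_lit 0) (Node.sp (nat_lit 100) (Node.lf (Leaf.pt (nat_lit 9) (nat_lit 100) [nat_lit 40])) (Node.st (nat_lit 0) (nat_lit 100) (nat_lit 0) (Node.sp (nat_lit 124) (Node.lf (Leaf.pt (nat_lit 9) (nat_lit 124) [nat_lit 40])) (Node.st (nat_lit 0) (nat_lit 124) (nat_lit 0) (Node.sp (nat_lit 32) (Node.lf (Leaf.pt (nat_lit 13) (nat_lit 32) [nat_lit 26])) (Node.st (nat_lit 0) (nat_lit 32) (nat_lit 0) (Node.ext [[nat_lit 32,nat_lit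 16,nat_lit 8,nat_lit 4,nat_lit 2,nat_lit 1]] (nat_lit 10) [Ins.ts (nat_lit 4) [nat_lit 0] [nat_lit 10,nat_lit 0,nat_lit 0],Ins.fr [nat_lit 0],Ins.ts (nat_lit 1) [nat_lit 0,nat_lit 0] [],Ins.ts (nat_lit 1) [nat_lit 0,nat_lit 0,nat_lit 0,nat_lit 0] [],Ins.fr [nat_lit 1],Ins.ts (nat_lit 1) [nat_lit 0,nat_lit 0] [],Ins.ts (nat_lit 0) [nat_lit 0,nat_lit 1,nat_lit 1,nat_lit 0] [],Ins.ts (nat_lit 0) [nat_lit 1,nat_lit 1,nat_lit 1] [nat_lit 0,nat_lit 1,nat_lit 0],Ins.ts (nat_lit 2) [nat_lit 0,nat_lit 0,nat_lit 1,nat_lit 0] [],Ins.fr [nat_lit 2],Ins.ts (nat_lit 1) [nat_lit 0,nat_lit 0] [],Ins.ts (nat_lit 4) [nat_lit 0] [nat_lit 37,nat_lit 0,nat_lit 0],Ins.ts (nat_lit 2) [nat_lit 1,nat_lit 0] [],Ins.ts (nat_lit 0) [nat_lit 0,nat_lit 2,nat_lit 0,nat_lit 2] [],Ins.ts (nat_lit 2) [nat_lit 1,nat_lit 0,nat_lit 2] [],Ins.fr [nat_lit 0,nat_lit 0,nat_lit 3],Ins.ts (nat_lit 4) [nat_lit 0] [nat_lit 5,nat_lit 0,nat_lit 0],Ins.ts (nat_lit 1) [nat_lit 0,nat_lit 0] [],Ins.ts (nat_lit 2) [nat_lit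 4,nat_lit 0] [],Ins.ts (nat_lit 0) [nat_lit 2,nat_lit 0,nat_lit 2] [nat_lit 0],Ins.ts (nat_lit 0) [nat_lit 1,nat_lit 0] [nat_lit 0,nat_lit 1],Ins.df [nat_lit 0,nat_lit 0],Ins.df [nat_lit 4,nat_lit 4],Ins.df [nat_lit 0,nat_lit 1,nat_lit 6],Ins.df [nat_lit 1,nat_lit 5,nat_lit 6],Ins.df [nat_lit 3,nat_lit 4,nat_lit 5],Ins.df [nat_lit 0,nat_lit 8]] [nat_lit 96,nat_lit 112,nat_lit 36,nat_lit 4] [nat_lit 5,nat_lit 4,nat_lit 6,nat_lit 3,nat_lit 2,nat_lit 1,nat_lit 0] (Srch.ex0 [nat_lit 68,nat_lit 36,nat_lit 16,nat_lit 8,nat_lit 2,nat_lit 1] (Srch.rep (nat_lit 12) [] [nat_lit 34,nat_lit 16,nat_lit 8,nat_lit 4,nat_lit 1] [nat_lit 64,nat_lit 2] Srch.nil c188_0)) (Node.lf (Leaf.au (nat_lit 1) (nat_lit 0) (nat_lit 0) [] [] [nat_lit 3,nat_lit 1] (nat_lit 0) [] (nat_lit 32) [nat_lit 0,nat_lit 2,nat_lit 36,nat_lit 10,nat_lit 10,nat_lit 32,nat_lit 96])))))))))))))))))))))))))))))))))))))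
theorem ok188 : nodeOK DB PT 188 t188 (nat_lit 0xf00000f0f0f0f0f0fcfc0303fc03fc03) (nat_lit 0x111100000000000000000000111100001111000011110000111100001111000011112200111122000000003300000033111122000000005511112200000000ff) c188 = true := by
  decide +kernel
noncomputable def t189 : ℕ := nat_lit 0x3e103e103c903c903e303e303ca03ca03cf03cf03e603e603cc03cc03e403e403cf03cf03e703e703cc03cc03e503e503e003e003c903c903e203e203ca03ca03cf03cf03e603e603cc03cc03e403e403e103e103c903c903e303e303ca03ca03e003e003c903c903e203e203ca03ca03cf03cf03e703e703cc03cc03e503e502060206022f022f02050205022d022d0229022902010201022b022b020202020229022902000200022b022b0203020302070207022f022f02040204022d022d0229022902010201022b022b0202020202060206022f022f02050205022d022d02070207022f022f02040204022d022d0229022902000200022b022b0203020303ff03ff03d703d703fc03fc03d503d503d003d003f903f903d203d203fa03fa03d103d103f903f903d303d303fa03fa03ff03ff03d603d603fc03fc03d403d403d103d103f803f803d303d303fb03fb03fe03fe03d603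d603fd03fd03d403d403fe03fe03d703d703fd03fd03d503d503d003d003f803f803d203d203fb03fb0219021902300230021b021b0233023302370237021f021f02340234021d021d02360236021f021f02350235021d021d0219021902310231021b021b0232023202360236021e021e02350235021c021c0218021802310231021a021a023202320218021802300230021a021a0233023302370237021e021e02340234021c021c02360236021e021e02350235021c021c0218021802310231021a021a023202320218021802300230021a021a0233023302370237021e021e02340234021c021c0219021902300230021b021b0233023302370237021f021f02340234021d021d02360236021f021f02350235021d021d0219021902310231021b021b0232023203d003d003f903f903d203d203fa03fa03ff03ff03d703d703fc03fc03d503d503ff03ff03d603d603fc03fc03d403d403d103d103f903f903d303d303fa03fa03fe03fe03d603d603fd03fd03d403d403d103d103f803f803d303d303fb03fb03d003d003f803f803d203d203fb03fb03fe03fe03d703d703fd03fd03d503d50229022902010201022b022b0202020202060206022f022f02050205022d022d02070207022f022f02040204022d022d0229022902000200022b022b020302030206020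6022f022f02050205022d022d0229022902010201022b022b020202020229022902000200022b022b0203020302070207022f022f02040204022d022d03ce03ce03e703e703cd03cd03e503e503e003e003c803c803e203e203cb03cb03e103e103c803c803e303e303cb03cb03ce03ce03e603e603cd03cd03e403e403e003e003c803c803e203e203cb03cb03ce03ce03e703e703cd03cd03e503e503ce03ce03e603e603cd03cd03e403e403e103e103c803c803e303e303cb03cb02030203022a022a0201020102290229022d022d02050205022e022e02070207022d022d02040204022e022e0206020602020202022a022a0200020002290229022d022d02050205022e022e0207020702030203022a022a020102010229022902020202022a022a0200020002290229022d022d02040204022e022e0206020603ce03ce03e703e703cd03cd03e503e503e003e003c803c803e203e203cb03cb03e103e103c803c803e303e303cb03cb03ce03ce03e603e603cd03cd03e403e403e003e003c803c803e203e203cb03cb03ce03ce03e703e703cd03cd03e503e503ce03ce03e603e603cd03cd03e403e403e103e103c803c803e303e303cb03cb021d021d02340234021e021e0236023602320232021a021a023002300219021902330233021a021a0231023102190219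021d021d02350235021e021e0237023702330233021b021b0231023102180218021c021c02350235021f021f02370237021c021c02340234021f021f0236023602320232021b021b023002300218021803d103d103f803f803d303d303fb03fb03fe03fe03d603d603fd03fd03d403d403fe03fe03d703d703fd03fd03d503d503d003d003f803f803d203d203fb03fb03ff03ff03d703d703fc03fc03d503d503d003d003f903f903d203d203fa03fa03d103d103f903f903d303d303fa03fa03ff03ff03d603d603fc03fc03d403d403d703d703ff03ff03d403d403fd03fd03f903f903d003d003fb03fb03d303d303f903f903d103d103fb03fb03d203d203d603d603ff03ff03d503d503fd03fd03f803f803d103d103fa03fa03d203d203d603d603fe03fe03d503d503fc03fc03d703d703fe03fe03d403d403fc03fc03f803f803d003d003fa03fa03d303d3021a021a02320232021802180231023102340234021d021d02370237021f021f02350235021d021d02360236021f021f021a021a02330233021802180230023002350235021c021c02360236021e021e021b021b023302330219021902300230021b021b02320232021902190231023102340234021c021c02370237021e021e03c803c803e003e003ca03ca03e303e303e703e703ce03ce03e403e40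3cc03cc03e603e603ce03ce03e503e503cc03cc03c803c803e103e103ca03ca03e203e203e703e703ce03ce03e403e403cc03cc03c803c803e003e003ca03ca03e303e303c803c803e103e103ca03ca03e203e203e603e603ce03ce03e503e503cc03cc02040204022c022c02070207022e022e022b022b020202020229022902010201022b022b02030203022902290200020002050205022c022c02060206022e022e022b022b02020202022902290201020102040204022c022c02070207022e022e02050205022c022c02060206022e022e022b022b0203020302290229020002000100010001000100012a012a012b012b011b011b011a011a0130013001300130011a011a011b011b01300130013001300100010001000100012b012b012a012a011b011b011a011a01300130013001300101010101010101012b012b012a012a0101010101010101012a012a012b012b011a011a011b011b0130013001300130012a012a012b012b01000100010001000130013001300130011b011b011a011a0130013001300130011a011a011b011b012b012b012a012a01000100010001000130013001300130011b011b011a011a012b012b012a012a0101010101010101012a012a012b012b01010101010101010130013001300130011a011a011b011b011b011b011a011a01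300130013001300101010101010101012b012b012a012a0101010101010101012a012a012b012b011a011a011b011b01300130013001300100010001000100012a012a012b012b011b011b011a011a0130013001300130011a011a011b011b01300130013001300100010001000100012b012b012a012a0130013001300130011b011b011a011a012b012b012a012a0101010101010101012a012a012b012b01010101010101010130013001300130011a011a011b011b012a012a012b012b01000100010001000130013001300130011b011b011a011a0130013001300130011a011a011b011b012b012b012a012a01000100010001000100010001000100012a012a012b012b011b011b011a011a0130013001300130011a011a011b011b01300130013001300100010001000100012b012b012a012a011b011b011a011a01300130013001300101010101010101012b012b012a012a0101010101010101012a012a012b012b011a011a011b011b0130013001300130012a012a012b012b01000100010001000130013001300130011b011b011a011a0130013001300130011a011a011b011b012b012b012a012a01000100010001000130013001300130011b011b011a011a012b012b012a012a0101010101010101012a012a012b012b010101010101010101300130013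00130011a011a011b011b011b011b011a011a01300130013001300101010101010101012b012b012a012a0101010101010101012a012a012b012b011a011a011b011b01300130013001300100010001000100012a012a012b012b011b011b011a011a0130013001300130011a011a011b011b01300130013001300100010001000100012b012b012a012a0130013001300130011b011b011a011a012b012b012a012a0101010101010101012a012a012b012b01010101010101010130013001300130011a011a011b011b012a012a012b012b01000100010001000130013001300130011b011b011a011a0130013001300130011a011a011b011b012b012b012a012a01000100010001000081008100810081008100810081008100b100b100b100b100b100b100b100b100b000b000b000b000b000b000b000b00080008000800080008000800080008000b100b100b100b100b100b100b100b1008000800080008000800080008000800081008100810081008100810081008100b000b000b000b000b000b000b000b00081008100810081008100810081008100b100b100b100b100b100b100b100b100b000b000b000b000b000b000b000b00080008000800080008000800080008000b100b100b100b100b100b100b100b1008000800080008000800080008000800081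008100810081008100810081008100b000b000b000b000b000b000b000b000b100b100b100b100b100b100b100b1008000800080008000800080008000800081008100810081008100810081008100b000b000b000b000b000b000b000b00081008100810081008100810081008100b100b100b100b100b100b100b100b100b000b000b000b000b000b000b000b00080008000800080008000800080008000b100b100b100b100b100b100b100b1008000800080008000800080008000800081008100810081008100810081008100b000b000b000b000b000b000b000b00081008100810081008100810081008100b100b100b100b100b100b100b100b100b000b000b000b000b000b000b000b00080008000800080008000800080008000400040004000400042004200430043004100410041004100430043004200420040004000400040004200420043004300410041004100410043004300420042004000400040004000420042004300430041004100410041004300430042004200400040004000400042004200430043004100410041004100430043004200420043004300420042004100410041004100420042004300430040004000400040004300430042004200410041004100410042004200430043004000400040004000430043004200420041004100410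04100420042004300430040004000400040004300430042004200410041004100410042004200430043004000400040004000200020002000200020002000200020002100210021002100210021002100210021002100210021002100210021002100200020002000200020002000200020002000200020002000200020002000200021002100210021002100210021002100210021002100210021002100210021002000200020002000200020002000200010001000100010001000100010001000100010001000100010001000100010001000100010001000100010001000100010001000100010001000100010001000090009000900090009000900090009000800080008000800080008000800080004000400050005000500050004000400030003000200020001000100000000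
noncomputable def c189 : Node :=
  (Node.st (nat_lit 0) (nat_lit 10) (nat_lit 0) (Node.st (nat_lit 0) (nat_lit 76) (nat_lit 0) (Node.sp (nat_lit 1) (Node.lf (Leaf.pt (nat_lit 9) (nat_lit 1) [nat_lit 10])) (Node.sp (nat_lit 26) (Node.lf (Leaf.pt (nat_lit 9) (nat_lit 26) [nat_lit 10])) (Node.st (nat_lit 0) (nat_lit 26) (nat_lit 0) (Node.sp (nat_lit 28) (Node.lf (Leaf.pt (nat_lit 9) (nat_lit 28) [nat_lit 12])) (Node.st (nat_lit 0) (nat_lit 28) (nat_lit 0) (Node.sp (nat_lit 40) (Node.lf (Leaf.pt (nat_lit 9) (nat_lit 40) [nat_lit 76])) (Node.st (nat_lit 0) (nat_lit 40) (nat_lit 0) (Node.sp (nat_lit 68) (Node.lf (Leaf.pt (nat_lit 9) (nat_lit 68) [nat_lit 10])) (Node.st (nat_lit 0) (nat_lit 68) (nat_lit 0) (Node.sp (nat_lit 92) (Node.lf (Leaf.pt (nat_lit 9) (nat_lit 92) [nat_lit 10])) (Node.st (nat_lit 0) (nat_lit 92) (nat_lit 0) (Node.sp (nat_lit 136) (Node.lf (Leaf.pt (nat_lit 12) (nat_lit 136) [nat_lit 92,nat_lit 320])) (Node.st (nat_lit 0) (nat_lit 136) (nat_lit 0) (Node.sp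 (nat_lit 144) (Node.lf (Leaf.pt (nat_lit 12) (nat_lit 144) [nat_lit 68,nat_lit 344])) (Node.st (nat_lit 0) (nat_lit 144) (nat_lit 0) (Node.sp (nat_lit 212) (Node.lf (Leaf.pt (nat_lit 13) (nat_lit 212) [nat_lit 68])) (Node.st (nat_lit 0) (nat_lit 212) (nat_lit 0) (Node.sp (nat_lit 324) (Node.lf (Leaf.pt (nat_lit 12) (nat_lit 324) [nat_lit 40,nat_lit 520])) (Node.st (nat_lit 0) (nat_lit 324) (nat_lit 0) (Node.sp (nat_lit 326) (Node.lf (Leaf.pt (nat_lit 12) (nat_lit 326) [nat_lit 40,nat_lit 524])) (Node.st (nat_lit 0) (nat_lit 326) (nat_lit 0) (Node.sp (nat_lit 460) (Node.lf (Leaf.pt (nat_lit 12) (nat_lit 460) [nat_lit 40,nat_lit 522])) (Node.st (nat_lit 0) (nat_lit 460) (nat_lit 0) (Node.sp (nat_lit 584) (Node.lf (Leaf.pt (nat_lit 23) (nat_lit 584) [nat_lit 40,nat_lit 24,nat_lit 462])) (Node.st (nat_lit 0) (nat_lit 584) (nat_lit 0) (Node.sp (nat_lit 704) (Node.lf (Leaf.pt (nat_lit 12) (nat_lit 704) [nat_lit 144,nat_lit 322])) (Node.st (nat_lit 0) (nat_lit 704) (nat_lit 0)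 (Node.sp (nat_lit 708) (Node.lf (Leaf.pt (nat_lit 12) (nat_lit 708) [nat_lit 144,nat_lit 320])) (Node.st (nat_lit 0) (nat_lit 708) (nat_lit 0) (Node.ext [] (nat_lit 10) [Ins.fr [nat_lit 0],Ins.ts (nat_lit 1) [nat_lit 0,nat_lit 0] [],Ins.ts (nat_lit 1) [nat_lit 0,nat_lit 0,nat_lit 0,nat_lit 0] [],Ins.fr [nat_lit 1],Ins.fr [nat_lit 2],Ins.fr [nat_lit 0,nat_lit 0,nat_lit 3],Ins.fr [nat_lit 1,nat_lit 2,nat_lit 0,nat_lit 3,nat_lit 4],Ins.fr [nat_lit 0,nat_lit 0,nat_lit 1,nat_lit 2],Ins.fr [nat_lit 6,nat_lit 2],Ins.df [nat_lit 3,nat_lit 3],Ins.df [nat_lit 7,nat_lit 7],Ins.df [nat_lit 0,nat_lit 1,nat_lit 9],Ins.df [nat_lit 1,nat_lit 8,nat_lit 9],Ins.df [nat_lit 3,nat_lit 7,nat_lit 8],Ins.df [nat_lit 0,nat_lit 11]] [nat_lit 96,nat_lit 112,nat_lit 36,nat_lit 4,nat_lit 128,nat_lit 256,nat_lit 512] [nat_lit 5,nat_lit 4,nat_lit 9,nat_lit 3,nat_lit 2,nat_lit 1,nat_lit 0,nat_lit 8,nat_lit 7,nat_lit 6] (Srch.ex0 [nat_lit 68,nat_lit 36,nat_lit 16,nat_lit 8,nat_lit 2,nat_lit 1] (Srch.rep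 (nat_lit 76) [] [nat_lit 70,nat_lit 34,nat_lit 16,nat_lit 10,nat_lit 1] [nat_lit 512,nat_lit 256,nat_lit 128,nat_lit 4,nat_lit 2] Srch.nil Srch.nil)) Node.done))))))))))))))))))))))))))))))))
theorem ok189 : nodeOK DB PT 189 t189 (nat_lit 0x3c000000003c00000000000000003c00003c003c3c000033330033000033000000000000000000000033000033000000000000000000000000f00000f00003f0f003f00c0cf000f0f000f00000f000030c000c000003000000f000f000000300000300030300f00000f0f0f0f0f0fcfc0303fc03fc03) (nat_lit 0x1111000000000000000000000000000000000000111100000000000000000000000000000000000000000000000000000000000000000000111100000000000000000000111100000000000011110000111100000000000000000000110011001100110000000000110011000000000000000000110011000000000000000000000000000000000000000000000000000000000000000000000000000000000000000000110011000000000000000000110011000000000000000000000000000000000000000000000000000000000000000000000000000000000000000000000000111100000000000000000000111100000000000000000022111100001111000000000022111100000000220000002200111100000000000011110000111100000000000011110000000000000000000011110000000000000000002200002200000000000000220000000000000000000000002200000000000000000000000011110000000000001111000000000000000000000000003300000000000000000000003300000000000000330000003300000000111100000000000000000000111100001111000011110000111100001111000011112200111122000000003300000033111122000000005511112200000000ff)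 c189 = true := by
  decide +kernel
noncomputable def c190_0 : Node :=
  Node.ext [[nat_lit 32,nat_lit 16,nat_lit 8,nat_lit 4,nat_lit 2,nat_lit 1]] (nat_lit 10) [Ins.ts (nat_lit 4) [nat_lit 0] [nat_lit 10,nat_lit 0,nat_lit 0],Ins.fr [nat_lit 0],Ins.fr [nat_lit 1],Ins.fr [nat_lit 2],Ins.fr [nat_lit 0,nat_lit 0,nat_lit 3],Ins.fr [nat_lit 1,nat_lit 2,nat_lit 0,nat_lit 3,nat_lit 4],Ins.fr [nat_lit 0,nat_lit 0,nat_lit 1,nat_lit 2],Ins.fr [nat_lit 6,nat_lit 2],Ins.df [nat_lit 3,nat_lit 3],Ins.df [nat_lit 7,nat_lit 7],Ins.df [nat_lit 0,nat_lit 1,nat_lit 9],Ins.df [nat_lit 1,nat_lit 8,nat_lit 9],Ins.df [nat_lit 3,nat_lit 7,nat_lit 8],Ins.df [nat_lit 0,nat_lit 11]] [nat_lit 96,nat_lit 112,nat_lit 36,nat_lit 4,nat_lit 128,nat_lit 256,nat_lit 512] [nat_lit 5,nat_lit 4,nat_lit 9,nat_lit 3,nat_lit 2,nat_lit 1,nat_lit 0,nat_lit 8,nat_lit 7,nat_lit 6] (Srch.ex0 [nat_lit 68,nat_lit 36,nat_lit 16,nat_lit 8,nat_lit 2,nat_lit 1] Srch.nil) (Node.frat (nat_lit 1) (nat_lit 0) (nat_lit 0) [[],[nat_lit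 1],[nat_lit 24,nat_lit 1],[nat_lit 40,nat_lit 24,nat_lit 1],[nat_lit 4,nat_lit 2,nat_lit 40,nat_lit 24,nat_lit 1]] [] [((nat_lit 1),(nat_lit 0)),((nat_lit 2),(nat_lit 1)),((nat_lit 3),(nat_lit 2)),((nat_lit 4),(nat_lit 3)),((nat_lit 5),(nat_lit 4))] [nat_lit 1] [nat_lit 576,nat_lit 320,nat_lit 128,nat_lit 32,nat_lit 16,nat_lit 8,nat_lit 4,nat_lit 2,nat_lit 1] (nat_lit 64) (nat_lit 4) (nat_lit 10) [Ins.fr [nat_lit 0],Ins.ts (nat_lit 4) [nat_lit 0] [nat_lit 7,nat_lit 4,nat_lit 3],Ins.ts (nat_lit 1) [nat_lit 0,nat_lit 0] [],Ins.fr [nat_lit 1],Ins.ts (nat_lit 4) [nat_lit 0,nat_lit 2] [nat_lit 24,nat_lit 2,nat_lit 1],Ins.fr [nat_lit 2],Ins.ts (nat_lit 1) [nat_lit 0,nat_lit 0] [],Ins.ts (nat_lit 3) [nat_lit 0,nat_lit 1] [],Ins.ts (nat_lit 4) [nat_lit 0,nat_lit 3] [nat_lit 45,nat_lit 4,nat_lit 3],Ins.fr [nat_lit 0,nat_lit 0,nat_lit 3],Ins.ts (nat_lit 4) [nat_lit 0] [nat_lit 3,nat_lit 4,nat_lit 3],Ins.ts (nat_lit 1) [nat_lit 0,nat_lit 0] [],Ins.fr [nat_lit 0,nat_lit 2,nat_lit 3,nat_lit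 1,nat_lit 4],Ins.ts (nat_lit 0) [nat_lit 0,nat_lit 3,nat_lit 0] [nat_lit 3],Ins.ts (nat_lit 0) [nat_lit 4,nat_lit 0] [nat_lit 0,nat_lit 4],Ins.fr [nat_lit 3,nat_lit 4],Ins.ts (nat_lit 4) [nat_lit 0,nat_lit 0] [nat_lit 40,nat_lit 3,nat_lit 2],Ins.ts (nat_lit 0) [nat_lit 4,nat_lit 0,nat_lit 3] [nat_lit 2,nat_lit 0],Ins.ts (nat_lit 0) [nat_lit 4,nat_lit 1,nat_lit 0] [nat_lit 0,nat_lit 4,nat_lit 1],Ins.fr [nat_lit 2,nat_lit 6],Ins.ts (nat_lit 0) [nat_lit 6,nat_lit 0,nat_lit 0] [nat_lit 4,nat_lit 7],Ins.ts (nat_lit 0) [nat_lit 6,nat_lit 0,nat_lit 4] [nat_lit 7,nat_lit 0],Ins.df [nat_lit 3,nat_lit 3],Ins.df [nat_lit 0,nat_lit 7,nat_lit 8],Ins.df [nat_lit 0,nat_lit 7,nat_lit 9],Ins.df [nat_lit 1,nat_lit 4,nat_lit 4]] [nat_lit 2,nat_lit 18,nat_lit 36,nat_lit 4,nat_lit 128,nat_lit 320,nat_lit 576] [nat_lit 3,nat_lit 10,nat_lit 7,nat_lit 2,nat_lit 1,nat_lit 0,nat_lit 6,nat_lit 5,nat_lit 4] [] (Srch.rep (nat_lit 10) [nat_lit 2] [nat_lit 36,nat_lit 16,nat_lit 8,nat_lit 2,nat_lit 1]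 [nat_lit 576,nat_lit 320,nat_lit 128,nat_lit 4] (Srch.rep (nat_lit 46) [] [] [] (Srch.rep (nat_lit 18) [nat_lit 36] [] [] (Srch.rep (nat_lit 38) [nat_lit 10] [] [] (Srch.rep (nat_lit 43) [nat_lit 24] [] [] (Srch.rep (nat_lit 172) [] [] [] (Srch.rep (nat_lit 825) [] [] [] (Srch.rep (nat_lit 450) [] [] [] (Srch.lf (Leaf.mp (nat_lit 189) [nat_lit 1,nat_lit 2,nat_lit 4,nat_lit 8,nat_lit 16,nat_lit 32,nat_lit 64,nat_lit 128,nat_lit 256,nat_lit 512] [])) (Srch.rep (nat_lit 451) [] [] [] (Srch.lf (Leaf.mp (nat_lit 189) [nat_lit 1,nat_lit 2,nat_lit 4,nat_lit 8,nat_lit 16,nat_lit 32,nat_lit 64,nat_lit 128,nat_lit 256,nat_lit 512] [])) Srch.nil)) (Srch.rep (nat_lit 824) [] [] [] (Srch.rep (nat_lit 450) [] [] [] (Srch.lf (Leaf.mp (nat_lit 189) [nat_lit 1,nat_lit 2,nat_lit 4,nat_lit 8,nat_lit 16,nat_lit 32,nat_lit 64,nat_lit 128,nat_lit 256,nat_lit 512] [])) (Srch.rep (nat_lit 451) [] [] [] (Srch.lf (Leaf.mp (nat_lit 189) [nat_lit 1,nat_lit 2,nat_lit 4,nat_lit 8,nat_lit 16,nat_lit 32,nat_lit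 64,nat_lit 128,nat_lit 256,nat_lit 512] [])) Srch.nil)) Srch.nil)) (Srch.rep (nat_lit 180) [] [] [] (Srch.rep (nat_lit 801) [] [] [] (Srch.rep (nat_lit 450) [] [] [] (Srch.lf (Leaf.mp (nat_lit 189) [nat_lit 1,nat_lit 2,nat_lit 4,nat_lit 8,nat_lit 16,nat_lit 32,nat_lit 64,nat_lit 128,nat_lit 256,nat_lit 512] [])) (Srch.rep (nat_lit 451) [] [] [] (Srch.lf (Leaf.mp (nat_lit 189) [nat_lit 1,nat_lit 2,nat_lit 4,nat_lit 8,nat_lit 16,nat_lit 32,nat_lit 64,nat_lit 128,nat_lit 256,nat_lit 512] [])) Srch.nil)) (Srch.rep (nat_lit 800) [] [] [] (Srch.rep (nat_lit 450) [] [] [] (Srch.lf (Leaf.mp (nat_lit 189) [nat_lit 1,nat_lit 2,nat_lit 4,nat_lit 8,nat_lit 16,nat_lit 32,nat_lit 64,nat_lit 128,nat_lit 256,nat_lit 512] [])) (Srch.rep (nat_lit 451) [] [] [] (Srch.lf (Leaf.mp (nat_lit 189) [nat_lit 1,nat_lit 2,nat_lit 4,nat_lit 8,nat_lit 16,nat_lit 32,nat_lit 64,nat_lit 128,nat_lit 256,nat_lit 512] [])) Srch.nil)) Srch.nil)) Srch.nil)) Srch.nil) Srch.nil) (Srch.rep (nat_lit 19) [nat_lit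 36] [] [] (Srch.rep (nat_lit 38) [nat_lit 10] [] [] (Srch.rep (nat_lit 43) [nat_lit 24] [] [] (Srch.rep (nat_lit 132) [] [] [] (Srch.rep (nat_lit 784) [] [] [] (Srch.rep (nat_lit 450) [] [] [] (Srch.lf (Leaf.mp (nat_lit 189) [nat_lit 1,nat_lit 2,nat_lit 4,nat_lit 8,nat_lit 16,nat_lit 32,nat_lit 64,nat_lit 128,nat_lit 256,nat_lit 512] [])) (Srch.rep (nat_lit 451) [] [] [] (Srch.lf (Leaf.mp (nat_lit 189) [nat_lit 1,nat_lit 2,nat_lit 4,nat_lit 8,nat_lit 16,nat_lit 32,nat_lit 64,nat_lit 128,nat_lit 256,nat_lit 512] [])) Srch.nil)) (Srch.rep (nat_lit 785) [] [] [] (Srch.rep (nat_lit 450) [] [] [] (Srch.lf (Leaf.mp (nat_lit 189) [nat_lit 1,nat_lit 2,nat_lit 4,nat_lit 8,nat_lit 16,nat_lit 32,nat_lit 64,nat_lit 128,nat_lit 256,nat_lit 512] [])) (Srch.rep (nat_lit 451) [] [] [] (Srch.lf (Leaf.mp (nat_lit 189) [nat_lit 1,nat_lit 2,nat_lit 4,nat_lit 8,nat_lit 16,nat_lit 32,nat_lit 64,nat_lit 128,nat_lit 256,nat_lit 512] [])) Srch.nil)) Srch.nil)) (Srch.rep (nat_lit 156) [] [] [] (Srch.rep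 (nat_lit 776) [] [] [] (Srch.rep (nat_lit 450) [] [] [] (Srch.lf (Leaf.mp (nat_lit 189) [nat_lit 1,nat_lit 2,nat_lit 4,nat_lit 8,nat_lit 16,nat_lit 32,nat_lit 64,nat_lit 128,nat_lit 256,nat_lit 512] [])) (Srch.rep (nat_lit 451) [] [] [] (Srch.lf (Leaf.mp (nat_lit 189) [nat_lit 1,nat_lit 2,nat_lit 4,nat_lit 8,nat_lit 16,nat_lit 32,nat_lit 64,nat_lit 128,nat_lit 256,nat_lit 512] [])) Srch.nil)) (Srch.rep (nat_lit 777) [] [] [] (Srch.rep (nat_lit 450) [] [] [] (Srch.lf (Leaf.mp (nat_lit 189) [nat_lit 1,nat_lit 2,nat_lit 4,nat_lit 8,nat_lit 16,nat_lit 32,nat_lit 64,nat_lit 128,nat_lit 256,nat_lit 512] [])) (Srch.rep (nat_lit 451) [] [] [] (Srch.lf (Leaf.mp (nat_lit 189) [nat_lit 1,nat_lit 2,nat_lit 4,nat_lit 8,nat_lit 16,nat_lit 32,nat_lit 64,nat_lit 128,nat_lit 256,nat_lit 512] [])) Srch.nil)) Srch.nil)) Srch.nil)) Srch.nil) Srch.nil) Srch.nil)) Srch.nil) Srch.nil))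
noncomputable def t190 : ℕ := nat_lit 0x3e103e103c903c903e303e303ca03ca03cf03cf03e603e603cc03cc03e403e403cf03cf03e703e703cc03cc03e503e503e003e003c903c903e203e203ca03ca03cf03cf03e603e603cc03cc03e403e403e103e103c903c903e303e303ca03ca03e003e003c903c903e203e203ca03ca03cf03cf03e703e703cc03cc03e503e502060206022f022f02050205022d022d0229022902010201022b022b020202020229022902000200022b022b0203020302070207022f022f02040204022d022d0229022902010201022b022b0202020202060206022f022f02050205022d022d02070207022f022f02040204022d022d0229022902000200022b022b0203020303ff03ff03d703d703fc03fc03d503d503d003d003f903f903d203d203fa03fa03d103d103f903f903d303d303fa03fa03ff03ff03d603d603fc03fc03d403d403d103d103f803f803d303d303fb03fb03fe03fe03d603d603fd03fd03d403d403fe03fe03d703d703fd03fd03d503d503d003d003f803f803d203d203fb03fb0219021902300230021b021b0233023302370237021f021f02340234021d021d02360236021f021f02350235021d021d0219021902310231021b021b0232023202360236021e021e02350235021c021c02180218023102310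21a021a023202320218021802300230021a021a0233023302370237021e021e02340234021c021c02360236021e021e02350235021c021c0218021802310231021a021a023202320218021802300230021a021a0233023302370237021e021e02340234021c021c0219021902300230021b021b0233023302370237021f021f02340234021d021d02360236021f021f02350235021d021d0219021902310231021b021b0232023203d003d003f903f903d203d203fa03fa03ff03ff03d703d703fc03fc03d503d503ff03ff03d603d603fc03fc03d403d403d103d103f903f903d303d303fa03fa03fe03fe03d603d603fd03fd03d403d403d103d103f803f803d303d303fb03fb03d003d003f803f803d203d203fb03fb03fe03fe03d703d703fd03fd03d503d50229022902010201022b022b0202020202060206022f022f02050205022d022d02070207022f022f02040204022d022d0229022902000200022b022b0203020302060206022f022f02050205022d022d0229022902010201022b022b020202020229022902000200022b022b0203020302070207022f022f02040204022d022d03ce03ce03e703e703cd03cd03e503e503e003e003c803c803e203e203cb03cb03e103e103c803c803e303e303cb03cb03ce03ce03e603e603cd03cd03e403e403e003e003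c803c803e203e203cb03cb03ce03ce03e703e703cd03cd03e503e503ce03ce03e603e603cd03cd03e403e403e103e103c803c803e303e303cb03cb02030203022a022a0201020102290229022d022d02050205022e022e02070207022d022d02040204022e022e0206020602020202022a022a0200020002290229022d022d02050205022e022e0207020702030203022a022a020102010229022902020202022a022a0200020002290229022d022d02040204022e022e0206020603ce03ce03e703e703cd03cd03e503e503e003e003c803c803e203e203cb03cb03e103e103c803c803e303e303cb03cb03ce03ce03e603e603cd03cd03e403e403e003e003c803c803e203e203cb03cb03ce03ce03e703e703cd03cd03e503e503ce03ce03e603e603cd03cd03e403e403e103e103c803c803e303e303cb03cb021d021d02340234021e021e0236023602320232021a021a023002300219021902330233021a021a0231023102190219021d021d02350235021e021e0237023702330233021b021b0231023102180218021c021c02350235021f021f02370237021c021c02340234021f021f0236023602320232021b021b023002300218021803d103d103f803f803d303d303fb03fb03fe03fe03d603d603fd03fd03d403d403fe03fe03d703d703fd03fd03d503d503d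003d003f803f803d203d203fb03fb03ff03ff03d703d703fc03fc03d503d503d003d003f903f903d203d203fa03fa03d103d103f903f903d303d303fa03fa03ff03ff03d603d603fc03fc03d403d403d703d703ff03ff03d403d403fd03fd03f903f903d003d003fb03fb03d303d303f903f903d103d103fb03fb03d203d203d603d603ff03ff03d503d503fd03fd03f803f803d103d103fa03fa03d203d203d603d603fe03fe03d503d503fc03fc03d703d703fe03fe03d403d403fc03fc03f803f803d003d003fa03fa03d303d3021a021a02320232021802180231023102340234021d021d02370237021f021f02350235021d021d02360236021f021f021a021a02330233021802180230023002350235021c021c02360236021e021e021b021b023302330219021902300230021b021b02320232021902190231023102340234021c021c02370237021e021e03c803c803e003e003ca03ca03e303e303e703e703ce03ce03e403e403cc03cc03e603e603ce03ce03e503e503cc03cc03c803c803e103e103ca03ca03e203e203e703e703ce03ce03e403e403cc03cc03c803c803e003e003ca03ca03e303e303c803c803e103e103ca03ca03e203e203e603e603ce03ce03e503e503cc03cc02040204022c022c02070207022e022e022b022b02020202022902290201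0201022b022b02030203022902290200020002050205022c022c02060206022e022e022b022b02020202022902290201020102040204022c022c02070207022e022e02050205022c022c02060206022e022e022b022b0203020302290229020002000100010001000100012a012a012b012b011b011b011a011a0130013001300130011a011a011b011b01300130013001300100010001000100012b012b012a012a011b011b011a011a01300130013001300101010101010101012b012b012a012a0101010101010101012a012a012b012b011a011a011b011b0130013001300130012a012a012b012b01000100010001000130013001300130011b011b011a011a0130013001300130011a011a011b011b012b012b012a012a01000100010001000130013001300130011b011b011a011a012b012b012a012a0101010101010101012a012a012b012b01010101010101010130013001300130011a011a011b011b011b011b011a011a01300130013001300101010101010101012b012b012a012a0101010101010101012a012a012b012b011a011a011b011b01300130013001300100010001000100012a012a012b012b011b011b011a011a0130013001300130011a011a011b011b01300130013001300100010001000100012b012b012a012a0130013001300130011b0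11b011a011a012b012b012a012a0101010101010101012a012a012b012b01010101010101010130013001300130011a011a011b011b012a012a012b012b01000100010001000130013001300130011b011b011a011a0130013001300130011a011a011b011b012b012b012a012a01000100010001000100010001000100012a012a012b012b011b011b011a011a0130013001300130011a011a011b011b01300130013001300100010001000100012b012b012a012a011b011b011a011a01300130013001300101010101010101012b012b012a012a0101010101010101012a012a012b012b011a011a011b011b0130013001300130012a012a012b012b01000100010001000130013001300130011b011b011a011a0130013001300130011a011a011b011b012b012b012a012a01000100010001000130013001300130011b011b011a011a012b012b012a012a0101010101010101012a012a012b012b01010101010101010130013001300130011a011a011b011b011b011b011a011a01300130013001300101010101010101012b012b012a012a0101010101010101012a012a012b012b011a011a011b011b01300130013001300100010001000100012a012a012b012b011b011b011a011a0130013001300130011a011a011b011b013001300130013001000100010001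00012b012b012a012a0130013001300130011b011b011a011a012b012b012a012a0101010101010101012a012a012b012b01010101010101010130013001300130011a011a011b011b012a012a012b012b01000100010001000130013001300130011b011b011a011a0130013001300130011a011a011b011b012b012b012a012a01000100010001000081008100810081008100810081008100b100b100b100b100b100b100b100b100b000b000b000b000b000b000b000b00080008000800080008000800080008000b100b100b100b100b100b100b100b1008000800080008000800080008000800081008100810081008100810081008100b000b000b000b000b000b000b000b00081008100810081008100810081008100b100b100b100b100b100b100b100b100b000b000b000b000b000b000b000b00080008000800080008000800080008000b100b100b100b100b100b100b100b1008000800080008000800080008000800081008100810081008100810081008100b000b000b000b000b000b000b000b000b100b100b100b100b100b100b100b1008000800080008000800080008000800081008100810081008100810081008100b000b000b000b000b000b000b000b00081008100810081008100810081008100b100b100b100b100b100b100b100b100b000b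000b000b000b000b000b000b00080008000800080008000800080008000b100b100b100b100b100b100b100b1008000800080008000800080008000800081008100810081008100810081008100b000b000b000b000b000b000b000b00081008100810081008100810081008100b100b100b100b100b100b100b100b100b000b000b000b000b000b000b000b0008000800080008000800080008000800040004000400040004200420043004300410041004100410043004300420042004000400040004000420042004300430041004100410041004300430042004200400040004000400042004200430043004100410041004100430043004200420040004000400040004200420043004300410041004100410043004300420042004300430042004200410041004100410042004200430043004000400040004000430043004200420041004100410041004200420043004300400040004000400043004300420042004100410041004100420042004300430040004000400040004300430042004200410041004100410042004200430043004000400040004000200020002000200020002000200020002100210021002100210021002100210021002100210021002100210021002100200020002000200020002000200020002000200020002000200020002000200021002100210021002100210021002100210021002100210021002100210021002000200020002000200020002000200010001000100010001000100010001000100010001000100010001000100010001000100010001000100010001000100010001000100010001000100010001000090009000900090009000900090009000800080008000800080008000800080004000400050005000500050004000400030003000200020001000100000000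
noncomputable def c190 : Node :=
  (Node.st (nat_lit 0) (nat_lit 10) (nat_lit 0) (Node.st (nat_lit 2) (nat_lit 2) (nat_lit 5) (Node.st (nat_lit 0) (nat_lit 78) (nat_lit 0) (Node.sp (nat_lit 1) (Node.lf (Leaf.pt (nat_lit 9) (nat_lit 1) [nat_lit 10])) (Node.sp (nat_lit 26) (Node.lf (Leaf.pt (nat_lit 9) (nat_lit 26) [nat_lit 10])) (Node.st (nat_lit 0) (nat_lit 26) (nat_lit 0) (Node.sp (nat_lit 28) (Node.lf (Leaf.pt (nat_lit 9) (nat_lit 28) [nat_lit 12])) (Node.st (nat_lit 0) (nat_lit 28) (nat_lit 0) (Node.sp (nat_lit 40) (Node.lf (Leaf.pt (nat_lit 9) (nat_lit 40) [nat_lit 76])) (Node.st (nat_lit 0) (nat_lit 40) (nat_lit 0) (Node.sp (nat_lit 68) (Node.lf (Leaf.pt (nat_lit 9) (nat_lit 68) [nat_lit 10])) (Node.st (nat_lit 0) (nat_lit 68) (nat_lit 0) (Node.sp (nat_lit 92) (Node.lf (Leaf.pt (nat_lit 9) (nat_lit 92) [nat_lit 10])) (Node.st (nat_lit 0) (nat_lit 92) (nat_lit 0) (Node.sp (nat_lit 136) (Node.lf (Leaf.pt (nat_lit 12) (nat_lit 136) [nat_lit 92,nat_lit 320])) (Node.st (nat_lit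 0) (nat_lit 136) (nat_lit 0) (Node.sp (nat_lit 144) (Node.lf (Leaf.pt (nat_lit 12) (nat_lit 144) [nat_lit 68,nat_lit 344])) (Node.st (nat_lit 0) (nat_lit 144) (nat_lit 0) (Node.sp (nat_lit 212) (Node.lf (Leaf.pt (nat_lit 13) (nat_lit 212) [nat_lit 68])) (Node.st (nat_lit 0) (nat_lit 212) (nat_lit 0) (Node.sp (nat_lit 324) (Node.lf (Leaf.pt (nat_lit 12) (nat_lit 324) [nat_lit 40,nat_lit 520])) (Node.st (nat_lit 0) (nat_lit 324) (nat_lit 0) (Node.sp (nat_lit 326) (Node.lf (Leaf.pt (nat_lit 12) (nat_lit 326) [nat_lit 40,nat_lit 524])) (Node.st (nat_lit 0) (nat_lit 326) (nat_lit 0) (Node.sp (nat_lit 460) (Node.lf (Leaf.pt (nat_lit 12) (nat_lit 460) [nat_lit 40,nat_lit 522])) (Node.st (nat_lit 0) (nat_lit 460) (nat_lit 0) (Node.sp (nat_lit 584) (Node.lf (Leaf.pt (nat_lit 23) (nat_lit 584) [nat_lit 40,nat_lit 24,nat_lit 462])) (Node.st (nat_lit 0) (nat_lit 584) (nat_lit 0) (Node.sp (nat_lit 704) (Node.lf (Leaf.pt (nat_lit 12) (nat_lit 704) [nat_lit 144,nat_lit 322])) (Node.st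 (nat_lit 0) (nat_lit 704) (nat_lit 0) (Node.sp (nat_lit 708) (Node.lf (Leaf.pt (nat_lit 12) (nat_lit 708) [nat_lit 144,nat_lit 320])) (Node.st (nat_lit 0) (nat_lit 708) (nat_lit 0) c190_0))))))))))))))))))))))))))))))))
theorem ok190 : nodeOK DB PT 190 t190 (nat_lit 0x3c000000003c00000000000000003c00003c003c3c000033330033000033000000000000000000000033000033000000000000000000000000f00000f00003f0f003f00c0cf000f0f000f00000f000030c000c000003000000f000f000000300000300030300f00000f0f0f0f0f0fcfc0303fc03fc03) (nat_lit 0x1111000000000000000000000000000000000000111100000000000000000000000000000000000000000000000000000000000000000000111100000000000000000000111100000000000011110000111100000000000000000000110011001100110000000000110011000000000000000000110011000000000000000000000000000000000000000000000000000000000000000000000000000000000000000000110011000000000000000000110011000000000000000000000000000000000000000000000000000000000000000000000000000000000000000000000000111100000000000000000000111100000000000000000022111100001111000000000022111100000000220000002200111100000000000011110000111100000000000011110000000000000000000011110000000000000000002200002200000000000000220000000000000000000000002200000000000000000000000011110000000000001111000000000000000000000000003300000000000000000000003300000000000000330000003300000000111100000000000000000000111100001111000011110000111100001111000011112200111122000000003300000033111122000000005511112200000000ff)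 c190 = true := by
  decide +kernel
noncomputable def t191 : ℕ := nat_lit 0x3e003e003c803c803e203e203cb03cb03ce03ce03e703e703cd03cd03e503e503ce03ce03e603e603cd03cd03e403e403e103e103c803c803e303e303cb03cb03ce03ce03e703e703cd03cd03e503e503e003e003c803c803e203e203cb03cb03e103e103c803c803e303e303cb03cb03ce03ce03e603e603cd03cd03e403e402070207022e022e02040204022c022c0228022802000200022a022a020302030228022802010201022a022a0202020202060206022e022e02050205022c022c0228022802000200022a022a0203020302070207022e022e02040204022c022c02060206022e022e02050205022c022c0228022802010201022a022a0202020203fe03fe03d603d603fd03fd03d403d403d103d103f803f803d303d303fb03fb03d003d003f803f803d203d203fb03fb03fe03fe03d703d703fd03fd03d503d503d003d003f903f903d203d203fa03fa03ff03ff03d703d703fc03fc03d503d503ff03ff03d603d603fc03fc03d403d403d103d103f903f903d303d303fa03fa0218021802310231021a021a0232023202360236021e021e02350235021c021c02370237021e021e02340234021c021c0218021802300230021a021a0233023302370237021f02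1f02340234021d021d0219021902300230021b021b023302330219021902310231021b021b0232023202360236021f021f02350235021d021d02370237021f021f02340234021d021d0219021902300230021b021b023302330219021902310231021b021b0232023202360236021f021f02350235021d021d0218021802310231021a021a0232023202360236021e021e02350235021c021c02370237021e021e02340234021c021c0218021802300230021a021a0233023303d103d103f803f803d303d303fb03fb03fe03fe03d603d603fd03fd03d403d403fe03fe03d703d703fd03fd03d503d503d003d003f803f803d203d203fb03fb03ff03ff03d703d703fc03fc03d503d503d003d003f903f903d203d203fa03fa03d103d103f903f903d303d303fa03fa03ff03ff03d603d603fc03fc03d403d40228022802000200022a022a0203020302070207022e022e02040204022c022c02060206022e022e02050205022c022c0228022802010201022a022a0202020202070207022e022e02040204022c022c0228022802000200022a022a020302030228022802010201022a022a0202020202060206022e022e02050205022c022c03cf03cf03e603e603cc03cc03e403e403e103e103c903c903e303e303ca03ca03e003e003c903c903e203e203ca03ca03cf03c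f03e703e703cc03cc03e503e503e103e103c903c903e303e303ca03ca03cf03cf03e603e603cc03cc03e403e403cf03cf03e703e703cc03cc03e503e503e003e003c903c903e203e203ca03ca02030203022a022a0201020102290229022d022d02050205022e022e02070207022d022d02040204022e022e0206020602020202022a022a0200020002290229022d022d02050205022e022e0207020702030203022a022a020102010229022902020202022a022a0200020002290229022d022d02040204022e022e0206020603ce03ce03e703e703cd03cd03e503e503e003e003c803c803e203e203cb03cb03e103e103c803c803e303e303cb03cb03ce03ce03e603e603cd03cd03e403e403e003e003c803c803e203e203cb03cb03ce03ce03e703e703cd03cd03e503e503ce03ce03e603e603cd03cd03e403e403e103e103c803c803e303e303cb03cb021d021d02340234021e021e0236023602320232021a021a023002300219021902330233021a021a0231023102190219021d021d02350235021e021e0237023702330233021b021b0231023102180218021c021c02350235021f021f02370237021c021c02340234021f021f0236023602320232021b021b023002300218021803d103d103f803f803d303d303fb03fb03fe03fe03d603d603fd03fd03d403d4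03fe03fe03d703d703fd03fd03d503d503d003d003f803f803d203d203fb03fb03ff03ff03d703d703fc03fc03d503d503d003d003f903f903d203d203fa03fa03d103d103f903f903d303d303fa03fa03ff03ff03d603d603fc03fc03d403d403d703d703ff03ff03d403d403fd03fd03f903f903d003d003fb03fb03d303d303f903f903d103d103fb03fb03d203d203d603d603ff03ff03d503d503fd03fd03f803f803d103d103fa03fa03d203d203d603d603fe03fe03d503d503fc03fc03d703d703fe03fe03d403d403fc03fc03f803f803d003d003fa03fa03d303d3021a021a02320232021802180231023102340234021d021d02370237021f021f02350235021d021d02360236021f021f021a021a02330233021802180230023002350235021c021c02360236021e021e021b021b023302330219021902300230021b021b02320232021902190231023102340234021c021c02370237021e021e03c803c803e003e003ca03ca03e303e303e703e703ce03ce03e403e403cc03cc03e603e603ce03ce03e503e503cc03cc03c803c803e103e103ca03ca03e203e203e703e703ce03ce03e403e403cc03cc03c803c803e003e003ca03ca03e303e303c803c803e103e103ca03ca03e203e203e603e603ce03ce03e503e503cc03cc02040204022c022c020702070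22e022e022b022b020202020229022902010201022b022b02030203022902290200020002050205022c022c02060206022e022e022b022b02020202022902290201020102040204022c022c02070207022e022e02050205022c022c02060206022e022e022b022b0203020302290229020002000100010001000100012a012a012b012b011b011b011a011a0130013001300130011a011a011b011b01300130013001300100010001000100012b012b012a012a011b011b011a011a01300130013001300101010101010101012b012b012a012a0101010101010101012a012a012b012b011a011a011b011b0130013001300130012a012a012b012b01000100010001000130013001300130011b011b011a011a0130013001300130011a011a011b011b012b012b012a012a01000100010001000130013001300130011b011b011a011a012b012b012a012a0101010101010101012a012a012b012b01010101010101010130013001300130011a011a011b011b011b011b011a011a01300130013001300101010101010101012b012b012a012a0101010101010101012a012a012b012b011a011a011b011b01300130013001300100010001000100012a012a012b012b011b011b011a011a0130013001300130011a011a011b011b0130013001300130010001000100010001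2b012b012a012a0130013001300130011b011b011a011a012b012b012a012a0101010101010101012a012a012b012b01010101010101010130013001300130011a011a011b011b012a012a012b012b01000100010001000130013001300130011b011b011a011a0130013001300130011a011a011b011b012b012b012a012a01000100010001000100010001000100012a012a012b012b011b011b011a011a0130013001300130011a011a011b011b01300130013001300100010001000100012b012b012a012a011b011b011a011a01300130013001300101010101010101012b012b012a012a0101010101010101012a012a012b012b011a011a011b011b0130013001300130012a012a012b012b01000100010001000130013001300130011b011b011a011a0130013001300130011a011a011b011b012b012b012a012a01000100010001000130013001300130011b011b011a011a012b012b012a012a0101010101010101012a012a012b012b01010101010101010130013001300130011a011a011b011b011b011b011a011a01300130013001300101010101010101012b012b012a012a0101010101010101012a012a012b012b011a011a011b011b01300130013001300100010001000100012a012a012b012b011b011b011a011a0130013001300130011a011a011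b011b01300130013001300100010001000100012b012b012a012a0130013001300130011b011b011a011a012b012b012a012a0101010101010101012a012a012b012b01010101010101010130013001300130011a011a011b011b012a012a012b012b01000100010001000130013001300130011b011b011a011a0130013001300130011a011a011b011b012b012b012a012a01000100010001000081008100810081008100810081008100b100b100b100b100b100b100b100b100b000b000b000b000b000b000b000b00080008000800080008000800080008000b100b100b100b100b100b100b100b1008000800080008000800080008000800081008100810081008100810081008100b000b000b000b000b000b000b000b00081008100810081008100810081008100b100b100b100b100b100b100b100b100b000b000b000b000b000b000b000b00080008000800080008000800080008000b100b100b100b100b100b100b100b1008000800080008000800080008000800081008100810081008100810081008100b000b000b000b000b000b000b000b000b100b100b100b100b100b100b100b1008000800080008000800080008000800081008100810081008100810081008100b000b000b000b000b000b000b000b00081008100810081008100810081008100b1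00b100b100b100b100b100b100b100b000b000b000b000b000b000b000b00080008000800080008000800080008000b100b100b100b100b100b100b100b1008000800080008000800080008000800081008100810081008100810081008100b000b000b000b000b000b000b000b00081008100810081008100810081008100b100b100b100b100b100b100b100b100b000b000b000b000b000b000b000b0008000800080008000800080008000800040004000400040004200420043004300410041004100410043004300420042004000400040004000420042004300430041004100410041004300430042004200400040004000400042004200430043004100410041004100430043004200420040004000400040004200420043004300410041004100410043004300420042004300430042004200410041004100410042004200430043004000400040004000430043004200420041004100410041004200420043004300400040004000400043004300420042004100410041004100420042004300430040004000400040004300430042004200410041004100410042004200430043004000400040004000200020002000200020002000200020002100210021002100210021002100210021002100210021002100210021002100200020002000200020002000200020002000200020002000200020002000200021002100210021002100210021002100210021002100210021002100210021002000200020002000200020002000200010001000100010001000100010001000100010001000100010001000100010001000100010001000100010001000100010001000100010001000100010001000090009000900090009000900090009000800080008000800080008000800080004000400050005000500050004000400030003000200020001000100000000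
noncomputable def c191 : Node :=
  (Node.st (nat_lit 0) (nat_lit 10) (nat_lit 0) (Node.st (nat_lit 2) (nat_lit 2) (nat_lit 5) (Node.st (nat_lit 0) (nat_lit 78) (nat_lit 0) (Node.sp (nat_lit 1) (Node.lf (Leaf.pt (nat_lit 9) (nat_lit 1) [nat_lit 10])) (Node.sp (nat_lit 26) (Node.lf (Leaf.pt (nat_lit 9) (nat_lit 26) [nat_lit 10])) (Node.st (nat_lit 0) (nat_lit 26) (nat_lit 0) (Node.sp (nat_lit 28) (Node.lf (Leaf.pt (nat_lit 9) (nat_lit 28) [nat_lit 12])) (Node.st (nat_lit 0) (nat_lit 28) (nat_lit 0) (Node.sp (nat_lit 40) (Node.lf (Leaf.pt (nat_lit 9) (nat_lit 40) [nat_lit 76])) (Node.st (nat_lit 0) (nat_lit 40) (nat_lit 0) (Node.sp (nat_lit 68) (Node.lf (Leaf.pt (nat_lit 9) (nat_lit 68) [nat_lit 10])) (Node.st (nat_lit 0) (nat_lit 68) (nat_lit 0) (Node.sp (nat_lit 92) (Node.lf (Leaf.pt (nat_lit 9) (nat_lit 92) [nat_lit 10])) (Node.st (nat_lit 0) (nat_lit 92) (nat_lit 0) (Node.sp (nat_lit 136) (Node.lf (Leaf.pt (nat_lit 12) (nat_lit 136) [nat_lit 92,nat_lit 320])) (Node.st (nat_lit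 0) (nat_lit 136) (nat_lit 0) (Node.sp (nat_lit 144) (Node.lf (Leaf.pt (nat_lit 12) (nat_lit 144) [nat_lit 68,nat_lit 344])) (Node.st (nat_lit 0) (nat_lit 144) (nat_lit 0) (Node.sp (nat_lit 212) (Node.lf (Leaf.pt (nat_lit 13) (nat_lit 212) [nat_lit 68])) (Node.st (nat_lit 0) (nat_lit 212) (nat_lit 0) (Node.sp (nat_lit 324) (Node.lf (Leaf.pt (nat_lit 12) (nat_lit 324) [nat_lit 26,nat_lit 588])) (Node.st (nat_lit 0) (nat_lit 324) (nat_lit 0) (Node.sp (nat_lit 326) (Node.lf (Leaf.pt (nat_lit 12) (nat_lit 326) [nat_lit 26,nat_lit 584])) (Node.st (nat_lit 0) (nat_lit 326) (nat_lit 0) (Node.sp (nat_lit 460) (Node.lf (Leaf.pt (nat_lit 12) (nat_lit 460) [nat_lit 40,nat_lit 522])) (Node.st (nat_lit 0) (nat_lit 460) (nat_lit 0) (Node.sp (nat_lit 592) (Node.lf (Leaf.pt (nat_lit 12) (nat_lit 592) [nat_lit 462,nat_lit 140])) (Node.st (nat_lit 0) (nat_lit 592) (nat_lit 0) (Node.ext [[nat_lit 32,nat_lit 16,nat_lit 8,nat_lit 4,nat_lit 2,nat_lit 1]] (nat_lit 10) [Ins.ts (nat_lit 4) [nat_lit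 0] [nat_lit 10,nat_lit 0,nat_lit 0],Ins.fr [nat_lit 0],Ins.fr [nat_lit 1],Ins.fr [nat_lit 2],Ins.fr [nat_lit 0,nat_lit 0,nat_lit 3],Ins.fr [nat_lit 1,nat_lit 2,nat_lit 0,nat_lit 3,nat_lit 4],Ins.fr [nat_lit 0,nat_lit 0,nat_lit 1,nat_lit 2],Ins.fr [nat_lit 6,nat_lit 2],Ins.df [nat_lit 3,nat_lit 3],Ins.df [nat_lit 7,nat_lit 7],Ins.df [nat_lit 0,nat_lit 1,nat_lit 9],Ins.df [nat_lit 1,nat_lit 8,nat_lit 9],Ins.df [nat_lit 3,nat_lit 7,nat_lit 8],Ins.df [nat_lit 0,nat_lit 11]] [nat_lit 96,nat_lit 112,nat_lit 36,nat_lit 4,nat_lit 128,nat_lit 256,nat_lit 512] [nat_lit 5,nat_lit 4,nat_lit 9,nat_lit 3,nat_lit 2,nat_lit 1,nat_lit 0,nat_lit 8,nat_lit 7,nat_lit 6] (Srch.ex0 [nat_lit 68,nat_lit 36,nat_lit 16,nat_lit 8,nat_lit 2,nat_lit 1] Srch.nil) (Node.frat (nat_lit 1) (nat_lit 0) (nat_lit 0) [[],[nat_lit 1],[nat_lit 24,nat_lit 1],[nat_lit 40,nat_lit 24,nat_lit 1],[nat_lit 4,nat_lit 2,nat_lit 40,nat_lit 24,nat_lit 1]] [] [((nat_lit 1),(nat_lit 0)),((nat_lit 2),(nat_lit 1)),((nat_lit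 3),(nat_lit 2)),((nat_lit 4),(nat_lit 3)),((nat_lit 5),(nat_lit 4))] [nat_lit 1] [nat_lit 576,nat_lit 320,nat_lit 128,nat_lit 32,nat_lit 16,nat_lit 8,nat_lit 4,nat_lit 2,nat_lit 1] (nat_lit 64) (nat_lit 4) (nat_lit 10) [Ins.fr [nat_lit 0],Ins.ts (nat_lit 4) [nat_lit 0] [nat_lit 7,nat_lit 4,nat_lit 3],Ins.ts (nat_lit 1) [nat_lit 0,nat_lit 0] [],Ins.fr [nat_lit 1],Ins.ts (nat_lit 4) [nat_lit 0,nat_lit 2] [nat_lit 24,nat_lit 2,nat_lit 1],Ins.fr [nat_lit 2],Ins.ts (nat_lit 1) [nat_lit 0,nat_lit 0] [],Ins.ts (nat_lit 3) [nat_lit 0,nat_lit 1] [],Ins.ts (nat_lit 4) [nat_lit 0,nat_lit 3] [nat_lit 45,nat_lit 4,nat_lit 3],Ins.fr [nat_lit 0,nat_lit 0,nat_lit 3],Ins.ts (nat_lit 4) [nat_lit 0] [nat_lit 3,nat_lit 4,nat_lit 3],Ins.ts (nat_lit 1) [nat_lit 0,nat_lit 0] [],Ins.fr [nat_lit 0,nat_lit 2,nat_lit 3,nat_lit 1,nat_lit 4],Ins.ts (nat_lit 0) [nat_lit 0,nat_lit 3,nat_lit 0] [nat_lit 3],Ins.ts (nat_lit 0) [nat_lit 4,nat_lit 0] [nat_lit 0,nat_lit 4],Ins.fr [nat_lit 3,nat_lit 4],Ins.ts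 (nat_lit 4) [nat_lit 0,nat_lit 0] [nat_lit 40,nat_lit 3,nat_lit 2],Ins.ts (nat_lit 0) [nat_lit 0,nat_lit 2,nat_lit 0,nat_lit 2] [],Ins.fr [nat_lit 2,nat_lit 6],Ins.df [nat_lit 3,nat_lit 3],Ins.df [nat_lit 0,nat_lit 7,nat_lit 8],Ins.df [nat_lit 0,nat_lit 7,nat_lit 9],Ins.df [nat_lit 1,nat_lit 4,nat_lit 4]] [nat_lit 2,nat_lit 18,nat_lit 36,nat_lit 4,nat_lit 128,nat_lit 320,nat_lit 576] [nat_lit 3,nat_lit 10,nat_lit 7,nat_lit 2,nat_lit 1,nat_lit 0,nat_lit 6,nat_lit 5,nat_lit 4] [] (Srch.rep (nat_lit 10) [nat_lit 2] [nat_lit 36,nat_lit 16,nat_lit 8,nat_lit 2,nat_lit 1] [nat_lit 576,nat_lit 320,nat_lit 128,nat_lit 4] (Srch.rep (nat_lit 46) [] [] [] (Srch.rep (nat_lit 18) [nat_lit 36] [] [] (Srch.rep (nat_lit 38) [nat_lit 10] [] [] (Srch.rep (nat_lit 43) [nat_lit 24] [] [] (Srch.rep (nat_lit 172) [] [] [] Srch.nil (Srch.rep (nat_lit 180) [] [] [] Srch.nil Srch.nil)) Srch.nil) Srch.nil) (Srch.rep (nat_lit 19) [nat_lit 36] [] [] (Srch.rep (nat_lit 38) [nat_lit 10] [] [] (Srch.rep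 (nat_lit 43) [nat_lit 24] [] [] (Srch.rep (nat_lit 132) [] [] [] Srch.nil (Srch.rep (nat_lit 156) [] [] [] Srch.nil Srch.nil)) Srch.nil) Srch.nil) Srch.nil)) Srch.nil) Srch.nil)))))))))))))))))))))))))))))))
theorem ok191 : nodeOK DB PT 191 t191 (nat_lit 0x3c00003c000000000000000000000000000000000000000000000000000000000000000000000033000000003300000000000000000000000000f00000f00003f0f003f00c0cf000f0f000f00000f000030c000c000003000000f000f000000300000300030300f00000f0f0f0f0f0fcfc0303fc03fc03) (nat_lit 0x111100000000000000000000111100000000000000000000000000000000000000000000000000000000000000000000000000000000000000000000000000000000000000000000000000000000000000000000000000000000000000000000000000000000000000000000000000000000000000000000000000000000000000000000000000000000000000000000000000000000000000000000110011000000000000000000000000000000000011001100000000000000000000000000000000000000000000000000000000000000000000000000000000000000000000000000000000111100000000000000000000111100000000000000000022111100001111000000000022111100000000220000002200111100000000000011110000111100000000000011110000000000000000000011110000000000000000002200002200000000000000220000000000000000000000002200000000000000000000000011110000000000001111000000000000000000000000003300000000000000000000003300000000000000330000003300000000111100000000000000000000111100001111000011110000111100001111000011112200111122000000003300000033111122000000005511112200000000ff)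 c191 = true := by
  decide +kernel
noncomputable def t192 : ℕ := nat_lit 0x2300230021902190218021802310231021f021f0237023702370237021f021f021e021e0237023702370237021e021e02300230021802180219021902310231021e021e0236023602360236021e021e0231023102180218021902190230023002310231021902190218021802300230021f021f0236023602360236021f021f03e503e503cd03cd03cd03cd03e503e503ca03ca03e303e303e203e203cb03cb03cb03cb03e303e303e203e203ca03ca03e503e503cc03cc03cc03cc03e503e503ca03ca03e303e303e203e203cb03cb03e503e503cd03cd03cd03cd03e503e503e503e503cc03cc03cc03cc03e503e503cb03cb03e303e303e203e203ca03ca02070207022e022e022e022e02070207022802280200020002010201022902290229022902000200020102010228022802070207022f022f022f022f020702070228022802000200020102010229022902070207022e022e022e022e0207020702070207022f022f022f022f020702070229022902000200020102010228022803d203d203fa03fa03fb03fb03d303d303fd03fd03d403d403d403d403fd03fd03fc03fc03d403d403d403d403fc03fc03d203d203fb03fb03fa03fa03d303d303fc03fc03d503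d503d503d503fc03fc03d303d303fb03fb03fa03fa03d203d203d303d303fa03fa03fb03fb03d203d203fd03fd03d503d503d503d503fd03fd03d503d503fc03fc03fc03fc03d503d503fb03fb03d303d303d203d203fa03fa03fa03fa03d303d303d203d203fb03fb03d503d503fd03fd03fd03fd03d503d503fa03fa03d203d203d303d303fb03fb03d403d403fd03fd03fd03fd03d403d403d403d403fc03fc03fc03fc03d403d403fb03fb03d203d203d303d303fa03fa02010201022902290228022802000200022f022f0206020602060206022f022f022e022e0206020602060206022e022e02010201022802280229022902000200022f022f0206020602060206022f022f0201020102290229022802280200020002010201022802280229022902000200022e022e0206020602060206022e022e03e303e303ca03ca03cb03cb03e203e203cd03cd03e503e503e503e503cd03cd03cc03cc03e503e503e503e503cc03cc03e303e303cb03cb03ca03ca03e203e203cd03cd03e503e503e503e503cd03cd03e303e303ca03ca03cb03cb03e203e203e303e303cb03cb03ca03ca03e203e203cc03cc03e503e503e503e503cc03cc02370237021f021f021f021f0237023702190219023002300231023102180218021802180230023002310231021902190237023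7021e021e021e021e023702370218021802310231023002300219021902360236021e021e021e021e0236023602360236021f021f021f021f02360236021902190231023102300230021802180228022802000200020102010229022902070207022e022e022e022e0207020702070207022f022f022f022f020702070229022902000200020102010228022802070207022e022e022e022e02070207022802280200020002010201022902290229022902000200020102010228022802070207022f022f022f022f0207020703fc03fc03d503d503d503d503fc03fc03d303d303fb03fb03fa03fa03d203d203d303d303fa03fa03fb03fb03d203d203fd03fd03d503d503d503d503fd03fd03d203d203fa03fa03fb03fb03d303d303fd03fd03d403d403d403d403fd03fd03fc03fc03d403d403d403d403fc03fc03d203d203fb03fb03fa03fa03d303d3021e021e0236023602360236021e021e0231023102180218021902190230023002310231021902190218021802300230021f021f0236023602360236021f021f02300230021902190218021802310231021f021f0237023702370237021f021f021e021e0237023702370237021e021e0230023002180218021902190231023103ca03ca03e303e303e203e203cb03cb03e503e503cd03cd03cd03cd03e503e5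03e503e503cc03cc03cc03cc03e503e503cb03cb03e303e303e203e203ca03ca03e503e503cd03cd03cd03cd03e503e503ca03ca03e303e303e203e203cb03cb03cb03cb03e303e303e203e203ca03ca03e503e503cc03cc03cc03cc03e503e503cd03cd03e503e503e503e503cd03cd03e303e303ca03ca03cb03cb03e203e203e303e303cb03cb03ca03ca03e203e203cc03cc03e503e503e503e503cc03cc03e303e303ca03ca03cb03cb03e203e203cd03cd03e503e503e503e503cd03cd03cc03cc03e503e503e503e503cc03cc03e303e303cb03cb03ca03ca03e203e20218021802310231023002300219021902360236021e021e021e021e0236023602360236021f021f021f021f023602360219021902310231023002300218021802370237021f021f021f021f02370237021902190230023002310231021802180218021802300230023102310219021902370237021e021e021e021e0237023703fa03fa03d203d203d303d303fb03fb03d403d403fd03fd03fd03fd03d403d403d403d403fc03fc03fc03fc03d403d403fb03fb03d203d203d303d303fa03fa03d503d503fc03fc03fc03fc03d503d503fb03fb03d303d303d203d203fa03fa03fa03fa03d303d303d203d203fb03fb03d503d503fd03fd03fd03fd03d503d5022f022f02060206020602060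22f022f0201020102290229022802280200020002010201022802280229022902000200022e022e0206020602060206022e022e02010201022902290228022802000200022f022f0206020602060206022f022f022e022e0206020602060206022e022e020102010228022802290229020002000100010001000100012a012a012b012b011b011b011a011a0130013001300130011a011a011b011b01300130013001300100010001000100012b012b012a012a011b011b011a011a01300130013001300101010101010101012b012b012a012a0101010101010101012a012a012b012b011a011a011b011b0130013001300130012a012a012b012b01000100010001000130013001300130011b011b011a011a0130013001300130011a011a011b011b012b012b012a012a01000100010001000130013001300130011b011b011a011a012b012b012a012a0101010101010101012a012a012b012b01010101010101010130013001300130011a011a011b011b011b011b011a011a01300130013001300101010101010101012b012b012a012a0101010101010101012a012a012b012b011a011a011b011b01300130013001300100010001000100012a012a012b012b011b011b011a011a0130013001300130011a011a011b011b0130013001300130010001000100010001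2b012b012a012a0130013001300130011b011b011a011a012b012b012a012a0101010101010101012a012a012b012b01010101010101010130013001300130011a011a011b011b012a012a012b012b01000100010001000130013001300130011b011b011a011a0130013001300130011a011a011b011b012b012b012a012a01000100010001000100010001000100012a012a012b012b011b011b011a011a0130013001300130011a011a011b011b01300130013001300100010001000100012b012b012a012a011b011b011a011a01300130013001300101010101010101012b012b012a012a0101010101010101012a012a012b012b011a011a011b011b0130013001300130012a012a012b012b01000100010001000130013001300130011b011b011a011a0130013001300130011a011a011b011b012b012b012a012a01000100010001000130013001300130011b011b011a011a012b012b012a012a0101010101010101012a012a012b012b01010101010101010130013001300130011a011a011b011b011b011b011a011a01300130013001300101010101010101012b012b012a012a0101010101010101012a012a012b012b011a011a011b011b01300130013001300100010001000100012a012a012b012b011b011b011a011a0130013001300130011a011a011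b011b01300130013001300100010001000100012b012b012a012a0130013001300130011b011b011a011a012b012b012a012a0101010101010101012a012a012b012b01010101010101010130013001300130011a011a011b011b012a012a012b012b01000100010001000130013001300130011b011b011a011a0130013001300130011a011a011b011b012b012b012a012a01000100010001000081008100810081008100810081008100b100b100b100b100b100b100b100b100b000b000b000b000b000b000b000b00080008000800080008000800080008000b100b100b100b100b100b100b100b1008000800080008000800080008000800081008100810081008100810081008100b000b000b000b000b000b000b000b00081008100810081008100810081008100b100b100b100b100b100b100b100b100b000b000b000b000b000b000b000b00080008000800080008000800080008000b100b100b100b100b100b100b100b1008000800080008000800080008000800081008100810081008100810081008100b000b000b000b000b000b000b000b000b100b100b100b100b100b100b100b1008000800080008000800080008000800081008100810081008100810081008100b000b000b000b000b000b000b000b00081008100810081008100810081008100b1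00b100b100b100b100b100b100b100b000b000b000b000b000b000b000b00080008000800080008000800080008000b100b100b100b100b100b100b100b1008000800080008000800080008000800081008100810081008100810081008100b000b000b000b000b000b000b000b00081008100810081008100810081008100b100b100b100b100b100b100b100b100b000b000b000b000b000b000b000b0008000800080008000800080008000800040004000400040004200420043004300410041004100410043004300420042004000400040004000420042004300430041004100410041004300430042004200400040004000400042004200430043004100410041004100430043004200420040004000400040004200420043004300410041004100410043004300420042004300430042004200410041004100410042004200430043004000400040004000430043004200420041004100410041004200420043004300400040004000400043004300420042004100410041004100420042004300430040004000400040004300430042004200410041004100410042004200430043004000400040004000200020002000200020002000200020002100210021002100210021002100210021002100210021002100210021002100200020002000200020002000200020002000200020002000200020002000200021002100210021002100210021002100210021002100210021002100210021002000200020002000200020002000200010001000100010001000100010001000100010001000100010001000100010001000100010001000100010001000100010001000100010001000100010001000090009000900090009000900090009000800080008000800080008000800080004000400050005000500050004000400030003000200020001000100000000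
noncomputable def c192 : Node :=
  (Node.st (nat_lit 0) (nat_lit 10) (nat_lit 0) (Node.st (nat_lit 2) (nat_lit 2) (nat_lit 5) (Node.st (nat_lit 0) (nat_lit 78) (nat_lit 0) (Node.sp (nat_lit 1) (Node.lf (Leaf.pt (nat_lit 9) (nat_lit 1) [nat_lit 10])) (Node.sp (nat_lit 26) (Node.lf (Leaf.pt (nat_lit 9) (nat_lit 26) [nat_lit 10])) (Node.st (nat_lit 0) (nat_lit 26) (nat_lit 0) (Node.sp (nat_lit 28) (Node.lf (Leaf.pt (nat_lit 9) (nat_lit 28) [nat_lit 12])) (Node.st (nat_lit 0) (nat_lit 28) (nat_lit 0) (Node.sp (nat_lit 40) (Node.lf (Leaf.pt (nat_lit 9) (nat_lit 40) [nat_lit 76])) (Node.st (nat_lit 0) (nat_lit 40) (nat_lit 0) (Node.sp (nat_lit 68) (Node.lf (Leaf.pt (nat_lit 9) (nat_lit 68) [nat_lit 10])) (Node.st (nat_lit 0) (nat_lit 68) (nat_lit 0) (Node.sp (nat_lit 92) (Node.lf (Leaf.pt (nat_lit 9) (nat_lit 92) [nat_lit 10])) (Node.st (nat_lit 0) (nat_lit 92) (nat_lit 0) (Node.sp (nat_lit 136) (Node.lf (Leaf.pt (nat_lit 12) (nat_lit 136) [nat_lit 92,nat_lit 320])) (Node.st (nat_lit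 0) (nat_lit 136) (nat_lit 0) (Node.sp (nat_lit 212) (Node.lf (Leaf.pt (nat_lit 13) (nat_lit 212) [nat_lit 68])) (Node.st (nat_lit 0) (nat_lit 212) (nat_lit 0) (Node.sp (nat_lit 324) (Node.lf (Leaf.pt (nat_lit 13) (nat_lit 324) [nat_lit 68])) (Node.st (nat_lit 0) (nat_lit 324) (nat_lit 0) (Node.sp (nat_lit 460) (Node.lf (Leaf.pt (nat_lit 12) (nat_lit 460) [nat_lit 40,nat_lit 582])) (Node.st (nat_lit 0) (nat_lit 460) (nat_lit 0) (Node.ext [[nat_lit 32,nat_lit 16,nat_lit 8,nat_lit 4,nat_lit 2,nat_lit 1]] (nat_lit 10) [Ins.ts (nat_lit 4) [nat_lit 0] [nat_lit 10,nat_lit 0,nat_lit 0],Ins.fr [nat_lit 0],Ins.fr [nat_lit 1],Ins.fr [nat_lit 2],Ins.fr [nat_lit 0,nat_lit 0,nat_lit 3],Ins.fr [nat_lit 1,nat_lit 2,nat_lit 0,nat_lit 3,nat_lit 4],Ins.fr [nat_lit 0,nat_lit 0,nat_lit 1,nat_lit 2],Ins.fr [nat_lit 2,nat_lit 4,nat_lit 4,nat_lit 6],Ins.df [nat_lit 3,nat_lit 3],Ins.df [nat_lit 7,nat_lit 7],Ins.df [nat_lit 0,nat_lit 1,nat_lit 9],Ins.df [nat_lit 1,nat_lit 8,nat_lit 9],Ins.df [nat_lit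 3,nat_lit 7,nat_lit 8],Ins.df [nat_lit 0,nat_lit 11]] [nat_lit 96,nat_lit 112,nat_lit 36,nat_lit 4,nat_lit 128,nat_lit 256,nat_lit 512] [nat_lit 5,nat_lit 4,nat_lit 9,nat_lit 3,nat_lit 2,nat_lit 1,nat_lit 0,nat_lit 8,nat_lit 7,nat_lit 6] (Srch.ex0 [nat_lit 68,nat_lit 36,nat_lit 16,nat_lit 8,nat_lit 2,nat_lit 1] Srch.nil) (Node.frat (nat_lit 1) (nat_lit 0) (nat_lit 0) [[],[nat_lit 1],[nat_lit 24,nat_lit 1],[nat_lit 40,nat_lit 24,nat_lit 1],[nat_lit 4,nat_lit 2,nat_lit 40,nat_lit 24,nat_lit 1]] [] [((nat_lit 1),(nat_lit 0)),((nat_lit 2),(nat_lit 1)),((nat_lit 3),(nat_lit 2)),((nat_lit 4),(nat_lit 3)),((nat_lit 5),(nat_lit 4))] [nat_lit 1] [nat_lit 512,nat_lit 320,nat_lit 128,nat_lit 32,nat_lit 16,nat_lit 8,nat_lit 4,nat_lit 2,nat_lit 1] (nat_lit 64) (nat_lit 4) (nat_lit 10) [Ins.ts (nat_lit 4) [nat_lit 0] [nat_lit 14,nat_lit 5,nat_lit 4],Ins.fr [nat_lit 0],Ins.ts (nat_lit 4) [nat_lit 0] [nat_lit 7,nat_lit 4,nat_lit 3],Ins.ts (nat_lit 1) [nat_lit 0,nat_lit 0] [],Ins.fr [nat_lit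 1],Ins.ts (nat_lit 4) [nat_lit 0,nat_lit 2] [nat_lit 24,nat_lit 2,nat_lit 1],Ins.fr [nat_lit 2],Ins.ts (nat_lit 1) [nat_lit 0,nat_lit 0] [],Ins.ts (nat_lit 3) [nat_lit 0,nat_lit 1] [],Ins.ts (nat_lit 4) [nat_lit 0,nat_lit 3] [nat_lit 45,nat_lit 4,nat_lit 3],Ins.fr [nat_lit 0,nat_lit 0,nat_lit 3],Ins.ts (nat_lit 4) [nat_lit 0] [nat_lit 3,nat_lit 4,nat_lit 3],Ins.ts (nat_lit 1) [nat_lit 0,nat_lit 0] [],Ins.fr [nat_lit 0,nat_lit 2,nat_lit 3,nat_lit 1,nat_lit 4],Ins.ts (nat_lit 0) [nat_lit 0,nat_lit 3,nat_lit 0] [nat_lit 3],Ins.ts (nat_lit 0) [nat_lit 4,nat_lit 0] [nat_lit 0,nat_lit 4],Ins.fr [nat_lit 3,nat_lit 4],Ins.ts (nat_lit 4) [nat_lit 0,nat_lit 0] [nat_lit 40,nat_lit 3,nat_lit 2],Ins.ts (nat_lit 0) [nat_lit 4,nat_lit 1,nat_lit 0] [nat_lit 0,nat_lit 4,nat_lit 1],Ins.fr [nat_lit 3,nat_lit 0,nat_lit 0],Ins.df [nat_lit 3,nat_lit 3],Ins.df [nat_lit 0,nat_lit 7,nat_lit 8],Ins.df [nat_lit 0,nat_lit 7,nat_lit 9],Ins.df [nat_lit 1,nat_lit 4,nat_lit 4]] [nat_lit 2,nat_lit 18,nat_lit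 36,nat_lit 4,nat_lit 128,nat_lit 320,nat_lit 512] [nat_lit 3,nat_lit 10,nat_lit 7,nat_lit 2,nat_lit 1,nat_lit 0,nat_lit 6,nat_lit 5,nat_lit 4] [] (Srch.rep (nat_lit 10) [nat_lit 2] [nat_lit 36,nat_lit 16,nat_lit 8,nat_lit 2,nat_lit 1] [nat_lit 512,nat_lit 320,nat_lit 128,nat_lit 4] (Srch.rep (nat_lit 46) [] [] [] (Srch.rep (nat_lit 18) [nat_lit 36] [] [] (Srch.rep (nat_lit 38) [nat_lit 10] [] [] (Srch.rep (nat_lit 43) [nat_lit 24] [] [] (Srch.rep (nat_lit 172) [] [] [] Srch.nil (Srch.rep (nat_lit 180) [] [] [] Srch.nil Srch.nil)) Srch.nil) Srch.nil) (Srch.rep (nat_lit 19) [nat_lit 36] [] [] (Srch.rep (nat_lit 38) [nat_lit 10] [] [] (Srch.rep (nat_lit 43) [nat_lit 24] [] [] (Srch.rep (nat_lit 132) [] [] [] Srch.nil (Srch.rep (nat_lit 156) [] [] [] Srch.nil Srch.nil)) Srch.nil) Srch.nil) Srch.nil)) Srch.nil) Srch.nil)))))))))))))))))))))))))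
theorem ok192 : nodeOK DB PT 192 t192 (nat_lit 0x3333003300003300000000000000000000000000000000c30000c300c3c30000000000000000000000000000000000000000f00000f00003f0f003f00c0cf000f0f000f00000f000030c000c000003000000f000f000000300000300030300f00000f0f0f0f0f0fcfc0303fc03fc03) (nat_lit 0x11001100110011000000000011001100000000000000000011001100000000000000000000000000000000000000000000000000000000000000000000000000000000000000000000000000000000000000000000000000000000110000110000000000000000110000110000000011000011110000110000000000000000000000000000000000000000000000000000000000000000000000000000000000000000000000000000000000000000000000000000000000000000000000000000000000000000111100000000000000000000111100000000000000000022111100001111000000000022111100000000220000002200111100000000000011110000111100000000000011110000000000000000000011110000000000000000002200002200000000000000220000000000000000000000002200000000000000000000000011110000000000001111000000000000000000000000003300000000000000000000003300000000000000330000003300000000111100000000000000000000111100001111000011110000111100001111000011112200111122000000003300000033111122000000005511112200000000ff)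 c192 = true := by
  decide +kernel
noncomputable def t193 : ℕ := nat_lit 0x2310231021802180219021902300230021e021e0236023602360236021e021e021f021f0236023602360236021f021f02310231021902190218021802300230021f021f0237023702370237021f021f0230023002190219021802180231023102300230021802180219021902310231021e021e0237023702370237021e021e03e403e403cc03cc03cc03cc03e403e403cb03cb03e203e203e303e303ca03ca03ca03ca03e203e203e303e303cb03cb03e403e403cd03cd03cd03cd03e403e403cb03cb03e203e203e303e303ca03ca03e403e403cc03cc03cc03cc03e403e403e403e403cd03cd03cd03cd03e403e403ca03ca03e203e203e303e303cb03cb02060206022f022f022f022f02060206022902290201020102000200022802280228022802010201020002000229022902060206022e022e022e022e020602060229022902010201020002000228022802060206022f022f022f022f0206020602060206022e022e022e022e020602060228022802010201020002000229022903d303d303fb03fb03fa03fa03d203d203fc03fc03d503d503d503d503fc03fc03fd03fd03d503d503d503d503fd03fd03d303d303fa03fa03fb03fb03d203d203fd03fd03d403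d403d403d403fd03fd03d203d203fa03fa03fb03fb03d303d303d203d203fb03fb03fa03fa03d303d303fc03fc03d403d403d403d403fc03fc03d403d403fd03fd03fd03fd03d403d403fa03fa03d203d203d303d303fb03fb03fb03fb03d203d203d303d303fa03fa03d403d403fc03fc03fc03fc03d403d403fb03fb03d303d303d203d203fa03fa03d503d503fc03fc03fc03fc03d503d503d503d503fd03fd03fd03fd03d503d503fa03fa03d303d303d203d203fb03fb02000200022802280229022902010201022e022e0207020702070207022e022e022f022f0207020702070207022f022f02000200022902290228022802010201022e022e0207020702070207022e022e0200020002280228022902290201020102000200022902290228022802010201022f022f0207020702070207022f022f03e203e203cb03cb03ca03ca03e303e303cc03cc03e403e403e403e403cc03cc03cd03cd03e403e403e403e403cd03cd03e203e203ca03ca03cb03cb03e303e303cc03cc03e403e403e403e403cc03cc03e203e203cb03cb03ca03ca03e303e303e203e203ca03ca03cb03cb03e303e303cd03cd03e403e403e403e403cd03cd02360236021e021e021e021e0236023602180218023102310230023002190219021902190231023102300230021802180236023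6021f021f021f021f023602360219021902300230023102310218021802370237021f021f021f021f0237023702370237021e021e021e021e02370237021802180230023002310231021902190228022802000200020102010229022902070207022e022e022e022e0207020702070207022f022f022f022f020702070229022902000200020102010228022802070207022e022e022e022e02070207022802280200020002010201022902290229022902000200020102010228022802070207022f022f022f022f0207020703fc03fc03d503d503d503d503fc03fc03d303d303fb03fb03fa03fa03d203d203d303d303fa03fa03fb03fb03d203d203fd03fd03d503d503d503d503fd03fd03d203d203fa03fa03fb03fb03d303d303fd03fd03d403d403d403d403fd03fd03fc03fc03d403d403d403d403fc03fc03d203d203fb03fb03fa03fa03d303d3021e021e0236023602360236021e021e0231023102180218021902190230023002310231021902190218021802300230021f021f0236023602360236021f021f02300230021902190218021802310231021f021f0237023702370237021f021f021e021e0237023702370237021e021e0230023002180218021902190231023103ca03ca03e303e303e203e203cb03cb03e503e503cd03cd03cd03cd03e503e5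03e503e503cc03cc03cc03cc03e503e503cb03cb03e303e303e203e203ca03ca03e503e503cd03cd03cd03cd03e503e503ca03ca03e303e303e203e203cb03cb03cb03cb03e303e303e203e203ca03ca03e503e503cc03cc03cc03cc03e503e503cd03cd03e503e503e503e503cd03cd03e303e303ca03ca03cb03cb03e203e203e303e303cb03cb03ca03ca03e203e203cc03cc03e503e503e503e503cc03cc03e303e303ca03ca03cb03cb03e203e203cd03cd03e503e503e503e503cd03cd03cc03cc03e503e503e503e503cc03cc03e303e303cb03cb03ca03ca03e203e20218021802310231023002300219021902360236021e021e021e021e0236023602360236021f021f021f021f023602360219021902310231023002300218021802370237021f021f021f021f02370237021902190230023002310231021802180218021802300230023102310219021902370237021e021e021e021e0237023703fa03fa03d203d203d303d303fb03fb03d403d403fd03fd03fd03fd03d403d403d403d403fc03fc03fc03fc03d403d403fb03fb03d203d203d303d303fa03fa03d503d503fc03fc03fc03fc03d503d503fb03fb03d303d303d203d203fa03fa03fa03fa03d303d303d203d203fb03fb03d503d503fd03fd03fd03fd03d503d5022f022f02060206020602060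22f022f0201020102290229022802280200020002010201022802280229022902000200022e022e0206020602060206022e022e02010201022902290228022802000200022f022f0206020602060206022f022f022e022e0206020602060206022e022e020102010228022802290229020002000100010001000100012a012a012b012b011b011b011a011a0130013001300130011a011a011b011b01300130013001300100010001000100012b012b012a012a011b011b011a011a01300130013001300101010101010101012b012b012a012a0101010101010101012a012a012b012b011a011a011b011b0130013001300130012a012a012b012b01000100010001000130013001300130011b011b011a011a0130013001300130011a011a011b011b012b012b012a012a01000100010001000130013001300130011b011b011a011a012b012b012a012a0101010101010101012a012a012b012b01010101010101010130013001300130011a011a011b011b011b011b011a011a01300130013001300101010101010101012b012b012a012a0101010101010101012a012a012b012b011a011a011b011b01300130013001300100010001000100012a012a012b012b011b011b011a011a0130013001300130011a011a011b011b0130013001300130010001000100010001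2b012b012a012a0130013001300130011b011b011a011a012b012b012a012a0101010101010101012a012a012b012b01010101010101010130013001300130011a011a011b011b012a012a012b012b01000100010001000130013001300130011b011b011a011a0130013001300130011a011a011b011b012b012b012a012a01000100010001000100010001000100012a012a012b012b011b011b011a011a0130013001300130011a011a011b011b01300130013001300100010001000100012b012b012a012a011b011b011a011a01300130013001300101010101010101012b012b012a012a0101010101010101012a012a012b012b011a011a011b011b0130013001300130012a012a012b012b01000100010001000130013001300130011b011b011a011a0130013001300130011a011a011b011b012b012b012a012a01000100010001000130013001300130011b011b011a011a012b012b012a012a0101010101010101012a012a012b012b01010101010101010130013001300130011a011a011b011b011b011b011a011a01300130013001300101010101010101012b012b012a012a0101010101010101012a012a012b012b011a011a011b011b01300130013001300100010001000100012a012a012b012b011b011b011a011a0130013001300130011a011a011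b011b01300130013001300100010001000100012b012b012a012a0130013001300130011b011b011a011a012b012b012a012a0101010101010101012a012a012b012b01010101010101010130013001300130011a011a011b011b012a012a012b012b01000100010001000130013001300130011b011b011a011a0130013001300130011a011a011b011b012b012b012a012a01000100010001000081008100810081008100810081008100b100b100b100b100b100b100b100b100b000b000b000b000b000b000b000b00080008000800080008000800080008000b100b100b100b100b100b100b100b1008000800080008000800080008000800081008100810081008100810081008100b000b000b000b000b000b000b000b00081008100810081008100810081008100b100b100b100b100b100b100b100b100b000b000b000b000b000b000b000b00080008000800080008000800080008000b100b100b100b100b100b100b100b1008000800080008000800080008000800081008100810081008100810081008100b000b000b000b000b000b000b000b000b100b100b100b100b100b100b100b1008000800080008000800080008000800081008100810081008100810081008100b000b000b000b000b000b000b000b00081008100810081008100810081008100b1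00b100b100b100b100b100b100b100b000b000b000b000b000b000b000b00080008000800080008000800080008000b100b100b100b100b100b100b100b1008000800080008000800080008000800081008100810081008100810081008100b000b000b000b000b000b000b000b00081008100810081008100810081008100b100b100b100b100b100b100b100b100b000b000b000b000b000b000b000b0008000800080008000800080008000800040004000400040004200420043004300410041004100410043004300420042004000400040004000420042004300430041004100410041004300430042004200400040004000400042004200430043004100410041004100430043004200420040004000400040004200420043004300410041004100410043004300420042004300430042004200410041004100410042004200430043004000400040004000430043004200420041004100410041004200420043004300400040004000400043004300420042004100410041004100420042004300430040004000400040004300430042004200410041004100410042004200430043004000400040004000200020002000200020002000200020002100210021002100210021002100210021002100210021002100210021002100200020002000200020002000200020002000200020002000200020002000200021002100210021002100210021002100210021002100210021002100210021002000200020002000200020002000200010001000100010001000100010001000100010001000100010001000100010001000100010001000100010001000100010001000100010001000100010001000090009000900090009000900090009000800080008000800080008000800080004000400050005000500050004000400030003000200020001000100000000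
noncomputable def c193 : Node :=
  (Node.st (nat_lit 0) (nat_lit 10) (nat_lit 0) (Node.st (nat_lit 2) (nat_lit 2) (nat_lit 5) (Node.st (nat_lit 0) (nat_lit 78) (nat_lit 0) (Node.sp (nat_lit 1) (Node.lf (Leaf.pt (nat_lit 9) (nat_lit 1) [nat_lit 10])) (Node.sp (nat_lit 26) (Node.lf (Leaf.pt (nat_lit 9) (nat_lit 26) [nat_lit 10])) (Node.st (nat_lit 0) (nat_lit 26) (nat_lit 0) (Node.sp (nat_lit 28) (Node.lf (Leaf.pt (nat_lit 9) (nat_lit 28) [nat_lit 12])) (Node.st (nat_lit 0) (nat_lit 28) (nat_lit 0) (Node.sp (nat_lit 40) (Node.lf (Leaf.pt (nat_lit 9) (nat_lit 40) [nat_lit 76])) (Node.st (nat_lit 0) (nat_lit 40) (nat_lit 0) (Node.sp (nat_lit 68) (Node.lf (Leaf.pt (nat_lit 9) (nat_lit 68) [nat_lit 10])) (Node.st (nat_lit 0) (nat_lit 68) (nat_lit 0) (Node.sp (nat_lit 92) (Node.lf (Leaf.pt (nat_lit 9) (nat_lit 92) [nat_lit 10])) (Node.st (nat_lit 0) (nat_lit 92) (nat_lit 0) (Node.sp (nat_lit 136) (Node.lf (Leaf.pt (nat_lit 12) (nat_lit 136) [nat_lit 92,nat_lit 320])) (Node.st (nat_lit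 0) (nat_lit 136) (nat_lit 0) (Node.sp (nat_lit 212) (Node.lf (Leaf.pt (nat_lit 13) (nat_lit 212) [nat_lit 68])) (Node.st (nat_lit 0) (nat_lit 212) (nat_lit 0) (Node.sp (nat_lit 324) (Node.lf (Leaf.pt (nat_lit 13) (nat_lit 324) [nat_lit 68])) (Node.st (nat_lit 0) (nat_lit 324) (nat_lit 0) (Node.sp (nat_lit 460) (Node.lf (Leaf.pt (nat_lit 12) (nat_lit 460) [nat_lit 40,nat_lit 582])) (Node.st (nat_lit 0) (nat_lit 460) (nat_lit 0) (Node.ext [[nat_lit 32,nat_lit 16,nat_lit 8,nat_lit 4,nat_lit 2,nat_lit 1]] (nat_lit 10) [Ins.ts (nat_lit 4) [nat_lit 0] [nat_lit 10,nat_lit 0,nat_lit 0],Ins.fr [nat_lit 0],Ins.fr [nat_lit 1],Ins.fr [nat_lit 2],Ins.fr [nat_lit 0,nat_lit 0,nat_lit 3],Ins.fr [nat_lit 1,nat_lit 2,nat_lit 0,nat_lit 3,nat_lit 4],Ins.fr [nat_lit 0,nat_lit 0,nat_lit 1,nat_lit 2],Ins.fr [nat_lit 2,nat_lit 4,nat_lit 4,nat_lit 6],Ins.df [nat_lit 3,nat_lit 3],Ins.df [nat_lit 7,nat_lit 7],Ins.df [nat_lit 0,nat_lit 1,nat_lit 9],Ins.df [nat_lit 0,nat_lit 3,nat_lit 3],Ins.df [nat_lit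 3,nat_lit 7,nat_lit 8],Ins.df [nat_lit 0,nat_lit 11]] [nat_lit 96,nat_lit 112,nat_lit 36,nat_lit 4,nat_lit 128,nat_lit 256,nat_lit 512] [nat_lit 5,nat_lit 4,nat_lit 9,nat_lit 3,nat_lit 2,nat_lit 1,nat_lit 0,nat_lit 8,nat_lit 7,nat_lit 6] (Srch.ex0 [nat_lit 68,nat_lit 36,nat_lit 16,nat_lit 8,nat_lit 2,nat_lit 1] Srch.nil) (Node.frat (nat_lit 1) (nat_lit 0) (nat_lit 0) [[],[nat_lit 1],[nat_lit 24,nat_lit 1],[nat_lit 40,nat_lit 24,nat_lit 1],[nat_lit 4,nat_lit 2,nat_lit 40,nat_lit 24,nat_lit 1]] [] [((nat_lit 1),(nat_lit 0)),((nat_lit 2),(nat_lit 1)),((nat_lit 3),(nat_lit 2)),((nat_lit 4),(nat_lit 3)),((nat_lit 5),(nat_lit 4))] [nat_lit 1] [nat_lit 512,nat_lit 320,nat_lit 128,nat_lit 32,nat_lit 16,nat_lit 8,nat_lit 4,nat_lit 2,nat_lit 1] (nat_lit 64) (nat_lit 4) (nat_lit 10) [Ins.fr [nat_lit 0],Ins.ts (nat_lit 4) [nat_lit 0] [nat_lit 7,nat_lit 4,nat_lit 3],Ins.ts (nat_lit 1) [nat_lit 0,nat_lit 0] [],Ins.fr [nat_lit 1],Ins.ts (nat_lit 4) [nat_lit 0,nat_lit 2] [nat_lit 24,nat_lit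 2,nat_lit 1],Ins.fr [nat_lit 2],Ins.ts (nat_lit 1) [nat_lit 0,nat_lit 0] [],Ins.ts (nat_lit 3) [nat_lit 0,nat_lit 1] [],Ins.ts (nat_lit 4) [nat_lit 0,nat_lit 3] [nat_lit 45,nat_lit 4,nat_lit 3],Ins.fr [nat_lit 0,nat_lit 0,nat_lit 3],Ins.ts (nat_lit 4) [nat_lit 0] [nat_lit 3,nat_lit 4,nat_lit 3],Ins.ts (nat_lit 1) [nat_lit 0,nat_lit 0] [],Ins.fr [nat_lit 0,nat_lit 2,nat_lit 3,nat_lit 1,nat_lit 4],Ins.ts (nat_lit 0) [nat_lit 0,nat_lit 3,nat_lit 0] [nat_lit 3],Ins.ts (nat_lit 0) [nat_lit 4,nat_lit 0] [nat_lit 0,nat_lit 4],Ins.fr [nat_lit 3,nat_lit 4],Ins.ts (nat_lit 4) [nat_lit 0,nat_lit 0] [nat_lit 40,nat_lit 3,nat_lit 2],Ins.ts (nat_lit 0) [nat_lit 6,nat_lit 2,nat_lit 6] [nat_lit 0,nat_lit 2,nat_lit 0],Ins.fr [nat_lit 3,nat_lit 0,nat_lit 0],Ins.df [nat_lit 3,nat_lit 3],Ins.df [nat_lit 0,nat_lit 7,nat_lit 8],Ins.df [nat_lit 0,nat_lit 2,nat_lit 2],Ins.df [nat_lit 1,nat_lit 4,nat_lit 4]] [nat_lit 2,nat_lit 18,nat_lit 36,nat_lit 4,nat_lit 128,nat_lit 320,nat_lit 512] [nat_lit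 3,nat_lit 10,nat_lit 7,nat_lit 2,nat_lit 1,nat_lit 0,nat_lit 6,nat_lit 5,nat_lit 4] [] (Srch.rep (nat_lit 10) [nat_lit 2] [nat_lit 36,nat_lit 16,nat_lit 8,nat_lit 2,nat_lit 1] [nat_lit 512,nat_lit 320,nat_lit 128,nat_lit 4] (Srch.rep (nat_lit 46) [] [] [] (Srch.rep (nat_lit 18) [nat_lit 36] [] [] (Srch.rep (nat_lit 38) [nat_lit 10] [] [] (Srch.rep (nat_lit 43) [nat_lit 24] [] [] (Srch.rep (nat_lit 172) [] [] [] Srch.nil (Srch.rep (nat_lit 180) [] [] [] Srch.nil Srch.nil)) Srch.nil) Srch.nil) (Srch.rep (nat_lit 19) [nat_lit 36] [] [] (Srch.rep (nat_lit 38) [nat_lit 10] [] [] (Srch.rep (nat_lit 43) [nat_lit 24] [] [] (Srch.rep (nat_lit 132) [] [] [] Srch.nil (Srch.rep (nat_lit 156) [] [] [] Srch.nil Srch.nil)) Srch.nil) Srch.nil) Srch.nil)) Srch.nil) Srch.nil)))))))))))))))))))))))))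
theorem ok193 : nodeOK DB PT 193 t193 (nat_lit 0xf00000f00003f0f003f00c0cf000f0f000f00000f000030c000c000003000000f000f000000300000300030300f00000f0f0f0f0f0fcfc0303fc03fc03) (nat_lit 0x111100000000000000000000111100000000000000000022111100001111000000000022111100000000220000002200111100000000000011110000111100000000000011110000000000000000000011110000000000000000002200002200000000000000220000000000000000000000002200000000000000000000000011110000000000001111000000000000000000000000003300000000000000000000003300000000000000330000003300000000111100000000000000000000111100001111000011110000111100001111000011112200111122000000003300000033111122000000005511112200000000ff) c193 = true := by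
  decide +kernel

end Cfsg.Agent.L33.Dat
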