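import Mathlib
import Cfsg.Agent.L33.DH

/-!
Certificates.
-/

set_option autoImplicit false
set_option maxRecDepth 100000

namespace Cfsg.Agent.L33.Dat

open Cfsg.Agent.L33

noncomputable def c216_0 : Node :=
  Node.st (nat_lit 0) (nat_lit 68) (nat_lit 0) (Node.sp (nat_lit 92) (Node.lf (Leaf.pt (nat_lit 9) (nat_lit 92) [nat_lit 10])) (Node.st (nat_lit 0) (nat_lit 92) (nat_lit 0) (Node.sp (nat_lit 130) (Node.lf (Leaf.pt (nat_lit 22) (nat_lit 130) [nat_lit 26,nat_lit 2,nat_lit 108])) (Node.st (nat_lit 0) (nat_lit 130) (nat_lit 0) (Node.ext [[nat_lit 32,nat_lit 16,nat_lit 8,nat_lit 4,nat_lit 2,nat_lit 1]] (nat_lit 10) [Ins.ts (nat_lit 4) [nat_lit 0] [nat_lit 10,nat_lit 0,nat_lit 0],Ins.fr [nat_lit 0],Ins.ts (nat_lit 1) [nat_lit 0,nat_lit 0] [],Ins.ts (nat_lit 1) [nat_lit 0,nat_lit 0,nat_lit 0,nat_lit 0] [],Ins.fr [nat_lit 1],Ins.ts (nat_lit 1) [nat_lit 0,nat_lit 0] [],Ins.ts (nat_lit 0) [nat_lit 0,nat_lit 1,nat_lit 1,nat_lit 0] [],Ins.ts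 (nat_lit 0) [nat_lit 1,nat_lit 1,nat_lit 1] [nat_lit 0,nat_lit 1,nat_lit 0],Ins.ts (nat_lit 2) [nat_lit 0,nat_lit 0,nat_lit 1,nat_lit 0] [],Ins.fr [nat_lit 2],Ins.ts (nat_lit 1) [nat_lit 0,nat_lit 0] [],Ins.ts (nat_lit 4) [nat_lit 0] [nat_lit 37,nat_lit 0,nat_lit 0],Ins.ts (nat_lit 3) [nat_lit 1,nat_lit 0,nat_lit 2] [],Ins.ts (nat_lit 2) [nat_lit 1,nat_lit 0] [],Ins.ts (nat_lit 0) [nat_lit 0,nat_lit 2,nat_lit 0,nat_lit 2] [],Ins.fr [nat_lit 0,nat_lit 0,nat_lit 3],Ins.ts (nat_lit 4) [nat_lit 0] [nat_lit 5,nat_lit 0,nat_lit 0],Ins.ts (nat_lit 1) [nat_lit 0,nat_lit 0] [],Ins.ts (nat_lit 2) [nat_lit 4,nat_lit 0] [],Ins.ts (nat_lit 0) [nat_lit 2,nat_lit 0,nat_lit 2] [nat_lit 0],Ins.ts (nat_lit 0) [nat_lit 1,nat_lit 0] [nat_lit 0,nat_lit 1],Ins.fr [nat_lit 0,nat_lit 3,nat_lit 0,nat_lit 2],Ins.ts (nat_lit 0) [nat_lit 2,nat_lit 2] [nat_lit 0,nat_lit 0],Ins.ts (nat_lit 0) [nat_lit 5,nat_lit 0,nat_lit 1] [nat_lit 2,nat_lit 0],Ins.df [nat_lit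 0,nat_lit 0],Ins.df [nat_lit 5,nat_lit 5],Ins.df [nat_lit 0,nat_lit 1,nat_lit 7],Ins.df [nat_lit 1,nat_lit 6,nat_lit 7],Ins.df [nat_lit 3,nat_lit 5,nat_lit 6],Ins.df [nat_lit 0,nat_lit 9]] [nat_lit 96,nat_lit 112,nat_lit 36,nat_lit 4,nat_lit 128] [nat_lit 5,nat_lit 4,nat_lit 7,nat_lit 3,nat_lit 2,nat_lit 1,nat_lit 0,nat_lit 6] (Srch.ex0 [nat_lit 68,nat_lit 36,nat_lit 16,nat_lit 8,nat_lit 2,nat_lit 1] (Srch.rep (nat_lit 12) [] [nat_lit 34,nat_lit 16,nat_lit 8,nat_lit 4,nat_lit 1] [nat_lit 128,nat_lit 64,nat_lit 2] Srch.nil (Srch.rep (nat_lit 32) [nat_lit 4,nat_lit 24,nat_lit 64] [nat_lit 64,nat_lit 32,nat_lit 24,nat_lit 4,nat_lit 2,nat_lit 1] [nat_lit 128,nat_lit 8] (Srch.rep (nat_lit 64) [nat_lit 64] [] [] (Srch.rep (nat_lit 122) [] [] [] Srch.nil Srch.nil) (Srch.rep (nat_lit 88) [nat_lit 88] [] [] (Srch.rep (nat_lit 98) [] [] [] Srch.nil Srch.nil) (Srch.rep (nat_lit 96) [nat_lit 64] [] [] (Srch.rep (nat_lit 90) [nat_lit 2] [] []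 (Srch.rep (nat_lit 36) [nat_lit 32] [] [] (Srch.rep (nat_lit 47) [] [] [] (Srch.rep (nat_lit 171) [] [] [] (Srch.fin [nat_lit 4,nat_lit 64] [nat_lit 0] (((nat_lit 43),(Leaf.pt (nat_lit 17) (nat_lit 12) [nat_lit 276,nat_lit 4]))::(((nat_lit 42),(Leaf.pt (nat_lit 17) (nat_lit 12) [nat_lit 256,nat_lit 4]))::[]))) (Srch.rep (nat_lit 170) [] [] [] (Srch.fin [nat_lit 4,nat_lit 64] [nat_lit 0] (((nat_lit 43),(Leaf.pt (nat_lit 17) (nat_lit 12) [nat_lit 276,nat_lit 4]))::(((nat_lit 42),(Leaf.pt (nat_lit 17) (nat_lit 12) [nat_lit 256,nat_lit 4]))::[]))) Srch.nil)) Srch.nil) (Srch.rep (nat_lit 38) [nat_lit 32] [] [] (Srch.rep (nat_lit 45) [] [] [] (Srch.rep (nat_lit 176) [] [] [] (Srch.fin [nat_lit 4,nat_lit 64] [nat_lit 0] (((nat_lit 2),(Leaf.pt (nat_lit 17) (nat_lit 12) [nat_lit 320,nat_lit 4]))::(((nat_lit 3),(Leaf.mp (nat_lit 209) [nat_lit 1,nat_lit 2,nat_lit 4,nat_lit 8,nat_lit 16,nat_lit 32,nat_lit 64,nat_lit 448,nat_lit 128] [[nat_lit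 1],[nat_lit 3],[nat_lit 5]]))::[]))) (Srch.rep (nat_lit 177) [] [] [] (Srch.fin [nat_lit 4,nat_lit 64] [nat_lit 0] (((nat_lit 2),(Leaf.pt (nat_lit 17) (nat_lit 12) [nat_lit 320,nat_lit 4]))::(((nat_lit 3),(Leaf.mp (nat_lit 215) [nat_lit 1,nat_lit 2,nat_lit 4,nat_lit 8,nat_lit 16,nat_lit 32,nat_lit 64,nat_lit 448,nat_lit 128] [[nat_lit 1],[nat_lit 3],[nat_lit 5]]))::[]))) Srch.nil)) Srch.nil) Srch.nil)) Srch.nil) (Srch.rep (nat_lit 120) [nat_lit 88] [] [] (Srch.rep (nat_lit 66) [nat_lit 2] [] [] (Srch.rep (nat_lit 36) [nat_lit 32] [] [] (Srch.rep (nat_lit 47) [] [] [] (Srch.rep (nat_lit 154) [] [] [] (Srch.fin [nat_lit 4,nat_lit 64] [nat_lit 0] (((nat_lit 43),(Leaf.sp (nat_lit 260) (Leaf.pt (nat_lit 12) (nat_lit 260) [nat_lit 26,nat_lit 194]) (Leaf.sp (nat_lit 265) (Leaf.sp (nat_lit 401) (Leaf.sp (nat_lit 397) (Leaf.pt (nat_lit 12) (nat_lit 397) [nat_lit 26,nat_lit 202]) (Leaf.pt (nat_lit 13) (nat_lit 401) [nat_lit 28])) (Leaf.pt (nat_lit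 13) (nat_lit 265) [nat_lit 130])) (Leaf.pt (nat_lit 13) (nat_lit 12) [nat_lit 260]))))::(((nat_lit 42),(Leaf.pt (nat_lit 17) (nat_lit 12) [nat_lit 256,nat_lit 4]))::[]))) (Srch.rep (nat_lit 155) [] [] [] (Srch.fin [nat_lit 4,nat_lit 64] [nat_lit 0] (((nat_lit 43),(Leaf.sp (nat_lit 260) (Leaf.pt (nat_lit 12) (nat_lit 260) [nat_lit 26,nat_lit 192]) (Leaf.sp (nat_lit 265) (Leaf.sp (nat_lit 394) (Leaf.pt (nat_lit 17) (nat_lit 394) [nat_lit 156,nat_lit 6]) (Leaf.pt (nat_lit 13) (nat_lit 265) [nat_lit 152])) (Leaf.pt (nat_lit 13) (nat_lit 12) [nat_lit 260]))))::(((nat_lit 42),(Leaf.pt (nat_lit 17) (nat_lit 12) [nat_lit 256,nat_lit 4]))::[]))) Srch.nil)) Srch.nil) (Srch.rep (nat_lit 38) [nat_lit 32] [] [] (Srch.rep (nat_lit 45) [] [] [] (Srch.rep (nat_lit 128) [] [] [] (Srch.fin [nat_lit 4,nat_lit 64] [nat_lit 0] (((nat_lit 2),(Leaf.pt (nat_lit 12) (nat_lit 12) [nat_lit 28,nat_lit 320]))::(((nat_lit 3),(Leaf.pt (nat_lit 12) (nat_lit 12)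 [nat_lit 28,nat_lit 320]))::[]))) (Srch.rep (nat_lit 129) [] [] [] (Srch.fin [nat_lit 4,nat_lit 64] [nat_lit 0] (((nat_lit 2),(Leaf.pt (nat_lit 12) (nat_lit 12) [nat_lit 28,nat_lit 320]))::(((nat_lit 3),(Leaf.pt (nat_lit 12) (nat_lit 12) [nat_lit 28,nat_lit 320]))::[]))) Srch.nil)) Srch.nil) Srch.nil)) Srch.nil) Srch.nil)))) Srch.nil))) (Node.lf (Leaf.au (nat_lit 1) (nat_lit 0) (nat_lit 0) [] [] [nat_lit 3,nat_lit 3,nat_lit 3] (nat_lit 0) [] (nat_lit 40) [nat_lit 0,nat_lit 2,nat_lit 4,nat_lit 32,nat_lit 32,nat_lit 8,nat_lit 66,nat_lit 168])))))))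
noncomputable def t216 : ℕ := nat_lit 0x9a009a009b009b00b100b100b100b1008000800080008000aa00aa00ab00ab008000800080008000ab00ab00aa00aa009b009b009a009a00b100b100b100b1008100810081008100ab00ab00aa00aa009a009a009b009b00b100b100b100b1009b009b009a009a00b100b100b100b1008100810081008100aa00aa00ab00ab00b100b100b100b1009a009a009b009b00aa00aa00ab00ab008000800080008000ab00ab00aa00aa008000800080008000b100b100b100b1009b009b009a009a00ab00ab00aa00aa008100810081008100b100b100b100b1009a009a009b009b00b100b100b100b1009b009b009a009a00aa00aa00ab00ab0081008100810081009b009b009a009a00b000b000b000b0008100810081008100ab00ab00aa00aa008100810081008100aa00aa00ab00ab009a009a009b009b00b000b000b000b0008000800080008000aa00aa00ab00ab009b009b009a009a00b000b000b000b0009a009a009b009b00b000b000b000b0008000800080008000ab00ab00aa00aa00b000b000b000b0009b009b009a009a00ab00ab00aa00aa008100810081008100aa00aa00ab00ab008100810081008100b000b000b000b0009a009a009b009b00aa00aa0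0ab00ab008000800080008000b000b000b000b0009b009b009a009a00b000b000b000b0009a009a009b009b00ab00ab00aa00aa00800080008000800040004000400040004200420043004300410041004100410043004300420042004000400040004000420042004300430041004100410041004300430042004200400040004000400042004200430043004100410041004100430043004200420040004000400040004200420043004300410041004100410043004300420042004300430042004200410041004100410042004200430043004000400040004000430043004200420041004100410041004200420043004300400040004000400043004300420042004100410041004100420042004300430040004000400040004300430042004200410041004100410042004200430043004000400040004000200020002000200020002000200020002100210021002100210021002100210021002100210021002100210021002100200020002000200020002000200020002000200020002000200020002000200021002100210021002100210021002100210021002100210021002100210021002000200020002000200020002000200010001000100010001000100010001000100010001000100010001000100010001000100010001000100010001000100010001000100010001000100010001000090009000900090009000900090009000800080008000800080008000800080004000400050005000500050004000400030003000200020001000100000000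
noncomputable def c216 : Node :=
  (Node.st (nat_lit 0) (nat_lit 10) (nat_lit 0) (Node.st (nat_lit 2) (nat_lit 0) (nat_lit 10) (Node.st (nat_lit 0) (nat_lit 14) (nat_lit 0) (Node.st (nat_lit 2) (nat_lit 0) (nat_lit 58) (Node.st (nat_lit 0) (nat_lit 58) (nat_lit 0) (Node.st (nat_lit 2) (nat_lit 2) (nat_lit 5) (Node.st (nat_lit 0) (nat_lit 78) (nat_lit 0) (Node.sp (nat_lit 1) (Node.lf (Leaf.pt (nat_lit 9) (nat_lit 1) [nat_lit 10])) (Node.sp (nat_lit 26) (Node.lf (Leaf.pt (nat_lit 9) (nat_lit 26) [nat_lit 10])) (Node.st (nat_lit 0) (nat_lit 26) (nat_lit 0) (Node.sp (nat_lit 28) (Node.lf (Leaf.pt (nat_lit 9) (nat_lit 28) [nat_lit 12])) (Node.st (nat_lit 0) (nat_lit 28) (nat_lit 0) (Node.sp (nat_lit 40) (Node.lf (Leaf.pt (nat_lit 12) (nat_lit 40) [nat_lit 26,nat_lit 192])) (Node.st (nat_lit 0) (nat_lit 40) (nat_lit 0) (Node.sp (nat_lit 50) (Node.lf (Leaf.pt (nat_lit 9) (nat_lit 50) [nat_lit 12])) (Node.st (nat_lit 0) (nat_lit 50) (nat_lit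 0) (Node.sp (nat_lit 68) (Node.lf (Leaf.pt (nat_lit 9) (nat_lit 68) [nat_lit 10])) c216_0)))))))))))))))))
theorem ok216 : nodeOK DB PT 216 t216 (nat_lit 0xc03000300000cf00000f0f0f0f0f0fcfc0303fc03fc03) (nat_lit 0x2200000000220000000000000022000000000000000000002200111100000000000000000000111100001111000011110000111100001111000011112200111122000000003300000033111122000000005511112200000000ff) c216 = true := by
  decide +kernel
noncomputable def c217_0 : Node :=
  Node.ext [[nat_lit 32,nat_lit 16,nat_lit 8,nat_lit 4,nat_lit 2,nat_lit 1]] (nat_lit 10) [Ins.ts (nat_lit 4) [nat_lit 0] [nat_lit 10,nat_lit 0,nat_lit 0],Ins.fr [nat_lit 0],Ins.ts (nat_lit 1) [nat_lit 0,nat_lit 0] [],Ins.ts (nat_lit 1) [nat_lit 0,nat_lit 0,nat_lit 0,nat_lit 0] [],Ins.fr [nat_lit 1],Ins.ts (nat_lit 1) [nat_lit 0,nat_lit 0] [],Ins.ts (nat_lit 0) [nat_lit 0,nat_lit 1,nat_lit 1,nat_lit 0] [],Ins.ts (nat_lit 0) [nat_lit 1,nat_lit 1,nat_lit 1] [nat_lit 0,nat_lit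 1,nat_lit 0],Ins.ts (nat_lit 2) [nat_lit 0,nat_lit 0,nat_lit 1,nat_lit 0] [],Ins.fr [nat_lit 2],Ins.ts (nat_lit 1) [nat_lit 0,nat_lit 0] [],Ins.ts (nat_lit 4) [nat_lit 0] [nat_lit 37,nat_lit 0,nat_lit 0],Ins.ts (nat_lit 3) [nat_lit 1,nat_lit 0,nat_lit 2] [],Ins.ts (nat_lit 2) [nat_lit 1,nat_lit 0] [],Ins.ts (nat_lit 0) [nat_lit 0,nat_lit 2,nat_lit 0,nat_lit 2] [],Ins.fr [nat_lit 0,nat_lit 0,nat_lit 3],Ins.ts (nat_lit 4) [nat_lit 0] [nat_lit 5,nat_lit 0,nat_lit 0],Ins.ts (nat_lit 1) [nat_lit 0,nat_lit 0] [],Ins.ts (nat_lit 2) [nat_lit 4,nat_lit 0] [],Ins.ts (nat_lit 0) [nat_lit 2,nat_lit 0,nat_lit 2] [nat_lit 0],Ins.ts (nat_lit 0) [nat_lit 1,nat_lit 0] [nat_lit 0,nat_lit 1],Ins.fr [nat_lit 0,nat_lit 0,nat_lit 0,nat_lit 1],Ins.ts (nat_lit 0) [nat_lit 4,nat_lit 4] [nat_lit 0,nat_lit 0],Ins.ts (nat_lit 0) [nat_lit 4,nat_lit 0] [nat_lit 0,nat_lit 4],Ins.fr [nat_lit 0,nat_lit 0,nat_lit 5,nat_lit 1],Ins.ts (nat_lit 0) [nat_lit 0,nat_lit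 6,nat_lit 0] [nat_lit 5,nat_lit 4],Ins.ts (nat_lit 0) [nat_lit 4,nat_lit 0,nat_lit 4] [nat_lit 1,nat_lit 0,nat_lit 6],Ins.df [nat_lit 2,nat_lit 2],Ins.df [nat_lit 2,nat_lit 2],Ins.df [nat_lit 0,nat_lit 1,nat_lit 8],Ins.df [nat_lit 1,nat_lit 7,nat_lit 8],Ins.df [nat_lit 3,nat_lit 6,nat_lit 7],Ins.df [nat_lit 0,nat_lit 10]] [nat_lit 96,nat_lit 112,nat_lit 36,nat_lit 4,nat_lit 128,nat_lit 256] [nat_lit 5,nat_lit 4,nat_lit 8,nat_lit 3,nat_lit 2,nat_lit 1,nat_lit 0,nat_lit 7,nat_lit 6] (Srch.ex0 [nat_lit 68,nat_lit 36,nat_lit 16,nat_lit 8,nat_lit 2,nat_lit 1] (Srch.rep (nat_lit 16) [nat_lit 4,nat_lit 8,nat_lit 64] [nat_lit 64,nat_lit 16,nat_lit 8,nat_lit 4,nat_lit 2,nat_lit 1] [nat_lit 256,nat_lit 128,nat_lit 32] (Srch.rep (nat_lit 64) [nat_lit 64] [] [] (Srch.rep (nat_lit 74) [] [] [] Srch.nil Srch.nil) (Srch.rep (nat_lit 72) [nat_lit 72] [] [] (Srch.rep (nat_lit 66) [nat_lit 2] [] [] (Srch.rep (nat_lit 20) [nat_lit 16] [] [] (Srch.rep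 (nat_lit 46) [] [] [] (Srch.rep (nat_lit 176) [] [] [] (Srch.rep (nat_lit 446) [] [] [] (Srch.fin [nat_lit 256,nat_lit 64] [nat_lit 0] (((nat_lit 48),(Leaf.pt (nat_lit 12) (nat_lit 76) [nat_lit 40,nat_lit 516]))::(((nat_lit 49),(Leaf.pt (nat_lit 12) (nat_lit 76) [nat_lit 40,nat_lit 516]))::[]))) (Srch.rep (nat_lit 447) [] [] [] (Srch.fin [nat_lit 256,nat_lit 64] [nat_lit 0] (((nat_lit 48),(Leaf.pt (nat_lit 12) (nat_lit 76) [nat_lit 40,nat_lit 516]))::(((nat_lit 49),(Leaf.pt (nat_lit 12) (nat_lit 76) [nat_lit 40,nat_lit 516]))::[]))) Srch.nil)) (Srch.rep (nat_lit 177) [] [] [] Srch.nil Srch.nil)) Srch.nil) (Srch.rep (nat_lit 22) [nat_lit 16] [] [] (Srch.rep (nat_lit 44) [] [] [] (Srch.rep (nat_lit 154) [] [] [] Srch.nil (Srch.rep (nat_lit 155) [] [] [] (Srch.rep (nat_lit 258) [] [] [] (Srch.fin [nat_lit 256,nat_lit 64] [nat_lit 0] (((nat_lit 40),(Leaf.pt (nat_lit 12) (nat_lit 76) [nat_lit 26,nat_lit 512]))::(((nat_lit 41),(Leaf.pt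 (nat_lit 12) (nat_lit 76) [nat_lit 26,nat_lit 512]))::[]))) (Srch.rep (nat_lit 259) [] [] [] (Srch.fin [nat_lit 256,nat_lit 64] [nat_lit 0] (((nat_lit 40),(Leaf.pt (nat_lit 12) (nat_lit 76) [nat_lit 26,nat_lit 512]))::(((nat_lit 41),(Leaf.pt (nat_lit 12) (nat_lit 76) [nat_lit 26,nat_lit 512]))::[]))) Srch.nil)) Srch.nil)) Srch.nil) Srch.nil)) Srch.nil) (Srch.rep (nat_lit 80) [nat_lit 64] [] [] (Srch.rep (nat_lit 90) [nat_lit 2] [] [] (Srch.rep (nat_lit 20) [nat_lit 16] [] [] (Srch.rep (nat_lit 46) [] [] [] (Srch.rep (nat_lit 176) [] [] [] Srch.nil (Srch.rep (nat_lit 177) [] [] [] (Srch.rep (nat_lit 422) [] [] [] (Srch.fin [nat_lit 256,nat_lit 64] [nat_lit 0] (((nat_lit 0),(Leaf.mp (nat_lit 193) [nat_lit 1,nat_lit 2,nat_lit 4,nat_lit 8,nat_lit 16,nat_lit 32,nat_lit 64,nat_lit 752,nat_lit 512,nat_lit 290] [[nat_lit 1],[nat_lit 3],[nat_lit 5]]))::(((nat_lit 1),(Leaf.mp (nat_lit 208) [nat_lit 1,nat_lit 2,nat_lit 4,nat_lit 8,nat_lit 16,nat_lit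 32,nat_lit 64,nat_lit 752,nat_lit 513,nat_lit 290] [[nat_lit 1],[nat_lit 3],[nat_lit 5]]))::[]))) (Srch.rep (nat_lit 423) [] [] [] (Srch.fin [nat_lit 256,nat_lit 64] [nat_lit 0] (((nat_lit 0),(Leaf.mp (nat_lit 192) [nat_lit 1,nat_lit 2,nat_lit 4,nat_lit 8,nat_lit 16,nat_lit 32,nat_lit 64,nat_lit 752,nat_lit 513,nat_lit 314] [[nat_lit 1],[nat_lit 3],[nat_lit 5]]))::(((nat_lit 1),(Leaf.mp (nat_lit 207) [nat_lit 1,nat_lit 2,nat_lit 4,nat_lit 8,nat_lit 16,nat_lit 32,nat_lit 64,nat_lit 752,nat_lit 512,nat_lit 314] [[nat_lit 1],[nat_lit 3],[nat_lit 5]]))::[]))) Srch.nil)) Srch.nil)) Srch.nil) (Srch.rep (nat_lit 22) [nat_lit 16] [] [] (Srch.rep (nat_lit 44) [] [] [] (Srch.rep (nat_lit 154) [] [] [] (Srch.rep (nat_lit 282) [] [] [] (Srch.fin [nat_lit 256,nat_lit 64] [nat_lit 0] (((nat_lit 24),(Leaf.au (nat_lit 3) (nat_lit 16) (nat_lit 0) [[nat_lit 16,nat_lit 11,nat_lit 69,nat_lit 1]] [nat_lit 68,nat_lit 16,nat_lit 8,nat_lit 2,nat_lit 1] [nat_lit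 5,nat_lit 1216,nat_lit 5,nat_lit 1152,nat_lit 5] (nat_lit 1) [nat_lit 0,nat_lit 1,nat_lit 69,nat_lit 68,nat_lit 11,nat_lit 10,nat_lit 78,nat_lit 79,nat_lit 16,nat_lit 17,nat_lit 85,nat_lit 84,nat_lit 27,nat_lit 26,nat_lit 94,nat_lit 95] (nat_lit 0) [nat_lit 0,nat_lit 0,nat_lit 2,nat_lit 2,nat_lit 0]))::(((nat_lit 25),(Leaf.au (nat_lit 3) (nat_lit 16) (nat_lit 0) [[nat_lit 16,nat_lit 11,nat_lit 69,nat_lit 1]] [nat_lit 68,nat_lit 16,nat_lit 8,nat_lit 2,nat_lit 1] [nat_lit 5,nat_lit 1216,nat_lit 5,nat_lit 1152,nat_lit 5] (nat_lit 1) [nat_lit 0,nat_lit 1,nat_lit 69,nat_lit 68,nat_lit 11,nat_lit 10,nat_lit 78,nat_lit 79,nat_lit 16,nat_lit 17,nat_lit 85,nat_lit 84,nat_lit 27,nat_lit 26,nat_lit 94,nat_lit 95] (nat_lit 0) [nat_lit 0,nat_lit 0,nat_lit 2,nat_lit 2,nat_lit 0]))::[]))) (Srch.rep (nat_lit 283) [] [] [] (Srch.fin [nat_lit 256,nat_lit 64] [nat_lit 0] (((nat_lit 24),(Leaf.au (nat_lit 3) (nat_lit 16) (nat_lit 0) [[nat_lit 16,nat_lit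 11,nat_lit 69,nat_lit 1]] [nat_lit 68,nat_lit 16,nat_lit 8,nat_lit 2,nat_lit 1] [nat_lit 5,nat_lit 1216,nat_lit 5,nat_lit 1152,nat_lit 5] (nat_lit 1) [nat_lit 0,nat_lit 1,nat_lit 69,nat_lit 68,nat_lit 11,nat_lit 10,nat_lit 78,nat_lit 79,nat_lit 16,nat_lit 17,nat_lit 85,nat_lit 84,nat_lit 27,nat_lit 26,nat_lit 94,nat_lit 95] (nat_lit 0) [nat_lit 0,nat_lit 0,nat_lit 2,nat_lit 2,nat_lit 0]))::(((nat_lit 25),(Leaf.au (nat_lit 3) (nat_lit 16) (nat_lit 0) [[nat_lit 16,nat_lit 11,nat_lit 69,nat_lit 1]] [nat_lit 68,nat_lit 16,nat_lit 8,nat_lit 2,nat_lit 1] [nat_lit 5,nat_lit 1216,nat_lit 5,nat_lit 1152,nat_lit 5] (nat_lit 1) [nat_lit 0,nat_lit 1,nat_lit 69,nat_lit 68,nat_lit 11,nat_lit 10,nat_lit 78,nat_lit 79,nat_lit 16,nat_lit 17,nat_lit 85,nat_lit 84,nat_lit 27,nat_lit 26,nat_lit 94,nat_lit 95] (nat_lit 0) [nat_lit 0,nat_lit 0,nat_lit 2,nat_lit 2,nat_lit 0]))::[]))) Srch.nil)) (Srch.rep (nat_lit 155) [] [] [] Srch.nil Srch.nil)) Srch.nil)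 Srch.nil)) Srch.nil) (Srch.rep (nat_lit 88) [nat_lit 72] [] [] (Srch.rep (nat_lit 82) [] [] [] Srch.nil Srch.nil) Srch.nil)))) Srch.nil)) (Node.lf (Leaf.au (nat_lit 1) (nat_lit 0) (nat_lit 0) [] [] [nat_lit 3,nat_lit 1] (nat_lit 0) [] (nat_lit 42) [nat_lit 0,nat_lit 2,nat_lit 44,nat_lit 10,nat_lit 10,nat_lit 34,nat_lit 106,nat_lit 168,nat_lit 260]))
noncomputable def t217 : ℕ := nat_lit 0x191019101b901b901b901b90191019101bf01bf019601960197019701be01be01be01be019601960197019701bf01bf0191019101b801b801b801b80191019101bf01bf019601960197019701be01be0191019101b901b901b901b9019101910191019101b801b801b801b80191019101be01be019601960197019701bf01bf011d011d0135013501340134011c011c01330133011a011a011a011a0133013301330133011b011b011b011b01330133011c011c0135013501340134011d011d01330133011a011a011a011a01330133011d011d0135013501340134011c011c011c011c0135013501340134011d011d01330133011b011b011b011b013301330194019401bc01bc01bd01bd0195019501bb01bb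019201920192019201bb01bb01ba01ba019201920192019201ba01ba0194019401bd01bd01bc01bc0195019501bb01bb019201920192019201bb01bb0194019401bc01bc01bd01bd019501950194019401bd01bd01bc01bc0195019501ba01ba019201920192019201ba01ba01310131011901190119011901310131011f011f0136013601370137011e011e011e011e0136013601370137011f011f01310131011801180118011801310131011f011f0136013601370137011e011e0131013101190119011901190131013101310131011801180118011801310131011e011e0136013601370137011f011f018d018d01a401a401a501a5018c018c01a201a2018a018a018a018a01a201a201a201a2018b018b018b018b01a201a2018c018c01a401a401a501a5018d018d01a301a3018b018b018b018b01a301a3018c018c01a501a501a401a4018d018d018d018d01a501a501a401a4018c018c01a301a3018a018a018a018a01a301a3012a012a0102010201020102012a012a01040104012d012d012c012c0105010501040104012c012c012d012d01050105012b012b0102010201020102012b012b01050105012c012c012d012d01040104012b012b0103010301030103012b012b012a012a0103010301030103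012a012a01050105012d012d012c012c0104010401a001a0018901890189018901a001a0018f018f01a701a701a601a6018e018e018e018e01a701a701a601a6018f018f01a001a0018801880188018801a001a0018e018e01a601a601a701a7018f018f01a101a1018801880188018801a101a101a101a1018901890189018901a101a1018f018f01a601a601a701a7018e018e012e012e0106010601070107012f012f0101010101280128012801280101010101010101012901290129012901010101012f012f0106010601070107012e012e01000100012901290129012901000100012f012f0107010701060106012e012e012e012e0107010701060106012f012f0100010001280128012801280100010000aa00aa00ab00ab0083008300820082008100810081008100a900a900a900a9008100810081008100a800a800a800a800ab00ab00aa00aa0083008300820082008000800080008000a800a800a800a800ab00ab00aa00aa008200820083008300aa00aa00ab00ab0082008200830083008000800080008000a900a900a900a9008000800080008000a800a800a800a800ab00ab00aa00aa008200820083008300aa00aa00ab00ab0082008200830083008000800080008000a900a900a900a900aa00aa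00ab00ab0083008300820082008100810081008100a900a900a900a9008100810081008100a800a800a800a800ab00ab00aa00aa008300830082008200a800a800a800a80080008000800080008200820083008300ab00ab00aa00aa008200820083008300aa00aa00ab00ab00a900a900a900a90080008000800080008300830082008200aa00aa00ab00ab00a900a900a900a9008100810081008100a800a800a800a80081008100810081008300830082008200ab00ab00aa00aa008300830082008200aa00aa00ab00ab00a900a900a900a9008100810081008100a800a800a800a80081008100810081008300830082008200ab00ab00aa00aa00a800a800a800a80080008000800080008200820083008300ab00ab00aa00aa008200820083008300aa00aa00ab00ab00a900a900a900a90080008000800080004000400040004000420042004300430041004100410041004300430042004200400040004000400042004200430043004100410041004100430043004200420040004000400040004200420043004300410041004100410043004300420042004000400040004000420042004300430041004100410041004300430042004200430043004200420041004100410041004200420043004300400040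0040004000430043004200420041004100410041004200420043004300400040004000400043004300420042004100410041004100420042004300430040004000400040004300430042004200410041004100410042004200430043004000400040004000200020002000200020002000200020002100210021002100210021002100210021002100210021002100210021002100200020002000200020002000200020002000200020002000200020002000200021002100210021002100210021002100210021002100210021002100210021002000200020002000200020002000200010001000100010001000100010001000100010001000100010001000100010001000100010001000100010001000100010001000100010001000100010001000090009000900090009000900090009000800080008000800080008000800080004000400050005000500050004000400030003000200020001000100000000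
noncomputable def c217 : Node :=
  (Node.st (nat_lit 0) (nat_lit 10) (nat_lit 0) (Node.st (nat_lit 2) (nat_lit 1) (nat_lit 10) (Node.st (nat_lit 0) (nat_lit 17) (nat_lit 0) (Node.st (nat_lit 2) (nat_lit 2) (nat_lit 5) (Node.st (nat_lit 0) (nat_lit 78) (nat_lit 0) (Node.st (nat_lit 2) (nat_lit 2) (nat_lit 9) (Node.st (nat_lit 0) (nat_lit 85) (nat_lit 0) (Node.sp (nat_lit 1) (Node.lf (Leaf.pt (nat_lit 9) (nat_lit 1) [nat_lit 10])) (Node.sp (nat_lit 26) (Node.lf (Leaf.pt (nat_lit 9) (nat_lit 26) [nat_lit 10])) (Node.st (nat_lit 0) (nat_lit 26) (nat_lit 0) (Node.sp (nat_lit 28) (Node.lf (Leaf.pt (nat_lit 9) (nat_lit 28) [nat_lit 12])) (Node.st (nat_lit 0) (nat_lit 28) (nat_lit 0) (Node.sp (nat_lit 40) (Node.lf (Leaf.pt (nat_lit 9) (nat_lit 40) [nat_lit 76])) (Node.st (nat_lit 0) (nat_lit 40) (nat_lit 0) (Node.sp (nat_lit 68) (Node.lf (Leaf.pt (nat_lit 9) (nat_lit 68) [nat_lit 10])) (Node.st (nat_lit 0) (nat_lit 68) (nat_lit 0) (Node.sp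 (nat_lit 92) (Node.lf (Leaf.pt (nat_lit 9) (nat_lit 92) [nat_lit 10])) (Node.st (nat_lit 0) (nat_lit 92) (nat_lit 0) (Node.sp (nat_lit 148) (Node.lf (Leaf.pt (nat_lit 12) (nat_lit 148) [nat_lit 40,nat_lit 328])) (Node.st (nat_lit 0) (nat_lit 148) (nat_lit 0) c217_0))))))))))))))))))))
theorem ok217 : nodeOK DB PT 217 t217 (nat_lit 0xcf0f00cf00303f0f000000000f00000f00000f0f0f0f0f0fcfc0303fc03fc03) (nat_lit 0x2200111100001111000000002200111100000000002200000022111100001111000000000000000000000000000000000000111100000000000000000000111100000000000000000000111100001111000011110000111100001111000011112200111122000000003300000033111122000000005511112200000000ff) c217 = true := by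
  decide +kernel
noncomputable def c218_0 : Node :=
  Node.ext [[nat_lit 32,nat_lit 16,nat_lit 8,nat_lit 4,nat_lit 2,nat_lit 1]] (nat_lit 10) [Ins.ts (nat_lit 4) [nat_lit 0] [nat_lit 10,nat_lit 0,nat_lit 0],Ins.fr [nat_lit 0],Ins.ts (nat_lit 1) [nat_lit 0,nat_lit 0] [],Ins.ts (nat_lit 1) [nat_lit 0,nat_lit 0,nat_lit 0,nat_lit 0] [],Ins.fr [nat_lit 1],Ins.ts (nat_lit 1) [nat_lit 0,nat_lit 0] [],Ins.ts (nat_lit 0) [nat_lit 0,nat_lit 1,nat_lit 1,nat_lit 0] [],Ins.ts (nat_lit 0) [nat_lit 1,nat_lit 1,nat_lit 1] [nat_lit 0,nat_lit 1,nat_lit 0],Ins.ts (nat_lit 2) [nat_lit 0,nat_lit 0,nat_lit 1,nat_lit 0] [],Ins.fr [nat_lit 2],Ins.ts (nat_lit 1) [nat_lit 0,nat_lit 0] [],Ins.ts (nat_lit 4) [nat_lit 0] [nat_lit 37,nat_lit 0,nat_lit 0],Ins.ts (nat_lit 3) [nat_lit 1,nat_lit 0,nat_lit 2] [],Ins.ts (nat_lit 2) [nat_lit 1,nat_lit 0] [],Ins.ts (nat_lit 0) [nat_lit 0,nat_lit 2,nat_lit 0,nat_lit 2] [],Ins.fr [nat_lit 0,nat_lit 0,nat_lit 3],Ins.ts (nat_lit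 4) [nat_lit 0] [nat_lit 5,nat_lit 0,nat_lit 0],Ins.ts (nat_lit 1) [nat_lit 0,nat_lit 0] [],Ins.ts (nat_lit 2) [nat_lit 4,nat_lit 0] [],Ins.ts (nat_lit 0) [nat_lit 2,nat_lit 0,nat_lit 2] [nat_lit 0],Ins.ts (nat_lit 0) [nat_lit 1,nat_lit 0] [nat_lit 0,nat_lit 1],Ins.fr [nat_lit 0,nat_lit 0,nat_lit 0,nat_lit 1],Ins.ts (nat_lit 0) [nat_lit 4,nat_lit 4] [nat_lit 0,nat_lit 0],Ins.ts (nat_lit 0) [nat_lit 4,nat_lit 0] [nat_lit 0,nat_lit 4],Ins.fr [nat_lit 0,nat_lit 0,nat_lit 5,nat_lit 1],Ins.ts (nat_lit 0) [nat_lit 0,nat_lit 6,nat_lit 0] [nat_lit 6],Ins.ts (nat_lit 0) [nat_lit 4,nat_lit 0,nat_lit 3] [nat_lit 0,nat_lit 4,nat_lit 1],Ins.df [nat_lit 2,nat_lit 2],Ins.df [nat_lit 2,nat_lit 2],Ins.df [nat_lit 0,nat_lit 1,nat_lit 8],Ins.df [nat_lit 1,nat_lit 7,nat_lit 8],Ins.df [nat_lit 3,nat_lit 6,nat_lit 7],Ins.df [nat_lit 0,nat_lit 10]] [nat_lit 96,nat_lit 112,nat_lit 36,nat_lit 4,nat_lit 128,nat_lit 256] [nat_lit 5,nat_lit 4,nat_lit 8,nat_lit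 3,nat_lit 2,nat_lit 1,nat_lit 0,nat_lit 7,nat_lit 6] (Srch.ex0 [nat_lit 68,nat_lit 36,nat_lit 16,nat_lit 8,nat_lit 2,nat_lit 1] (Srch.rep (nat_lit 16) [nat_lit 4,nat_lit 8,nat_lit 64] [nat_lit 64,nat_lit 16,nat_lit 8,nat_lit 4,nat_lit 2,nat_lit 1] [nat_lit 256,nat_lit 128,nat_lit 32] (Srch.rep (nat_lit 64) [nat_lit 64] [] [] (Srch.rep (nat_lit 74) [] [] [] Srch.nil Srch.nil) (Srch.rep (nat_lit 72) [nat_lit 72] [] [] (Srch.rep (nat_lit 66) [nat_lit 2] [] [] (Srch.rep (nat_lit 20) [nat_lit 16] [] [] (Srch.rep (nat_lit 46) [] [] [] (Srch.rep (nat_lit 176) [] [] [] (Srch.rep (nat_lit 446) [] [] [] (Srch.fin [nat_lit 256,nat_lit 64] [nat_lit 0] (((nat_lit 48),(Leaf.pt (nat_lit 12) (nat_lit 76) [nat_lit 40,nat_lit 516]))::(((nat_lit 49),(Leaf.pt (nat_lit 12) (nat_lit 76) [nat_lit 40,nat_lit 516]))::[]))) (Srch.rep (nat_lit 447) [] [] [] (Srch.fin [nat_lit 256,nat_lit 64] [nat_lit 0] (((nat_lit 48),(Leaf.pt (nat_lit 12) (nat_lit 76) [nat_lit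 40,nat_lit 516]))::(((nat_lit 49),(Leaf.pt (nat_lit 12) (nat_lit 76) [nat_lit 40,nat_lit 516]))::[]))) Srch.nil)) (Srch.rep (nat_lit 177) [] [] [] Srch.nil Srch.nil)) Srch.nil) (Srch.rep (nat_lit 22) [nat_lit 16] [] [] (Srch.rep (nat_lit 44) [] [] [] (Srch.rep (nat_lit 154) [] [] [] (Srch.rep (nat_lit 282) [] [] [] (Srch.fin [nat_lit 256,nat_lit 64] [nat_lit 0] (((nat_lit 40),(Leaf.pt (nat_lit 12) (nat_lit 76) [nat_lit 26,nat_lit 512]))::(((nat_lit 41),(Leaf.pt (nat_lit 12) (nat_lit 76) [nat_lit 26,nat_lit 512]))::[]))) (Srch.rep (nat_lit 283) [] [] [] (Srch.fin [nat_lit 256,nat_lit 64] [nat_lit 0] (((nat_lit 40),(Leaf.pt (nat_lit 12) (nat_lit 76) [nat_lit 26,nat_lit 512]))::(((nat_lit 41),(Leaf.pt (nat_lit 12) (nat_lit 76) [nat_lit 26,nat_lit 512]))::[]))) Srch.nil)) (Srch.rep (nat_lit 155) [] [] [] Srch.nil Srch.nil)) Srch.nil) Srch.nil)) Srch.nil) (Srch.rep (nat_lit 80) [nat_lit 64] [] [] (Srch.rep (nat_lit 90) [nat_lit 2] [] []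 (Srch.rep (nat_lit 20) [nat_lit 16] [] [] (Srch.rep (nat_lit 46) [] [] [] (Srch.rep (nat_lit 176) [] [] [] (Srch.rep (nat_lit 446) [] [] [] (Srch.fin [nat_lit 256,nat_lit 64] [nat_lit 0] (((nat_lit 0),(Leaf.mp (nat_lit 197) [nat_lit 1,nat_lit 2,nat_lit 4,nat_lit 8,nat_lit 16,nat_lit 32,nat_lit 64,nat_lit 752,nat_lit 513,nat_lit 314] [[nat_lit 1],[nat_lit 3],[nat_lit 5]]))::(((nat_lit 1),(Leaf.mp (nat_lit 212) [nat_lit 1,nat_lit 2,nat_lit 4,nat_lit 8,nat_lit 16,nat_lit 32,nat_lit 64,nat_lit 752,nat_lit 512,nat_lit 314] [[nat_lit 1],[nat_lit 3],[nat_lit 5]]))::[]))) (Srch.rep (nat_lit 447) [] [] [] (Srch.fin [nat_lit 256,nat_lit 64] [nat_lit 0] (((nat_lit 0),(Leaf.mp (nat_lit 199) [nat_lit 1,nat_lit 2,nat_lit 4,nat_lit 8,nat_lit 16,nat_lit 32,nat_lit 64,nat_lit 752,nat_lit 512,nat_lit 290] [[nat_lit 1],[nat_lit 3],[nat_lit 5]]))::(((nat_lit 1),(Leaf.mp (nat_lit 214) [nat_lit 1,nat_lit 2,nat_lit 4,nat_lit 8,nat_lit 16,nat_lit 32,nat_lit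 64,nat_lit 752,nat_lit 513,nat_lit 290] [[nat_lit 1],[nat_lit 3],[nat_lit 5]]))::[]))) Srch.nil)) (Srch.rep (nat_lit 177) [] [] [] Srch.nil Srch.nil)) Srch.nil) (Srch.rep (nat_lit 22) [nat_lit 16] [] [] (Srch.rep (nat_lit 44) [] [] [] (Srch.rep (nat_lit 154) [] [] [] (Srch.rep (nat_lit 282) [] [] [] (Srch.fin [nat_lit 256,nat_lit 64] [nat_lit 0] (((nat_lit 24),(Leaf.au (nat_lit 3) (nat_lit 16) (nat_lit 0) [[nat_lit 16,nat_lit 11,nat_lit 69,nat_lit 1]] [nat_lit 68,nat_lit 16,nat_lit 8,nat_lit 2,nat_lit 1] [nat_lit 5,nat_lit 1216,nat_lit 5,nat_lit 1152,nat_lit 5] (nat_lit 1) [nat_lit 0,nat_lit 1,nat_lit 69,nat_lit 68,nat_lit 11,nat_lit 10,nat_lit 78,nat_lit 79,nat_lit 16,nat_lit 17,nat_lit 85,nat_lit 84,nat_lit 27,nat_lit 26,nat_lit 94,nat_lit 95] (nat_lit 0) [nat_lit 0,nat_lit 0,nat_lit 2,nat_lit 2,nat_lit 0]))::(((nat_lit 25),(Leaf.au (nat_lit 3) (nat_lit 16) (nat_lit 0) [[nat_lit 16,nat_lit 11,nat_lit 69,nat_lit 1]] [nat_lit 68,nat_lit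 16,nat_lit 8,nat_lit 2,nat_lit 1] [nat_lit 5,nat_lit 1216,nat_lit 5,nat_lit 1152,nat_lit 5] (nat_lit 1) [nat_lit 0,nat_lit 1,nat_lit 69,nat_lit 68,nat_lit 11,nat_lit 10,nat_lit 78,nat_lit 79,nat_lit 16,nat_lit 17,nat_lit 85,nat_lit 84,nat_lit 27,nat_lit 26,nat_lit 94,nat_lit 95] (nat_lit 0) [nat_lit 0,nat_lit 0,nat_lit 2,nat_lit 2,nat_lit 0]))::[]))) (Srch.rep (nat_lit 283) [] [] [] (Srch.fin [nat_lit 256,nat_lit 64] [nat_lit 0] (((nat_lit 24),(Leaf.au (nat_lit 3) (nat_lit 16) (nat_lit 0) [[nat_lit 16,nat_lit 11,nat_lit 69,nat_lit 1]] [nat_lit 68,nat_lit 16,nat_lit 8,nat_lit 2,nat_lit 1] [nat_lit 5,nat_lit 1216,nat_lit 5,nat_lit 1152,nat_lit 5] (nat_lit 1) [nat_lit 0,nat_lit 1,nat_lit 69,nat_lit 68,nat_lit 11,nat_lit 10,nat_lit 78,nat_lit 79,nat_lit 16,nat_lit 17,nat_lit 85,nat_lit 84,nat_lit 27,nat_lit 26,nat_lit 94,nat_lit 95] (nat_lit 0) [nat_lit 0,nat_lit 0,nat_lit 2,nat_lit 2,nat_lit 0]))::(((nat_lit 25),(Leaf.au (nat_lit 3)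 (nat_lit 16) (nat_lit 0) [[nat_lit 16,nat_lit 11,nat_lit 69,nat_lit 1]] [nat_lit 68,nat_lit 16,nat_lit 8,nat_lit 2,nat_lit 1] [nat_lit 5,nat_lit 1216,nat_lit 5,nat_lit 1152,nat_lit 5] (nat_lit 1) [nat_lit 0,nat_lit 1,nat_lit 69,nat_lit 68,nat_lit 11,nat_lit 10,nat_lit 78,nat_lit 79,nat_lit 16,nat_lit 17,nat_lit 85,nat_lit 84,nat_lit 27,nat_lit 26,nat_lit 94,nat_lit 95] (nat_lit 0) [nat_lit 0,nat_lit 0,nat_lit 2,nat_lit 2,nat_lit 0]))::[]))) Srch.nil)) (Srch.rep (nat_lit 155) [] [] [] Srch.nil Srch.nil)) Srch.nil) Srch.nil)) Srch.nil) (Srch.rep (nat_lit 88) [nat_lit 72] [] [] (Srch.rep (nat_lit 82) [] [] [] Srch.nil Srch.nil) Srch.nil)))) Srch.nil)) (Node.lf (Leaf.au (nat_lit 1) (nat_lit 0) (nat_lit 0) [] [] [nat_lit 3,nat_lit 1] (nat_lit 0) [] (nat_lit 42) [nat_lit 0,nat_lit 2,nat_lit 44,nat_lit 10,nat_lit 10,nat_lit 34,nat_lit 106,nat_lit 168,nat_lit 260]))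
noncomputable def t218 : ℕ := nat_lit 0x188018801a101a101a101a10188018801a601a6018e018e018f018f01a701a701a601a6018f018f018e018e01a701a70189018901a101a101a101a10189018901a701a7018f018f018e018e01a601a60189018901a001a001a001a0018901890188018801a001a001a001a00188018801a701a7018e018e018f018f01a601a601040104012d012d012c012c01050105012a012a0102010201020102012a012a012b012b0102010201020102012b012b01040104012c012c012d012d01050105012b012b0103010301030103012b012b01050105012c012c012d012d0104010401050105012d012d012c012c01040104012a012a0103010301030103012a012a018c018c01a501a501a401a4018d018d01a301a3018b018b018b018b01a301a301a301a3018a018a018a018a01a301a3018d018d01a501a501a401a4018c018c01a201a2018a018a018a018a01a201a2018d018d01a401a401a501a5018c018c018c018c01a401a401a501a5018d018d01a201a2018b018b018b018b01a201a20128012801010101010101010128012801060106012e012e012f012f0107010701060106012f012f012e012e010701070129012901010101010101010129012901070107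012f012f012e012e01060106012901290100010001000100012901290128012801000100010001000128012801070107012e012e012f012f01060106018c018c01a501a501a401a4018d018d01a301a3018b018b018b018b01a301a301a301a3018a018a018a018a01a301a3018d018d01a501a501a401a4018c018c01a201a2018a018a018a018a01a201a2018d018d01a401a401a501a5018c018c018c018c01a401a401a501a5018d018d01a201a2018b018b018b018b01a201a2012b012b0103010301030103012b012b01050105012c012c012d012d0104010401050105012d012d012c012c01040104012a012a0103010301030103012a012a01040104012d012d012c012c01050105012a012a0102010201020102012a012a012b012b0102010201020102012b012b01040104012c012c012d012d0105010501a001a0018901890189018901a001a0018f018f01a701a701a601a6018e018e018e018e01a701a701a601a6018f018f01a001a0018801880188018801a001a0018e018e01a601a601a701a7018f018f01a101a1018801880188018801a101a101a101a1018901890189018901a101a1018f018f01a601a601a701a7018e018e012e012e0106010601070107012f012f010101010128012801280128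0101010101010101012901290129012901010101012f012f0106010601070107012e012e01000100012901290129012901000100012f012f0107010701060106012e012e012e012e0107010701060106012f012f0100010001280128012801280100010000aa00aa00ab00ab0083008300820082008100810081008100a900a900a900a9008100810081008100a800a800a800a800ab00ab00aa00aa0083008300820082008000800080008000a800a800a800a800ab00ab00aa00aa008200820083008300aa00aa00ab00ab0082008200830083008000800080008000a900a900a900a9008000800080008000a800a800a800a800ab00ab00aa00aa008200820083008300aa00aa00ab00ab0082008200830083008000800080008000a900a900a900a900aa00aa00ab00ab0083008300820082008100810081008100a900a900a900a9008100810081008100a800a800a800a800ab00ab00aa00aa008300830082008200a800a800a800a80080008000800080008200820083008300ab00ab00aa00aa008200820083008300aa00aa00ab00ab00a900a900a900a90080008000800080008300830082008200aa00aa00ab00ab00a900a900a900a9008100810081008100a800a800a800a8008100810081008100830083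0082008200ab00ab00aa00aa008300830082008200aa00aa00ab00ab00a900a900a900a9008100810081008100a800a800a800a80081008100810081008300830082008200ab00ab00aa00aa00a800a800a800a80080008000800080008200820083008300ab00ab00aa00aa008200820083008300aa00aa00ab00ab00a900a900a900a900800080008000800040004000400040004200420043004300410041004100410043004300420042004000400040004000420042004300430041004100410041004300430042004200400040004000400042004200430043004100410041004100430043004200420040004000400040004200420043004300410041004100410043004300420042004300430042004200410041004100410042004200430043004000400040004000430043004200420041004100410041004200420043004300400040004000400043004300420042004100410041004100420042004300430040004000400040004300430042004200410041004100410042004200430043004000400040004000200020002000200020002000200020002100210021002100210021002100210021002100210021002100210021002100200020002000200020002000200020002000200020002000200020002000200021002100210021002100210021002100210021002100210021002100210021002000200020002000200020002000200010001000100010001000100010001000100010001000100010001000100010001000100010001000100010001000100010001000100010001000100010001000090009000900090009000900090009000800080008000800080008000800080004000400050005000500050004000400030003000200020001000100000000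
noncomputable def c218 : Node :=
  (Node.st (nat_lit 0) (nat_lit 10) (nat_lit 0) (Node.st (nat_lit 2) (nat_lit 1) (nat_lit 10) (Node.st (nat_lit 0) (nat_lit 17) (nat_lit 0) (Node.st (nat_lit 2) (nat_lit 2) (nat_lit 5) (Node.st (nat_lit 0) (nat_lit 78) (nat_lit 0) (Node.st (nat_lit 2) (nat_lit 2) (nat_lit 9) (Node.st (nat_lit 0) (nat_lit 85) (nat_lit 0) (Node.sp (nat_lit 1) (Node.lf (Leaf.pt (nat_lit 9) (nat_lit 1) [nat_lit 10])) (Node.sp (nat_lit 26) (Node.lf (Leaf.pt (nat_lit 9) (nat_lit 26) [nat_lit 10])) (Node.st (nat_lit 0) (nat_lit 26) (nat_lit 0) (Node.sp (nat_lit 28) (Node.lf (Leaf.pt (nat_lit 9) (nat_lit 28) [nat_lit 12])) (Node.st (nat_lit 0) (nat_lit 28) (nat_lit 0) (Node.sp (nat_lit 40) (Node.lf (Leaf.pt (nat_lit 9) (nat_lit 40) [nat_lit 76])) (Node.st (nat_lit 0) (nat_lit 40) (nat_lit 0) (Node.sp (nat_lit 68) (Node.lf (Leaf.pt (nat_lit 9) (nat_lit 68) [nat_lit 10])) (Node.st (nat_lit 0) (nat_lit 68) (nat_lit 0) (Node.sp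 (nat_lit 92) (Node.lf (Leaf.pt (nat_lit 9) (nat_lit 92) [nat_lit 10])) (Node.st (nat_lit 0) (nat_lit 92) (nat_lit 0) (Node.sp (nat_lit 148) (Node.lf (Leaf.pt (nat_lit 12) (nat_lit 148) [nat_lit 70,nat_lit 270])) (Node.st (nat_lit 0) (nat_lit 148) (nat_lit 0) (Node.sp (nat_lit 266) (Node.lf (Leaf.pt (nat_lit 19) (nat_lit 266) [nat_lit 24,nat_lit 136])) (Node.st (nat_lit 0) (nat_lit 266) (nat_lit 0) c218_0))))))))))))))))))))))
theorem ok218 : nodeOK DB PT 218 t218 (nat_lit 0xcc00000000cc00000000000000000000003c00003c000cf0f00cf00303f0f000000000f00000f00000f0f0f0f0f0fcfc0303fc03fc03) (nat_lit 0x1100110000000000000000000000000000000000110011000000000000000000000000000000000000000000000000000000000000000000000000000000000000000000001111000000000000000000001111000000000000002200111100001111000000002200111100000000002200000022111100001111000000000000000000000000000000000000111100000000000000000000111100000000000000000000111100001111000011110000111100001111000011112200111122000000003300000033111122000000005511112200000000ff)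 c218 = true := by
  decide +kernel
noncomputable def c219_0 : Node :=
  Node.ext [[nat_lit 32,nat_lit 16,nat_lit 8,nat_lit 4,nat_lit 2,nat_lit 1]] (nat_lit 10) [Ins.ts (nat_lit 4) [nat_lit 0] [nat_lit 10,nat_lit 0,nat_lit 0],Ins.fr [nat_lit 0],Ins.ts (nat_lit 1) [nat_lit 0,nat_lit 0] [],Ins.ts (nat_lit 1) [nat_lit 0,nat_lit 0,nat_lit 0,nat_lit 0] [],Ins.fr [nat_lit 1],Ins.ts (nat_lit 1) [nat_lit 0,nat_lit 0] [],Ins.ts (nat_lit 0) [nat_lit 0,nat_lit 1,nat_lit 1,nat_lit 0] [],Ins.ts (nat_lit 0) [nat_lit 1,nat_lit 1,nat_lit 1] [nat_lit 0,nat_lit 1,nat_lit 0],Ins.ts (nat_lit 2) [nat_lit 0,nat_lit 0,nat_lit 1,nat_lit 0] [],Ins.fr [nat_lit 2],Ins.ts (nat_lit 1) [nat_lit 0,nat_lit 0] [],Ins.ts (nat_lit 4) [nat_lit 0] [nat_lit 37,nat_lit 0,nat_lit 0],Ins.ts (nat_lit 3) [nat_lit 1,nat_lit 0,nat_lit 2] [],Ins.ts (nat_lit 2) [nat_lit 1,nat_lit 0] [],Ins.ts (nat_lit 0) [nat_lit 0,nat_lit 2,nat_lit 0,nat_lit 2] [],Ins.fr [nat_lit 0,nat_lit 0,nat_lit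 3],Ins.ts (nat_lit 4) [nat_lit 0] [nat_lit 5,nat_lit 0,nat_lit 0],Ins.ts (nat_lit 1) [nat_lit 0,nat_lit 0] [],Ins.ts (nat_lit 2) [nat_lit 4,nat_lit 0] [],Ins.ts (nat_lit 0) [nat_lit 2,nat_lit 0,nat_lit 2] [nat_lit 0],Ins.ts (nat_lit 0) [nat_lit 1,nat_lit 0] [nat_lit 0,nat_lit 1],Ins.fr [nat_lit 0,nat_lit 0,nat_lit 0,nat_lit 1],Ins.ts (nat_lit 0) [nat_lit 4,nat_lit 4] [nat_lit 0,nat_lit 0],Ins.ts (nat_lit 0) [nat_lit 4,nat_lit 0] [nat_lit 0,nat_lit 4],Ins.fr [nat_lit 5,nat_lit 1],Ins.ts (nat_lit 0) [nat_lit 0,nat_lit 1,nat_lit 0] [nat_lit 4,nat_lit 5],Ins.ts (nat_lit 0) [nat_lit 5,nat_lit 0,nat_lit 1] [nat_lit 0,nat_lit 4],Ins.df [nat_lit 2,nat_lit 2],Ins.df [nat_lit 2,nat_lit 2],Ins.df [nat_lit 0,nat_lit 1,nat_lit 8],Ins.df [nat_lit 1,nat_lit 7,nat_lit 8],Ins.df [nat_lit 3,nat_lit 6,nat_lit 7],Ins.df [nat_lit 0,nat_lit 10]] [nat_lit 96,nat_lit 112,nat_lit 36,nat_lit 4,nat_lit 128,nat_lit 256] [nat_lit 5,nat_lit 4,nat_lit 8,nat_lit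 3,nat_lit 2,nat_lit 1,nat_lit 0,nat_lit 7,nat_lit 6] (Srch.ex0 [nat_lit 68,nat_lit 36,nat_lit 16,nat_lit 8,nat_lit 2,nat_lit 1] (Srch.rep (nat_lit 16) [nat_lit 4,nat_lit 8,nat_lit 64] [nat_lit 64,nat_lit 16,nat_lit 8,nat_lit 4,nat_lit 2,nat_lit 1] [nat_lit 256,nat_lit 128,nat_lit 32] (Srch.rep (nat_lit 64) [nat_lit 64] [] [] (Srch.rep (nat_lit 74) [] [] [] Srch.nil Srch.nil) (Srch.rep (nat_lit 72) [nat_lit 72] [] [] (Srch.rep (nat_lit 66) [nat_lit 2] [] [] (Srch.rep (nat_lit 20) [nat_lit 16] [] [] (Srch.rep (nat_lit 46) [] [] [] (Srch.rep (nat_lit 176) [] [] [] (Srch.rep (nat_lit 398) [] [] [] (Srch.fin [nat_lit 256] [nat_lit 0] (((nat_lit 48),(Leaf.pt (nat_lit 12) (nat_lit 76) [nat_lit 40,nat_lit 516]))::(((nat_lit 49),(Leaf.pt (nat_lit 12) (nat_lit 76) [nat_lit 40,nat_lit 516]))::[]))) (Srch.rep (nat_lit 399) [] [] [] (Srch.fin [nat_lit 256] [nat_lit 0] (((nat_lit 48),(Leaf.pt (nat_lit 12) (nat_lit 76) [nat_lit 40,nat_lit 516]))::(((nat_lit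 49),(Leaf.pt (nat_lit 12) (nat_lit 76) [nat_lit 40,nat_lit 516]))::[]))) Srch.nil)) (Srch.rep (nat_lit 177) [] [] [] Srch.nil Srch.nil)) Srch.nil) (Srch.rep (nat_lit 22) [nat_lit 16] [] [] (Srch.rep (nat_lit 44) [] [] [] (Srch.rep (nat_lit 154) [] [] [] Srch.nil (Srch.rep (nat_lit 155) [] [] [] (Srch.rep (nat_lit 306) [] [] [] (Srch.fin [nat_lit 256] [nat_lit 0] (((nat_lit 40),(Leaf.pt (nat_lit 12) (nat_lit 76) [nat_lit 26,nat_lit 512]))::(((nat_lit 41),(Leaf.pt (nat_lit 12) (nat_lit 76) [nat_lit 26,nat_lit 512]))::[]))) (Srch.rep (nat_lit 307) [] [] [] (Srch.fin [nat_lit 256] [nat_lit 0] (((nat_lit 40),(Leaf.pt (nat_lit 12) (nat_lit 76) [nat_lit 26,nat_lit 512]))::(((nat_lit 41),(Leaf.pt (nat_lit 12) (nat_lit 76) [nat_lit 26,nat_lit 512]))::[]))) Srch.nil)) Srch.nil)) Srch.nil) Srch.nil)) Srch.nil) (Srch.rep (nat_lit 80) [nat_lit 64] [] [] (Srch.rep (nat_lit 90) [nat_lit 2] [] [] (Srch.rep (nat_lit 20) [nat_lit 16] [] [] (Srch.rep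 (nat_lit 46) [] [] [] (Srch.rep (nat_lit 176) [] [] [] Srch.nil (Srch.rep (nat_lit 177) [] [] [] (Srch.rep (nat_lit 406) [] [] [] (Srch.fin [nat_lit 256] [nat_lit 0] (((nat_lit 0),(Leaf.mp (nat_lit 190) [nat_lit 1,nat_lit 2,nat_lit 4,nat_lit 8,nat_lit 16,nat_lit 32,nat_lit 64,nat_lit 752,nat_lit 513,nat_lit 264] [[nat_lit 1],[nat_lit 3],[nat_lit 5]]))::(((nat_lit 1),(Leaf.mp (nat_lit 205) [nat_lit 1,nat_lit 2,nat_lit 4,nat_lit 8,nat_lit 16,nat_lit 32,nat_lit 64,nat_lit 752,nat_lit 512,nat_lit 264] [[nat_lit 1],[nat_lit 3],[nat_lit 5]]))::[]))) (Srch.rep (nat_lit 407) [] [] [] (Srch.fin [nat_lit 256] [nat_lit 0] (((nat_lit 0),(Leaf.mp (nat_lit 191) [nat_lit 1,nat_lit 2,nat_lit 4,nat_lit 8,nat_lit 16,nat_lit 32,nat_lit 64,nat_lit 752,nat_lit 512,nat_lit 272] [[nat_lit 1],[nat_lit 3],[nat_lit 5]]))::(((nat_lit 1),(Leaf.mp (nat_lit 206) [nat_lit 1,nat_lit 2,nat_lit 4,nat_lit 8,nat_lit 16,nat_lit 32,nat_lit 64,nat_lit 752,nat_lit 513,nat_lit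 272] [[nat_lit 1],[nat_lit 3],[nat_lit 5]]))::[]))) Srch.nil)) Srch.nil)) Srch.nil) (Srch.rep (nat_lit 22) [nat_lit 16] [] [] (Srch.rep (nat_lit 44) [] [] [] (Srch.rep (nat_lit 154) [] [] [] (Srch.rep (nat_lit 298) [] [] [] (Srch.fin [nat_lit 256] [nat_lit 0] (((nat_lit 24),(Leaf.au (nat_lit 3) (nat_lit 16) (nat_lit 0) [[nat_lit 16,nat_lit 11,nat_lit 69,nat_lit 1]] [nat_lit 68,nat_lit 16,nat_lit 8,nat_lit 2,nat_lit 1] [nat_lit 5,nat_lit 1216,nat_lit 5,nat_lit 1152,nat_lit 5] (nat_lit 1) [nat_lit 0,nat_lit 1,nat_lit 69,nat_lit 68,nat_lit 11,nat_lit 10,nat_lit 78,nat_lit 79,nat_lit 16,nat_lit 17,nat_lit 85,nat_lit 84,nat_lit 27,nat_lit 26,nat_lit 94,nat_lit 95] (nat_lit 0) [nat_lit 0,nat_lit 0,nat_lit 2,nat_lit 2,nat_lit 0]))::(((nat_lit 25),(Leaf.au (nat_lit 3) (nat_lit 16) (nat_lit 0) [[nat_lit 16,nat_lit 11,nat_lit 69,nat_lit 1]] [nat_lit 68,nat_lit 16,nat_lit 8,nat_lit 2,nat_lit 1] [nat_lit 5,nat_lit 1216,nat_lit 5,nat_lit 1152,nat_lit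 5] (nat_lit 1) [nat_lit 0,nat_lit 1,nat_lit 69,nat_lit 68,nat_lit 11,nat_lit 10,nat_lit 78,nat_lit 79,nat_lit 16,nat_lit 17,nat_lit 85,nat_lit 84,nat_lit 27,nat_lit 26,nat_lit 94,nat_lit 95] (nat_lit 0) [nat_lit 0,nat_lit 0,nat_lit 2,nat_lit 2,nat_lit 0]))::[]))) (Srch.rep (nat_lit 299) [] [] [] (Srch.fin [nat_lit 256] [nat_lit 0] (((nat_lit 24),(Leaf.au (nat_lit 3) (nat_lit 16) (nat_lit 0) [[nat_lit 16,nat_lit 11,nat_lit 69,nat_lit 1]] [nat_lit 68,nat_lit 16,nat_lit 8,nat_lit 2,nat_lit 1] [nat_lit 5,nat_lit 1216,nat_lit 5,nat_lit 1152,nat_lit 5] (nat_lit 1) [nat_lit 0,nat_lit 1,nat_lit 69,nat_lit 68,nat_lit 11,nat_lit 10,nat_lit 78,nat_lit 79,nat_lit 16,nat_lit 17,nat_lit 85,nat_lit 84,nat_lit 27,nat_lit 26,nat_lit 94,nat_lit 95] (nat_lit 0) [nat_lit 0,nat_lit 0,nat_lit 2,nat_lit 2,nat_lit 0]))::(((nat_lit 25),(Leaf.au (nat_lit 3) (nat_lit 16) (nat_lit 0) [[nat_lit 16,nat_lit 11,nat_lit 69,nat_lit 1]] [nat_lit 68,nat_lit 16,nat_lit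 8,nat_lit 2,nat_lit 1] [nat_lit 5,nat_lit 1216,nat_lit 5,nat_lit 1152,nat_lit 5] (nat_lit 1) [nat_lit 0,nat_lit 1,nat_lit 69,nat_lit 68,nat_lit 11,nat_lit 10,nat_lit 78,nat_lit 79,nat_lit 16,nat_lit 17,nat_lit 85,nat_lit 84,nat_lit 27,nat_lit 26,nat_lit 94,nat_lit 95] (nat_lit 0) [nat_lit 0,nat_lit 0,nat_lit 2,nat_lit 2,nat_lit 0]))::[]))) Srch.nil)) (Srch.rep (nat_lit 155) [] [] [] Srch.nil Srch.nil)) Srch.nil) Srch.nil)) Srch.nil) (Srch.rep (nat_lit 88) [nat_lit 72] [] [] (Srch.rep (nat_lit 82) [] [] [] Srch.nil Srch.nil) Srch.nil)))) Srch.nil)) (Node.lf (Leaf.au (nat_lit 1) (nat_lit 0) (nat_lit 0) [] [] [nat_lit 3,nat_lit 1] (nat_lit 0) [] (nat_lit 42) [nat_lit 0,nat_lit 2,nat_lit 44,nat_lit 10,nat_lit 10,nat_lit 34,nat_lit 106,nat_lit 168,nat_lit 300]))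
noncomputable def t219 : ℕ := nat_lit 0x12a012a01020102012801280101010101040104012d012d01070107012f012f01050105012d012d01060106012f012f012a012a01030103012801280100010001050105012c012c01060106012e012e012b012b010301030129012901000100012b012b01020102012901290101010101040104012c012c01070107012e012e0196019601bf01bf0195019501bd01bd01b901b90191019101bb01bb0192019201b901b90190019001bb01bb019301930197019701bf01bf0194019401bd01bd01b901b90191019101bb01bb019201920196019601bf01bf0195019501bd01bd0197019701bf01bf0194019401bd01bd01b901b90190019001bb01bb0193019301070107012f012f01040104012d012d0129012901000100012b012b010301030129012901010101012b012b0102010201060106012f012f01050105012d012d0128012801010101012a012a0102010201060106012e012e01050105012c012c01070107012e012e01040104012c012c0128012801000100012a012a010301030193019301ba01ba0191019101b901b901bd01bd0195019501be01be0197019701bd01bd0194019401be01be019601960192019201ba01ba0190019001b901b901bd01bd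0195019501be01be019701970193019301ba01ba0191019101b901b90192019201ba01ba0190019001b901b901bd01bd0194019401be01be0196019601be01be0197019701bd01bd019501950190019001b801b80192019201bb01bb0191019101b801b80193019301bb01bb01be01be0196019601bd01bd019401940190019001b801b80192019201bb01bb01be01be0197019701bd01bd0195019501be01be0196019601bd01bd019401940191019101b801b80193019301bb01bb010101010128012801030103012b012b012e012e01060106012d012d01040104012e012e01070107012d012d01050105010001000128012801020102012b012b012f012f01070107012c012c01050105010001000129012901020102012a012a010101010129012901030103012a012a012f012f01060106012c012c010401040192019201bb01bb0190019001b801b801bc01bc0194019401bf01bf0196019601bc01bc0195019501bf01bf019701970193019301bb01bb0191019101b801b801bc01bc0194019401bf01bf019601960192019201bb01bb0190019001b801b80193019301bb01bb0191019101b801b801bc01bc0195019501bf01bf0197019701050105012c012c01060106012e012e012b012b0103010301290129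01000100012b012b01020102012901290101010101040104012c012c01070107012e012e012a012a01020102012801280101010101040104012d012d01070107012f012f01050105012d012d01060106012f012f012a012a01030103012801280100010000aa00aa00ab00ab0083008300820082008100810081008100a900a900a900a9008100810081008100a800a800a800a800ab00ab00aa00aa0083008300820082008000800080008000a800a800a800a800ab00ab00aa00aa008200820083008300aa00aa00ab00ab0082008200830083008000800080008000a900a900a900a9008000800080008000a800a800a800a800ab00ab00aa00aa008200820083008300aa00aa00ab00ab0082008200830083008000800080008000a900a900a900a900aa00aa00ab00ab0083008300820082008100810081008100a900a900a900a9008100810081008100a800a800a800a800ab00ab00aa00aa008300830082008200a800a800a800a80080008000800080008200820083008300ab00ab00aa00aa008200820083008300aa00aa00ab00ab00a900a900a900a90080008000800080008300830082008200aa00aa00ab00ab00a900a900a900a9008100810081008100a800a800a800a8008100810081008100830083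0082008200ab00ab00aa00aa008300830082008200aa00aa00ab00ab00a900a900a900a9008100810081008100a800a800a800a80081008100810081008300830082008200ab00ab00aa00aa00a800a800a800a80080008000800080008200820083008300ab00ab00aa00aa008200820083008300aa00aa00ab00ab00a900a900a900a900800080008000800040004000400040004200420043004300410041004100410043004300420042004000400040004000420042004300430041004100410041004300430042004200400040004000400042004200430043004100410041004100430043004200420040004000400040004200420043004300410041004100410043004300420042004300430042004200410041004100410042004200430043004000400040004000430043004200420041004100410041004200420043004300400040004000400043004300420042004100410041004100420042004300430040004000400040004300430042004200410041004100410042004200430043004000400040004000200020002000200020002000200020002100210021002100210021002100210021002100210021002100210021002100200020002000200020002000200020002000200020002000200020002000200021002100210021002100210021002100210021002100210021002100210021002000200020002000200020002000200010001000100010001000100010001000100010001000100010001000100010001000100010001000100010001000100010001000100010001000100010001000090009000900090009000900090009000800080008000800080008000800080004000400050005000500050004000400030003000200020001000100000000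
noncomputable def c219 : Node :=
  (Node.st (nat_lit 0) (nat_lit 10) (nat_lit 0) (Node.st (nat_lit 2) (nat_lit 1) (nat_lit 10) (Node.st (nat_lit 0) (nat_lit 17) (nat_lit 0) (Node.st (nat_lit 2) (nat_lit 2) (nat_lit 5) (Node.st (nat_lit 0) (nat_lit 78) (nat_lit 0) (Node.st (nat_lit 2) (nat_lit 2) (nat_lit 9) (Node.st (nat_lit 0) (nat_lit 85) (nat_lit 0) (Node.sp (nat_lit 1) (Node.lf (Leaf.pt (nat_lit 9) (nat_lit 1) [nat_lit 10])) (Node.sp (nat_lit 26) (Node.lf (Leaf.pt (nat_lit 9) (nat_lit 26) [nat_lit 10])) (Node.st (nat_lit 0) (nat_lit 26) (nat_lit 0) (Node.sp (nat_lit 28) (Node.lf (Leaf.pt (nat_lit 9) (nat_lit 28) [nat_lit 12])) (Node.st (nat_lit 0) (nat_lit 28) (nat_lit 0) (Node.sp (nat_lit 40) (Node.lf (Leaf.pt (nat_lit 9) (nat_lit 40) [nat_lit 76])) (Node.st (nat_lit 0) (nat_lit 40) (nat_lit 0) (Node.sp (nat_lit 68) (Node.lf (Leaf.pt (nat_lit 9) (nat_lit 68) [nat_lit 10])) (Node.st (nat_lit 0) (nat_lit 68) (nat_lit 0) (Node.sp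 (nat_lit 92) (Node.lf (Leaf.pt (nat_lit 9) (nat_lit 92) [nat_lit 10])) (Node.st (nat_lit 0) (nat_lit 92) (nat_lit 0) (Node.sp (nat_lit 148) (Node.lf (Leaf.pt (nat_lit 12) (nat_lit 148) [nat_lit 40,nat_lit 260])) (Node.st (nat_lit 0) (nat_lit 148) (nat_lit 0) (Node.sp (nat_lit 320) (Node.lf (Leaf.pt (nat_lit 23) (nat_lit 320) [nat_lit 40,nat_lit 24,nat_lit 148])) (Node.st (nat_lit 0) (nat_lit 320) (nat_lit 0) c219_0))))))))))))))))))))))
theorem ok219 : nodeOK DB PT 219 t219 (nat_lit 0xc300000000c300000000000000000000000033000000003300000000000000000cf0f00cf00303f0f000000000f00000f00000f0f0f0f0f0fcfc0303fc03fc03) (nat_lit 0x110000110000000000000000000000000000000011000011000000000000000000000000000000000000000000000000000000000000000000000000000000000000000000000000001100110000000000000000000000000000000000110011000000000000000000000000000000000000000000000000000000000000000000002200111100001111000000002200111100000000002200000022111100001111000000000000000000000000000000000000111100000000000000000000111100000000000000000000111100001111000011110000111100001111000011112200111122000000003300000033111122000000005511112200000000ff)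 c219 = true := by
  decide +kernel
noncomputable def c220_0 : Node :=
  Node.ext [[nat_lit 32,nat_lit 16,nat_lit 8,nat_lit 4,nat_lit 2,nat_lit 1]] (nat_lit 10) [Ins.ts (nat_lit 4) [nat_lit 0] [nat_lit 10,nat_lit 0,nat_lit 0],Ins.fr [nat_lit 0],Ins.ts (nat_lit 1) [nat_lit 0,nat_lit 0] [],Ins.ts (nat_lit 1) [nat_lit 0,nat_lit 0,nat_lit 0,nat_lit 0] [],Ins.fr [nat_lit 1],Ins.ts (nat_lit 1) [nat_lit 0,nat_lit 0] [],Ins.ts (nat_lit 0) [nat_lit 0,nat_lit 1,nat_lit 1,nat_lit 0] [],Ins.ts (nat_lit 0) [nat_lit 1,nat_lit 1,nat_lit 1] [nat_lit 0,nat_lit 1,nat_lit 0],Ins.ts (nat_lit 2) [nat_lit 0,nat_lit 0,nat_lit 1,nat_lit 0] [],Ins.fr [nat_lit 2],Ins.ts (nat_lit 1) [nat_lit 0,nat_lit 0] [],Ins.ts (nat_lit 4) [nat_lit 0] [nat_lit 37,nat_lit 0,nat_lit 0],Ins.ts (nat_lit 3) [nat_lit 1,nat_lit 0,nat_lit 2] [],Ins.ts (nat_lit 2) [nat_lit 1,nat_lit 0] [],Ins.ts (nat_lit 0) [nat_lit 0,nat_lit 2,nat_lit 0,nat_lit 2] [],Ins.fr [nat_lit 0,nat_lit 0,nat_lit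 3],Ins.ts (nat_lit 4) [nat_lit 0] [nat_lit 5,nat_lit 0,nat_lit 0],Ins.ts (nat_lit 1) [nat_lit 0,nat_lit 0] [],Ins.ts (nat_lit 2) [nat_lit 4,nat_lit 0] [],Ins.ts (nat_lit 0) [nat_lit 2,nat_lit 0,nat_lit 2] [nat_lit 0],Ins.ts (nat_lit 0) [nat_lit 1,nat_lit 0] [nat_lit 0,nat_lit 1],Ins.fr [nat_lit 0,nat_lit 0,nat_lit 0,nat_lit 1],Ins.ts (nat_lit 0) [nat_lit 4,nat_lit 4] [nat_lit 0,nat_lit 0],Ins.ts (nat_lit 0) [nat_lit 4,nat_lit 0] [nat_lit 0,nat_lit 4],Ins.fr [nat_lit 5,nat_lit 1],Ins.ts (nat_lit 0) [nat_lit 0,nat_lit 1,nat_lit 0] [nat_lit 6],Ins.ts (nat_lit 0) [nat_lit 5,nat_lit 0,nat_lit 1] [nat_lit 0,nat_lit 4],Ins.df [nat_lit 2,nat_lit 2],Ins.df [nat_lit 2,nat_lit 2],Ins.df [nat_lit 0,nat_lit 1,nat_lit 8],Ins.df [nat_lit 1,nat_lit 7,nat_lit 8],Ins.df [nat_lit 3,nat_lit 6,nat_lit 7],Ins.df [nat_lit 0,nat_lit 10]] [nat_lit 96,nat_lit 112,nat_lit 36,nat_lit 4,nat_lit 128,nat_lit 256] [nat_lit 5,nat_lit 4,nat_lit 8,nat_lit 3,nat_lit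 2,nat_lit 1,nat_lit 0,nat_lit 7,nat_lit 6] (Srch.ex0 [nat_lit 68,nat_lit 36,nat_lit 16,nat_lit 8,nat_lit 2,nat_lit 1] (Srch.rep (nat_lit 16) [nat_lit 4,nat_lit 8,nat_lit 64] [nat_lit 64,nat_lit 16,nat_lit 8,nat_lit 4,nat_lit 2,nat_lit 1] [nat_lit 256,nat_lit 128,nat_lit 32] (Srch.rep (nat_lit 64) [nat_lit 64] [] [] (Srch.rep (nat_lit 74) [] [] [] Srch.nil Srch.nil) (Srch.rep (nat_lit 72) [nat_lit 72] [] [] (Srch.rep (nat_lit 66) [nat_lit 2] [] [] (Srch.rep (nat_lit 20) [nat_lit 16] [] [] (Srch.rep (nat_lit 46) [] [] [] (Srch.rep (nat_lit 176) [] [] [] (Srch.rep (nat_lit 398) [] [] [] (Srch.fin [nat_lit 256] [nat_lit 0] (((nat_lit 48),(Leaf.pt (nat_lit 12) (nat_lit 76) [nat_lit 40,nat_lit 516]))::(((nat_lit 49),(Leaf.pt (nat_lit 12) (nat_lit 76) [nat_lit 40,nat_lit 516]))::[]))) (Srch.rep (nat_lit 399) [] [] [] (Srch.fin [nat_lit 256] [nat_lit 0] (((nat_lit 48),(Leaf.pt (nat_lit 12) (nat_lit 76) [nat_lit 40,nat_lit 516]))::(((nat_lit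 49),(Leaf.pt (nat_lit 12) (nat_lit 76) [nat_lit 40,nat_lit 516]))::[]))) Srch.nil)) (Srch.rep (nat_lit 177) [] [] [] Srch.nil Srch.nil)) Srch.nil) (Srch.rep (nat_lit 22) [nat_lit 16] [] [] (Srch.rep (nat_lit 44) [] [] [] (Srch.rep (nat_lit 154) [] [] [] (Srch.rep (nat_lit 298) [] [] [] (Srch.fin [nat_lit 256] [nat_lit 0] (((nat_lit 40),(Leaf.pt (nat_lit 12) (nat_lit 76) [nat_lit 26,nat_lit 512]))::(((nat_lit 41),(Leaf.pt (nat_lit 12) (nat_lit 76) [nat_lit 26,nat_lit 512]))::[]))) (Srch.rep (nat_lit 299) [] [] [] (Srch.fin [nat_lit 256] [nat_lit 0] (((nat_lit 40),(Leaf.pt (nat_lit 12) (nat_lit 76) [nat_lit 26,nat_lit 512]))::(((nat_lit 41),(Leaf.pt (nat_lit 12) (nat_lit 76) [nat_lit 26,nat_lit 512]))::[]))) Srch.nil)) (Srch.rep (nat_lit 155) [] [] [] Srch.nil Srch.nil)) Srch.nil) Srch.nil)) Srch.nil) (Srch.rep (nat_lit 80) [nat_lit 64] [] [] (Srch.rep (nat_lit 90) [nat_lit 2] [] [] (Srch.rep (nat_lit 20) [nat_lit 16] [] [] (Srch.rep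 (nat_lit 46) [] [] [] (Srch.rep (nat_lit 176) [] [] [] (Srch.rep (nat_lit 398) [] [] [] (Srch.fin [nat_lit 256] [nat_lit 0] (((nat_lit 0),(Leaf.mp (nat_lit 195) [nat_lit 1,nat_lit 2,nat_lit 4,nat_lit 8,nat_lit 16,nat_lit 32,nat_lit 64,nat_lit 752,nat_lit 513,nat_lit 264] [[nat_lit 1],[nat_lit 3],[nat_lit 5]]))::(((nat_lit 1),(Leaf.mp (nat_lit 210) [nat_lit 1,nat_lit 2,nat_lit 4,nat_lit 8,nat_lit 16,nat_lit 32,nat_lit 64,nat_lit 752,nat_lit 512,nat_lit 264] [[nat_lit 1],[nat_lit 3],[nat_lit 5]]))::[]))) (Srch.rep (nat_lit 399) [] [] [] (Srch.fin [nat_lit 256] [nat_lit 0] (((nat_lit 0),(Leaf.mp (nat_lit 196) [nat_lit 1,nat_lit 2,nat_lit 4,nat_lit 8,nat_lit 16,nat_lit 32,nat_lit 64,nat_lit 752,nat_lit 512,nat_lit 272] [[nat_lit 1],[nat_lit 3],[nat_lit 5]]))::(((nat_lit 1),(Leaf.mp (nat_lit 211) [nat_lit 1,nat_lit 2,nat_lit 4,nat_lit 8,nat_lit 16,nat_lit 32,nat_lit 64,nat_lit 752,nat_lit 513,nat_lit 272] [[nat_lit 1],[nat_lit 3],[nat_lit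 5]]))::[]))) Srch.nil)) (Srch.rep (nat_lit 177) [] [] [] Srch.nil Srch.nil)) Srch.nil) (Srch.rep (nat_lit 22) [nat_lit 16] [] [] (Srch.rep (nat_lit 44) [] [] [] (Srch.rep (nat_lit 154) [] [] [] (Srch.rep (nat_lit 298) [] [] [] (Srch.fin [nat_lit 256] [nat_lit 0] (((nat_lit 24),(Leaf.au (nat_lit 3) (nat_lit 16) (nat_lit 0) [[nat_lit 16,nat_lit 11,nat_lit 69,nat_lit 1]] [nat_lit 68,nat_lit 16,nat_lit 8,nat_lit 2,nat_lit 1] [nat_lit 5,nat_lit 1216,nat_lit 5,nat_lit 1152,nat_lit 5] (nat_lit 1) [nat_lit 0,nat_lit 1,nat_lit 69,nat_lit 68,nat_lit 11,nat_lit 10,nat_lit 78,nat_lit 79,nat_lit 16,nat_lit 17,nat_lit 85,nat_lit 84,nat_lit 27,nat_lit 26,nat_lit 94,nat_lit 95] (nat_lit 0) [nat_lit 0,nat_lit 0,nat_lit 2,nat_lit 2,nat_lit 0]))::(((nat_lit 25),(Leaf.au (nat_lit 3) (nat_lit 16) (nat_lit 0) [[nat_lit 16,nat_lit 11,nat_lit 69,nat_lit 1]] [nat_lit 68,nat_lit 16,nat_lit 8,nat_lit 2,nat_lit 1] [nat_lit 5,nat_lit 1216,nat_lit 5,nat_lit 1152,nat_lit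 5] (nat_lit 1) [nat_lit 0,nat_lit 1,nat_lit 69,nat_lit 68,nat_lit 11,nat_lit 10,nat_lit 78,nat_lit 79,nat_lit 16,nat_lit 17,nat_lit 85,nat_lit 84,nat_lit 27,nat_lit 26,nat_lit 94,nat_lit 95] (nat_lit 0) [nat_lit 0,nat_lit 0,nat_lit 2,nat_lit 2,nat_lit 0]))::[]))) (Srch.rep (nat_lit 299) [] [] [] (Srch.fin [nat_lit 256] [nat_lit 0] (((nat_lit 24),(Leaf.au (nat_lit 3) (nat_lit 16) (nat_lit 0) [[nat_lit 16,nat_lit 11,nat_lit 69,nat_lit 1]] [nat_lit 68,nat_lit 16,nat_lit 8,nat_lit 2,nat_lit 1] [nat_lit 5,nat_lit 1216,nat_lit 5,nat_lit 1152,nat_lit 5] (nat_lit 1) [nat_lit 0,nat_lit 1,nat_lit 69,nat_lit 68,nat_lit 11,nat_lit 10,nat_lit 78,nat_lit 79,nat_lit 16,nat_lit 17,nat_lit 85,nat_lit 84,nat_lit 27,nat_lit 26,nat_lit 94,nat_lit 95] (nat_lit 0) [nat_lit 0,nat_lit 0,nat_lit 2,nat_lit 2,nat_lit 0]))::(((nat_lit 25),(Leaf.au (nat_lit 3) (nat_lit 16) (nat_lit 0) [[nat_lit 16,nat_lit 11,nat_lit 69,nat_lit 1]] [nat_lit 68,nat_lit 16,nat_lit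 8,nat_lit 2,nat_lit 1] [nat_lit 5,nat_lit 1216,nat_lit 5,nat_lit 1152,nat_lit 5] (nat_lit 1) [nat_lit 0,nat_lit 1,nat_lit 69,nat_lit 68,nat_lit 11,nat_lit 10,nat_lit 78,nat_lit 79,nat_lit 16,nat_lit 17,nat_lit 85,nat_lit 84,nat_lit 27,nat_lit 26,nat_lit 94,nat_lit 95] (nat_lit 0) [nat_lit 0,nat_lit 0,nat_lit 2,nat_lit 2,nat_lit 0]))::[]))) Srch.nil)) (Srch.rep (nat_lit 155) [] [] [] Srch.nil Srch.nil)) Srch.nil) Srch.nil)) Srch.nil) (Srch.rep (nat_lit 88) [nat_lit 72] [] [] (Srch.rep (nat_lit 82) [] [] [] Srch.nil Srch.nil) Srch.nil)))) Srch.nil)) (Node.lf (Leaf.au (nat_lit 1) (nat_lit 0) (nat_lit 0) [] [] [nat_lit 3,nat_lit 1] (nat_lit 0) [] (nat_lit 42) [nat_lit 0,nat_lit 2,nat_lit 44,nat_lit 10,nat_lit 10,nat_lit 34,nat_lit 106,nat_lit 168,nat_lit 300]))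
noncomputable def t220 : ℕ := nat_lit 0x1320132011b011b0130013001180118011c011c01340134011f011f01360136011c011c01350135011f011f0137013701330133011b011b0131013101180118011c011c01340134011f011f0136013601320132011b011b013001300118011801330133011b011b0131013101180118011c011c01350135011f011f01370137018e018e01a601a6018d018d01a401a401a101a10188018801a301a3018b018b01a001a00188018801a201a2018b018b018e018e01a701a7018d018d01a501a501a001a00189018901a201a2018a018a018f018f01a701a7018c018c01a501a5018f018f01a601a6018c018c01a401a401a101a10189018901a301a3018a018a011f011f01360136011c011c01340134013101310119011901330133011a011a013001300119011901320132011a011a011f011f01370137011c011c01350135013101310119011901330133011a011a011f011f01360136011c011c01340134011f011f01370137011c011c01350135013001300119011901320132011a011a018a018a01a201a20188018801a101a101a401a4018d018d01a701a7018f018f01a501a5018d018d01a601a6018f018f018a018a01a301a30188018801a001a001a501a5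018c018c01a601a6018e018e018b018b01a301a30189018901a001a0018b018b01a201a20189018901a101a101a401a4018c018c01a701a7018e018e01bf01bf0196019601bc01bc019401940191019101b901b90193019301ba01ba0190019001b901b90192019201ba01ba01bf01bf0197019701bc01bc019501950191019101b901b90193019301ba01ba01bf01bf0196019601bc01bc0194019401bf01bf0197019701bc01bc019501950190019001b901b90192019201ba01ba010001000129012901020102012a012a012f012f01070107012c012c01050105012f012f01060106012c012c01040104010101010129012901030103012a012a012e012e01060106012d012d01040104010101010128012801030103012b012b010001000128012801020102012b012b012e012e01070107012d012d010501050192019201bb01bb0190019001b801b801bc01bc0194019401bf01bf0196019601bc01bc0195019501bf01bf019701970193019301bb01bb0191019101b801b801bc01bc0194019401bf01bf019601960192019201bb01bb0190019001b801b80193019301bb01bb0191019101b801b801bc01bc0195019501bf01bf0197019701050105012c012c01060106012e012e012b012b0103010301290129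01000100012b012b01020102012901290101010101040104012c012c01070107012e012e012a012a01020102012801280101010101040104012d012d01070107012f012f01050105012d012d01060106012f012f012a012a01030103012801280100010000aa00aa00ab00ab0083008300820082008100810081008100a900a900a900a9008100810081008100a800a800a800a800ab00ab00aa00aa0083008300820082008000800080008000a800a800a800a800ab00ab00aa00aa008200820083008300aa00aa00ab00ab0082008200830083008000800080008000a900a900a900a9008000800080008000a800a800a800a800ab00ab00aa00aa008200820083008300aa00aa00ab00ab0082008200830083008000800080008000a900a900a900a900aa00aa00ab00ab0083008300820082008100810081008100a900a900a900a9008100810081008100a800a800a800a800ab00ab00aa00aa008300830082008200a800a800a800a80080008000800080008200820083008300ab00ab00aa00aa008200820083008300aa00aa00ab00ab00a900a900a900a90080008000800080008300830082008200aa00aa00ab00ab00a900a900a900a9008100810081008100a800a800a800a8008100810081008100830083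0082008200ab00ab00aa00aa008300830082008200aa00aa00ab00ab00a900a900a900a9008100810081008100a800a800a800a80081008100810081008300830082008200ab00ab00aa00aa00a800a800a800a80080008000800080008200820083008300ab00ab00aa00aa008200820083008300aa00aa00ab00ab00a900a900a900a900800080008000800040004000400040004200420043004300410041004100410043004300420042004000400040004000420042004300430041004100410041004300430042004200400040004000400042004200430043004100410041004100430043004200420040004000400040004200420043004300410041004100410043004300420042004300430042004200410041004100410042004200430043004000400040004000430043004200420041004100410041004200420043004300400040004000400043004300420042004100410041004100420042004300430040004000400040004300430042004200410041004100410042004200430043004000400040004000200020002000200020002000200020002100210021002100210021002100210021002100210021002100210021002100200020002000200020002000200020002000200020002000200020002000200021002100210021002100210021002100210021002100210021002100210021002000200020002000200020002000200010001000100010001000100010001000100010001000100010001000100010001000100010001000100010001000100010001000100010001000100010001000090009000900090009000900090009000800080008000800080008000800080004000400050005000500050004000400030003000200020001000100000000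
noncomputable def c220 : Node :=
  (Node.st (nat_lit 0) (nat_lit 10) (nat_lit 0) (Node.st (nat_lit 2) (nat_lit 1) (nat_lit 10) (Node.st (nat_lit 0) (nat_lit 17) (nat_lit 0) (Node.st (nat_lit 2) (nat_lit 2) (nat_lit 5) (Node.st (nat_lit 0) (nat_lit 78) (nat_lit 0) (Node.st (nat_lit 2) (nat_lit 2) (nat_lit 9) (Node.st (nat_lit 0) (nat_lit 85) (nat_lit 0) (Node.sp (nat_lit 1) (Node.lf (Leaf.pt (nat_lit 9) (nat_lit 1) [nat_lit 10])) (Node.sp (nat_lit 26) (Node.lf (Leaf.pt (nat_lit 9) (nat_lit 26) [nat_lit 10])) (Node.st (nat_lit 0) (nat_lit 26) (nat_lit 0) (Node.sp (nat_lit 28) (Node.lf (Leaf.pt (nat_lit 9) (nat_lit 28) [nat_lit 12])) (Node.st (nat_lit 0) (nat_lit 28) (nat_lit 0) (Node.sp (nat_lit 40) (Node.lf (Leaf.pt (nat_lit 9) (nat_lit 40) [nat_lit 76])) (Node.st (nat_lit 0) (nat_lit 40) (nat_lit 0) (Node.sp (nat_lit 68) (Node.lf (Leaf.pt (nat_lit 9) (nat_lit 68) [nat_lit 10])) (Node.st (nat_lit 0) (nat_lit 68) (nat_lit 0) (Node.sp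 (nat_lit 92) (Node.lf (Leaf.pt (nat_lit 9) (nat_lit 92) [nat_lit 10])) (Node.st (nat_lit 0) (nat_lit 92) (nat_lit 0) (Node.sp (nat_lit 148) (Node.lf (Leaf.pt (nat_lit 13) (nat_lit 148) [nat_lit 70])) (Node.st (nat_lit 0) (nat_lit 148) (nat_lit 0) c220_0))))))))))))))))))))
theorem ok220 : nodeOK DB PT 220 t220 (nat_lit 0xcf0f00cf00303f0f000000000f00000f00000f0f0f0f0f0fcfc0303fc03fc03) (nat_lit 0x2200111100001111000000002200111100000000002200000022111100001111000000000000000000000000000000000000111100000000000000000000111100000000000000000000111100001111000011110000111100001111000011112200111122000000003300000033111122000000005511112200000000ff) c220 = true := by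
  decide +kernel
noncomputable def c221_0 : Srch :=
  Srch.rep (nat_lit 192) [nat_lit 192] [] [] (Srch.rep (nat_lit 254) [nat_lit 38] [] [] (Srch.rep (nat_lit 8) [nat_lit 12] [] [] (Srch.rep (nat_lit 7) [] [] [] (Srch.rep (nat_lit 132) [] [] [] (Srch.rep (nat_lit 263) [] [] [] (Srch.fin [nat_lit 256] [] []) (Srch.rep (nat_lit 262) [] [] [] (Srch.fin [nat_lit 256] [] []) Srch.nil)) (Srch.rep (nat_lit 133) [] [] [] (Srch.rep (nat_lit 287) [] [] [] (Srch.fin [nat_lit 256,nat_lit 64] [nat_lit 0] (((nat_lit 143),(Leaf.pt (nat_lit 12) (nat_lit 76) [nat_lit 40,nat_lit 774]))::(((nat_lit 142),(Leaf.pt (nat_lit 12) (nat_lit 76) [nat_lit 40,nat_lit 774]))::[]))) (Srch.rep (nat_lit 286) [] [] [] (Srch.fin [nat_lit 256,nat_lit 64] [nat_lit 0] (((nat_lit 143),(Leaf.pt (nat_lit 12) (nat_lit 76) [nat_lit 40,nat_lit 774]))::(((nat_lit 142),(Leaf.pt (nat_lit 12) (nat_lit 76) [nat_lit 40,nat_lit 774]))::[]))) Srch.nil)) Srch.nil)) Srch.nil) (Srch.rep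 (nat_lit 34) [nat_lit 12] [] [] (Srch.rep (nat_lit 44) [] [] [] (Srch.rep (nat_lit 132) [] [] [] (Srch.rep (nat_lit 422) [] [] [] (Srch.fin [nat_lit 256,nat_lit 64] [nat_lit 0] (((nat_lit 31),(Leaf.pt (nat_lit 12) (nat_lit 76) [nat_lit 26,nat_lit 768]))::(((nat_lit 30),(Leaf.pt (nat_lit 12) (nat_lit 76) [nat_lit 26,nat_lit 768]))::[]))) (Srch.rep (nat_lit 423) [] [] [] (Srch.fin [nat_lit 256,nat_lit 64] [nat_lit 0] (((nat_lit 31),(Leaf.pt (nat_lit 12) (nat_lit 76) [nat_lit 26,nat_lit 768]))::(((nat_lit 30),(Leaf.pt (nat_lit 12) (nat_lit 76) [nat_lit 26,nat_lit 768]))::[]))) Srch.nil)) (Srch.rep (nat_lit 133) [] [] [] (Srch.rep (nat_lit 447) [] [] [] (Srch.fin [nat_lit 256,nat_lit 64] [nat_lit 0] (((nat_lit 7),(Leaf.pt (nat_lit 12) (nat_lit 76) [nat_lit 26,nat_lit 768]))::(((nat_lit 6),(Leaf.pt (nat_lit 12) (nat_lit 76) [nat_lit 26,nat_lit 768]))::[]))) (Srch.rep (nat_lit 446) [] [] [] (Srch.fin [nat_lit 256,nat_lit 64] [nat_lit 0]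 (((nat_lit 7),(Leaf.pt (nat_lit 12) (nat_lit 76) [nat_lit 26,nat_lit 768]))::(((nat_lit 6),(Leaf.pt (nat_lit 12) (nat_lit 76) [nat_lit 26,nat_lit 768]))::[]))) Srch.nil)) Srch.nil)) Srch.nil) Srch.nil)) Srch.nil) (Srch.rep (nat_lit 204) [nat_lit 192] [] [] (Srch.rep (nat_lit 242) [] [] [] Srch.nil Srch.nil) (Srch.rep (nat_lit 212) [nat_lit 212] [] [] (Srch.rep (nat_lit 234) [] [] [] Srch.nil Srch.nil) (Srch.rep (nat_lit 216) [nat_lit 212] [] [] (Srch.rep (nat_lit 230) [nat_lit 38] [] [] (Srch.rep (nat_lit 8) [nat_lit 12] [] [] (Srch.rep (nat_lit 7) [] [] [] (Srch.rep (nat_lit 132) [] [] [] (Srch.rep (nat_lit 302) [] [] [] (Srch.fin [nat_lit 256] [nat_lit 0] (((nat_lit 150),(Leaf.mp (nat_lit 190) [nat_lit 1,nat_lit 2,nat_lit 4,nat_lit 8,nat_lit 16,nat_lit 32,nat_lit 64,nat_lit 956,nat_lit 869,nat_lit 520] [[nat_lit 1],[nat_lit 3],[nat_lit 5]]))::(((nat_lit 151),(Leaf.mp (nat_lit 206) [nat_lit 1,nat_lit 2,nat_lit 4,nat_lit 8,nat_lit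 16,nat_lit 32,nat_lit 64,nat_lit 956,nat_lit 868,nat_lit 520] [[nat_lit 1],[nat_lit 3],[nat_lit 5]]))::[]))) (Srch.rep (nat_lit 303) [] [] [] (Srch.fin [nat_lit 256] [nat_lit 0] (((nat_lit 150),(Leaf.mp (nat_lit 206) [nat_lit 1,nat_lit 2,nat_lit 4,nat_lit 8,nat_lit 16,nat_lit 32,nat_lit 64,nat_lit 956,nat_lit 869,nat_lit 528] [[nat_lit 1],[nat_lit 3],[nat_lit 5]]))::(((nat_lit 151),(Leaf.mp (nat_lit 190) [nat_lit 1,nat_lit 2,nat_lit 4,nat_lit 8,nat_lit 16,nat_lit 32,nat_lit 64,nat_lit 956,nat_lit 868,nat_lit 528] [[nat_lit 1],[nat_lit 3],[nat_lit 5]]))::[]))) Srch.nil)) (Srch.rep (nat_lit 133) [] [] [] (Srch.rep (nat_lit 310) [] [] [] (Srch.fin [nat_lit 256] [nat_lit 0] (((nat_lit 143),(Leaf.mp (nat_lit 196) [nat_lit 1,nat_lit 2,nat_lit 4,nat_lit 8,nat_lit 16,nat_lit 32,nat_lit 64,nat_lit 956,nat_lit 868,nat_lit 528] [[nat_lit 1],[nat_lit 3],[nat_lit 5]]))::(((nat_lit 142),(Leaf.mp (nat_lit 210) [nat_lit 1,nat_lit 2,nat_lit 4,nat_lit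 8,nat_lit 16,nat_lit 32,nat_lit 64,nat_lit 956,nat_lit 869,nat_lit 528] [[nat_lit 1],[nat_lit 3],[nat_lit 5]]))::[]))) (Srch.rep (nat_lit 311) [] [] [] (Srch.fin [nat_lit 256] [nat_lit 0] (((nat_lit 143),(Leaf.mp (nat_lit 210) [nat_lit 1,nat_lit 2,nat_lit 4,nat_lit 8,nat_lit 16,nat_lit 32,nat_lit 64,nat_lit 956,nat_lit 868,nat_lit 520] [[nat_lit 1],[nat_lit 3],[nat_lit 5]]))::(((nat_lit 142),(Leaf.mp (nat_lit 196) [nat_lit 1,nat_lit 2,nat_lit 4,nat_lit 8,nat_lit 16,nat_lit 32,nat_lit 64,nat_lit 956,nat_lit 869,nat_lit 520] [[nat_lit 1],[nat_lit 3],[nat_lit 5]]))::[]))) Srch.nil)) Srch.nil)) Srch.nil) (Srch.rep (nat_lit 34) [nat_lit 12] [] [] (Srch.rep (nat_lit 44) [] [] [] (Srch.rep (nat_lit 132) [] [] [] (Srch.rep (nat_lit 399) [] [] [] (Srch.fin [nat_lit 256] [] []) (Srch.rep (nat_lit 398) [] [] [] (Srch.fin [nat_lit 256] [] []) Srch.nil)) (Srch.rep (nat_lit 133) [] [] [] (Srch.rep (nat_lit 406) [] [] [] (Srch.fin [nat_lit 256]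 [nat_lit 0] (((nat_lit 7),(Leaf.au (nat_lit 3) (nat_lit 16) (nat_lit 0) [[nat_lit 16,nat_lit 11,nat_lit 69,nat_lit 1]] [nat_lit 68,nat_lit 16,nat_lit 8,nat_lit 2,nat_lit 1] [nat_lit 5,nat_lit 1544,nat_lit 5,nat_lit 1608,nat_lit 5] (nat_lit 1) [nat_lit 0,nat_lit 1,nat_lit 69,nat_lit 68,nat_lit 11,nat_lit 10,nat_lit 78,nat_lit 79,nat_lit 16,nat_lit 17,nat_lit 85,nat_lit 84,nat_lit 27,nat_lit 26,nat_lit 94,nat_lit 95] (nat_lit 0) [nat_lit 0,nat_lit 0,nat_lit 2,nat_lit 2,nat_lit 0]))::(((nat_lit 6),(Leaf.au (nat_lit 3) (nat_lit 16) (nat_lit 0) [[nat_lit 16,nat_lit 11,nat_lit 69,nat_lit 1]] [nat_lit 68,nat_lit 16,nat_lit 8,nat_lit 2,nat_lit 1] [nat_lit 5,nat_lit 1544,nat_lit 5,nat_lit 1608,nat_lit 5] (nat_lit 1) [nat_lit 0,nat_lit 1,nat_lit 69,nat_lit 68,nat_lit 11,nat_lit 10,nat_lit 78,nat_lit 79,nat_lit 16,nat_lit 17,nat_lit 85,nat_lit 84,nat_lit 27,nat_lit 26,nat_lit 94,nat_lit 95] (nat_lit 0) [nat_lit 0,nat_lit 0,nat_lit 2,nat_lit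 2,nat_lit 0]))::[]))) (Srch.rep (nat_lit 407) [] [] [] (Srch.fin [nat_lit 256] [nat_lit 0] (((nat_lit 7),(Leaf.au (nat_lit 3) (nat_lit 16) (nat_lit 0) [[nat_lit 16,nat_lit 11,nat_lit 69,nat_lit 1]] [nat_lit 68,nat_lit 16,nat_lit 8,nat_lit 2,nat_lit 1] [nat_lit 5,nat_lit 1544,nat_lit 5,nat_lit 1608,nat_lit 5] (nat_lit 1) [nat_lit 0,nat_lit 1,nat_lit 69,nat_lit 68,nat_lit 11,nat_lit 10,nat_lit 78,nat_lit 79,nat_lit 16,nat_lit 17,nat_lit 85,nat_lit 84,nat_lit 27,nat_lit 26,nat_lit 94,nat_lit 95] (nat_lit 0) [nat_lit 0,nat_lit 0,nat_lit 2,nat_lit 2,nat_lit 0]))::(((nat_lit 6),(Leaf.au (nat_lit 3) (nat_lit 16) (nat_lit 0) [[nat_lit 16,nat_lit 11,nat_lit 69,nat_lit 1]] [nat_lit 68,nat_lit 16,nat_lit 8,nat_lit 2,nat_lit 1] [nat_lit 5,nat_lit 1544,nat_lit 5,nat_lit 1608,nat_lit 5] (nat_lit 1) [nat_lit 0,nat_lit 1,nat_lit 69,nat_lit 68,nat_lit 11,nat_lit 10,nat_lit 78,nat_lit 79,nat_lit 16,nat_lit 17,nat_lit 85,nat_lit 84,nat_lit 27,nat_lit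 26,nat_lit 94,nat_lit 95] (nat_lit 0) [nat_lit 0,nat_lit 0,nat_lit 2,nat_lit 2,nat_lit 0]))::[]))) Srch.nil)) Srch.nil)) Srch.nil) Srch.nil)) Srch.nil) Srch.nil)))
noncomputable def t221 : ℕ := nat_lit 0x1360136011e011e01350135011c011c0128012801000100012a012a010301030129012901000100012b012b0103010301360136011f011f01350135011d011d0128012801000100012a012a0103010301370137011f011f01340134011d011d01370137011e011e01340134011c011c0129012901000100012b012b01030103018b018b01a201a20189018901a101a10194019401bd01bd0197019701bf01bf0194019401bc01bc0197019701be01be018a018a01a201a20188018801a101a10195019501bc01bc0196019601be01be018b018b01a201a20189018901a101a1018a018a01a201a20188018801a101a10195019501bd01bd0196019601bf01bf0128012801000100012a012a0103010301370137011f011f01340134011d011d01370137011e011e01340134011c011c0129012901000100012b012b0103010301360136011e011e01350135011c011c0128012801000100012a012a010301030129012901000100012b012b010301030136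0136011f011f01350135011d011d01bc01bc0195019501bf01bf0197019701a201a2018b018b01a001a00188018801a201a2018a018a01a001a00189018901bd01bd0195019501be01be0197019701a201a2018b018b01a001a00188018801bd01bd0194019401be01be0196019601bc01bc0194019401bf01bf0196019601a201a2018a018a01a001a00189018901be01be0196019601bd01bd0194019401a001a00188018801a201a2018b018b01a001a00189018901a201a2018a018a01bf01bf0196019601bc01bc0194019401a001a00188018801a201a2018b018b01bf01bf0197019701bc01bc0195019501be01be0197019701bd01bd0195019501a001a00189018901a201a2018a018a012a012a01030103012801280100010001350135011c011c01360136011e011e01350135011d011d01360136011f011f012b012b01030103012901290100010001340134011d011d01370137011f011f012a012a010301030128012801000100012b012b01030103012901290100010001340134011c011c01370137011e011e0189018901a101a1018b018b01a201a20196019601be01be0195019501bc01bc0196019601bf01bf0195019501bd01bd0188018801a101a1018a018a01a201a20197019701bf01bf0194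019401bd01bd0189018901a101a1018b018b01a201a20188018801a101a1018a018a01a201a20197019701be01be0194019401bc01bc01340134011d011d01370137011f011f012a012a010301030128012801000100012b012b01030103012901290100010001340134011c011c01370137011e011e012a012a01030103012801280100010001350135011c011c01360136011e011e01350135011d011d01360136011f011f012b012b01030103012901290100010000aa00aa00ab00ab0083008300820082008100810081008100a900a900a900a9008100810081008100a800a800a800a800ab00ab00aa00aa0083008300820082008000800080008000a800a800a800a800ab00ab00aa00aa008200820083008300aa00aa00ab00ab0082008200830083008000800080008000a900a900a900a9008000800080008000a800a800a800a800ab00ab00aa00aa008200820083008300aa00aa00ab00ab0082008200830083008000800080008000a900a900a900a900aa00aa00ab00ab0083008300820082008100810081008100a900a900a900a9008100810081008100a800a800a800a800ab00ab00aa00aa008300830082008200a800a800a800a80080008000800080008200820083008300ab00ab00aa00aa0082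00820083008300aa00aa00ab00ab00a900a900a900a90080008000800080008300830082008200aa00aa00ab00ab00a900a900a900a9008100810081008100a800a800a800a80081008100810081008300830082008200ab00ab00aa00aa008300830082008200aa00aa00ab00ab00a900a900a900a9008100810081008100a800a800a800a80081008100810081008300830082008200ab00ab00aa00aa00a800a800a800a80080008000800080008200820083008300ab00ab00aa00aa008200820083008300aa00aa00ab00ab00a900a900a900a9008000800080008000400040004000400042004200430043004100410041004100430043004200420040004000400040004200420043004300410041004100410043004300420042004000400040004000420042004300430041004100410041004300430042004200400040004000400042004200430043004100410041004100430043004200420043004300420042004100410041004100420042004300430040004000400040004300430042004200410041004100410042004200430043004000400040004000430043004200420041004100410041004200420043004300400040004000400043004300420042004100410041004100420042004300430040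00400040004000200020002000200020002000200020002100210021002100210021002100210021002100210021002100210021002100200020002000200020002000200020002000200020002000200020002000200021002100210021002100210021002100210021002100210021002100210021002000200020002000200020002000200010001000100010001000100010001000100010001000100010001000100010001000100010001000100010001000100010001000100010001000100010001000090009000900090009000900090009000800080008000800080008000800080004000400050005000500050004000400030003000200020001000100000000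
noncomputable def c221 : Node :=
  (Node.st (nat_lit 0) (nat_lit 10) (nat_lit 0) (Node.st (nat_lit 2) (nat_lit 0) (nat_lit 10) (Node.st (nat_lit 0) (nat_lit 14) (nat_lit 0) (Node.st (nat_lit 2) (nat_lit 2) (nat_lit 5) (Node.st (nat_lit 0) (nat_lit 78) (nat_lit 0) (Node.st (nat_lit 2) (nat_lit 2) (nat_lit 9) (Node.st (nat_lit 0) (nat_lit 85) (nat_lit 0) (Node.sp (nat_lit 1) (Node.lf (Leaf.pt (nat_lit 9) (nat_lit 1) [nat_lit 10])) (Node.sp (nat_lit 26) (Node.lf (Leaf.pt (nat_lit 9) (nat_lit 26) [nat_lit 10])) (Node.st (nat_lit 0) (nat_lit 26) (nat_lit 0) (Node.sp (nat_lit 28) (Node.lf (Leaf.pt (nat_lit 9) (nat_lit 28) [nat_lit 12])) (Node.st (nat_lit 0) (nat_lit 28) (nat_lit 0) (Node.sp (nat_lit 40) (Node.lf (Leaf.pt (nat_lit 9) (nat_lit 40) [nat_lit 76])) (Node.st (nat_lit 0) (nat_lit 40) (nat_lit 0) (Node.sp (nat_lit 68) (Node.lf (Leaf.pt (nat_lit 9) (nat_lit 68) [nat_lit 10])) (Node.st (nat_lit 0) (nat_lit 68) (nat_lit 0) (Node.sp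 (nat_lit 92) (Node.lf (Leaf.pt (nat_lit 9) (nat_lit 92) [nat_lit 10])) (Node.st (nat_lit 0) (nat_lit 92) (nat_lit 0) (Node.sp (nat_lit 148) (Node.lf (Leaf.pt (nat_lit 12) (nat_lit 148) [nat_lit 40,nat_lit 268])) (Node.st (nat_lit 0) (nat_lit 148) (nat_lit 0) (Node.ext [[nat_lit 32,nat_lit 16,nat_lit 8,nat_lit 4,nat_lit 2,nat_lit 1]] (nat_lit 10) [Ins.ts (nat_lit 4) [nat_lit 0] [nat_lit 10,nat_lit 0,nat_lit 0],Ins.fr [nat_lit 0],Ins.ts (nat_lit 1) [nat_lit 0,nat_lit 0] [],Ins.ts (nat_lit 1) [nat_lit 0,nat_lit 0,nat_lit 0,nat_lit 0] [],Ins.fr [nat_lit 1],Ins.ts (nat_lit 1) [nat_lit 0,nat_lit 0] [],Ins.ts (nat_lit 0) [nat_lit 0,nat_lit 1,nat_lit 1,nat_lit 0] [],Ins.ts (nat_lit 0) [nat_lit 1,nat_lit 1,nat_lit 1] [nat_lit 0,nat_lit 1,nat_lit 0],Ins.ts (nat_lit 2) [nat_lit 0,nat_lit 0,nat_lit 1,nat_lit 0] [],Ins.fr [nat_lit 2],Ins.ts (nat_lit 1) [nat_lit 0,nat_lit 0] [],Ins.ts (nat_lit 4) [nat_lit 0] [nat_lit 37,nat_lit 0,nat_lit 0],Ins.ts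 (nat_lit 3) [nat_lit 1,nat_lit 0,nat_lit 2] [],Ins.ts (nat_lit 2) [nat_lit 1,nat_lit 0] [],Ins.ts (nat_lit 0) [nat_lit 0,nat_lit 2,nat_lit 0,nat_lit 2] [],Ins.fr [nat_lit 0,nat_lit 0,nat_lit 3],Ins.ts (nat_lit 4) [nat_lit 0] [nat_lit 5,nat_lit 0,nat_lit 0],Ins.ts (nat_lit 1) [nat_lit 0,nat_lit 0] [],Ins.ts (nat_lit 2) [nat_lit 4,nat_lit 0] [],Ins.ts (nat_lit 0) [nat_lit 2,nat_lit 0,nat_lit 2] [nat_lit 0],Ins.ts (nat_lit 0) [nat_lit 1,nat_lit 0] [nat_lit 0,nat_lit 1],Ins.fr [nat_lit 0,nat_lit 0,nat_lit 0,nat_lit 1],Ins.ts (nat_lit 0) [nat_lit 4,nat_lit 4] [nat_lit 0,nat_lit 0],Ins.ts (nat_lit 0) [nat_lit 4,nat_lit 0] [nat_lit 0,nat_lit 4],Ins.fr [nat_lit 0,nat_lit 4,nat_lit 3,nat_lit 0,nat_lit 1],Ins.ts (nat_lit 0) [nat_lit 2,nat_lit 1,nat_lit 3] [nat_lit 0,nat_lit 0],Ins.df [nat_lit 2,nat_lit 2],Ins.df [nat_lit 2,nat_lit 2],Ins.df [nat_lit 0,nat_lit 1,nat_lit 8],Ins.df [nat_lit 1,nat_lit 7,nat_lit 8],Ins.df [nat_lit 3,nat_lit 6,nat_lit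 7],Ins.df [nat_lit 0,nat_lit 10]] [nat_lit 96,nat_lit 112,nat_lit 36,nat_lit 4,nat_lit 128,nat_lit 256] [nat_lit 5,nat_lit 4,nat_lit 8,nat_lit 3,nat_lit 2,nat_lit 1,nat_lit 0,nat_lit 7,nat_lit 6] (Srch.ex0 [nat_lit 68,nat_lit 36,nat_lit 16,nat_lit 8,nat_lit 2,nat_lit 1] (Srch.rep (nat_lit 12) [nat_lit 4,nat_lit 16,nat_lit 192] [nat_lit 192,nat_lit 34,nat_lit 16,nat_lit 8,nat_lit 4,nat_lit 1] [nat_lit 256,nat_lit 64,nat_lit 2] c221_0 Srch.nil)) (Node.lf (Leaf.au (nat_lit 1) (nat_lit 0) (nat_lit 0) [] [] [nat_lit 3,nat_lit 1] (nat_lit 0) [] (nat_lit 42) [nat_lit 0,nat_lit 2,nat_lit 44,nat_lit 10,nat_lit 10,nat_lit 34,nat_lit 106,nat_lit 168,nat_lit 262])))))))))))))))))))))))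
theorem ok221 : nodeOK DB PT 221 t221 (nat_lit 0x3c3c003c00003c0000000000000000330000330033330000000000000000000cf0f00cf00303f0f000000000f00000f00000f0f0f0f0f0fcfc0303fc03fc03) (nat_lit 0x11110000111100000000000011110000000000000000000011110000000000000000000000000000000000000000000000000000000000000000000011001100000000000000000011001100000000001100110011001100000000000000000000000000000000000000000000000000000000000000000000000000002200111100001111000000002200111100000000002200000022111100001111000000000000000000000000000000000000111100000000000000000000111100000000000000000000111100001111000011110000111100001111000011112200111122000000003300000033111122000000005511112200000000ff) c221 = true := by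
  decide +kernel
noncomputable def c222_0 : Srch :=
  Srch.rep (nat_lit 192) [nat_lit 192] [] [] (Srch.rep (nat_lit 254) [nat_lit 38] [] [] (Srch.rep (nat_lit 8) [nat_lit 12] [] [] (Srch.rep (nat_lit 7) [] [] [] (Srch.rep (nat_lit 132) [] [] [] (Srch.rep (nat_lit 263) [] [] [] (Srch.fin [nat_lit 256] [] []) (Srch.rep (nat_lit 262) [] [] [] (Srch.fin [nat_lit 256] [] []) Srch.nil)) (Srch.rep (nat_lit 133) [] [] [] (Srch.rep (nat_lit 287) [] [] [] (Srch.fin [nat_lit 256,nat_lit 64] [nat_lit 0] (((nat_lit 143),(Leaf.pt (nat_lit 12) (nat_lit 76) [nat_lit 40,nat_lit 774]))::(((nat_lit 142),(Leaf.pt (nat_lit 12) (nat_lit 76) [nat_lit 40,nat_lit 774]))::[]))) (Srch.rep (nat_lit 286) [] [] [] (Srch.fin [nat_lit 256,nat_lit 64] [nat_lit 0] (((nat_lit 143),(Leaf.pt (nat_lit 12) (nat_lit 76) [nat_lit 40,nat_lit 774]))::(((nat_lit 142),(Leaf.pt (nat_lit 12) (nat_lit 76) [nat_lit 40,nat_lit 774]))::[]))) Srch.nil)) Srch.nil)) Srch.nil) (Srch.rep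 (nat_lit 34) [nat_lit 12] [] [] (Srch.rep (nat_lit 44) [] [] [] (Srch.rep (nat_lit 132) [] [] [] (Srch.rep (nat_lit 422) [] [] [] (Srch.fin [nat_lit 256,nat_lit 64] [nat_lit 0] (((nat_lit 31),(Leaf.pt (nat_lit 12) (nat_lit 76) [nat_lit 26,nat_lit 768]))::(((nat_lit 30),(Leaf.pt (nat_lit 12) (nat_lit 76) [nat_lit 26,nat_lit 768]))::[]))) (Srch.rep (nat_lit 423) [] [] [] (Srch.fin [nat_lit 256,nat_lit 64] [nat_lit 0] (((nat_lit 31),(Leaf.pt (nat_lit 12) (nat_lit 76) [nat_lit 26,nat_lit 768]))::(((nat_lit 30),(Leaf.pt (nat_lit 12) (nat_lit 76) [nat_lit 26,nat_lit 768]))::[]))) Srch.nil)) (Srch.rep (nat_lit 133) [] [] [] (Srch.rep (nat_lit 447) [] [] [] (Srch.fin [nat_lit 256,nat_lit 64] [nat_lit 0] (((nat_lit 7),(Leaf.pt (nat_lit 12) (nat_lit 76) [nat_lit 26,nat_lit 768]))::(((nat_lit 6),(Leaf.pt (nat_lit 12) (nat_lit 76) [nat_lit 26,nat_lit 768]))::[]))) (Srch.rep (nat_lit 446) [] [] [] (Srch.fin [nat_lit 256,nat_lit 64] [nat_lit 0]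 (((nat_lit 7),(Leaf.pt (nat_lit 12) (nat_lit 76) [nat_lit 26,nat_lit 768]))::(((nat_lit 6),(Leaf.pt (nat_lit 12) (nat_lit 76) [nat_lit 26,nat_lit 768]))::[]))) Srch.nil)) Srch.nil)) Srch.nil) Srch.nil)) Srch.nil) (Srch.rep (nat_lit 204) [nat_lit 192] [] [] (Srch.rep (nat_lit 242) [] [] [] Srch.nil Srch.nil) (Srch.rep (nat_lit 212) [nat_lit 212] [] [] (Srch.rep (nat_lit 234) [] [] [] Srch.nil Srch.nil) (Srch.rep (nat_lit 216) [nat_lit 212] [] [] (Srch.rep (nat_lit 230) [nat_lit 38] [] [] (Srch.rep (nat_lit 8) [nat_lit 12] [] [] (Srch.rep (nat_lit 7) [] [] [] (Srch.rep (nat_lit 132) [] [] [] (Srch.rep (nat_lit 302) [] [] [] (Srch.fin [nat_lit 256] [nat_lit 0] (((nat_lit 150),(Leaf.mp (nat_lit 205) [nat_lit 1,nat_lit 2,nat_lit 4,nat_lit 8,nat_lit 16,nat_lit 32,nat_lit 64,nat_lit 956,nat_lit 868,nat_lit 520] [[nat_lit 1],[nat_lit 3],[nat_lit 5]]))::(((nat_lit 151),(Leaf.mp (nat_lit 191) [nat_lit 1,nat_lit 2,nat_lit 4,nat_lit 8,nat_lit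 16,nat_lit 32,nat_lit 64,nat_lit 956,nat_lit 869,nat_lit 520] [[nat_lit 1],[nat_lit 3],[nat_lit 5]]))::[]))) (Srch.rep (nat_lit 303) [] [] [] (Srch.fin [nat_lit 256] [nat_lit 0] (((nat_lit 150),(Leaf.mp (nat_lit 191) [nat_lit 1,nat_lit 2,nat_lit 4,nat_lit 8,nat_lit 16,nat_lit 32,nat_lit 64,nat_lit 956,nat_lit 868,nat_lit 528] [[nat_lit 1],[nat_lit 3],[nat_lit 5]]))::(((nat_lit 151),(Leaf.mp (nat_lit 205) [nat_lit 1,nat_lit 2,nat_lit 4,nat_lit 8,nat_lit 16,nat_lit 32,nat_lit 64,nat_lit 956,nat_lit 869,nat_lit 528] [[nat_lit 1],[nat_lit 3],[nat_lit 5]]))::[]))) Srch.nil)) (Srch.rep (nat_lit 133) [] [] [] (Srch.rep (nat_lit 310) [] [] [] (Srch.fin [nat_lit 256] [nat_lit 0] (((nat_lit 143),(Leaf.mp (nat_lit 211) [nat_lit 1,nat_lit 2,nat_lit 4,nat_lit 8,nat_lit 16,nat_lit 32,nat_lit 64,nat_lit 956,nat_lit 869,nat_lit 528] [[nat_lit 1],[nat_lit 3],[nat_lit 5]]))::(((nat_lit 142),(Leaf.mp (nat_lit 195) [nat_lit 1,nat_lit 2,nat_lit 4,nat_lit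 8,nat_lit 16,nat_lit 32,nat_lit 64,nat_lit 956,nat_lit 868,nat_lit 528] [[nat_lit 1],[nat_lit 3],[nat_lit 5]]))::[]))) (Srch.rep (nat_lit 311) [] [] [] (Srch.fin [nat_lit 256] [nat_lit 0] (((nat_lit 143),(Leaf.mp (nat_lit 195) [nat_lit 1,nat_lit 2,nat_lit 4,nat_lit 8,nat_lit 16,nat_lit 32,nat_lit 64,nat_lit 956,nat_lit 869,nat_lit 520] [[nat_lit 1],[nat_lit 3],[nat_lit 5]]))::(((nat_lit 142),(Leaf.mp (nat_lit 211) [nat_lit 1,nat_lit 2,nat_lit 4,nat_lit 8,nat_lit 16,nat_lit 32,nat_lit 64,nat_lit 956,nat_lit 868,nat_lit 520] [[nat_lit 1],[nat_lit 3],[nat_lit 5]]))::[]))) Srch.nil)) Srch.nil)) Srch.nil) (Srch.rep (nat_lit 34) [nat_lit 12] [] [] (Srch.rep (nat_lit 44) [] [] [] (Srch.rep (nat_lit 132) [] [] [] (Srch.rep (nat_lit 399) [] [] [] (Srch.fin [nat_lit 256] [] []) (Srch.rep (nat_lit 398) [] [] [] (Srch.fin [nat_lit 256] [] []) Srch.nil)) (Srch.rep (nat_lit 133) [] [] [] (Srch.rep (nat_lit 406) [] [] [] (Srch.fin [nat_lit 256]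 [nat_lit 0] (((nat_lit 7),(Leaf.au (nat_lit 3) (nat_lit 16) (nat_lit 0) [[nat_lit 16,nat_lit 11,nat_lit 69,nat_lit 1]] [nat_lit 68,nat_lit 16,nat_lit 8,nat_lit 2,nat_lit 1] [nat_lit 5,nat_lit 1544,nat_lit 5,nat_lit 1608,nat_lit 5] (nat_lit 1) [nat_lit 0,nat_lit 1,nat_lit 69,nat_lit 68,nat_lit 11,nat_lit 10,nat_lit 78,nat_lit 79,nat_lit 16,nat_lit 17,nat_lit 85,nat_lit 84,nat_lit 27,nat_lit 26,nat_lit 94,nat_lit 95] (nat_lit 0) [nat_lit 0,nat_lit 0,nat_lit 2,nat_lit 2,nat_lit 0]))::(((nat_lit 6),(Leaf.au (nat_lit 3) (nat_lit 16) (nat_lit 0) [[nat_lit 16,nat_lit 11,nat_lit 69,nat_lit 1]] [nat_lit 68,nat_lit 16,nat_lit 8,nat_lit 2,nat_lit 1] [nat_lit 5,nat_lit 1544,nat_lit 5,nat_lit 1608,nat_lit 5] (nat_lit 1) [nat_lit 0,nat_lit 1,nat_lit 69,nat_lit 68,nat_lit 11,nat_lit 10,nat_lit 78,nat_lit 79,nat_lit 16,nat_lit 17,nat_lit 85,nat_lit 84,nat_lit 27,nat_lit 26,nat_lit 94,nat_lit 95] (nat_lit 0) [nat_lit 0,nat_lit 0,nat_lit 2,nat_lit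 2,nat_lit 0]))::[]))) (Srch.rep (nat_lit 407) [] [] [] (Srch.fin [nat_lit 256] [nat_lit 0] (((nat_lit 7),(Leaf.au (nat_lit 3) (nat_lit 16) (nat_lit 0) [[nat_lit 16,nat_lit 11,nat_lit 69,nat_lit 1]] [nat_lit 68,nat_lit 16,nat_lit 8,nat_lit 2,nat_lit 1] [nat_lit 5,nat_lit 1544,nat_lit 5,nat_lit 1608,nat_lit 5] (nat_lit 1) [nat_lit 0,nat_lit 1,nat_lit 69,nat_lit 68,nat_lit 11,nat_lit 10,nat_lit 78,nat_lit 79,nat_lit 16,nat_lit 17,nat_lit 85,nat_lit 84,nat_lit 27,nat_lit 26,nat_lit 94,nat_lit 95] (nat_lit 0) [nat_lit 0,nat_lit 0,nat_lit 2,nat_lit 2,nat_lit 0]))::(((nat_lit 6),(Leaf.au (nat_lit 3) (nat_lit 16) (nat_lit 0) [[nat_lit 16,nat_lit 11,nat_lit 69,nat_lit 1]] [nat_lit 68,nat_lit 16,nat_lit 8,nat_lit 2,nat_lit 1] [nat_lit 5,nat_lit 1544,nat_lit 5,nat_lit 1608,nat_lit 5] (nat_lit 1) [nat_lit 0,nat_lit 1,nat_lit 69,nat_lit 68,nat_lit 11,nat_lit 10,nat_lit 78,nat_lit 79,nat_lit 16,nat_lit 17,nat_lit 85,nat_lit 84,nat_lit 27,nat_lit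 26,nat_lit 94,nat_lit 95] (nat_lit 0) [nat_lit 0,nat_lit 0,nat_lit 2,nat_lit 2,nat_lit 0]))::[]))) Srch.nil)) Srch.nil)) Srch.nil) Srch.nil)) Srch.nil) Srch.nil)))
noncomputable def t222 : ℕ := nat_lit 0x1370137011f011f01340134011d011d0129012901010101012b012b010201020128012801010101012a012a0102010201370137011e011e01340134011c011c0129012901010101012b012b0102010201360136011e011e01350135011c011c01360136011f011f01350135011d011d0128012801010101012a012a01020102018a018a01a301a30188018801a001a00195019501bc01bc0196019601be01be0195019501bd01bd0196019601bf01bf018b018b01a301a30189018901a001a00194019401bd01bd0197019701bf01bf018a018a01a301a30188018801a001a0018b018b01a301a30189018901a001a00194019401bc01bc0197019701be01be0129012901010101012b012b0102010201360136011e011e01350135011c011c01360136011f011f01350135011d011d0128012801010101012a012a0102010201370137011f011f01340134011d011d0129012901010101012b012b010201020128012801010101012a012a010201020137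0137011e011e01340134011c011c01bd01bd0194019401be01be0196019601a301a3018a018a01a101a10189018901a301a3018b018b01a101a10188018801bc01bc0194019401bf01bf0196019601a301a3018a018a01a101a10189018901bc01bc0195019501bf01bf0197019701bd01bd0195019501be01be0197019701a301a3018b018b01a101a10188018801be01be0196019601bd01bd0194019401a001a00188018801a201a2018b018b01a001a00189018901a201a2018a018a01bf01bf0196019601bc01bc0194019401a001a00188018801a201a2018b018b01bf01bf0197019701bc01bc0195019501be01be0197019701bd01bd0195019501a001a00189018901a201a2018a018a012a012a01030103012801280100010001350135011c011c01360136011e011e01350135011d011d01360136011f011f012b012b01030103012901290100010001340134011d011d01370137011f011f012a012a010301030128012801000100012b012b01030103012901290100010001340134011c011c01370137011e011e0189018901a101a1018b018b01a201a20196019601be01be0195019501bc01bc0196019601bf01bf0195019501bd01bd0188018801a101a1018a018a01a201a20197019701bf01bf0194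019401bd01bd0189018901a101a1018b018b01a201a20188018801a101a1018a018a01a201a20197019701be01be0194019401bc01bc01340134011d011d01370137011f011f012a012a010301030128012801000100012b012b01030103012901290100010001340134011c011c01370137011e011e012a012a01030103012801280100010001350135011c011c01360136011e011e01350135011d011d01360136011f011f012b012b01030103012901290100010000aa00aa00ab00ab0083008300820082008100810081008100a900a900a900a9008100810081008100a800a800a800a800ab00ab00aa00aa0083008300820082008000800080008000a800a800a800a800ab00ab00aa00aa008200820083008300aa00aa00ab00ab0082008200830083008000800080008000a900a900a900a9008000800080008000a800a800a800a800ab00ab00aa00aa008200820083008300aa00aa00ab00ab0082008200830083008000800080008000a900a900a900a900aa00aa00ab00ab0083008300820082008100810081008100a900a900a900a9008100810081008100a800a800a800a800ab00ab00aa00aa008300830082008200a800a800a800a80080008000800080008200820083008300ab00ab00aa00aa0082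00820083008300aa00aa00ab00ab00a900a900a900a90080008000800080008300830082008200aa00aa00ab00ab00a900a900a900a9008100810081008100a800a800a800a80081008100810081008300830082008200ab00ab00aa00aa008300830082008200aa00aa00ab00ab00a900a900a900a9008100810081008100a800a800a800a80081008100810081008300830082008200ab00ab00aa00aa00a800a800a800a80080008000800080008200820083008300ab00ab00aa00aa008200820083008300aa00aa00ab00ab00a900a900a900a9008000800080008000400040004000400042004200430043004100410041004100430043004200420040004000400040004200420043004300410041004100410043004300420042004000400040004000420042004300430041004100410041004300430042004200400040004000400042004200430043004100410041004100430043004200420043004300420042004100410041004100420042004300430040004000400040004300430042004200410041004100410042004200430043004000400040004000430043004200420041004100410041004200420043004300400040004000400043004300420042004100410041004100420042004300430040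00400040004000200020002000200020002000200020002100210021002100210021002100210021002100210021002100210021002100200020002000200020002000200020002000200020002000200020002000200021002100210021002100210021002100210021002100210021002100210021002000200020002000200020002000200010001000100010001000100010001000100010001000100010001000100010001000100010001000100010001000100010001000100010001000100010001000090009000900090009000900090009000800080008000800080008000800080004000400050005000500050004000400030003000200020001000100000000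
noncomputable def c222 : Node :=
  (Node.st (nat_lit 0) (nat_lit 10) (nat_lit 0) (Node.st (nat_lit 2) (nat_lit 0) (nat_lit 10) (Node.st (nat_lit 0) (nat_lit 14) (nat_lit 0) (Node.st (nat_lit 2) (nat_lit 2) (nat_lit 5) (Node.st (nat_lit 0) (nat_lit 78) (nat_lit 0) (Node.st (nat_lit 2) (nat_lit 2) (nat_lit 9) (Node.st (nat_lit 0) (nat_lit 85) (nat_lit 0) (Node.sp (nat_lit 1) (Node.lf (Leaf.pt (nat_lit 9) (nat_lit 1) [nat_lit 10])) (Node.sp (nat_lit 26) (Node.lf (Leaf.pt (nat_lit 9) (nat_lit 26) [nat_lit 10])) (Node.st (nat_lit 0) (nat_lit 26) (nat_lit 0) (Node.sp (nat_lit 28) (Node.lf (Leaf.pt (nat_lit 9) (nat_lit 28) [nat_lit 12])) (Node.st (nat_lit 0) (nat_lit 28) (nat_lit 0) (Node.sp (nat_lit 40) (Node.lf (Leaf.pt (nat_lit 9) (nat_lit 40) [nat_lit 76])) (Node.st (nat_lit 0) (nat_lit 40) (nat_lit 0) (Node.sp (nat_lit 68) (Node.lf (Leaf.pt (nat_lit 9) (nat_lit 68) [nat_lit 10])) (Node.st (nat_lit 0) (nat_lit 68) (nat_lit 0) (Node.sp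 (nat_lit 92) (Node.lf (Leaf.pt (nat_lit 9) (nat_lit 92) [nat_lit 10])) (Node.st (nat_lit 0) (nat_lit 92) (nat_lit 0) (Node.sp (nat_lit 148) (Node.lf (Leaf.pt (nat_lit 12) (nat_lit 148) [nat_lit 40,nat_lit 268])) (Node.st (nat_lit 0) (nat_lit 148) (nat_lit 0) (Node.ext [[nat_lit 32,nat_lit 16,nat_lit 8,nat_lit 4,nat_lit 2,nat_lit 1]] (nat_lit 10) [Ins.ts (nat_lit 4) [nat_lit 0] [nat_lit 10,nat_lit 0,nat_lit 0],Ins.fr [nat_lit 0],Ins.ts (nat_lit 1) [nat_lit 0,nat_lit 0] [],Ins.ts (nat_lit 1) [nat_lit 0,nat_lit 0,nat_lit 0,nat_lit 0] [],Ins.fr [nat_lit 1],Ins.ts (nat_lit 1) [nat_lit 0,nat_lit 0] [],Ins.ts (nat_lit 0) [nat_lit 0,nat_lit 1,nat_lit 1,nat_lit 0] [],Ins.ts (nat_lit 0) [nat_lit 1,nat_lit 1,nat_lit 1] [nat_lit 0,nat_lit 1,nat_lit 0],Ins.ts (nat_lit 2) [nat_lit 0,nat_lit 0,nat_lit 1,nat_lit 0] [],Ins.fr [nat_lit 2],Ins.ts (nat_lit 1) [nat_lit 0,nat_lit 0] [],Ins.ts (nat_lit 4) [nat_lit 0] [nat_lit 37,nat_lit 0,nat_lit 0],Ins.ts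 (nat_lit 3) [nat_lit 1,nat_lit 0,nat_lit 2] [],Ins.ts (nat_lit 2) [nat_lit 1,nat_lit 0] [],Ins.ts (nat_lit 0) [nat_lit 0,nat_lit 2,nat_lit 0,nat_lit 2] [],Ins.fr [nat_lit 0,nat_lit 0,nat_lit 3],Ins.ts (nat_lit 4) [nat_lit 0] [nat_lit 5,nat_lit 0,nat_lit 0],Ins.ts (nat_lit 1) [nat_lit 0,nat_lit 0] [],Ins.ts (nat_lit 2) [nat_lit 4,nat_lit 0] [],Ins.ts (nat_lit 0) [nat_lit 2,nat_lit 0,nat_lit 2] [nat_lit 0],Ins.ts (nat_lit 0) [nat_lit 1,nat_lit 0] [nat_lit 0,nat_lit 1],Ins.fr [nat_lit 0,nat_lit 0,nat_lit 0,nat_lit 1],Ins.ts (nat_lit 0) [nat_lit 4,nat_lit 4] [nat_lit 0,nat_lit 0],Ins.ts (nat_lit 0) [nat_lit 4,nat_lit 0] [nat_lit 0,nat_lit 4],Ins.fr [nat_lit 0,nat_lit 4,nat_lit 3,nat_lit 0,nat_lit 1],Ins.ts (nat_lit 0) [nat_lit 1,nat_lit 0,nat_lit 0] [nat_lit 6],Ins.df [nat_lit 2,nat_lit 2],Ins.df [nat_lit 2,nat_lit 2],Ins.df [nat_lit 0,nat_lit 1,nat_lit 8],Ins.df [nat_lit 1,nat_lit 7,nat_lit 8],Ins.df [nat_lit 3,nat_lit 6,nat_lit 7],Ins.df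 [nat_lit 0,nat_lit 10]] [nat_lit 96,nat_lit 112,nat_lit 36,nat_lit 4,nat_lit 128,nat_lit 256] [nat_lit 5,nat_lit 4,nat_lit 8,nat_lit 3,nat_lit 2,nat_lit 1,nat_lit 0,nat_lit 7,nat_lit 6] (Srch.ex0 [nat_lit 68,nat_lit 36,nat_lit 16,nat_lit 8,nat_lit 2,nat_lit 1] (Srch.rep (nat_lit 12) [nat_lit 4,nat_lit 16,nat_lit 192] [nat_lit 192,nat_lit 34,nat_lit 16,nat_lit 8,nat_lit 4,nat_lit 1] [nat_lit 256,nat_lit 64,nat_lit 2] c222_0 Srch.nil)) (Node.lf (Leaf.au (nat_lit 1) (nat_lit 0) (nat_lit 0) [] [] [nat_lit 3,nat_lit 1] (nat_lit 0) [] (nat_lit 42) [nat_lit 0,nat_lit 2,nat_lit 44,nat_lit 10,nat_lit 10,nat_lit 34,nat_lit 106,nat_lit 168,nat_lit 262])))))))))))))))))))))))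
theorem ok222 : nodeOK DB PT 222 t222 (nat_lit 0xcf0f00cf00303f0f000000000f00000f00000f0f0f0f0f0fcfc0303fc03fc03) (nat_lit 0x2200111100001111000000002200111100000000002200000022111100001111000000000000000000000000000000000000111100000000000000000000111100000000000000000000111100001111000011110000111100001111000011112200111122000000003300000033111122000000005511112200000000ff) c222 = true := by
  decide +kernel
noncomputable def c223_0 : Srch :=
  Srch.rep (nat_lit 192) [nat_lit 192] [] [] (Srch.rep (nat_lit 254) [nat_lit 38] [] [] (Srch.rep (nat_lit 8) [nat_lit 12] [] [] (Srch.rep (nat_lit 7) [] [] [] (Srch.rep (nat_lit 132) [] [] [] (Srch.rep (nat_lit 417) [] [] [] (Srch.fin [nat_lit 256] [] []) (Srch.rep (nat_lit 416) [] [] [] (Srch.fin [nat_lit 256] [] []) Srch.nil)) (Srch.rep (nat_lit 133) [] [] [] (Srch.rep (nat_lit 440) [] [] [] (Srch.fin [nat_lit 256] [nat_lit 0] (((nat_lit 143),(Leaf.au (nat_lit 3) (nat_lit 16) (nat_lit 0)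 [[nat_lit 16,nat_lit 11,nat_lit 69,nat_lit 1]] [nat_lit 68,nat_lit 16,nat_lit 8,nat_lit 2,nat_lit 1] [nat_lit 5,nat_lit 1860,nat_lit 5,nat_lit 1796,nat_lit 5] (nat_lit 1) [nat_lit 0,nat_lit 1,nat_lit 69,nat_lit 68,nat_lit 11,nat_lit 10,nat_lit 78,nat_lit 79,nat_lit 16,nat_lit 17,nat_lit 85,nat_lit 84,nat_lit 27,nat_lit 26,nat_lit 94,nat_lit 95] (nat_lit 0) [nat_lit 0,nat_lit 0,nat_lit 2,nat_lit 2,nat_lit 0]))::(((nat_lit 142),(Leaf.au (nat_lit 3) (nat_lit 16) (nat_lit 0) [[nat_lit 16,nat_lit 11,nat_lit 69,nat_lit 1]] [nat_lit 68,nat_lit 16,nat_lit 8,nat_lit 2,nat_lit 1] [nat_lit 5,nat_lit 1860,nat_lit 5,nat_lit 1796,nat_lit 5] (nat_lit 1) [nat_lit 0,nat_lit 1,nat_lit 69,nat_lit 68,nat_lit 11,nat_lit 10,nat_lit 78,nat_lit 79,nat_lit 16,nat_lit 17,nat_lit 85,nat_lit 84,nat_lit 27,nat_lit 26,nat_lit 94,nat_lit 95] (nat_lit 0) [nat_lit 0,nat_lit 0,nat_lit 2,nat_lit 2,nat_lit 0]))::[]))) (Srch.rep (nat_lit 441) [] [] [] (Srch.fin [nat_lit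 256] [nat_lit 0] (((nat_lit 143),(Leaf.au (nat_lit 3) (nat_lit 16) (nat_lit 0) [[nat_lit 16,nat_lit 11,nat_lit 69,nat_lit 1]] [nat_lit 68,nat_lit 16,nat_lit 8,nat_lit 2,nat_lit 1] [nat_lit 5,nat_lit 1860,nat_lit 5,nat_lit 1796,nat_lit 5] (nat_lit 1) [nat_lit 0,nat_lit 1,nat_lit 69,nat_lit 68,nat_lit 11,nat_lit 10,nat_lit 78,nat_lit 79,nat_lit 16,nat_lit 17,nat_lit 85,nat_lit 84,nat_lit 27,nat_lit 26,nat_lit 94,nat_lit 95] (nat_lit 0) [nat_lit 0,nat_lit 0,nat_lit 2,nat_lit 2,nat_lit 0]))::(((nat_lit 142),(Leaf.au (nat_lit 3) (nat_lit 16) (nat_lit 0) [[nat_lit 16,nat_lit 11,nat_lit 69,nat_lit 1]] [nat_lit 68,nat_lit 16,nat_lit 8,nat_lit 2,nat_lit 1] [nat_lit 5,nat_lit 1860,nat_lit 5,nat_lit 1796,nat_lit 5] (nat_lit 1) [nat_lit 0,nat_lit 1,nat_lit 69,nat_lit 68,nat_lit 11,nat_lit 10,nat_lit 78,nat_lit 79,nat_lit 16,nat_lit 17,nat_lit 85,nat_lit 84,nat_lit 27,nat_lit 26,nat_lit 94,nat_lit 95] (nat_lit 0) [nat_lit 0,nat_lit 0,nat_lit 2,nat_lit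 2,nat_lit 0]))::[]))) Srch.nil)) Srch.nil)) Srch.nil) (Srch.rep (nat_lit 34) [nat_lit 12] [] [] (Srch.rep (nat_lit 44) [] [] [] (Srch.rep (nat_lit 132) [] [] [] (Srch.rep (nat_lit 256) [] [] [] (Srch.fin [nat_lit 256] [nat_lit 0] (((nat_lit 31),(Leaf.mp (nat_lit 208) [nat_lit 1,nat_lit 2,nat_lit 4,nat_lit 8,nat_lit 16,nat_lit 32,nat_lit 64,nat_lit 802,nat_lit 978,nat_lit 546] [[nat_lit 1],[nat_lit 3],[nat_lit 5]]))::(((nat_lit 30),(Leaf.mp (nat_lit 192) [nat_lit 1,nat_lit 2,nat_lit 4,nat_lit 8,nat_lit 16,nat_lit 32,nat_lit 64,nat_lit 802,nat_lit 979,nat_lit 546] [[nat_lit 1],[nat_lit 3],[nat_lit 5]]))::[]))) (Srch.rep (nat_lit 257) [] [] [] (Srch.fin [nat_lit 256] [nat_lit 0] (((nat_lit 31),(Leaf.mp (nat_lit 192) [nat_lit 1,nat_lit 2,nat_lit 4,nat_lit 8,nat_lit 16,nat_lit 32,nat_lit 64,nat_lit 802,nat_lit 978,nat_lit 570] [[nat_lit 1],[nat_lit 3],[nat_lit 5]]))::(((nat_lit 30),(Leaf.mp (nat_lit 208) [nat_lit 1,nat_lit 2,nat_lit 4,nat_lit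 8,nat_lit 16,nat_lit 32,nat_lit 64,nat_lit 802,nat_lit 979,nat_lit 570] [[nat_lit 1],[nat_lit 3],[nat_lit 5]]))::[]))) Srch.nil)) (Srch.rep (nat_lit 133) [] [] [] (Srch.rep (nat_lit 280) [] [] [] (Srch.fin [nat_lit 256] [nat_lit 0] (((nat_lit 7),(Leaf.mp (nat_lit 199) [nat_lit 1,nat_lit 2,nat_lit 4,nat_lit 8,nat_lit 16,nat_lit 32,nat_lit 64,nat_lit 802,nat_lit 979,nat_lit 546] [[nat_lit 1],[nat_lit 3],[nat_lit 5]]))::(((nat_lit 6),(Leaf.mp (nat_lit 212) [nat_lit 1,nat_lit 2,nat_lit 4,nat_lit 8,nat_lit 16,nat_lit 32,nat_lit 64,nat_lit 802,nat_lit 978,nat_lit 546] [[nat_lit 1],[nat_lit 3],[nat_lit 5]]))::[]))) (Srch.rep (nat_lit 281) [] [] [] (Srch.fin [nat_lit 256] [nat_lit 0] (((nat_lit 7),(Leaf.mp (nat_lit 212) [nat_lit 1,nat_lit 2,nat_lit 4,nat_lit 8,nat_lit 16,nat_lit 32,nat_lit 64,nat_lit 802,nat_lit 979,nat_lit 570] [[nat_lit 1],[nat_lit 3],[nat_lit 5]]))::(((nat_lit 6),(Leaf.mp (nat_lit 199) [nat_lit 1,nat_lit 2,nat_lit 4,nat_lit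 8,nat_lit 16,nat_lit 32,nat_lit 64,nat_lit 802,nat_lit 978,nat_lit 570] [[nat_lit 1],[nat_lit 3],[nat_lit 5]]))::[]))) Srch.nil)) Srch.nil)) Srch.nil) Srch.nil)) Srch.nil) (Srch.rep (nat_lit 204) [nat_lit 192] [] [] (Srch.rep (nat_lit 242) [] [] [] Srch.nil Srch.nil) (Srch.rep (nat_lit 212) [nat_lit 212] [] [] (Srch.rep (nat_lit 234) [] [] [] Srch.nil Srch.nil) (Srch.rep (nat_lit 216) [nat_lit 212] [] [] (Srch.rep (nat_lit 230) [nat_lit 38] [] [] (Srch.rep (nat_lit 8) [nat_lit 12] [] [] (Srch.rep (nat_lit 7) [] [] [] (Srch.rep (nat_lit 132) [] [] [] (Srch.rep (nat_lit 392) [] [] [] (Srch.fin [nat_lit 256] [nat_lit 0] (((nat_lit 150),(Leaf.pt (nat_lit 12) (nat_lit 76) [nat_lit 26,nat_lit 900]))::(((nat_lit 151),(Leaf.pt (nat_lit 12) (nat_lit 76) [nat_lit 26,nat_lit 900]))::[]))) (Srch.rep (nat_lit 393) [] [] [] (Srch.fin [nat_lit 256] [nat_lit 0] (((nat_lit 150),(Leaf.pt (nat_lit 12) (nat_lit 76) [nat_lit 26,nat_lit 900]))::(((nat_lit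 151),(Leaf.pt (nat_lit 12) (nat_lit 76) [nat_lit 26,nat_lit 900]))::[]))) Srch.nil)) (Srch.rep (nat_lit 133) [] [] [] (Srch.rep (nat_lit 401) [] [] [] (Srch.fin [nat_lit 256] [nat_lit 0] (((nat_lit 143),(Leaf.pt (nat_lit 12) (nat_lit 76) [nat_lit 26,nat_lit 900]))::(((nat_lit 142),(Leaf.pt (nat_lit 12) (nat_lit 76) [nat_lit 26,nat_lit 900]))::[]))) (Srch.rep (nat_lit 400) [] [] [] (Srch.fin [nat_lit 256] [nat_lit 0] (((nat_lit 143),(Leaf.pt (nat_lit 12) (nat_lit 76) [nat_lit 26,nat_lit 900]))::(((nat_lit 142),(Leaf.pt (nat_lit 12) (nat_lit 76) [nat_lit 26,nat_lit 900]))::[]))) Srch.nil)) Srch.nil)) Srch.nil) (Srch.rep (nat_lit 34) [nat_lit 12] [] [] (Srch.rep (nat_lit 44) [] [] [] (Srch.rep (nat_lit 132) [] [] [] (Srch.rep (nat_lit 297) [] [] [] (Srch.fin [nat_lit 256,nat_lit 64] [] []) (Srch.rep (nat_lit 296) [] [] [] (Srch.fin [nat_lit 256,nat_lit 64] [] []) Srch.nil)) (Srch.rep (nat_lit 133) [] [] [] (Srch.rep (nat_lit 305) []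 [] [] (Srch.fin [nat_lit 256] [nat_lit 0] (((nat_lit 7),(Leaf.pt (nat_lit 12) (nat_lit 76) [nat_lit 40,nat_lit 896]))::(((nat_lit 6),(Leaf.pt (nat_lit 12) (nat_lit 76) [nat_lit 40,nat_lit 896]))::[]))) (Srch.rep (nat_lit 304) [] [] [] (Srch.fin [nat_lit 256] [nat_lit 0] (((nat_lit 7),(Leaf.pt (nat_lit 12) (nat_lit 76) [nat_lit 40,nat_lit 896]))::(((nat_lit 6),(Leaf.pt (nat_lit 12) (nat_lit 76) [nat_lit 40,nat_lit 896]))::[]))) Srch.nil)) Srch.nil)) Srch.nil) Srch.nil)) Srch.nil) Srch.nil)))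
noncomputable def t223 : ℕ := nat_lit 0x193019301bb01bb01ba01ba01920192018c018c01a401a401a401a4018c018c018c018c01a501a501a501a5018c018c0192019201bb01bb01ba01ba01930193018d018d01a501a501a501a5018d018d0193019301bb01bb01ba01ba019201920192019201bb01bb01ba01ba01930193018d018d01a401a401a401a4018d018d01350135011c011c011c011c01350135012b012b0102010201030103012a012a012b012b0103010301020102012a012a01340134011c011c011c011c01340134012a012a0103010301020102012b012b01350135011c011c011c011c0135013501340134011c011c011c011c01340134012a012a0102010201030103012b012b018f018f01a601a601a601a6018f018f0191019101b801b801b901b9019001900190019001b801b801b901b901910191018f018f01a701a701a701a7018f018f0191019101b801b801b901b901900190018e018e01a701a701a701a7018e018e018e018e01a601a601a601a6018e018e0190019001b801b801b901b90191019101000100012801280129012901010101011f011f0137013701370137011f011f011f011f0136013601360136011f011f01010101012801280129012901000100011f011f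0137013701370137011f011f0101010101290129012801280100010001000100012901290128012801010101011f011f0136013601360136011f011f018f018f01a601a601a601a6018f018f0191019101b801b801b901b9019001900190019001b801b801b901b901910191018f018f01a701a701a701a7018f018f0191019101b801b801b901b901900190018e018e01a701a701a701a7018e018e018e018e01a601a601a601a6018e018e0190019001b801b801b901b90191019101030103012a012a012b012b01020102011c011c0135013501350135011c011c011c011c0134013401340134011c011c01020102012a012a012b012b01030103011c011c0135013501350135011c011c01020102012b012b012a012a0103010301030103012b012b012a012a01020102011c011c0134013401340134011c011c01bb01bb019301930192019201ba01ba01a401a4018c018c018c018c01a401a401a501a5018c018c018c018c01a501a501bb01bb019201920193019301ba01ba01a501a5018d018d018d018d01a501a501bb01bb019301930192019201ba01ba01bb01bb019201920193019301ba01ba01a401a4018d018d018d018d01a401a4011f011f0137013701370137011f011f010101010129012901280128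0100010001000100012901290128012801010101011f011f0136013601360136011f011f01000100012801280129012901010101011f011f0137013701370137011f011f011f011f0136013601360136011f011f0101010101280128012901290100010000aa00aa00ab00ab0083008300820082008100810081008100a900a900a900a9008100810081008100a800a800a800a800ab00ab00aa00aa0083008300820082008000800080008000a800a800a800a800ab00ab00aa00aa008200820083008300aa00aa00ab00ab0082008200830083008000800080008000a900a900a900a9008000800080008000a800a800a800a800ab00ab00aa00aa008200820083008300aa00aa00ab00ab0082008200830083008000800080008000a900a900a900a900aa00aa00ab00ab0083008300820082008100810081008100a900a900a900a9008100810081008100a800a800a800a800ab00ab00aa00aa008300830082008200a800a800a800a80080008000800080008200820083008300ab00ab00aa00aa008200820083008300aa00aa00ab00ab00a900a900a900a90080008000800080008300830082008200aa00aa00ab00ab00a900a900a900a9008100810081008100a800a800a800a8008100810081008100830083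0082008200ab00ab00aa00aa008300830082008200aa00aa00ab00ab00a900a900a900a9008100810081008100a800a800a800a80081008100810081008300830082008200ab00ab00aa00aa00a800a800a800a80080008000800080008200820083008300ab00ab00aa00aa008200820083008300aa00aa00ab00ab00a900a900a900a900800080008000800040004000400040004200420043004300410041004100410043004300420042004000400040004000420042004300430041004100410041004300430042004200400040004000400042004200430043004100410041004100430043004200420040004000400040004200420043004300410041004100410043004300420042004300430042004200410041004100410042004200430043004000400040004000430043004200420041004100410041004200420043004300400040004000400043004300420042004100410041004100420042004300430040004000400040004300430042004200410041004100410042004200430043004000400040004000200020002000200020002000200020002100210021002100210021002100210021002100210021002100210021002100200020002000200020002000200020002000200020002000200020002000200021002100210021002100210021002100210021002100210021002100210021002000200020002000200020002000200010001000100010001000100010001000100010001000100010001000100010001000100010001000100010001000100010001000100010001000100010001000090009000900090009000900090009000800080008000800080008000800080004000400050005000500050004000400030003000200020001000100000000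
noncomputable def c223 : Node :=
  (Node.st (nat_lit 0) (nat_lit 10) (nat_lit 0) (Node.st (nat_lit 2) (nat_lit 0) (nat_lit 10) (Node.st (nat_lit 0) (nat_lit 14) (nat_lit 0) (Node.st (nat_lit 2) (nat_lit 2) (nat_lit 5) (Node.st (nat_lit 0) (nat_lit 78) (nat_lit 0) (Node.st (nat_lit 2) (nat_lit 2) (nat_lit 9) (Node.st (nat_lit 0) (nat_lit 85) (nat_lit 0) (Node.sp (nat_lit 1) (Node.lf (Leaf.pt (nat_lit 9) (nat_lit 1) [nat_lit 10])) (Node.sp (nat_lit 26) (Node.lf (Leaf.pt (nat_lit 9) (nat_lit 26) [nat_lit 10])) (Node.st (nat_lit 0) (nat_lit 26) (nat_lit 0) (Node.sp (nat_lit 28) (Node.lf (Leaf.pt (nat_lit 9) (nat_lit 28) [nat_lit 12])) (Node.st (nat_lit 0) (nat_lit 28) (nat_lit 0) (Node.sp (nat_lit 40) (Node.lf (Leaf.pt (nat_lit 9) (nat_lit 40) [nat_lit 76])) (Node.st (nat_lit 0) (nat_lit 40) (nat_lit 0) (Node.sp (nat_lit 68) (Node.lf (Leaf.pt (nat_lit 9) (nat_lit 68) [nat_lit 10])) (Node.st (nat_lit 0) (nat_lit 68) (nat_lit 0) (Node.sp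 (nat_lit 92) (Node.lf (Leaf.pt (nat_lit 9) (nat_lit 92) [nat_lit 10])) (Node.st (nat_lit 0) (nat_lit 92) (nat_lit 0) (Node.sp (nat_lit 148) (Node.lf (Leaf.pt (nat_lit 13) (nat_lit 148) [nat_lit 70])) (Node.st (nat_lit 0) (nat_lit 148) (nat_lit 0) (Node.ext [[nat_lit 32,nat_lit 16,nat_lit 8,nat_lit 4,nat_lit 2,nat_lit 1]] (nat_lit 10) [Ins.ts (nat_lit 4) [nat_lit 0] [nat_lit 10,nat_lit 0,nat_lit 0],Ins.fr [nat_lit 0],Ins.ts (nat_lit 1) [nat_lit 0,nat_lit 0] [],Ins.ts (nat_lit 1) [nat_lit 0,nat_lit 0,nat_lit 0,nat_lit 0] [],Ins.fr [nat_lit 1],Ins.ts (nat_lit 1) [nat_lit 0,nat_lit 0] [],Ins.ts (nat_lit 0) [nat_lit 0,nat_lit 1,nat_lit 1,nat_lit 0] [],Ins.ts (nat_lit 0) [nat_lit 1,nat_lit 1,nat_lit 1] [nat_lit 0,nat_lit 1,nat_lit 0],Ins.ts (nat_lit 2) [nat_lit 0,nat_lit 0,nat_lit 1,nat_lit 0] [],Ins.fr [nat_lit 2],Ins.ts (nat_lit 1) [nat_lit 0,nat_lit 0] [],Ins.ts (nat_lit 4) [nat_lit 0] [nat_lit 37,nat_lit 0,nat_lit 0],Ins.ts (nat_lit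 3) [nat_lit 1,nat_lit 0,nat_lit 2] [],Ins.ts (nat_lit 2) [nat_lit 1,nat_lit 0] [],Ins.ts (nat_lit 0) [nat_lit 0,nat_lit 2,nat_lit 0,nat_lit 2] [],Ins.fr [nat_lit 0,nat_lit 0,nat_lit 3],Ins.ts (nat_lit 4) [nat_lit 0] [nat_lit 5,nat_lit 0,nat_lit 0],Ins.ts (nat_lit 1) [nat_lit 0,nat_lit 0] [],Ins.ts (nat_lit 2) [nat_lit 4,nat_lit 0] [],Ins.ts (nat_lit 0) [nat_lit 2,nat_lit 0,nat_lit 2] [nat_lit 0],Ins.ts (nat_lit 0) [nat_lit 1,nat_lit 0] [nat_lit 0,nat_lit 1],Ins.fr [nat_lit 0,nat_lit 0,nat_lit 0,nat_lit 1],Ins.ts (nat_lit 0) [nat_lit 4,nat_lit 4] [nat_lit 0,nat_lit 0],Ins.ts (nat_lit 0) [nat_lit 4,nat_lit 0] [nat_lit 0,nat_lit 4],Ins.fr [nat_lit 2,nat_lit 4,nat_lit 3,nat_lit 5],Ins.ts (nat_lit 0) [nat_lit 0,nat_lit 4,nat_lit 0] [nat_lit 1,nat_lit 5],Ins.df [nat_lit 2,nat_lit 2],Ins.df [nat_lit 2,nat_lit 2],Ins.df [nat_lit 0,nat_lit 1,nat_lit 8],Ins.df [nat_lit 1,nat_lit 7,nat_lit 8],Ins.df [nat_lit 3,nat_lit 6,nat_lit 7],Ins.df [nat_lit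 0,nat_lit 10]] [nat_lit 96,nat_lit 112,nat_lit 36,nat_lit 4,nat_lit 128,nat_lit 256] [nat_lit 5,nat_lit 4,nat_lit 8,nat_lit 3,nat_lit 2,nat_lit 1,nat_lit 0,nat_lit 7,nat_lit 6] (Srch.ex0 [nat_lit 68,nat_lit 36,nat_lit 16,nat_lit 8,nat_lit 2,nat_lit 1] (Srch.rep (nat_lit 12) [nat_lit 4,nat_lit 16,nat_lit 192] [nat_lit 192,nat_lit 34,nat_lit 16,nat_lit 8,nat_lit 4,nat_lit 1] [nat_lit 256,nat_lit 64,nat_lit 2] c223_0 Srch.nil)) (Node.lf (Leaf.au (nat_lit 1) (nat_lit 0) (nat_lit 0) [] [] [nat_lit 3,nat_lit 1] (nat_lit 0) [] (nat_lit 42) [nat_lit 0,nat_lit 2,nat_lit 44,nat_lit 10,nat_lit 10,nat_lit 34,nat_lit 106,nat_lit 168,nat_lit 260])))))))))))))))))))))))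
theorem ok223 : nodeOK DB PT 223 t223 (nat_lit 0xcccc00cc0000cc0000000000000000c30000c300c3c3000cf0f00cf00303f0f000000000f00000f00000f0f0f0f0f0fcfc0303fc03fc03) (nat_lit 0x110011001100110000000000110011000000000000000000110011000000000000000000000000000000000000000000000000000000000000000000110000110000000000000000110000110000000011000011110000110000000000002200111100001111000000002200111100000000002200000022111100001111000000000000000000000000000000000000111100000000000000000000111100000000000000000000111100001111000011110000111100001111000011112200111122000000003300000033111122000000005511112200000000ff) c223 = true := by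
  decide +kernel
noncomputable def c224_0 : Srch :=
  Srch.rep (nat_lit 192) [nat_lit 192] [] [] (Srch.rep (nat_lit 254) [nat_lit 38] [] [] (Srch.rep (nat_lit 8) [nat_lit 12] [] [] (Srch.rep (nat_lit 7) [] [] [] (Srch.rep (nat_lit 132) [] [] [] (Srch.rep (nat_lit 417) [] [] [] (Srch.fin [nat_lit 256] [] []) (Srch.rep (nat_lit 416) [] [] [] (Srch.fin [nat_lit 256] [] []) Srch.nil)) (Srch.rep (nat_lit 133) [] [] [] (Srch.rep (nat_lit 440) [] [] [] (Srch.fin [nat_lit 256] [nat_lit 0] (((nat_lit 143),(Leaf.au (nat_lit 3) (nat_lit 16) (nat_lit 0) [[nat_lit 16,nat_lit 11,nat_lit 69,nat_lit 1]] [nat_lit 68,nat_lit 16,nat_lit 8,nat_lit 2,nat_lit 1] [nat_lit 5,nat_lit 1860,nat_lit 5,nat_lit 1796,nat_lit 5] (nat_lit 1) [nat_lit 0,nat_lit 1,nat_lit 69,nat_lit 68,nat_lit 11,nat_lit 10,nat_lit 78,nat_lit 79,nat_lit 16,nat_lit 17,nat_lit 85,nat_lit 84,nat_lit 27,nat_lit 26,nat_lit 94,nat_lit 95] (nat_lit 0) [nat_lit 0,nat_lit 0,nat_lit 2,nat_lit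 2,nat_lit 0]))::(((nat_lit 142),(Leaf.au (nat_lit 3) (nat_lit 16) (nat_lit 0) [[nat_lit 16,nat_lit 11,nat_lit 69,nat_lit 1]] [nat_lit 68,nat_lit 16,nat_lit 8,nat_lit 2,nat_lit 1] [nat_lit 5,nat_lit 1860,nat_lit 5,nat_lit 1796,nat_lit 5] (nat_lit 1) [nat_lit 0,nat_lit 1,nat_lit 69,nat_lit 68,nat_lit 11,nat_lit 10,nat_lit 78,nat_lit 79,nat_lit 16,nat_lit 17,nat_lit 85,nat_lit 84,nat_lit 27,nat_lit 26,nat_lit 94,nat_lit 95] (nat_lit 0) [nat_lit 0,nat_lit 0,nat_lit 2,nat_lit 2,nat_lit 0]))::[]))) (Srch.rep (nat_lit 441) [] [] [] (Srch.fin [nat_lit 256] [nat_lit 0] (((nat_lit 143),(Leaf.au (nat_lit 3) (nat_lit 16) (nat_lit 0) [[nat_lit 16,nat_lit 11,nat_lit 69,nat_lit 1]] [nat_lit 68,nat_lit 16,nat_lit 8,nat_lit 2,nat_lit 1] [nat_lit 5,nat_lit 1860,nat_lit 5,nat_lit 1796,nat_lit 5] (nat_lit 1) [nat_lit 0,nat_lit 1,nat_lit 69,nat_lit 68,nat_lit 11,nat_lit 10,nat_lit 78,nat_lit 79,nat_lit 16,nat_lit 17,nat_lit 85,nat_lit 84,nat_lit 27,nat_lit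 26,nat_lit 94,nat_lit 95] (nat_lit 0) [nat_lit 0,nat_lit 0,nat_lit 2,nat_lit 2,nat_lit 0]))::(((nat_lit 142),(Leaf.au (nat_lit 3) (nat_lit 16) (nat_lit 0) [[nat_lit 16,nat_lit 11,nat_lit 69,nat_lit 1]] [nat_lit 68,nat_lit 16,nat_lit 8,nat_lit 2,nat_lit 1] [nat_lit 5,nat_lit 1860,nat_lit 5,nat_lit 1796,nat_lit 5] (nat_lit 1) [nat_lit 0,nat_lit 1,nat_lit 69,nat_lit 68,nat_lit 11,nat_lit 10,nat_lit 78,nat_lit 79,nat_lit 16,nat_lit 17,nat_lit 85,nat_lit 84,nat_lit 27,nat_lit 26,nat_lit 94,nat_lit 95] (nat_lit 0) [nat_lit 0,nat_lit 0,nat_lit 2,nat_lit 2,nat_lit 0]))::[]))) Srch.nil)) Srch.nil)) Srch.nil) (Srch.rep (nat_lit 34) [nat_lit 12] [] [] (Srch.rep (nat_lit 44) [] [] [] (Srch.rep (nat_lit 132) [] [] [] (Srch.rep (nat_lit 256) [] [] [] (Srch.fin [nat_lit 256] [nat_lit 0] (((nat_lit 31),(Leaf.mp (nat_lit 193) [nat_lit 1,nat_lit 2,nat_lit 4,nat_lit 8,nat_lit 16,nat_lit 32,nat_lit 64,nat_lit 802,nat_lit 979,nat_lit 546] [[nat_lit 1],[nat_lit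 3],[nat_lit 5]]))::(((nat_lit 30),(Leaf.mp (nat_lit 207) [nat_lit 1,nat_lit 2,nat_lit 4,nat_lit 8,nat_lit 16,nat_lit 32,nat_lit 64,nat_lit 802,nat_lit 978,nat_lit 546] [[nat_lit 1],[nat_lit 3],[nat_lit 5]]))::[]))) (Srch.rep (nat_lit 257) [] [] [] (Srch.fin [nat_lit 256] [nat_lit 0] (((nat_lit 31),(Leaf.mp (nat_lit 207) [nat_lit 1,nat_lit 2,nat_lit 4,nat_lit 8,nat_lit 16,nat_lit 32,nat_lit 64,nat_lit 802,nat_lit 979,nat_lit 570] [[nat_lit 1],[nat_lit 3],[nat_lit 5]]))::(((nat_lit 30),(Leaf.mp (nat_lit 193) [nat_lit 1,nat_lit 2,nat_lit 4,nat_lit 8,nat_lit 16,nat_lit 32,nat_lit 64,nat_lit 802,nat_lit 978,nat_lit 570] [[nat_lit 1],[nat_lit 3],[nat_lit 5]]))::[]))) Srch.nil)) (Srch.rep (nat_lit 133) [] [] [] (Srch.rep (nat_lit 280) [] [] [] (Srch.fin [nat_lit 256] [nat_lit 0] (((nat_lit 7),(Leaf.mp (nat_lit 214) [nat_lit 1,nat_lit 2,nat_lit 4,nat_lit 8,nat_lit 16,nat_lit 32,nat_lit 64,nat_lit 802,nat_lit 978,nat_lit 546] [[nat_lit 1],[nat_lit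 3],[nat_lit 5]]))::(((nat_lit 6),(Leaf.mp (nat_lit 197) [nat_lit 1,nat_lit 2,nat_lit 4,nat_lit 8,nat_lit 16,nat_lit 32,nat_lit 64,nat_lit 802,nat_lit 979,nat_lit 546] [[nat_lit 1],[nat_lit 3],[nat_lit 5]]))::[]))) (Srch.rep (nat_lit 281) [] [] [] (Srch.fin [nat_lit 256] [nat_lit 0] (((nat_lit 7),(Leaf.mp (nat_lit 197) [nat_lit 1,nat_lit 2,nat_lit 4,nat_lit 8,nat_lit 16,nat_lit 32,nat_lit 64,nat_lit 802,nat_lit 978,nat_lit 570] [[nat_lit 1],[nat_lit 3],[nat_lit 5]]))::(((nat_lit 6),(Leaf.mp (nat_lit 214) [nat_lit 1,nat_lit 2,nat_lit 4,nat_lit 8,nat_lit 16,nat_lit 32,nat_lit 64,nat_lit 802,nat_lit 979,nat_lit 570] [[nat_lit 1],[nat_lit 3],[nat_lit 5]]))::[]))) Srch.nil)) Srch.nil)) Srch.nil) Srch.nil)) Srch.nil) (Srch.rep (nat_lit 204) [nat_lit 192] [] [] (Srch.rep (nat_lit 242) [] [] [] Srch.nil Srch.nil) (Srch.rep (nat_lit 212) [nat_lit 212] [] [] (Srch.rep (nat_lit 234) [] [] [] Srch.nil Srch.nil) (Srch.rep (nat_lit 216) [nat_lit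 212] [] [] (Srch.rep (nat_lit 230) [nat_lit 38] [] [] (Srch.rep (nat_lit 8) [nat_lit 12] [] [] (Srch.rep (nat_lit 7) [] [] [] (Srch.rep (nat_lit 132) [] [] [] (Srch.rep (nat_lit 392) [] [] [] (Srch.fin [nat_lit 256] [nat_lit 0] (((nat_lit 150),(Leaf.pt (nat_lit 12) (nat_lit 76) [nat_lit 26,nat_lit 900]))::(((nat_lit 151),(Leaf.pt (nat_lit 12) (nat_lit 76) [nat_lit 26,nat_lit 900]))::[]))) (Srch.rep (nat_lit 393) [] [] [] (Srch.fin [nat_lit 256] [nat_lit 0] (((nat_lit 150),(Leaf.pt (nat_lit 12) (nat_lit 76) [nat_lit 26,nat_lit 900]))::(((nat_lit 151),(Leaf.pt (nat_lit 12) (nat_lit 76) [nat_lit 26,nat_lit 900]))::[]))) Srch.nil)) (Srch.rep (nat_lit 133) [] [] [] (Srch.rep (nat_lit 401) [] [] [] (Srch.fin [nat_lit 256] [nat_lit 0] (((nat_lit 143),(Leaf.pt (nat_lit 12) (nat_lit 76) [nat_lit 26,nat_lit 900]))::(((nat_lit 142),(Leaf.pt (nat_lit 12) (nat_lit 76) [nat_lit 26,nat_lit 900]))::[]))) (Srch.rep (nat_lit 400) [] [] [] (Srch.fin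 [nat_lit 256] [nat_lit 0] (((nat_lit 143),(Leaf.pt (nat_lit 12) (nat_lit 76) [nat_lit 26,nat_lit 900]))::(((nat_lit 142),(Leaf.pt (nat_lit 12) (nat_lit 76) [nat_lit 26,nat_lit 900]))::[]))) Srch.nil)) Srch.nil)) Srch.nil) (Srch.rep (nat_lit 34) [nat_lit 12] [] [] (Srch.rep (nat_lit 44) [] [] [] (Srch.rep (nat_lit 132) [] [] [] (Srch.rep (nat_lit 297) [] [] [] (Srch.fin [nat_lit 256,nat_lit 64] [] []) (Srch.rep (nat_lit 296) [] [] [] (Srch.fin [nat_lit 256,nat_lit 64] [] []) Srch.nil)) (Srch.rep (nat_lit 133) [] [] [] (Srch.rep (nat_lit 305) [] [] [] (Srch.fin [nat_lit 256] [nat_lit 0] (((nat_lit 7),(Leaf.pt (nat_lit 12) (nat_lit 76) [nat_lit 40,nat_lit 896]))::(((nat_lit 6),(Leaf.pt (nat_lit 12) (nat_lit 76) [nat_lit 40,nat_lit 896]))::[]))) (Srch.rep (nat_lit 304) [] [] [] (Srch.fin [nat_lit 256] [nat_lit 0] (((nat_lit 7),(Leaf.pt (nat_lit 12) (nat_lit 76) [nat_lit 40,nat_lit 896]))::(((nat_lit 6),(Leaf.pt (nat_lit 12) (nat_lit 76)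 [nat_lit 40,nat_lit 896]))::[]))) Srch.nil)) Srch.nil)) Srch.nil) Srch.nil)) Srch.nil) Srch.nil)))
noncomputable def t224 : ℕ := nat_lit 0x192019201ba01ba01bb01bb01930193018d018d01a501a501a501a5018d018d018d018d01a401a401a401a4018d018d0193019301ba01ba01bb01bb01920192018c018c01a401a401a401a4018c018c0192019201ba01ba01bb01bb019301930193019301ba01ba01bb01bb01920192018c018c01a501a501a501a5018c018c01340134011d011d011d011d01340134012a012a0103010301020102012b012b012a012a0102010201030103012b012b01350135011d011d011d011d01350135012b012b0102010201030103012a012a01340134011d011d011d011d0134013401350135011d011d011d011d01350135012b012b0103010301020102012a012a018e018e01a701a701a701a7018e018e0190019001b901b901b801b8019101910191019101b901b901b801b801900190018e018e01a601a601a601a6018e018e0190019001b901b901b801b801910191018f018f01a601a601a601a6018f018f018f018f01a701a701a701a7018f018f0191019101b901b901b801b80190019001010101012901290128012801000100011e0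11e0136013601360136011e011e011e011e0137013701370137011e011e01000100012901290128012801010101011e011e0136013601360136011e011e0100010001280128012901290101010101010101012801280129012901000100011e011e0137013701370137011e011e018f018f01a601a601a601a6018f018f0191019101b801b801b901b9019001900190019001b801b801b901b901910191018f018f01a701a701a701a7018f018f0191019101b801b801b901b901900190018e018e01a701a701a701a7018e018e018e018e01a601a601a601a6018e018e0190019001b801b801b901b90191019101030103012a012a012b012b01020102011c011c0135013501350135011c011c011c011c0134013401340134011c011c01020102012a012a012b012b01030103011c011c0135013501350135011c011c01020102012b012b012a012a0103010301030103012b012b012a012a01020102011c011c0134013401340134011c011c01bb01bb019301930192019201ba01ba01a401a4018c018c018c018c01a401a401a501a5018c018c018c018c01a501a501bb01bb019201920193019301ba01ba01a501a5018d018d018d018d01a501a501bb01bb019301930192019201ba01ba01bb01bb0192019201930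19301ba01ba01a401a4018d018d018d018d01a401a4011f011f0137013701370137011f011f0101010101290129012801280100010001000100012901290128012801010101011f011f0136013601360136011f011f01000100012801280129012901010101011f011f0137013701370137011f011f011f011f0136013601360136011f011f0101010101280128012901290100010000aa00aa00ab00ab0083008300820082008100810081008100a900a900a900a9008100810081008100a800a800a800a800ab00ab00aa00aa0083008300820082008000800080008000a800a800a800a800ab00ab00aa00aa008200820083008300aa00aa00ab00ab0082008200830083008000800080008000a900a900a900a9008000800080008000a800a800a800a800ab00ab00aa00aa008200820083008300aa00aa00ab00ab0082008200830083008000800080008000a900a900a900a900aa00aa00ab00ab0083008300820082008100810081008100a900a900a900a9008100810081008100a800a800a800a800ab00ab00aa00aa008300830082008200a800a800a800a80080008000800080008200820083008300ab00ab00aa00aa008200820083008300aa00aa00ab00ab00a900a900a900a9008000800080008000830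0830082008200aa00aa00ab00ab00a900a900a900a9008100810081008100a800a800a800a80081008100810081008300830082008200ab00ab00aa00aa008300830082008200aa00aa00ab00ab00a900a900a900a9008100810081008100a800a800a800a80081008100810081008300830082008200ab00ab00aa00aa00a800a800a800a80080008000800080008200820083008300ab00ab00aa00aa008200820083008300aa00aa00ab00ab00a900a900a900a900800080008000800040004000400040004200420043004300410041004100410043004300420042004000400040004000420042004300430041004100410041004300430042004200400040004000400042004200430043004100410041004100430043004200420040004000400040004200420043004300410041004100410043004300420042004300430042004200410041004100410042004200430043004000400040004000430043004200420041004100410041004200420043004300400040004000400043004300420042004100410041004100420042004300430040004000400040004300430042004200410041004100410042004200430043004000400040004000200020002000200020002000200020002100210021002100210021002100210021002100210021002100210021002100200020002000200020002000200020002000200020002000200020002000200021002100210021002100210021002100210021002100210021002100210021002000200020002000200020002000200010001000100010001000100010001000100010001000100010001000100010001000100010001000100010001000100010001000100010001000100010001000090009000900090009000900090009000800080008000800080008000800080004000400050005000500050004000400030003000200020001000100000000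
noncomputable def c224 : Node :=
  (Node.st (nat_lit 0) (nat_lit 10) (nat_lit 0) (Node.st (nat_lit 2) (nat_lit 0) (nat_lit 10) (Node.st (nat_lit 0) (nat_lit 14) (nat_lit 0) (Node.st (nat_lit 2) (nat_lit 2) (nat_lit 5) (Node.st (nat_lit 0) (nat_lit 78) (nat_lit 0) (Node.st (nat_lit 2) (nat_lit 2) (nat_lit 9) (Node.st (nat_lit 0) (nat_lit 85) (nat_lit 0) (Node.sp (nat_lit 1) (Node.lf (Leaf.pt (nat_lit 9) (nat_lit 1) [nat_lit 10])) (Node.sp (nat_lit 26) (Node.lf (Leaf.pt (nat_lit 9) (nat_lit 26) [nat_lit 10])) (Node.st (nat_lit 0) (nat_lit 26) (nat_lit 0) (Node.sp (nat_lit 28) (Node.lf (Leaf.pt (nat_lit 9) (nat_lit 28) [nat_lit 12])) (Node.st (nat_lit 0) (nat_lit 28) (nat_lit 0) (Node.sp (nat_lit 40) (Node.lf (Leaf.pt (nat_lit 9) (nat_lit 40) [nat_lit 76])) (Node.st (nat_lit 0) (nat_lit 40) (nat_lit 0) (Node.sp (nat_lit 68) (Node.lf (Leaf.pt (nat_lit 9) (nat_lit 68) [nat_lit 10])) (Node.st (nat_lit 0) (nat_lit 68) (nat_lit 0) (Node.sp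 (nat_lit 92) (Node.lf (Leaf.pt (nat_lit 9) (nat_lit 92) [nat_lit 10])) (Node.st (nat_lit 0) (nat_lit 92) (nat_lit 0) (Node.sp (nat_lit 148) (Node.lf (Leaf.pt (nat_lit 17) (nat_lit 148) [nat_lit 334,nat_lit 110])) (Node.st (nat_lit 0) (nat_lit 148) (nat_lit 0) (Node.ext [[nat_lit 32,nat_lit 16,nat_lit 8,nat_lit 4,nat_lit 2,nat_lit 1]] (nat_lit 10) [Ins.ts (nat_lit 4) [nat_lit 0] [nat_lit 10,nat_lit 0,nat_lit 0],Ins.fr [nat_lit 0],Ins.ts (nat_lit 1) [nat_lit 0,nat_lit 0] [],Ins.ts (nat_lit 1) [nat_lit 0,nat_lit 0,nat_lit 0,nat_lit 0] [],Ins.fr [nat_lit 1],Ins.ts (nat_lit 1) [nat_lit 0,nat_lit 0] [],Ins.ts (nat_lit 0) [nat_lit 0,nat_lit 1,nat_lit 1,nat_lit 0] [],Ins.ts (nat_lit 0) [nat_lit 1,nat_lit 1,nat_lit 1] [nat_lit 0,nat_lit 1,nat_lit 0],Ins.ts (nat_lit 2) [nat_lit 0,nat_lit 0,nat_lit 1,nat_lit 0] [],Ins.fr [nat_lit 2],Ins.ts (nat_lit 1) [nat_lit 0,nat_lit 0] [],Ins.ts (nat_lit 4) [nat_lit 0] [nat_lit 37,nat_lit 0,nat_lit 0],Ins.ts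 (nat_lit 3) [nat_lit 1,nat_lit 0,nat_lit 2] [],Ins.ts (nat_lit 2) [nat_lit 1,nat_lit 0] [],Ins.ts (nat_lit 0) [nat_lit 0,nat_lit 2,nat_lit 0,nat_lit 2] [],Ins.fr [nat_lit 0,nat_lit 0,nat_lit 3],Ins.ts (nat_lit 4) [nat_lit 0] [nat_lit 5,nat_lit 0,nat_lit 0],Ins.ts (nat_lit 1) [nat_lit 0,nat_lit 0] [],Ins.ts (nat_lit 2) [nat_lit 4,nat_lit 0] [],Ins.ts (nat_lit 0) [nat_lit 2,nat_lit 0,nat_lit 2] [nat_lit 0],Ins.ts (nat_lit 0) [nat_lit 1,nat_lit 0] [nat_lit 0,nat_lit 1],Ins.fr [nat_lit 0,nat_lit 0,nat_lit 0,nat_lit 1],Ins.ts (nat_lit 0) [nat_lit 4,nat_lit 4] [nat_lit 0,nat_lit 0],Ins.ts (nat_lit 0) [nat_lit 4,nat_lit 0] [nat_lit 0,nat_lit 4],Ins.fr [nat_lit 2,nat_lit 4,nat_lit 3,nat_lit 5],Ins.ts (nat_lit 0) [nat_lit 1,nat_lit 4,nat_lit 0] [nat_lit 0,nat_lit 5],Ins.ts (nat_lit 0) [nat_lit 4,nat_lit 5,nat_lit 0] [nat_lit 0,nat_lit 3],Ins.ts (nat_lit 0) [nat_lit 0,nat_lit 4,nat_lit 1] [nat_lit 5,nat_lit 0],Ins.df [nat_lit 2,nat_lit 2],Ins.df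 [nat_lit 2,nat_lit 2],Ins.df [nat_lit 0,nat_lit 1,nat_lit 8],Ins.df [nat_lit 1,nat_lit 7,nat_lit 8],Ins.df [nat_lit 3,nat_lit 6,nat_lit 7],Ins.df [nat_lit 0,nat_lit 10]] [nat_lit 96,nat_lit 112,nat_lit 36,nat_lit 4,nat_lit 128,nat_lit 256] [nat_lit 5,nat_lit 4,nat_lit 8,nat_lit 3,nat_lit 2,nat_lit 1,nat_lit 0,nat_lit 7,nat_lit 6] (Srch.ex0 [nat_lit 68,nat_lit 36,nat_lit 16,nat_lit 8,nat_lit 2,nat_lit 1] (Srch.rep (nat_lit 12) [nat_lit 4,nat_lit 16,nat_lit 192] [nat_lit 192,nat_lit 34,nat_lit 16,nat_lit 8,nat_lit 4,nat_lit 1] [nat_lit 256,nat_lit 64,nat_lit 2] c224_0 Srch.nil)) (Node.lf (Leaf.au (nat_lit 1) (nat_lit 0) (nat_lit 0) [] [] [nat_lit 3,nat_lit 1] (nat_lit 0) [] (nat_lit 42) [nat_lit 0,nat_lit 2,nat_lit 44,nat_lit 10,nat_lit 10,nat_lit 34,nat_lit 106,nat_lit 168,nat_lit 260])))))))))))))))))))))))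
theorem ok224 : nodeOK DB PT 224 t224 (nat_lit 0xcf0f00cf00303f0f000000000f00000f00000f0f0f0f0f0fcfc0303fc03fc03) (nat_lit 0x2200111100001111000000002200111100000000002200000022111100001111000000000000000000000000000000000000111100000000000000000000111100000000000000000000111100001111000011110000111100001111000011112200111122000000003300000033111122000000005511112200000000ff) c224 = true := by
  decide +kernel
noncomputable def c225_0 : Srch :=
  Srch.rep (nat_lit 16) [nat_lit 4,nat_lit 8,nat_lit 64] [nat_lit 64,nat_lit 16,nat_lit 8,nat_lit 4,nat_lit 2,nat_lit 1] [nat_lit 128,nat_lit 32] (Srch.rep (nat_lit 64) [nat_lit 64] [] [] (Srch.rep (nat_lit 74) [] [] [] Srch.nil Srch.nil) (Srch.rep (nat_lit 72) [nat_lit 72] [] [] (Srch.rep (nat_lit 66) [nat_lit 2] [] [] (Srch.rep (nat_lit 20) [nat_lit 16] [] [] (Srch.rep (nat_lit 46) [] [] [] (Srch.rep (nat_lit 176) [] [] [] (Srch.fin [nat_lit 128,nat_lit 4] [nat_lit 0] (((nat_lit 48),(Leaf.pt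 (nat_lit 12) (nat_lit 76) [nat_lit 40,nat_lit 260]))::(((nat_lit 49),(Leaf.pt (nat_lit 12) (nat_lit 76) [nat_lit 40,nat_lit 260]))::[]))) (Srch.rep (nat_lit 177) [] [] [] (Srch.fin [nat_lit 128,nat_lit 4] [nat_lit 0] (((nat_lit 48),(Leaf.pt (nat_lit 12) (nat_lit 76) [nat_lit 40,nat_lit 260]))::(((nat_lit 49),(Leaf.pt (nat_lit 12) (nat_lit 76) [nat_lit 40,nat_lit 260]))::[]))) Srch.nil)) Srch.nil) (Srch.rep (nat_lit 22) [nat_lit 16] [] [] (Srch.rep (nat_lit 44) [] [] [] (Srch.rep (nat_lit 154) [] [] [] (Srch.fin [nat_lit 128,nat_lit 4] [nat_lit 0] (((nat_lit 40),(Leaf.pt (nat_lit 12) (nat_lit 76) [nat_lit 26,nat_lit 256]))::(((nat_lit 41),(Leaf.pt (nat_lit 12) (nat_lit 76) [nat_lit 26,nat_lit 256]))::[]))) (Srch.rep (nat_lit 155) [] [] [] (Srch.fin [nat_lit 128,nat_lit 4] [nat_lit 0] (((nat_lit 40),(Leaf.pt (nat_lit 12) (nat_lit 76) [nat_lit 26,nat_lit 256]))::(((nat_lit 41),(Leaf.pt (nat_lit 12) (nat_lit 76) [nat_lit 26,nat_lit 256]))::[])))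 Srch.nil)) Srch.nil) Srch.nil)) Srch.nil) (Srch.rep (nat_lit 80) [nat_lit 64] [] [] (Srch.rep (nat_lit 90) [nat_lit 2] [] [] (Srch.rep (nat_lit 20) [nat_lit 16] [] [] (Srch.rep (nat_lit 46) [] [] [] (Srch.rep (nat_lit 176) [] [] [] (Srch.fin [nat_lit 128,nat_lit 4,nat_lit 64] [nat_lit 0] (((nat_lit 0),(Leaf.mp (nat_lit 200) [nat_lit 1,nat_lit 2,nat_lit 4,nat_lit 8,nat_lit 16,nat_lit 32,nat_lit 64,nat_lit 496,nat_lit 256] [[nat_lit 1],[nat_lit 3],[nat_lit 5]]))::(((nat_lit 1),(Leaf.mp (nat_lit 215) [nat_lit 1,nat_lit 2,nat_lit 4,nat_lit 8,nat_lit 16,nat_lit 32,nat_lit 64,nat_lit 496,nat_lit 256] [[nat_lit 1],[nat_lit 3],[nat_lit 5]]))::[]))) (Srch.rep (nat_lit 177) [] [] [] (Srch.fin [nat_lit 128,nat_lit 4,nat_lit 64] [nat_lit 0] (((nat_lit 0),(Leaf.mp (nat_lit 194) [nat_lit 1,nat_lit 2,nat_lit 4,nat_lit 8,nat_lit 16,nat_lit 32,nat_lit 64,nat_lit 496,nat_lit 256] [[nat_lit 1],[nat_lit 3],[nat_lit 5]]))::(((nat_lit 1),(Leaf.mp (nat_lit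 209) [nat_lit 1,nat_lit 2,nat_lit 4,nat_lit 8,nat_lit 16,nat_lit 32,nat_lit 64,nat_lit 496,nat_lit 256] [[nat_lit 1],[nat_lit 3],[nat_lit 5]]))::[]))) Srch.nil)) Srch.nil) (Srch.rep (nat_lit 22) [nat_lit 16] [] [] (Srch.rep (nat_lit 44) [] [] [] (Srch.rep (nat_lit 154) [] [] [] (Srch.fin [nat_lit 128,nat_lit 4,nat_lit 64] [nat_lit 0] (((nat_lit 24),(Leaf.au (nat_lit 3) (nat_lit 16) (nat_lit 0) [[nat_lit 16,nat_lit 11,nat_lit 69,nat_lit 1]] [nat_lit 68,nat_lit 16,nat_lit 8,nat_lit 2,nat_lit 1] [nat_lit 5,nat_lit 704,nat_lit 5,nat_lit 640,nat_lit 5] (nat_lit 1) [nat_lit 0,nat_lit 1,nat_lit 69,nat_lit 68,nat_lit 11,nat_lit 10,nat_lit 78,nat_lit 79,nat_lit 16,nat_lit 17,nat_lit 85,nat_lit 84,nat_lit 27,nat_lit 26,nat_lit 94,nat_lit 95] (nat_lit 0) [nat_lit 0,nat_lit 0,nat_lit 2,nat_lit 2,nat_lit 0]))::(((nat_lit 25),(Leaf.au (nat_lit 3) (nat_lit 16) (nat_lit 0) [[nat_lit 16,nat_lit 11,nat_lit 69,nat_lit 1]] [nat_lit 68,nat_lit 16,nat_lit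 8,nat_lit 2,nat_lit 1] [nat_lit 5,nat_lit 704,nat_lit 5,nat_lit 640,nat_lit 5] (nat_lit 1) [nat_lit 0,nat_lit 1,nat_lit 69,nat_lit 68,nat_lit 11,nat_lit 10,nat_lit 78,nat_lit 79,nat_lit 16,nat_lit 17,nat_lit 85,nat_lit 84,nat_lit 27,nat_lit 26,nat_lit 94,nat_lit 95] (nat_lit 0) [nat_lit 0,nat_lit 0,nat_lit 2,nat_lit 2,nat_lit 0]))::[]))) (Srch.rep (nat_lit 155) [] [] [] (Srch.fin [nat_lit 128,nat_lit 4,nat_lit 64] [nat_lit 0] (((nat_lit 24),(Leaf.au (nat_lit 3) (nat_lit 16) (nat_lit 0) [[nat_lit 16,nat_lit 11,nat_lit 69,nat_lit 1]] [nat_lit 68,nat_lit 16,nat_lit 8,nat_lit 2,nat_lit 1] [nat_lit 5,nat_lit 704,nat_lit 5,nat_lit 640,nat_lit 5] (nat_lit 1) [nat_lit 0,nat_lit 1,nat_lit 69,nat_lit 68,nat_lit 11,nat_lit 10,nat_lit 78,nat_lit 79,nat_lit 16,nat_lit 17,nat_lit 85,nat_lit 84,nat_lit 27,nat_lit 26,nat_lit 94,nat_lit 95] (nat_lit 0) [nat_lit 0,nat_lit 0,nat_lit 2,nat_lit 2,nat_lit 0]))::(((nat_lit 25),(Leaf.au (nat_lit 3) (nat_lit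 16) (nat_lit 0) [[nat_lit 16,nat_lit 11,nat_lit 69,nat_lit 1]] [nat_lit 68,nat_lit 16,nat_lit 8,nat_lit 2,nat_lit 1] [nat_lit 5,nat_lit 704,nat_lit 5,nat_lit 640,nat_lit 5] (nat_lit 1) [nat_lit 0,nat_lit 1,nat_lit 69,nat_lit 68,nat_lit 11,nat_lit 10,nat_lit 78,nat_lit 79,nat_lit 16,nat_lit 17,nat_lit 85,nat_lit 84,nat_lit 27,nat_lit 26,nat_lit 94,nat_lit 95] (nat_lit 0) [nat_lit 0,nat_lit 0,nat_lit 2,nat_lit 2,nat_lit 0]))::[]))) Srch.nil)) Srch.nil) Srch.nil)) Srch.nil) (Srch.rep (nat_lit 88) [nat_lit 72] [] [] (Srch.rep (nat_lit 82) [] [] [] Srch.nil Srch.nil) Srch.nil)))) (Srch.rep (nat_lit 60) [nat_lit 4,nat_lit 10,nat_lit 194] [nat_lit 194,nat_lit 32,nat_lit 18,nat_lit 10,nat_lit 4,nat_lit 1] [nat_lit 64,nat_lit 2] (Srch.rep (nat_lit 194) [nat_lit 194] [] [] (Srch.rep (nat_lit 204) [nat_lit 22] [] [] (Srch.rep (nat_lit 18) [nat_lit 60] [] [] (Srch.rep (nat_lit 44) [] [] [] (Srch.rep (nat_lit 157) [] [] [] (Srch.fin [nat_lit 64,nat_lit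 128] [nat_lit 0] (((nat_lit 46),(Leaf.au (nat_lit 2) (nat_lit 16) (nat_lit 1) [[nat_lit 32,nat_lit 16,nat_lit 8,nat_lit 4,nat_lit 2,nat_lit 1]] [nat_lit 64,nat_lit 32,nat_lit 16,nat_lit 8,nat_lit 4,nat_lit 2,nat_lit 1] [nat_lit 1,nat_lit 3,nat_lit 840] (nat_lit 2) [] (nat_lit 0) [nat_lit 64,nat_lit 32,nat_lit 8,nat_lit 8,nat_lit 4,nat_lit 2,nat_lit 0]))::(((nat_lit 47),(Leaf.au (nat_lit 2) (nat_lit 16) (nat_lit 1) [[nat_lit 32,nat_lit 16,nat_lit 8,nat_lit 4,nat_lit 2,nat_lit 1]] [nat_lit 64,nat_lit 32,nat_lit 16,nat_lit 8,nat_lit 4,nat_lit 2,nat_lit 1] [nat_lit 1,nat_lit 3,nat_lit 840] (nat_lit 2) [] (nat_lit 0) [nat_lit 64,nat_lit 32,nat_lit 8,nat_lit 8,nat_lit 4,nat_lit 2,nat_lit 0]))::[]))) (Srch.rep (nat_lit 156) [] [] [] (Srch.fin [nat_lit 64,nat_lit 128] [nat_lit 0] (((nat_lit 54),(Leaf.au (nat_lit 2) (nat_lit 16) (nat_lit 1) [[nat_lit 32,nat_lit 16,nat_lit 8,nat_lit 4,nat_lit 2,nat_lit 1]] [nat_lit 64,nat_lit 32,nat_lit 16,nat_lit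 8,nat_lit 4,nat_lit 2,nat_lit 1] [nat_lit 1,nat_lit 3,nat_lit 840] (nat_lit 2) [] (nat_lit 0) [nat_lit 64,nat_lit 32,nat_lit 8,nat_lit 8,nat_lit 4,nat_lit 2,nat_lit 0]))::(((nat_lit 55),(Leaf.au (nat_lit 2) (nat_lit 16) (nat_lit 1) [[nat_lit 32,nat_lit 16,nat_lit 8,nat_lit 4,nat_lit 2,nat_lit 1]] [nat_lit 64,nat_lit 32,nat_lit 16,nat_lit 8,nat_lit 4,nat_lit 2,nat_lit 1] [nat_lit 1,nat_lit 3,nat_lit 840] (nat_lit 2) [] (nat_lit 0) [nat_lit 64,nat_lit 32,nat_lit 8,nat_lit 8,nat_lit 4,nat_lit 2,nat_lit 0]))::[]))) Srch.nil)) Srch.nil) (Srch.rep (nat_lit 56) [nat_lit 60] [] [] (Srch.rep (nat_lit 7) [] [] [] (Srch.rep (nat_lit 158) [] [] [] (Srch.fin [nat_lit 64,nat_lit 128] [nat_lit 0] (((nat_lit 161),(Leaf.mp (nat_lit 221) [nat_lit 1,nat_lit 2,nat_lit 4,nat_lit 8,nat_lit 16,nat_lit 32,nat_lit 64,nat_lit 128,nat_lit 256] [[nat_lit 1],[nat_lit 3],[nat_lit 5]]))::(((nat_lit 160),(Leaf.mp (nat_lit 222) [nat_lit 1,nat_lit 2,nat_lit 4,nat_lit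 8,nat_lit 16,nat_lit 32,nat_lit 64,nat_lit 128,nat_lit 256] [[nat_lit 1],[nat_lit 3],[nat_lit 5]]))::[]))) (Srch.rep (nat_lit 159) [] [] [] (Srch.fin [nat_lit 64,nat_lit 128] [] []) Srch.nil)) Srch.nil) Srch.nil)) Srch.nil) (Srch.rep (nat_lit 204) [nat_lit 204] [] [] (Srch.rep (nat_lit 194) [nat_lit 22] [] [] (Srch.rep (nat_lit 18) [] [] [] Srch.nil (Srch.rep (nat_lit 56) [] [] [] Srch.nil Srch.nil)) Srch.nil) (Srch.rep (nat_lit 212) [nat_lit 194] [] [] (Srch.rep (nat_lit 218) [nat_lit 22] [] [] (Srch.rep (nat_lit 18) [] [] [] Srch.nil (Srch.rep (nat_lit 56) [] [] [] Srch.nil Srch.nil)) Srch.nil) (Srch.rep (nat_lit 218) [nat_lit 204] [] [] (Srch.rep (nat_lit 212) [nat_lit 22] [] [] (Srch.rep (nat_lit 18) [nat_lit 60] [] [] (Srch.rep (nat_lit 44) [] [] [] (Srch.rep (nat_lit 157) [] [] [] (Srch.fin [nat_lit 64,nat_lit 128] [] []) (Srch.rep (nat_lit 156) [] [] [] (Srch.fin [nat_lit 64,nat_lit 128] [nat_lit 0] (((nat_lit 31),(Leaf.mp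 (nat_lit 223) [nat_lit 1,nat_lit 2,nat_lit 4,nat_lit 8,nat_lit 16,nat_lit 32,nat_lit 64,nat_lit 128,nat_lit 256] [[nat_lit 1],[nat_lit 3],[nat_lit 5]]))::(((nat_lit 30),(Leaf.mp (nat_lit 224) [nat_lit 1,nat_lit 2,nat_lit 4,nat_lit 8,nat_lit 16,nat_lit 32,nat_lit 64,nat_lit 128,nat_lit 256] [[nat_lit 1],[nat_lit 3],[nat_lit 5]]))::[]))) Srch.nil)) Srch.nil) (Srch.rep (nat_lit 56) [nat_lit 60] [] [] (Srch.rep (nat_lit 7) [] [] [] (Srch.rep (nat_lit 158) [] [] [] (Srch.fin [nat_lit 64,nat_lit 128] [nat_lit 0] (((nat_lit 136),(Leaf.au (nat_lit 2) (nat_lit 16) (nat_lit 1) [[nat_lit 32,nat_lit 16,nat_lit 8,nat_lit 4,nat_lit 2,nat_lit 1]] [nat_lit 64,nat_lit 32,nat_lit 16,nat_lit 8,nat_lit 4,nat_lit 2,nat_lit 1] [nat_lit 1,nat_lit 3,nat_lit 644] (nat_lit 2) [] (nat_lit 0) [nat_lit 64,nat_lit 32,nat_lit 8,nat_lit 8,nat_lit 4,nat_lit 2,nat_lit 0]))::(((nat_lit 137),(Leaf.au (nat_lit 2) (nat_lit 16) (nat_lit 1) [[nat_lit 32,nat_lit 16,nat_lit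 8,nat_lit 4,nat_lit 2,nat_lit 1]] [nat_lit 64,nat_lit 32,nat_lit 16,nat_lit 8,nat_lit 4,nat_lit 2,nat_lit 1] [nat_lit 1,nat_lit 3,nat_lit 644] (nat_lit 2) [] (nat_lit 0) [nat_lit 64,nat_lit 32,nat_lit 8,nat_lit 8,nat_lit 4,nat_lit 2,nat_lit 0]))::[]))) (Srch.rep (nat_lit 159) [] [] [] (Srch.fin [nat_lit 64,nat_lit 128] [nat_lit 0] (((nat_lit 145),(Leaf.au (nat_lit 2) (nat_lit 16) (nat_lit 1) [[nat_lit 32,nat_lit 16,nat_lit 8,nat_lit 4,nat_lit 2,nat_lit 1]] [nat_lit 64,nat_lit 32,nat_lit 16,nat_lit 8,nat_lit 4,nat_lit 2,nat_lit 1] [nat_lit 1,nat_lit 3,nat_lit 644] (nat_lit 2) [] (nat_lit 0) [nat_lit 64,nat_lit 32,nat_lit 8,nat_lit 8,nat_lit 4,nat_lit 2,nat_lit 0]))::(((nat_lit 144),(Leaf.au (nat_lit 2) (nat_lit 16) (nat_lit 1) [[nat_lit 32,nat_lit 16,nat_lit 8,nat_lit 4,nat_lit 2,nat_lit 1]] [nat_lit 64,nat_lit 32,nat_lit 16,nat_lit 8,nat_lit 4,nat_lit 2,nat_lit 1] [nat_lit 1,nat_lit 3,nat_lit 644] (nat_lit 2) [] (nat_lit 0) [nat_lit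 64,nat_lit 32,nat_lit 8,nat_lit 8,nat_lit 4,nat_lit 2,nat_lit 0]))::[]))) Srch.nil)) Srch.nil) Srch.nil)) Srch.nil) Srch.nil)))) Srch.nil)
noncomputable def c225_1 : Node :=
  Node.ext [[nat_lit 32,nat_lit 16,nat_lit 8,nat_lit 4,nat_lit 2,nat_lit 1]] (nat_lit 10) [Ins.ts (nat_lit 4) [nat_lit 0] [nat_lit 10,nat_lit 0,nat_lit 0],Ins.fr [nat_lit 0],Ins.ts (nat_lit 1) [nat_lit 0,nat_lit 0] [],Ins.ts (nat_lit 1) [nat_lit 0,nat_lit 0,nat_lit 0,nat_lit 0] [],Ins.fr [nat_lit 1],Ins.ts (nat_lit 1) [nat_lit 0,nat_lit 0] [],Ins.ts (nat_lit 0) [nat_lit 0,nat_lit 1,nat_lit 1,nat_lit 0] [],Ins.ts (nat_lit 0) [nat_lit 1,nat_lit 1,nat_lit 1] [nat_lit 0,nat_lit 1,nat_lit 0],Ins.ts (nat_lit 2) [nat_lit 0,nat_lit 0,nat_lit 1,nat_lit 0] [],Ins.fr [nat_lit 2],Ins.ts (nat_lit 4) [nat_lit 0] [nat_lit 37,nat_lit 0,nat_lit 0],Ins.ts (nat_lit 1) [nat_lit 0,nat_lit 0] [],Ins.ts (nat_lit 3) [nat_lit 1,nat_lit 0,nat_lit 2] [],Ins.ts (nat_lit 0) [nat_lit 0,nat_lit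 2,nat_lit 0,nat_lit 2] [],Ins.ts (nat_lit 2) [nat_lit 1,nat_lit 0] [],Ins.fr [nat_lit 0,nat_lit 0,nat_lit 3],Ins.ts (nat_lit 4) [nat_lit 0] [nat_lit 5,nat_lit 0,nat_lit 0],Ins.ts (nat_lit 1) [nat_lit 0,nat_lit 0] [],Ins.ts (nat_lit 2) [nat_lit 4,nat_lit 0] [],Ins.ts (nat_lit 0) [nat_lit 2,nat_lit 0,nat_lit 2] [nat_lit 0],Ins.ts (nat_lit 0) [nat_lit 1,nat_lit 0] [nat_lit 0,nat_lit 1],Ins.fr [nat_lit 0,nat_lit 0,nat_lit 0,nat_lit 1],Ins.ts (nat_lit 0) [nat_lit 4,nat_lit 4] [nat_lit 0,nat_lit 0],Ins.ts (nat_lit 0) [nat_lit 4,nat_lit 0] [nat_lit 0,nat_lit 4],Ins.df [nat_lit 1,nat_lit 1],Ins.df [nat_lit 1,nat_lit 1],Ins.df [nat_lit 0,nat_lit 1,nat_lit 7],Ins.df [nat_lit 1,nat_lit 6,nat_lit 7],Ins.df [nat_lit 3,nat_lit 5,nat_lit 6],Ins.df [nat_lit 0,nat_lit 9]] [nat_lit 96,nat_lit 112,nat_lit 36,nat_lit 4,nat_lit 128] [nat_lit 5,nat_lit 4,nat_lit 7,nat_lit 3,nat_lit 2,nat_lit 1,nat_lit 0,nat_lit 6] (Srch.ex0 [nat_lit 68,nat_lit 36,nat_lit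 16,nat_lit 8,nat_lit 2,nat_lit 1] (Srch.rep (nat_lit 12) [nat_lit 4,nat_lit 16,nat_lit 192] [nat_lit 192,nat_lit 34,nat_lit 16,nat_lit 8,nat_lit 4,nat_lit 1] [nat_lit 64,nat_lit 2] (Srch.rep (nat_lit 192) [nat_lit 192] [] [] (Srch.rep (nat_lit 254) [nat_lit 38] [] [] (Srch.rep (nat_lit 8) [nat_lit 12] [] [] (Srch.rep (nat_lit 7) [] [] [] (Srch.rep (nat_lit 132) [] [] [] (Srch.fin [nat_lit 64,nat_lit 128] [] []) (Srch.rep (nat_lit 133) [] [] [] (Srch.fin [nat_lit 64,nat_lit 128] [nat_lit 0] (((nat_lit 143),(Leaf.au (nat_lit 2) (nat_lit 16) (nat_lit 1) [[nat_lit 32,nat_lit 16,nat_lit 8,nat_lit 4,nat_lit 2,nat_lit 1]] [nat_lit 64,nat_lit 32,nat_lit 16,nat_lit 8,nat_lit 4,nat_lit 2,nat_lit 1] [nat_lit 3,nat_lit 576,nat_lit 3] (nat_lit 2) [] (nat_lit 2) [nat_lit 64,nat_lit 32,nat_lit 8,nat_lit 8,nat_lit 6,nat_lit 2,nat_lit 0]))::(((nat_lit 142),(Leaf.au (nat_lit 2) (nat_lit 16) (nat_lit 1) [[nat_lit 32,nat_lit 16,nat_lit 8,nat_lit 4,nat_lit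 2,nat_lit 1]] [nat_lit 64,nat_lit 32,nat_lit 16,nat_lit 8,nat_lit 4,nat_lit 2,nat_lit 1] [nat_lit 3,nat_lit 576,nat_lit 3] (nat_lit 2) [] (nat_lit 2) [nat_lit 64,nat_lit 32,nat_lit 8,nat_lit 8,nat_lit 6,nat_lit 2,nat_lit 0]))::[]))) Srch.nil)) Srch.nil) (Srch.rep (nat_lit 34) [nat_lit 12] [] [] (Srch.rep (nat_lit 44) [] [] [] (Srch.rep (nat_lit 132) [] [] [] (Srch.fin [nat_lit 64,nat_lit 128] [nat_lit 0] (((nat_lit 31),(Leaf.mp (nat_lit 217) [nat_lit 1,nat_lit 2,nat_lit 4,nat_lit 8,nat_lit 16,nat_lit 32,nat_lit 64,nat_lit 128,nat_lit 256] [[nat_lit 1],[nat_lit 3],[nat_lit 5]]))::(((nat_lit 30),(Leaf.mp (nat_lit 217) [nat_lit 1,nat_lit 2,nat_lit 4,nat_lit 8,nat_lit 16,nat_lit 32,nat_lit 64,nat_lit 129,nat_lit 280] [[nat_lit 1],[nat_lit 3],[nat_lit 5]]))::[]))) (Srch.rep (nat_lit 133) [] [] [] (Srch.fin [nat_lit 64,nat_lit 128] [nat_lit 0] (((nat_lit 7),(Leaf.mp (nat_lit 218) [nat_lit 1,nat_lit 2,nat_lit 4,nat_lit 8,nat_lit 16,nat_lit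 32,nat_lit 64,nat_lit 128,nat_lit 256] [[nat_lit 1],[nat_lit 3],[nat_lit 5]]))::(((nat_lit 6),(Leaf.mp (nat_lit 218) [nat_lit 1,nat_lit 2,nat_lit 4,nat_lit 8,nat_lit 16,nat_lit 32,nat_lit 64,nat_lit 129,nat_lit 280] [[nat_lit 1],[nat_lit 3],[nat_lit 5]]))::[]))) Srch.nil)) Srch.nil) Srch.nil)) Srch.nil) (Srch.rep (nat_lit 204) [nat_lit 192] [] [] (Srch.rep (nat_lit 242) [nat_lit 38] [] [] (Srch.rep (nat_lit 8) [] [] [] Srch.nil (Srch.rep (nat_lit 34) [] [] [] Srch.nil Srch.nil)) Srch.nil) (Srch.rep (nat_lit 212) [nat_lit 212] [] [] (Srch.rep (nat_lit 234) [nat_lit 38] [] [] (Srch.rep (nat_lit 8) [] [] [] Srch.nil (Srch.rep (nat_lit 34) [] [] [] Srch.nil Srch.nil)) Srch.nil) (Srch.rep (nat_lit 216) [nat_lit 212] [] [] (Srch.rep (nat_lit 230) [nat_lit 38] [] [] (Srch.rep (nat_lit 8) [nat_lit 12] [] [] (Srch.rep (nat_lit 7) [] [] [] (Srch.rep (nat_lit 132) [] [] [] (Srch.fin [nat_lit 64,nat_lit 128] [nat_lit 0] (((nat_lit 150),(Leaf.mp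 (nat_lit 219) [nat_lit 1,nat_lit 2,nat_lit 4,nat_lit 8,nat_lit 16,nat_lit 32,nat_lit 64,nat_lit 128,nat_lit 256] [[nat_lit 1],[nat_lit 3],[nat_lit 5]]))::(((nat_lit 151),(Leaf.mp (nat_lit 219) [nat_lit 1,nat_lit 2,nat_lit 4,nat_lit 8,nat_lit 16,nat_lit 32,nat_lit 64,nat_lit 129,nat_lit 280] [[nat_lit 1],[nat_lit 3],[nat_lit 5]]))::[]))) (Srch.rep (nat_lit 133) [] [] [] (Srch.fin [nat_lit 64,nat_lit 128] [nat_lit 0] (((nat_lit 143),(Leaf.mp (nat_lit 220) [nat_lit 1,nat_lit 2,nat_lit 4,nat_lit 8,nat_lit 16,nat_lit 32,nat_lit 64,nat_lit 128,nat_lit 256] [[nat_lit 1],[nat_lit 3],[nat_lit 5]]))::(((nat_lit 142),(Leaf.mp (nat_lit 220) [nat_lit 1,nat_lit 2,nat_lit 4,nat_lit 8,nat_lit 16,nat_lit 32,nat_lit 64,nat_lit 129,nat_lit 280] [[nat_lit 1],[nat_lit 3],[nat_lit 5]]))::[]))) Srch.nil)) Srch.nil) (Srch.rep (nat_lit 34) [nat_lit 12] [] [] (Srch.rep (nat_lit 44) [] [] [] (Srch.rep (nat_lit 132) [] [] [] (Srch.fin [nat_lit 64,nat_lit 128]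 [] []) (Srch.rep (nat_lit 133) [] [] [] (Srch.fin [nat_lit 64,nat_lit 128] [nat_lit 0] (((nat_lit 7),(Leaf.au (nat_lit 2) (nat_lit 16) (nat_lit 1) [[nat_lit 32,nat_lit 16,nat_lit 8,nat_lit 4,nat_lit 2,nat_lit 1]] [nat_lit 64,nat_lit 32,nat_lit 16,nat_lit 8,nat_lit 4,nat_lit 2,nat_lit 1] [nat_lit 3,nat_lit 960,nat_lit 3] (nat_lit 2) [] (nat_lit 2) [nat_lit 64,nat_lit 32,nat_lit 8,nat_lit 8,nat_lit 6,nat_lit 2,nat_lit 0]))::(((nat_lit 6),(Leaf.au (nat_lit 2) (nat_lit 16) (nat_lit 1) [[nat_lit 32,nat_lit 16,nat_lit 8,nat_lit 4,nat_lit 2,nat_lit 1]] [nat_lit 64,nat_lit 32,nat_lit 16,nat_lit 8,nat_lit 4,nat_lit 2,nat_lit 1] [nat_lit 3,nat_lit 960,nat_lit 3] (nat_lit 2) [] (nat_lit 2) [nat_lit 64,nat_lit 32,nat_lit 8,nat_lit 8,nat_lit 6,nat_lit 2,nat_lit 0]))::[]))) Srch.nil)) Srch.nil) Srch.nil)) Srch.nil) Srch.nil)))) c225_0)) (Node.lf (Leaf.au (nat_lit 1) (nat_lit 0) (nat_lit 0) [] [] [nat_lit 3,nat_lit 1] (nat_lit 0) [] (nat_lit 42)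 [nat_lit 0,nat_lit 2,nat_lit 44,nat_lit 10,nat_lit 10,nat_lit 34,nat_lit 106,nat_lit 168]))
noncomputable def t225 : ℕ := nat_lit 0xaa00aa00ab00ab0083008300820082008100810081008100a900a900a900a9008100810081008100a800a800a800a800ab00ab00aa00aa0083008300820082008000800080008000a800a800a800a800ab00ab00aa00aa008200820083008300aa00aa00ab00ab0082008200830083008000800080008000a900a900a900a9008000800080008000a800a800a800a800ab00ab00aa00aa008200820083008300aa00aa00ab00ab0082008200830083008000800080008000a900a900a900a900aa00aa00ab00ab0083008300820082008100810081008100a900a900a900a9008100810081008100a800a800a800a800ab00ab00aa00aa008300830082008200a800a800a800a80080008000800080008200820083008300ab00ab00aa00aa008200820083008300aa00aa00ab00ab00a900a900a900a90080008000800080008300830082008200aa00aa00ab00ab00a900a900a900a9008100810081008100a800a800a800a80081008100810081008300830082008200ab00ab00aa00aa008300830082008200aa00aa00ab00ab00a900a900a90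0a9008100810081008100a800a800a800a80081008100810081008300830082008200ab00ab00aa00aa00a800a800a800a80080008000800080008200820083008300ab00ab00aa00aa008200820083008300aa00aa00ab00ab00a900a900a900a900800080008000800040004000400040004200420043004300410041004100410043004300420042004000400040004000420042004300430041004100410041004300430042004200400040004000400042004200430043004100410041004100430043004200420040004000400040004200420043004300410041004100410043004300420042004300430042004200410041004100410042004200430043004000400040004000430043004200420041004100410041004200420043004300400040004000400043004300420042004100410041004100420042004300430040004000400040004300430042004200410041004100410042004200430043004000400040004000200020002000200020002000200020002100210021002100210021002100210021002100210021002100210021002100200020002000200020002000200020002000200020002000200020002000200021002100210021002100210021002100210021002100210021002100210021002000200020002000200020002000200010001000100010001000100010001000100010001000100010001000100010001000100010001000100010001000100010001000100010001000100010001000090009000900090009000900090009000800080008000800080008000800080004000400050005000500050004000400030003000200020001000100000000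
noncomputable def c225 : Node :=
  (Node.st (nat_lit 0) (nat_lit 10) (nat_lit 0) (Node.st (nat_lit 2) (nat_lit 0) (nat_lit 10) (Node.st (nat_lit 0) (nat_lit 14) (nat_lit 0) (Node.st (nat_lit 2) (nat_lit 1) (nat_lit 10) (Node.st (nat_lit 0) (nat_lit 17) (nat_lit 0) (Node.st (nat_lit 2) (nat_lit 1) (nat_lit 14) (Node.st (nat_lit 0) (nat_lit 63) (nat_lit 0) (Node.st (nat_lit 2) (nat_lit 2) (nat_lit 5) (Node.st (nat_lit 0) (nat_lit 78) (nat_lit 0) (Node.st (nat_lit 2) (nat_lit 2) (nat_lit 9) (Node.st (nat_lit 0) (nat_lit 85) (nat_lit 0) (Node.sp (nat_lit 1) (Node.lf (Leaf.pt (nat_lit 9) (nat_lit 1) [nat_lit 10])) (Node.sp (nat_lit 26) (Node.lf (Leaf.pt (nat_lit 9) (nat_lit 26) [nat_lit 10])) (Node.st (nat_lit 0) (nat_lit 26) (nat_lit 0) (Node.sp (nat_lit 28) (Node.lf (Leaf.pt (nat_lit 9) (nat_lit 28) [nat_lit 12])) (Node.st (nat_lit 0) (nat_lit 28) (nat_lit 0) (Node.sp (nat_lit 40) (Node.lf (Leaf.pt (nat_lit 9) (nat_lit 40) [nat_lit 76]))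 (Node.st (nat_lit 0) (nat_lit 40) (nat_lit 0) (Node.sp (nat_lit 50) (Node.lf (Leaf.pt (nat_lit 9) (nat_lit 50) [nat_lit 12])) (Node.st (nat_lit 0) (nat_lit 50) (nat_lit 0) (Node.sp (nat_lit 68) (Node.lf (Leaf.pt (nat_lit 9) (nat_lit 68) [nat_lit 10])) (Node.st (nat_lit 0) (nat_lit 68) (nat_lit 0) (Node.sp (nat_lit 92) (Node.lf (Leaf.pt (nat_lit 9) (nat_lit 92) [nat_lit 10])) (Node.st (nat_lit 0) (nat_lit 92) (nat_lit 0) c225_1))))))))))))))))))))))))
theorem ok225 : nodeOK DB PT 225 t225 (nat_lit 0xcf0f00cf00303f0f000000000f00000f00000f0f0f0f0f0fcfc0303fc03fc03) (nat_lit 0x2200111100001111000000002200111100000000002200000022111100001111000000000000000000000000000000000000111100000000000000000000111100000000000000000000111100001111000011110000111100001111000011112200111122000000003300000033111122000000005511112200000000ff) c225 = true := by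
  decide +kernel
noncomputable def c226_0 : Node :=
  Node.ext [[nat_lit 32,nat_lit 16,nat_lit 8,nat_lit 4,nat_lit 2,nat_lit 1]] (nat_lit 10) [Ins.ts (nat_lit 4) [nat_lit 0] [nat_lit 10,nat_lit 0,nat_lit 0],Ins.fr [nat_lit 0],Ins.ts (nat_lit 1) [nat_lit 0,nat_lit 0] [],Ins.ts (nat_lit 1) [nat_lit 0,nat_lit 0,nat_lit 0,nat_lit 0] [],Ins.fr [nat_lit 1],Ins.ts (nat_lit 1) [nat_lit 0,nat_lit 0] [],Ins.ts (nat_lit 0) [nat_lit 0,nat_lit 1,nat_lit 1,nat_lit 0] [],Ins.ts (nat_lit 0) [nat_lit 1,nat_lit 1,nat_lit 1] [nat_lit 0,nat_lit 1,nat_lit 0],Ins.ts (nat_lit 2) [nat_lit 0,nat_lit 0,nat_lit 1,nat_lit 0] [],Ins.fr [nat_lit 2],Ins.ts (nat_lit 1) [nat_lit 0,nat_lit 0] [],Ins.ts (nat_lit 4) [nat_lit 0] [nat_lit 37,nat_lit 0,nat_lit 0],Ins.ts (nat_lit 3) [nat_lit 1,nat_lit 0,nat_lit 2] [],Ins.ts (nat_lit 2) [nat_lit 1,nat_lit 0] [],Ins.ts (nat_lit 0) [nat_lit 0,nat_lit 2,nat_lit 0,nat_lit 2] [],Ins.fr [nat_lit 0,nat_lit 0,nat_lit 3],Ins.ts (nat_lit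 4) [nat_lit 0] [nat_lit 5,nat_lit 0,nat_lit 0],Ins.ts (nat_lit 1) [nat_lit 0,nat_lit 0] [],Ins.ts (nat_lit 2) [nat_lit 4,nat_lit 0] [],Ins.ts (nat_lit 0) [nat_lit 2,nat_lit 0,nat_lit 2] [nat_lit 0],Ins.ts (nat_lit 0) [nat_lit 1,nat_lit 0] [nat_lit 0,nat_lit 1],Ins.fr [nat_lit 0,nat_lit 1],Ins.ts (nat_lit 0) [nat_lit 2,nat_lit 0] [nat_lit 0,nat_lit 2],Ins.ts (nat_lit 0) [nat_lit 0,nat_lit 3,nat_lit 0,nat_lit 4] [nat_lit 5],Ins.fr [nat_lit 2,nat_lit 4,nat_lit 3,nat_lit 5],Ins.ts (nat_lit 0) [nat_lit 0,nat_lit 5,nat_lit 0] [nat_lit 2,nat_lit 1],Ins.df [nat_lit 2,nat_lit 2],Ins.df [nat_lit 6,nat_lit 6],Ins.df [nat_lit 0,nat_lit 1,nat_lit 8],Ins.df [nat_lit 1,nat_lit 7,nat_lit 8],Ins.df [nat_lit 3,nat_lit 6,nat_lit 7],Ins.df [nat_lit 0,nat_lit 10]] [nat_lit 96,nat_lit 112,nat_lit 36,nat_lit 4,nat_lit 128,nat_lit 256] [nat_lit 5,nat_lit 4,nat_lit 8,nat_lit 3,nat_lit 2,nat_lit 1,nat_lit 0,nat_lit 7,nat_lit 6] (Srch.ex0 [nat_lit 68,nat_lit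 36,nat_lit 16,nat_lit 8,nat_lit 2,nat_lit 1] (Srch.rep (nat_lit 12) [nat_lit 4,nat_lit 16,nat_lit 128] [nat_lit 128,nat_lit 34,nat_lit 16,nat_lit 8,nat_lit 4,nat_lit 1] [nat_lit 256,nat_lit 64,nat_lit 2] (Srch.rep (nat_lit 128) [nat_lit 128] [] [] (Srch.rep (nat_lit 190) [nat_lit 38] [] [] (Srch.rep (nat_lit 8) [nat_lit 12] [] [] (Srch.rep (nat_lit 7) [] [] [] (Srch.rep (nat_lit 122) [] [] [] (Srch.rep (nat_lit 482) [] [] [] (Srch.fin [nat_lit 256] [nat_lit 0] (((nat_lit 205),(Leaf.pt (nat_lit 12) (nat_lit 76) [nat_lit 40,nat_lit 906]))::(((nat_lit 204),(Leaf.pt (nat_lit 12) (nat_lit 76) [nat_lit 40,nat_lit 906]))::[]))) (Srch.rep (nat_lit 483) [] [] [] (Srch.fin [nat_lit 256] [nat_lit 0] (((nat_lit 205),(Leaf.pt (nat_lit 12) (nat_lit 76) [nat_lit 40,nat_lit 906]))::(((nat_lit 204),(Leaf.pt (nat_lit 12) (nat_lit 76) [nat_lit 40,nat_lit 906]))::[]))) Srch.nil)) (Srch.rep (nat_lit 123) [] [] [] (Srch.rep (nat_lit 506) [] [] [] (Srch.fin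 [nat_lit 256] [] []) (Srch.rep (nat_lit 507) [] [] [] (Srch.fin [nat_lit 256] [] []) Srch.nil)) Srch.nil)) Srch.nil) (Srch.rep (nat_lit 34) [nat_lit 12] [] [] (Srch.rep (nat_lit 44) [] [] [] (Srch.rep (nat_lit 122) [] [] [] Srch.nil (Srch.rep (nat_lit 123) [] [] [] Srch.nil Srch.nil)) Srch.nil) Srch.nil)) Srch.nil) (Srch.rep (nat_lit 140) [nat_lit 128] [] [] (Srch.rep (nat_lit 178) [] [] [] Srch.nil Srch.nil) (Srch.rep (nat_lit 148) [nat_lit 148] [] [] (Srch.rep (nat_lit 170) [] [] [] Srch.nil Srch.nil) (Srch.rep (nat_lit 152) [nat_lit 148] [] [] (Srch.rep (nat_lit 166) [nat_lit 38] [] [] (Srch.rep (nat_lit 8) [nat_lit 12] [] [] (Srch.rep (nat_lit 7) [] [] [] (Srch.rep (nat_lit 122) [] [] [] Srch.nil (Srch.rep (nat_lit 123) [] [] [] Srch.nil Srch.nil)) Srch.nil) (Srch.rep (nat_lit 34) [nat_lit 12] [] [] (Srch.rep (nat_lit 44) [] [] [] (Srch.rep (nat_lit 122) [] [] [] (Srch.rep (nat_lit 305) [] [] [] (Srch.fin [nat_lit 256] [nat_lit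 0] (((nat_lit 7),(Leaf.au (nat_lit 3) (nat_lit 16) (nat_lit 0) [[nat_lit 16,nat_lit 11,nat_lit 69,nat_lit 1]] [nat_lit 68,nat_lit 16,nat_lit 8,nat_lit 2,nat_lit 1] [nat_lit 5,nat_lit 1856,nat_lit 5,nat_lit 1792,nat_lit 5] (nat_lit 1) [nat_lit 0,nat_lit 1,nat_lit 69,nat_lit 68,nat_lit 11,nat_lit 10,nat_lit 78,nat_lit 79,nat_lit 16,nat_lit 17,nat_lit 85,nat_lit 84,nat_lit 27,nat_lit 26,nat_lit 94,nat_lit 95] (nat_lit 0) [nat_lit 0,nat_lit 0,nat_lit 2,nat_lit 2,nat_lit 0]))::(((nat_lit 6),(Leaf.au (nat_lit 3) (nat_lit 16) (nat_lit 0) [[nat_lit 16,nat_lit 11,nat_lit 69,nat_lit 1]] [nat_lit 68,nat_lit 16,nat_lit 8,nat_lit 2,nat_lit 1] [nat_lit 5,nat_lit 1856,nat_lit 5,nat_lit 1792,nat_lit 5] (nat_lit 1) [nat_lit 0,nat_lit 1,nat_lit 69,nat_lit 68,nat_lit 11,nat_lit 10,nat_lit 78,nat_lit 79,nat_lit 16,nat_lit 17,nat_lit 85,nat_lit 84,nat_lit 27,nat_lit 26,nat_lit 94,nat_lit 95] (nat_lit 0) [nat_lit 0,nat_lit 0,nat_lit 2,nat_lit 2,nat_lit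 0]))::[]))) (Srch.rep (nat_lit 304) [] [] [] (Srch.fin [nat_lit 256] [nat_lit 0] (((nat_lit 7),(Leaf.au (nat_lit 3) (nat_lit 16) (nat_lit 0) [[nat_lit 16,nat_lit 11,nat_lit 69,nat_lit 1]] [nat_lit 68,nat_lit 16,nat_lit 8,nat_lit 2,nat_lit 1] [nat_lit 5,nat_lit 1856,nat_lit 5,nat_lit 1792,nat_lit 5] (nat_lit 1) [nat_lit 0,nat_lit 1,nat_lit 69,nat_lit 68,nat_lit 11,nat_lit 10,nat_lit 78,nat_lit 79,nat_lit 16,nat_lit 17,nat_lit 85,nat_lit 84,nat_lit 27,nat_lit 26,nat_lit 94,nat_lit 95] (nat_lit 0) [nat_lit 0,nat_lit 0,nat_lit 2,nat_lit 2,nat_lit 0]))::(((nat_lit 6),(Leaf.au (nat_lit 3) (nat_lit 16) (nat_lit 0) [[nat_lit 16,nat_lit 11,nat_lit 69,nat_lit 1]] [nat_lit 68,nat_lit 16,nat_lit 8,nat_lit 2,nat_lit 1] [nat_lit 5,nat_lit 1856,nat_lit 5,nat_lit 1792,nat_lit 5] (nat_lit 1) [nat_lit 0,nat_lit 1,nat_lit 69,nat_lit 68,nat_lit 11,nat_lit 10,nat_lit 78,nat_lit 79,nat_lit 16,nat_lit 17,nat_lit 85,nat_lit 84,nat_lit 27,nat_lit 26,nat_lit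 94,nat_lit 95] (nat_lit 0) [nat_lit 0,nat_lit 0,nat_lit 2,nat_lit 2,nat_lit 0]))::[]))) Srch.nil)) (Srch.rep (nat_lit 123) [] [] [] (Srch.rep (nat_lit 297) [] [] [] (Srch.fin [nat_lit 256,nat_lit 64] [] []) (Srch.rep (nat_lit 296) [] [] [] (Srch.fin [nat_lit 256,nat_lit 64] [] []) Srch.nil)) Srch.nil)) Srch.nil) Srch.nil)) Srch.nil) Srch.nil)))) Srch.nil)) (Node.lf (Leaf.au (nat_lit 1) (nat_lit 0) (nat_lit 0) [] [] [nat_lit 3,nat_lit 1] (nat_lit 0) [] (nat_lit 42) [nat_lit 0,nat_lit 2,nat_lit 44,nat_lit 10,nat_lit 10,nat_lit 34,nat_lit 106,nat_lit 130,nat_lit 260]))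
noncomputable def t226 : ℕ := nat_lit 0x1050105012d012d012d012d01050105011b011b0133013301320132011a011a011b011b0132013201330133011a011a01040104012d012d012d012d01040104011b011b0133013301320132011a011a01040104012c012c012c012c0104010401050105012c012c012c012c01050105011b011b0132013201330133011a011a01d301d301fb01fb01fa01fa01d201d201cc01cc01e401e401e401e401cc01cc01cc01cc01e501e501e501e501cc01cc01d201d201fb01fb01fa01fa01d301d301cd01cd01e501e501e501e501cd01cd01d301d301fb01fb01fa01fa01d201d201d201d201fb01fb01fa01fa01d301d301cd01cd01e401e401e401e401cd01cd01cf01cf01e601e601e601e601cf01cf01d101d101f801f801f901f901d001d001d001d001f801f801f901f901d101d101cf01cf01e701e701e701e701cf01cf01d101d101f801f801f901f901d001d001ce01ce01e701e701e701e701ce01ce01ce01ce01e601e601e601e601ce01ce01d001d001f801f801f901f901d101d101000100012801280129012901010101011f011f0137013701370137011f011f011f011f0136013601360136011f011f01010101012801280129012901000100011f011f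0137013701370137011f011f0101010101290129012801280100010001000100012901290128012801010101011f011f0136013601360136011f011f01330133011b011b011a011a01320132012c012c0104010401040104012c012c012c012c0105010501050105012c012c01320132011b011b011a011a01330133012d012d0105010501050105012d012d01330133011b011b011a011a0132013201320132011b011b011a011a01330133012d012d0104010401040104012d012d01cf01cf01e601e601e601e601cf01cf01d101d101f801f801f901f901d001d001d001d001f801f801f901f901d101d101cf01cf01e701e701e701e701cf01cf01d101d101f801f801f901f901d001d001ce01ce01e701e701e701e701ce01ce01ce01ce01e601e601e601e601ce01ce01d001d001f801f801f901f901d101d101fb01fb01d301d301d201d201fa01fa01e401e401cc01cc01cc01cc01e401e401e501e501cc01cc01cc01cc01e501e501fb01fb01d201d201d301d301fa01fa01e501e501cd01cd01cd01cd01e501e501fb01fb01d301d301d201d201fa01fa01fb01fb01d201d201d301d301fa01fa01e401e401cd01cd01cd01cd01e401e4011f011f0137013701370137011f011f010101010129012901280128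0100010001000100012901290128012801010101011f011f0136013601360136011f011f01000100012801280129012901010101011f011f0137013701370137011f011f011f011f0136013601360136011f011f01010101012801280129012901000100009900990099009900b300b300b200b200b200b200b300b3009800980098009800b300b300b200b20098009800980098009900990099009900b200b200b300b300b300b300b200b20099009900990099009800980098009800b200b200b300b3009800980098009800b300b300b200b200b200b200b300b3009900990099009900ab00ab00aa00aa0080008000800080008000800080008000ab00ab00aa00aa008100810081008100ab00ab00aa00aa00ab00ab00aa00aa0081008100810081008000800080008000ab00ab00aa00aa00ab00ab00aa00aa008000800080008000ab00ab00aa00aa0081008100810081008100810081008100ab00ab00aa00aa00b200b200b300b30098009800980098009900990099009900b300b300b200b2009900990099009900b200b200b300b300b300b300b200b20098009800980098009800980098009800b200b200b300b300b300b300b200b2009900990099009900b200b200b300b3009900990099009900980098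0098009800b300b300b200b2008100810081008100aa00aa00ab00ab00aa00aa00ab00ab008100810081008100aa00aa00ab00ab0080008000800080008000800080008000aa00aa00ab00ab00aa00aa00ab00ab0081008100810081008100810081008100aa00aa00ab00ab008000800080008000aa00aa00ab00ab00aa00aa00ab00ab00800080008000800040004000400040004200420043004300410041004100410043004300420042004000400040004000420042004300430041004100410041004300430042004200400040004000400042004200430043004100410041004100430043004200420040004000400040004200420043004300410041004100410043004300420042004300430042004200410041004100410042004200430043004000400040004000430043004200420041004100410041004200420043004300400040004000400043004300420042004100410041004100420042004300430040004000400040004300430042004200410041004100410042004200430043004000400040004000200020002000200020002000200020002100210021002100210021002100210021002100210021002100210021002100200020002000200020002000200020002000200020002000200020002000200021002100210021002100210021002100210021002100210021002100210021002000200020002000200020002000200010001000100010001000100010001000100010001000100010001000100010001000100010001000100010001000100010001000100010001000100010001000090009000900090009000900090009000800080008000800080008000800080004000400050005000500050004000400030003000200020001000100000000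
noncomputable def c226 : Node :=
  (Node.st (nat_lit 0) (nat_lit 10) (nat_lit 0) (Node.st (nat_lit 2) (nat_lit 0) (nat_lit 10) (Node.st (nat_lit 0) (nat_lit 14) (nat_lit 0) (Node.st (nat_lit 2) (nat_lit 2) (nat_lit 5) (Node.st (nat_lit 0) (nat_lit 78) (nat_lit 0) (Node.st (nat_lit 2) (nat_lit 2) (nat_lit 9) (Node.st (nat_lit 0) (nat_lit 85) (nat_lit 0) (Node.sp (nat_lit 1) (Node.lf (Leaf.pt (nat_lit 9) (nat_lit 1) [nat_lit 10])) (Node.sp (nat_lit 26) (Node.lf (Leaf.pt (nat_lit 9) (nat_lit 26) [nat_lit 10])) (Node.st (nat_lit 0) (nat_lit 26) (nat_lit 0) (Node.sp (nat_lit 28) (Node.lf (Leaf.pt (nat_lit 9) (nat_lit 28) [nat_lit 12])) (Node.st (nat_lit 0) (nat_lit 28) (nat_lit 0) (Node.sp (nat_lit 40) (Node.lf (Leaf.pt (nat_lit 9) (nat_lit 40) [nat_lit 76])) (Node.st (nat_lit 0) (nat_lit 40) (nat_lit 0) (Node.sp (nat_lit 68) (Node.lf (Leaf.pt (nat_lit 9) (nat_lit 68) [nat_lit 10])) (Node.st (nat_lit 0) (nat_lit 68) (nat_lit 0) c226_0))))))))))))))))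
theorem ok226 : nodeOK DB PT 226 t226 (nat_lit 0x3333003300003300000000000000000000000000000000c30000c300c3c30000000000000000000cf0f00cf00303f0f00000f0f0f0f0f0fcfc0303fc03fc03) (nat_lit 0x11001100110011000000000011001100000000000000000011001100000000000000000000000000000000000000000000000000000000000000000000000000000000000000000000000000000000000000000000000000000000110000110000000000000000110000110000000011000011110000110000000000000000000000000000000000000000000000000000000000000000000000000000220011110000111100000000220011110000000000220000002211110000111100000000000000000000111100001111000011110000111100001111000011112200111122000000003300000033111122000000005511112200000000ff) c226 = true := by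
  decide +kernel
noncomputable def c227_0 : Node :=
  Node.ext [[nat_lit 32,nat_lit 16,nat_lit 8,nat_lit 4,nat_lit 2,nat_lit 1]] (nat_lit 10) [Ins.ts (nat_lit 4) [nat_lit 0] [nat_lit 10,nat_lit 0,nat_lit 0],Ins.fr [nat_lit 0],Ins.ts (nat_lit 1) [nat_lit 0,nat_lit 0] [],Ins.ts (nat_lit 1) [nat_lit 0,nat_lit 0,nat_lit 0,nat_lit 0] [],Ins.fr [nat_lit 1],Ins.ts (nat_lit 1) [nat_lit 0,nat_lit 0] [],Ins.ts (nat_lit 0) [nat_lit 0,nat_lit 1,nat_lit 1,nat_lit 0] [],Ins.ts (nat_lit 0) [nat_lit 1,nat_lit 1,nat_lit 1] [nat_lit 0,nat_lit 1,nat_lit 0],Ins.ts (nat_lit 2) [nat_lit 0,nat_lit 0,nat_lit 1,nat_lit 0] [],Ins.fr [nat_lit 2],Ins.ts (nat_lit 1) [nat_lit 0,nat_lit 0] [],Ins.ts (nat_lit 4) [nat_lit 0] [nat_lit 37,nat_lit 0,nat_lit 0],Ins.ts (nat_lit 3) [nat_lit 1,nat_lit 0,nat_lit 2] [],Ins.ts (nat_lit 2) [nat_lit 1,nat_lit 0] [],Ins.ts (nat_lit 0) [nat_lit 0,nat_lit 2,nat_lit 0,nat_lit 2] [],Ins.fr [nat_lit 0,nat_lit 0,nat_lit 3],Ins.ts (nat_lit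 4) [nat_lit 0] [nat_lit 5,nat_lit 0,nat_lit 0],Ins.ts (nat_lit 1) [nat_lit 0,nat_lit 0] [],Ins.ts (nat_lit 2) [nat_lit 4,nat_lit 0] [],Ins.ts (nat_lit 0) [nat_lit 2,nat_lit 0,nat_lit 2] [nat_lit 0],Ins.ts (nat_lit 0) [nat_lit 1,nat_lit 0] [nat_lit 0,nat_lit 1],Ins.fr [nat_lit 0,nat_lit 1],Ins.ts (nat_lit 0) [nat_lit 2,nat_lit 0] [nat_lit 0,nat_lit 2],Ins.ts (nat_lit 0) [nat_lit 0,nat_lit 3,nat_lit 0,nat_lit 4] [nat_lit 5],Ins.fr [nat_lit 2,nat_lit 4,nat_lit 3,nat_lit 5],Ins.ts (nat_lit 0) [nat_lit 4,nat_lit 1,nat_lit 5] [nat_lit 0,nat_lit 4,nat_lit 0],Ins.df [nat_lit 2,nat_lit 2],Ins.df [nat_lit 6,nat_lit 6],Ins.df [nat_lit 0,nat_lit 1,nat_lit 8],Ins.df [nat_lit 1,nat_lit 7,nat_lit 8],Ins.df [nat_lit 3,nat_lit 6,nat_lit 7],Ins.df [nat_lit 0,nat_lit 10]] [nat_lit 96,nat_lit 112,nat_lit 36,nat_lit 4,nat_lit 128,nat_lit 256] [nat_lit 5,nat_lit 4,nat_lit 8,nat_lit 3,nat_lit 2,nat_lit 1,nat_lit 0,nat_lit 7,nat_lit 6] (Srch.ex0 [nat_lit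 68,nat_lit 36,nat_lit 16,nat_lit 8,nat_lit 2,nat_lit 1] (Srch.rep (nat_lit 12) [nat_lit 4,nat_lit 16,nat_lit 128] [nat_lit 128,nat_lit 34,nat_lit 16,nat_lit 8,nat_lit 4,nat_lit 1] [nat_lit 256,nat_lit 64,nat_lit 2] (Srch.rep (nat_lit 128) [nat_lit 128] [] [] (Srch.rep (nat_lit 190) [nat_lit 38] [] [] (Srch.rep (nat_lit 8) [nat_lit 12] [] [] (Srch.rep (nat_lit 7) [] [] [] (Srch.rep (nat_lit 122) [] [] [] (Srch.rep (nat_lit 482) [] [] [] (Srch.fin [nat_lit 256] [nat_lit 0] (((nat_lit 205),(Leaf.pt (nat_lit 12) (nat_lit 76) [nat_lit 40,nat_lit 906]))::(((nat_lit 204),(Leaf.pt (nat_lit 12) (nat_lit 76) [nat_lit 40,nat_lit 906]))::[]))) (Srch.rep (nat_lit 483) [] [] [] (Srch.fin [nat_lit 256] [nat_lit 0] (((nat_lit 205),(Leaf.pt (nat_lit 12) (nat_lit 76) [nat_lit 40,nat_lit 906]))::(((nat_lit 204),(Leaf.pt (nat_lit 12) (nat_lit 76) [nat_lit 40,nat_lit 906]))::[]))) Srch.nil)) (Srch.rep (nat_lit 123) [] [] [] (Srch.rep (nat_lit 506) []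 [] [] (Srch.fin [nat_lit 256] [] []) (Srch.rep (nat_lit 507) [] [] [] (Srch.fin [nat_lit 256] [] []) Srch.nil)) Srch.nil)) Srch.nil) (Srch.rep (nat_lit 34) [nat_lit 12] [] [] (Srch.rep (nat_lit 44) [] [] [] (Srch.rep (nat_lit 122) [] [] [] Srch.nil (Srch.rep (nat_lit 123) [] [] [] Srch.nil Srch.nil)) Srch.nil) Srch.nil)) Srch.nil) (Srch.rep (nat_lit 140) [nat_lit 128] [] [] (Srch.rep (nat_lit 178) [] [] [] Srch.nil Srch.nil) (Srch.rep (nat_lit 148) [nat_lit 148] [] [] (Srch.rep (nat_lit 170) [] [] [] Srch.nil Srch.nil) (Srch.rep (nat_lit 152) [nat_lit 148] [] [] (Srch.rep (nat_lit 166) [nat_lit 38] [] [] (Srch.rep (nat_lit 8) [nat_lit 12] [] [] (Srch.rep (nat_lit 7) [] [] [] (Srch.rep (nat_lit 122) [] [] [] Srch.nil (Srch.rep (nat_lit 123) [] [] [] Srch.nil Srch.nil)) Srch.nil) (Srch.rep (nat_lit 34) [nat_lit 12] [] [] (Srch.rep (nat_lit 44) [] [] [] (Srch.rep (nat_lit 122) [] [] [] (Srch.rep (nat_lit 305) [] [] [] (Srch.fin [nat_lit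 256] [nat_lit 0] (((nat_lit 7),(Leaf.au (nat_lit 3) (nat_lit 16) (nat_lit 0) [[nat_lit 16,nat_lit 11,nat_lit 69,nat_lit 1]] [nat_lit 68,nat_lit 16,nat_lit 8,nat_lit 2,nat_lit 1] [nat_lit 5,nat_lit 1856,nat_lit 5,nat_lit 1792,nat_lit 5] (nat_lit 1) [nat_lit 0,nat_lit 1,nat_lit 69,nat_lit 68,nat_lit 11,nat_lit 10,nat_lit 78,nat_lit 79,nat_lit 16,nat_lit 17,nat_lit 85,nat_lit 84,nat_lit 27,nat_lit 26,nat_lit 94,nat_lit 95] (nat_lit 0) [nat_lit 0,nat_lit 0,nat_lit 2,nat_lit 2,nat_lit 0]))::(((nat_lit 6),(Leaf.au (nat_lit 3) (nat_lit 16) (nat_lit 0) [[nat_lit 16,nat_lit 11,nat_lit 69,nat_lit 1]] [nat_lit 68,nat_lit 16,nat_lit 8,nat_lit 2,nat_lit 1] [nat_lit 5,nat_lit 1856,nat_lit 5,nat_lit 1792,nat_lit 5] (nat_lit 1) [nat_lit 0,nat_lit 1,nat_lit 69,nat_lit 68,nat_lit 11,nat_lit 10,nat_lit 78,nat_lit 79,nat_lit 16,nat_lit 17,nat_lit 85,nat_lit 84,nat_lit 27,nat_lit 26,nat_lit 94,nat_lit 95] (nat_lit 0) [nat_lit 0,nat_lit 0,nat_lit 2,nat_lit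 2,nat_lit 0]))::[]))) (Srch.rep (nat_lit 304) [] [] [] (Srch.fin [nat_lit 256] [nat_lit 0] (((nat_lit 7),(Leaf.au (nat_lit 3) (nat_lit 16) (nat_lit 0) [[nat_lit 16,nat_lit 11,nat_lit 69,nat_lit 1]] [nat_lit 68,nat_lit 16,nat_lit 8,nat_lit 2,nat_lit 1] [nat_lit 5,nat_lit 1856,nat_lit 5,nat_lit 1792,nat_lit 5] (nat_lit 1) [nat_lit 0,nat_lit 1,nat_lit 69,nat_lit 68,nat_lit 11,nat_lit 10,nat_lit 78,nat_lit 79,nat_lit 16,nat_lit 17,nat_lit 85,nat_lit 84,nat_lit 27,nat_lit 26,nat_lit 94,nat_lit 95] (nat_lit 0) [nat_lit 0,nat_lit 0,nat_lit 2,nat_lit 2,nat_lit 0]))::(((nat_lit 6),(Leaf.au (nat_lit 3) (nat_lit 16) (nat_lit 0) [[nat_lit 16,nat_lit 11,nat_lit 69,nat_lit 1]] [nat_lit 68,nat_lit 16,nat_lit 8,nat_lit 2,nat_lit 1] [nat_lit 5,nat_lit 1856,nat_lit 5,nat_lit 1792,nat_lit 5] (nat_lit 1) [nat_lit 0,nat_lit 1,nat_lit 69,nat_lit 68,nat_lit 11,nat_lit 10,nat_lit 78,nat_lit 79,nat_lit 16,nat_lit 17,nat_lit 85,nat_lit 84,nat_lit 27,nat_lit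 26,nat_lit 94,nat_lit 95] (nat_lit 0) [nat_lit 0,nat_lit 0,nat_lit 2,nat_lit 2,nat_lit 0]))::[]))) Srch.nil)) (Srch.rep (nat_lit 123) [] [] [] (Srch.rep (nat_lit 297) [] [] [] (Srch.fin [nat_lit 256,nat_lit 64] [] []) (Srch.rep (nat_lit 296) [] [] [] (Srch.fin [nat_lit 256,nat_lit 64] [] []) Srch.nil)) Srch.nil)) Srch.nil) Srch.nil)) Srch.nil) Srch.nil)))) Srch.nil)) (Node.lf (Leaf.au (nat_lit 1) (nat_lit 0) (nat_lit 0) [] [] [nat_lit 3,nat_lit 1] (nat_lit 0) [] (nat_lit 42) [nat_lit 0,nat_lit 2,nat_lit 44,nat_lit 10,nat_lit 10,nat_lit 34,nat_lit 106,nat_lit 130,nat_lit 260]))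
noncomputable def t227 : ℕ := nat_lit 0x1040104012c012c012c012c01040104011a011a0132013201330133011b011b011a011a0133013301320132011b011b01050105012c012c012c012c01050105011a011a0132013201330133011b011b01050105012d012d012d012d0105010501040104012d012d012d012d01040104011a011a0133013301320132011b011b01d201d201fa01fa01fb01fb01d301d301cd01cd01e501e501e501e501cd01cd01cd01cd01e401e401e401e401cd01cd01d301d301fa01fa01fb01fb01d201d201cc01cc01e401e401e401e401cc01cc01d201d201fa01fa01fb01fb01d301d301d301d301fa01fa01fb01fb01d201d201cc01cc01e501e501e501e501cc01cc01ce01ce01e701e701e701e701ce01ce01d001d001f901f901f801f801d101d101d101d101f901f901f801f801d001d001ce01ce01e601e601e601e601ce01ce01d001d001f901f901f801f801d101d101cf01cf01e601e601e601e601cf01cf01cf01cf01e701e701e701e701cf01cf01d101d101f901f901f801f801d001d001010101012901290128012801000100011e011e0136013601360136011e011e011e011e0137013701370137011e011e01000100012901290128012801010101011e011e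0136013601360136011e011e0100010001280128012901290101010101010101012801280129012901000100011e011e0137013701370137011e011e01330133011b011b011a011a01320132012c012c0104010401040104012c012c012c012c0105010501050105012c012c01320132011b011b011a011a01330133012d012d0105010501050105012d012d01330133011b011b011a011a0132013201320132011b011b011a011a01330133012d012d0104010401040104012d012d01cf01cf01e601e601e601e601cf01cf01d101d101f801f801f901f901d001d001d001d001f801f801f901f901d101d101cf01cf01e701e701e701e701cf01cf01d101d101f801f801f901f901d001d001ce01ce01e701e701e701e701ce01ce01ce01ce01e601e601e601e601ce01ce01d001d001f801f801f901f901d101d101fb01fb01d301d301d201d201fa01fa01e401e401cc01cc01cc01cc01e401e401e501e501cc01cc01cc01cc01e501e501fb01fb01d201d201d301d301fa01fa01e501e501cd01cd01cd01cd01e501e501fb01fb01d301d301d201d201fa01fa01fb01fb01d201d201d301d301fa01fa01e401e401cd01cd01cd01cd01e401e4011f011f0137013701370137011f011f010101010129012901280128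0100010001000100012901290128012801010101011f011f0136013601360136011f011f01000100012801280129012901010101011f011f0137013701370137011f011f011f011f0136013601360136011f011f01010101012801280129012901000100009900990099009900b300b300b200b200b200b200b300b3009800980098009800b300b300b200b20098009800980098009900990099009900b200b200b300b300b300b300b200b20099009900990099009800980098009800b200b200b300b3009800980098009800b300b300b200b200b200b200b300b3009900990099009900ab00ab00aa00aa0080008000800080008000800080008000ab00ab00aa00aa008100810081008100ab00ab00aa00aa00ab00ab00aa00aa0081008100810081008000800080008000ab00ab00aa00aa00ab00ab00aa00aa008000800080008000ab00ab00aa00aa0081008100810081008100810081008100ab00ab00aa00aa00b200b200b300b30098009800980098009900990099009900b300b300b200b2009900990099009900b200b200b300b300b300b300b200b20098009800980098009800980098009800b200b200b300b300b300b300b200b2009900990099009900b200b200b300b3009900990099009900980098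0098009800b300b300b200b2008100810081008100aa00aa00ab00ab00aa00aa00ab00ab008100810081008100aa00aa00ab00ab0080008000800080008000800080008000aa00aa00ab00ab00aa00aa00ab00ab0081008100810081008100810081008100aa00aa00ab00ab008000800080008000aa00aa00ab00ab00aa00aa00ab00ab00800080008000800040004000400040004200420043004300410041004100410043004300420042004000400040004000420042004300430041004100410041004300430042004200400040004000400042004200430043004100410041004100430043004200420040004000400040004200420043004300410041004100410043004300420042004300430042004200410041004100410042004200430043004000400040004000430043004200420041004100410041004200420043004300400040004000400043004300420042004100410041004100420042004300430040004000400040004300430042004200410041004100410042004200430043004000400040004000200020002000200020002000200020002100210021002100210021002100210021002100210021002100210021002100200020002000200020002000200020002000200020002000200020002000200021002100210021002100210021002100210021002100210021002100210021002000200020002000200020002000200010001000100010001000100010001000100010001000100010001000100010001000100010001000100010001000100010001000100010001000100010001000090009000900090009000900090009000800080008000800080008000800080004000400050005000500050004000400030003000200020001000100000000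
noncomputable def c227 : Node :=
  (Node.st (nat_lit 0) (nat_lit 10) (nat_lit 0) (Node.st (nat_lit 2) (nat_lit 0) (nat_lit 10) (Node.st (nat_lit 0) (nat_lit 14) (nat_lit 0) (Node.st (nat_lit 2) (nat_lit 2) (nat_lit 5) (Node.st (nat_lit 0) (nat_lit 78) (nat_lit 0) (Node.st (nat_lit 2) (nat_lit 2) (nat_lit 9) (Node.st (nat_lit 0) (nat_lit 85) (nat_lit 0) (Node.sp (nat_lit 1) (Node.lf (Leaf.pt (nat_lit 9) (nat_lit 1) [nat_lit 10])) (Node.sp (nat_lit 26) (Node.lf (Leaf.pt (nat_lit 9) (nat_lit 26) [nat_lit 10])) (Node.st (nat_lit 0) (nat_lit 26) (nat_lit 0) (Node.sp (nat_lit 28) (Node.lf (Leaf.pt (nat_lit 9) (nat_lit 28) [nat_lit 12])) (Node.st (nat_lit 0) (nat_lit 28) (nat_lit 0) (Node.sp (nat_lit 40) (Node.lf (Leaf.pt (nat_lit 9) (nat_lit 40) [nat_lit 76])) (Node.st (nat_lit 0) (nat_lit 40) (nat_lit 0) (Node.sp (nat_lit 68) (Node.lf (Leaf.pt (nat_lit 9) (nat_lit 68) [nat_lit 10])) (Node.st (nat_lit 0) (nat_lit 68) (nat_lit 0) c227_0))))))))))))))))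
theorem ok227 : nodeOK DB PT 227 t227 (nat_lit 0xcf0f00cf00303f0f00000f0f0f0f0f0fcfc0303fc03fc03) (nat_lit 0x220011110000111100000000220011110000000000220000002211110000111100000000000000000000111100001111000011110000111100001111000011112200111122000000003300000033111122000000005511112200000000ff) c227 = true := by
  decide +kernel

end Cfsg.Agent.L33.Dat
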