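import Mathlib
import Cfsg.Agent.L33.D0
import Cfsg.Agent.L33.D1
import Cfsg.Agent.L33.D2
import Cfsg.Agent.L33.D3
import Cfsg.Agent.L33.D4
import Cfsg.Agent.L33.D5
import Cfsg.Agent.L33.D6
import Cfsg.Agent.L33.D7
import Cfsg.Agent.L33.D8
import Cfsg.Agent.L33.D9
import Cfsg.Agent.L33.D10

/-!
All labelled presentations give the bound.
-/

set_option autoImplicit false
set_option maxRecDepth 100000

namespace Cfsg.Agent.L33.Dat

open Cfsg.Agent.L33

theorem valid_all {G : Type*} [Group G] [Finite G] (t : G) : ∀ j < 258, Valid PT t (DB j) := by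
  have h0 : ∀ j < 0, Valid PT t (DB j) := fun _ h => absurd h (Nat.not_lt_zero _)
  have h1 : ∀ j < 1, Valid PT t (DB j) := valid_succ ok0 h0
  have h2 : ∀ j < 2, Valid PT t (DB j) := valid_succ ok1 h1
  have h3 : ∀ j < 3, Valid PT t (DB j) := valid_succ ok2 h2
  have h4 : ∀ j < 4, Valid PT t (DB j) := valid_succ ok3 h3
  have h5 : ∀ j < 5, Valid PT t (DB j) := valid_succ ok4 h4
  have h6 : ∀ j < 6, Valid PT t (DB j) := valid_succ ok5 h5
  have h7 : ∀ j < 7, Valid PT t (DB j) := valid_succ ok6 h6
  have h8 : ∀ j < 8, Valid PT t (DB j) := valid_succ ok7 h7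
  have h9 : ∀ j < 9, Valid PT t (DB j) := valid_succ ok8 h8
  have h10 : ∀ j < 10, Valid PT t (DB j) := valid_succ ok9 h9
  have h11 : ∀ j < 11, Valid PT t (DB j) := valid_succ ok10 h10
  have h12 : ∀ j < 12, Valid PT t (DB j) := valid_succ ok11 h11
  have h13 : ∀ j < 13, Valid PT t (DB j) := valid_succ ok12 h12
  have h14 : ∀ j < 14, Valid PT t (DB j) := valid_succ ok13 h13
  have h15 : ∀ j < 15, Valid PT t (DB j) := valid_succ ok14 h14
  have h16 : ∀ j < 16, Valid PT t (DB j) := valid_succ ok15 h15
  have h17 : ∀ j < 17, Valid PT t (DB j) := valid_succ ok16 h16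
  have h18 : ∀ j < 18, Valid PT t (DB j) := valid_succ ok17 h17
  have h19 : ∀ j < 19, Valid PT t (DB j) := valid_succ ok18 h18
  have h20 : ∀ j < 20, Valid PT t (DB j) := valid_succ ok19 h19
  have h21 : ∀ j < 21, Valid PT t (DB j) := valid_succ ok20 h20
  have h22 : ∀ j < 22, Valid PT t (DB j) := valid_succ ok21 h21
  have h23 : ∀ j < 23, Valid PT t (DB j) := valid_succ ok22 h22
  have h24 : ∀ j < 24, Valid PT t (DB j) := valid_succ ok23 h23
  have h25 : ∀ j < 25, Valid PT t (DB j) := valid_succ ok24 h24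
  have h26 : ∀ j < 26, Valid PT t (DB j) := valid_succ ok25 h25
  have h27 : ∀ j < 27, Valid PT t (DB j) := valid_succ ok26 h26
  have h28 : ∀ j < 28, Valid PT t (DB j) := valid_succ ok27 h27
  have h29 : ∀ j < 29, Valid PT t (DB j) := valid_succ ok28 h28
  have h30 : ∀ j < 30, Valid PT t (DB j) := valid_succ ok29 h29
  have h31 : ∀ j < 31, Valid PT t (DB j) := valid_succ ok30 h30
  have h32 : ∀ j < 32, Valid PT t (DB j) := valid_succ ok31 h31
  have h33 : ∀ j < 33, Valid PT t (DB j) := valid_succ ok32 h32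
  have h34 : ∀ j < 34, Valid PT t (DB j) := valid_succ ok33 h33
  have h35 : ∀ j < 35, Valid PT t (DB j) := valid_succ ok34 h34
  have h36 : ∀ j < 36, Valid PT t (DB j) := valid_succ ok35 h35
  have h37 : ∀ j < 37, Valid PT t (DB j) := valid_succ ok36 h36
  have h38 : ∀ j < 38, Valid PT t (DB j) := valid_succ ok37 h37
  have h39 : ∀ j < 39, Valid PT t (DB j) := valid_succ ok38 h38
  have h40 : ∀ j < 40, Valid PT t (DB j) := valid_succ ok39 h39
  have h41 : ∀ j < 41, Valid PT t (DB j) := valid_succ ok40 h40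
  have h42 : ∀ j < 42, Valid PT t (DB j) := valid_succ ok41 h41
  have h43 : ∀ j < 43, Valid PT t (DB j) := valid_succ ok42 h42
  have h44 : ∀ j < 44, Valid PT t (DB j) := valid_succ ok43 h43
  have h45 : ∀ j < 45, Valid PT t (DB j) := valid_succ ok44 h44
  have h46 : ∀ j < 46, Valid PT t (DB j) := valid_succ ok45 h45
  have h47 : ∀ j < 47, Valid PT t (DB j) := valid_succ ok46 h46
  have h48 : ∀ j < 48, Valid PT t (DB j) := valid_succ ok47 h47
  have h49 : ∀ j < 49, Valid PT t (DB j) := valid_succ ok48 h48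
  have h50 : ∀ j < 50, Valid PT t (DB j) := valid_succ ok49 h49
  have h51 : ∀ j < 51, Valid PT t (DB j) := valid_succ ok50 h50
  have h52 : ∀ j < 52, Valid PT t (DB j) := valid_succ ok51 h51
  have h53 : ∀ j < 53, Valid PT t (DB j) := valid_succ ok52 h52
  have h54 : ∀ j < 54, Valid PT t (DB j) := valid_succ ok53 h53
  have h55 : ∀ j < 55, Valid PT t (DB j) := valid_succ ok54 h54
  have h56 : ∀ j < 56, Valid PT t (DB j) := valid_succ ok55 h55
  have h57 : ∀ j < 57, Valid PT t (DB j) := valid_succ ok56 h56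
  have h58 : ∀ j < 58, Valid PT t (DB j) := valid_succ ok57 h57
  have h59 : ∀ j < 59, Valid PT t (DB j) := valid_succ ok58 h58
  have h60 : ∀ j < 60, Valid PT t (DB j) := valid_succ ok59 h59
  have h61 : ∀ j < 61, Valid PT t (DB j) := valid_succ ok60 h60
  have h62 : ∀ j < 62, Valid PT t (DB j) := valid_succ ok61 h61
  have h63 : ∀ j < 63, Valid PT t (DB j) := valid_succ ok62 h62
  have h64 : ∀ j < 64, Valid PT t (DB j) := valid_succ ok63 h63
  have h65 : ∀ j < 65, Valid PT t (DB j) := valid_succ ok64 h64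
  have h66 : ∀ j < 66, Valid PT t (DB j) := valid_succ ok65 h65
  have h67 : ∀ j < 67, Valid PT t (DB j) := valid_succ ok66 h66
  have h68 : ∀ j < 68, Valid PT t (DB j) := valid_succ ok67 h67
  have h69 : ∀ j < 69, Valid PT t (DB j) := valid_succ ok68 h68
  have h70 : ∀ j < 70, Valid PT t (DB j) := valid_succ ok69 h69
  have h71 : ∀ j < 71, Valid PT t (DB j) := valid_succ ok70 h70
  have h72 : ∀ j < 72, Valid PT t (DB j) := valid_succ ok71 h71
  have h73 : ∀ j < 73, Valid PT t (DB j) := valid_succ ok72 h72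
  have h74 : ∀ j < 74, Valid PT t (DB j) := valid_succ ok73 h73
  have h75 : ∀ j < 75, Valid PT t (DB j) := valid_succ ok74 h74
  have h76 : ∀ j < 76, Valid PT t (DB j) := valid_succ ok75 h75
  have h77 : ∀ j < 77, Valid PT t (DB j) := valid_succ ok76 h76
  have h78 : ∀ j < 78, Valid PT t (DB j) := valid_succ ok77 h77
  have h79 : ∀ j < 79, Valid PT t (DB j) := valid_succ ok78 h78
  have h80 : ∀ j < 80, Valid PT t (DB j) := valid_succ ok79 h79
  have h81 : ∀ j < 81, Valid PT t (DB j) := valid_succ ok80 h80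
  have h82 : ∀ j < 82, Valid PT t (DB j) := valid_succ ok81 h81
  have h83 : ∀ j < 83, Valid PT t (DB j) := valid_succ ok82 h82
  have h84 : ∀ j < 84, Valid PT t (DB j) := valid_succ ok83 h83
  have h85 : ∀ j < 85, Valid PT t (DB j) := valid_succ ok84 h84
  have h86 : ∀ j < 86, Valid PT t (DB j) := valid_succ ok85 h85
  have h87 : ∀ j < 87, Valid PT t (DB j) := valid_succ ok86 h86
  have h88 : ∀ j < 88, Valid PT t (DB j) := valid_succ ok87 h87
  have h89 : ∀ j < 89, Valid PT t (DB j) := valid_succ ok88 h88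
  have h90 : ∀ j < 90, Valid PT t (DB j) := valid_succ ok89 h89
  have h91 : ∀ j < 91, Valid PT t (DB j) := valid_succ ok90 h90
  have h92 : ∀ j < 92, Valid PT t (DB j) := valid_succ ok91 h91
  have h93 : ∀ j < 93, Valid PT t (DB j) := valid_succ ok92 h92
  have h94 : ∀ j < 94, Valid PT t (DB j) := valid_succ ok93 h93
  have h95 : ∀ j < 95, Valid PT t (DB j) := valid_succ ok94 h94
  have h96 : ∀ j < 96, Valid PT t (DB j) := valid_succ ok95 h95
  have h97 : ∀ j < 97, Valid PT t (DB j) := valid_succ ok96 h96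
  have h98 : ∀ j < 98, Valid PT t (DB j) := valid_succ ok97 h97
  have h99 : ∀ j < 99, Valid PT t (DB j) := valid_succ ok98 h98
  have h100 : ∀ j < 100, Valid PT t (DB j) := valid_succ ok99 h99
  have h101 : ∀ j < 101, Valid PT t (DB j) := valid_succ ok100 h100
  have h102 : ∀ j < 102, Valid PT t (DB j) := valid_succ ok101 h101
  have h103 : ∀ j < 103, Valid PT t (DB j) := valid_succ ok102 h102
  have h104 : ∀ j < 104, Valid PT t (DB j) := valid_succ ok103 h103
  have h105 : ∀ j < 105, Valid PT t (DB j) := valid_succ ok104 h104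
  have h106 : ∀ j < 106, Valid PT t (DB j) := valid_succ ok105 h105
  have h107 : ∀ j < 107, Valid PT t (DB j) := valid_succ ok106 h106
  have h108 : ∀ j < 108, Valid PT t (DB j) := valid_succ ok107 h107
  have h109 : ∀ j < 109, Valid PT t (DB j) := valid_succ ok108 h108
  have h110 : ∀ j < 110, Valid PT t (DB j) := valid_succ ok109 h109
  have h111 : ∀ j < 111, Valid PT t (DB j) := valid_succ ok110 h110
  have h112 : ∀ j < 112, Valid PT t (DB j) := valid_succ ok111 h111
  have h113 : ∀ j < 113, Valid PT t (DB j) := valid_succ ok112 h112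
  have h114 : ∀ j < 114, Valid PT t (DB j) := valid_succ ok113 h113
  have h115 : ∀ j < 115, Valid PT t (DB j) := valid_succ ok114 h114
  have h116 : ∀ j < 116, Valid PT t (DB j) := valid_succ ok115 h115
  have h117 : ∀ j < 117, Valid PT t (DB j) := valid_succ ok116 h116
  have h118 : ∀ j < 118, Valid PT t (DB j) := valid_succ ok117 h117
  have h119 : ∀ j < 119, Valid PT t (DB j) := valid_succ ok118 h118
  have h120 : ∀ j < 120, Valid PT t (DB j) := valid_succ ok119 h119
  have h121 : ∀ j < 121, Valid PT t (DB j) := valid_succ ok120 h120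
  have h122 : ∀ j < 122, Valid PT t (DB j) := valid_succ ok121 h121
  have h123 : ∀ j < 123, Valid PT t (DB j) := valid_succ ok122 h122
  have h124 : ∀ j < 124, Valid PT t (DB j) := valid_succ ok123 h123
  have h125 : ∀ j < 125, Valid PT t (DB j) := valid_succ ok124 h124
  have h126 : ∀ j < 126, Valid PT t (DB j) := valid_succ ok125 h125
  have h127 : ∀ j < 127, Valid PT t (DB j) := valid_succ ok126 h126
  have h128 : ∀ j < 128, Valid PT t (DB j) := valid_succ ok127 h127
  have h129 : ∀ j < 129, Valid PT t (DB j) := valid_succ ok128 h128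
  have h130 : ∀ j < 130, Valid PT t (DB j) := valid_succ ok129 h129
  have h131 : ∀ j < 131, Valid PT t (DB j) := valid_succ ok130 h130
  have h132 : ∀ j < 132, Valid PT t (DB j) := valid_succ ok131 h131
  have h133 : ∀ j < 133, Valid PT t (DB j) := valid_succ ok132 h132
  have h134 : ∀ j < 134, Valid PT t (DB j) := valid_succ ok133 h133
  have h135 : ∀ j < 135, Valid PT t (DB j) := valid_succ ok134 h134
  have h136 : ∀ j < 136, Valid PT t (DB j) := valid_succ ok135 h135
  have h137 : ∀ j < 137, Valid PT t (DB j) := valid_succ ok136 h136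
  have h138 : ∀ j < 138, Valid PT t (DB j) := valid_succ ok137 h137
  have h139 : ∀ j < 139, Valid PT t (DB j) := valid_succ ok138 h138
  have h140 : ∀ j < 140, Valid PT t (DB j) := valid_succ ok139 h139
  have h141 : ∀ j < 141, Valid PT t (DB j) := valid_succ ok140 h140
  have h142 : ∀ j < 142, Valid PT t (DB j) := valid_succ ok141 h141
  have h143 : ∀ j < 143, Valid PT t (DB j) := valid_succ ok142 h142
  have h144 : ∀ j < 144, Valid PT t (DB j) := valid_succ ok143 h143
  have h145 : ∀ j < 145, Valid PT t (DB j) := valid_succ ok144 h144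
  have h146 : ∀ j < 146, Valid PT t (DB j) := valid_succ ok145 h145
  have h147 : ∀ j < 147, Valid PT t (DB j) := valid_succ ok146 h146
  have h148 : ∀ j < 148, Valid PT t (DB j) := valid_succ ok147 h147
  have h149 : ∀ j < 149, Valid PT t (DB j) := valid_succ ok148 h148
  have h150 : ∀ j < 150, Valid PT t (DB j) := valid_succ ok149 h149
  have h151 : ∀ j < 151, Valid PT t (DB j) := valid_succ ok150 h150
  have h152 : ∀ j < 152, Valid PT t (DB j) := valid_succ ok151 h151
  have h153 : ∀ j < 153, Valid PT t (DB j) := valid_succ ok152 h152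
  have h154 : ∀ j < 154, Valid PT t (DB j) := valid_succ ok153 h153
  have h155 : ∀ j < 155, Valid PT t (DB j) := valid_succ ok154 h154
  have h156 : ∀ j < 156, Valid PT t (DB j) := valid_succ ok155 h155
  have h157 : ∀ j < 157, Valid PT t (DB j) := valid_succ ok156 h156
  have h158 : ∀ j < 158, Valid PT t (DB j) := valid_succ ok157 h157
  have h159 : ∀ j < 159, Valid PT t (DB j) := valid_succ ok158 h158
  have h160 : ∀ j < 160, Valid PT t (DB j) := valid_succ ok159 h159
  have h161 : ∀ j < 161, Valid PT t (DB j) := valid_succ ok160 h160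
  have h162 : ∀ j < 162, Valid PT t (DB j) := valid_succ ok161 h161
  have h163 : ∀ j < 163, Valid PT t (DB j) := valid_succ ok162 h162
  have h164 : ∀ j < 164, Valid PT t (DB j) := valid_succ ok163 h163
  have h165 : ∀ j < 165, Valid PT t (DB j) := valid_succ ok164 h164
  have h166 : ∀ j < 166, Valid PT t (DB j) := valid_succ ok165 h165
  have h167 : ∀ j < 167, Valid PT t (DB j) := valid_succ ok166 h166
  have h168 : ∀ j < 168, Valid PT t (DB j) := valid_succ ok167 h167
  have h169 : ∀ j < 169, Valid PT t (DB j) := valid_succ ok168 h168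
  have h170 : ∀ j < 170, Valid PT t (DB j) := valid_succ ok169 h169
  have h171 : ∀ j < 171, Valid PT t (DB j) := valid_succ ok170 h170
  have h172 : ∀ j < 172, Valid PT t (DB j) := valid_succ ok171 h171
  have h173 : ∀ j < 173, Valid PT t (DB j) := valid_succ ok172 h172
  have h174 : ∀ j < 174, Valid PT t (DB j) := valid_succ ok173 h173
  have h175 : ∀ j < 175, Valid PT t (DB j) := valid_succ ok174 h174
  have h176 : ∀ j < 176, Valid PT t (DB j) := valid_succ ok175 h175
  have h177 : ∀ j < 177, Valid PT t (DB j) := valid_succ ok176 h176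
  have h178 : ∀ j < 178, Valid PT t (DB j) := valid_succ ok177 h177
  have h179 : ∀ j < 179, Valid PT t (DB j) := valid_succ ok178 h178
  have h180 : ∀ j < 180, Valid PT t (DB j) := valid_succ ok179 h179
  have h181 : ∀ j < 181, Valid PT t (DB j) := valid_succ ok180 h180
  have h182 : ∀ j < 182, Valid PT t (DB j) := valid_succ ok181 h181
  have h183 : ∀ j < 183, Valid PT t (DB j) := valid_succ ok182 h182
  have h184 : ∀ j < 184, Valid PT t (DB j) := valid_succ ok183 h183
  have h185 : ∀ j < 185, Valid PT t (DB j) := valid_succ ok184 h184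
  have h186 : ∀ j < 186, Valid PT t (DB j) := valid_succ ok185 h185
  have h187 : ∀ j < 187, Valid PT t (DB j) := valid_succ ok186 h186
  have h188 : ∀ j < 188, Valid PT t (DB j) := valid_succ ok187 h187
  have h189 : ∀ j < 189, Valid PT t (DB j) := valid_succ ok188 h188
  have h190 : ∀ j < 190, Valid PT t (DB j) := valid_succ ok189 h189
  have h191 : ∀ j < 191, Valid PT t (DB j) := valid_succ ok190 h190
  have h192 : ∀ j < 192, Valid PT t (DB j) := valid_succ ok191 h191
  have h193 : ∀ j < 193, Valid PT t (DB j) := valid_succ ok192 h192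
  have h194 : ∀ j < 194, Valid PT t (DB j) := valid_succ ok193 h193
  have h195 : ∀ j < 195, Valid PT t (DB j) := valid_succ ok194 h194
  have h196 : ∀ j < 196, Valid PT t (DB j) := valid_succ ok195 h195
  have h197 : ∀ j < 197, Valid PT t (DB j) := valid_succ ok196 h196
  have h198 : ∀ j < 198, Valid PT t (DB j) := valid_succ ok197 h197
  have h199 : ∀ j < 199, Valid PT t (DB j) := valid_succ ok198 h198
  have h200 : ∀ j < 200, Valid PT t (DB j) := valid_succ ok199 h199
  have h201 : ∀ j < 201, Valid PT t (DB j) := valid_succ ok200 h200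
  have h202 : ∀ j < 202, Valid PT t (DB j) := valid_succ ok201 h201
  have h203 : ∀ j < 203, Valid PT t (DB j) := valid_succ ok202 h202
  have h204 : ∀ j < 204, Valid PT t (DB j) := valid_succ ok203 h203
  have h205 : ∀ j < 205, Valid PT t (DB j) := valid_succ ok204 h204
  have h206 : ∀ j < 206, Valid PT t (DB j) := valid_succ ok205 h205
  have h207 : ∀ j < 207, Valid PT t (DB j) := valid_succ ok206 h206
  have h208 : ∀ j < 208, Valid PT t (DB j) := valid_succ ok207 h207
  have h209 : ∀ j < 209, Valid PT t (DB j) := valid_succ ok208 h208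
  have h210 : ∀ j < 210, Valid PT t (DB j) := valid_succ ok209 h209
  have h211 : ∀ j < 211, Valid PT t (DB j) := valid_succ ok210 h210
  have h212 : ∀ j < 212, Valid PT t (DB j) := valid_succ ok211 h211
  have h213 : ∀ j < 213, Valid PT t (DB j) := valid_succ ok212 h212
  have h214 : ∀ j < 214, Valid PT t (DB j) := valid_succ ok213 h213
  have h215 : ∀ j < 215, Valid PT t (DB j) := valid_succ ok214 h214
  have h216 : ∀ j < 216, Valid PT t (DB j) := valid_succ ok215 h215
  have h217 : ∀ j < 217, Valid PT t (DB j) := valid_succ ok216 h216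
  have h218 : ∀ j < 218, Valid PT t (DB j) := valid_succ ok217 h217
  have h219 : ∀ j < 219, Valid PT t (DB j) := valid_succ ok218 h218
  have h220 : ∀ j < 220, Valid PT t (DB j) := valid_succ ok219 h219
  have h221 : ∀ j < 221, Valid PT t (DB j) := valid_succ ok220 h220
  have h222 : ∀ j < 222, Valid PT t (DB j) := valid_succ ok221 h221
  have h223 : ∀ j < 223, Valid PT t (DB j) := valid_succ ok222 h222
  have h224 : ∀ j < 224, Valid PT t (DB j) := valid_succ ok223 h223
  have h225 : ∀ j < 225, Valid PT t (DB j) := valid_succ ok224 h224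
  have h226 : ∀ j < 226, Valid PT t (DB j) := valid_succ ok225 h225
  have h227 : ∀ j < 227, Valid PT t (DB j) := valid_succ ok226 h226
  have h228 : ∀ j < 228, Valid PT t (DB j) := valid_succ ok227 h227
  have h229 : ∀ j < 229, Valid PT t (DB j) := valid_succ ok228 h228
  have h230 : ∀ j < 230, Valid PT t (DB j) := valid_succ ok229 h229
  have h231 : ∀ j < 231, Valid PT t (DB j) := valid_succ ok230 h230
  have h232 : ∀ j < 232, Valid PT t (DB j) := valid_succ ok231 h231
  have h233 : ∀ j < 233, Valid PT t (DB j) := valid_succ ok232 h232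
  have h234 : ∀ j < 234, Valid PT t (DB j) := valid_succ ok233 h233
  have h235 : ∀ j < 235, Valid PT t (DB j) := valid_succ ok234 h234
  have h236 : ∀ j < 236, Valid PT t (DB j) := valid_succ ok235 h235
  have h237 : ∀ j < 237, Valid PT t (DB j) := valid_succ ok236 h236
  have h238 : ∀ j < 238, Valid PT t (DB j) := valid_succ ok237 h237
  have h239 : ∀ j < 239, Valid PT t (DB j) := valid_succ ok238 h238
  have h240 : ∀ j < 240, Valid PT t (DB j) := valid_succ ok239 h239
  have h241 : ∀ j < 241, Valid PT t (DB j) := valid_succ ok240 h240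
  have h242 : ∀ j < 242, Valid PT t (DB j) := valid_succ ok241 h241
  have h243 : ∀ j < 243, Valid PT t (DB j) := valid_succ ok242 h242
  have h244 : ∀ j < 244, Valid PT t (DB j) := valid_succ ok243 h243
  have h245 : ∀ j < 245, Valid PT t (DB j) := valid_succ ok244 h244
  have h246 : ∀ j < 246, Valid PT t (DB j) := valid_succ ok245 h245
  have h247 : ∀ j < 247, Valid PT t (DB j) := valid_succ ok246 h246
  have h248 : ∀ j < 248, Valid PT t (DB j) := valid_succ ok247 h247
  have h249 : ∀ j < 249, Valid PT t (DB j) := valid_succ ok248 h248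
  have h250 : ∀ j < 250, Valid PT t (DB j) := valid_succ ok249 h249
  have h251 : ∀ j < 251, Valid PT t (DB j) := valid_succ ok250 h250
  have h252 : ∀ j < 252, Valid PT t (DB j) := valid_succ ok251 h251
  have h253 : ∀ j < 253, Valid PT t (DB j) := valid_succ ok252 h252
  have h254 : ∀ j < 254, Valid PT t (DB j) := valid_succ ok253 h253
  have h255 : ∀ j < 255, Valid PT t (DB j) := valid_succ ok254 h254
  have h256 : ∀ j < 256, Valid PT t (DB j) := valid_succ ok255 h255
  have h257 : ∀ j < 257, Valid PT t (DB j) := valid_succ ok256 h256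
  have h258 : ∀ j < 258, Valid PT t (DB j) := valid_succ ok257 h257
  exact h258

end Cfsg.Agent.L33.Dat
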