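import Mathlib
import Cfsg.Agent.L33.DAll

/-!
The bound.
-/

set_option autoImplicit false

namespace Cfsg.Agent.L33

open Cfsg.Agent.Spor Cfsg.Agent.Rec Cfsg.Agent.Spor.PC Cfsg.Agent.Inv.Fz Subgroup Dat

variable {G : Type*} [Group G]

theorem pow_mul_inv2 {a x : G} {e : ℕ} (hx : x * x = 1) (h : x * a * x⁻¹ = a ^ e) (k : ℕ) :
    a ^ k * x = x * a ^ (e * k) := by
  rw [pow_mul, ← h, conj_pow, ← mul_assoc, ← mul_assoc, hx, one_mul, inv_eq_of_mul_eq_one_right hx]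

section

variable {κ : Bool} {t a d f σ ρ : G} {K : Subgroup G} (h : Cfg κ t a d f σ ρ K)
include h

theorem Cfg.r8 (k : ℕ) : a ^ (8 + k) = a ^ k := by rw [pow_add, h.a8, one_mul]

theorem Cfg.rad : a * d = d * (a * (a ^ 2 * 1)) := by
  simpa [← pow_succ'] using pow_mul_inv2 h.d2 h.da 1

theorem Cfg.rel4 : (a ^ 4 * a ^ 4 = 1 ∧ a ^ 2 * a ^ 2 = a ^ 4 * 1 ∧ a ^ 4 * a ^ 2 = a ^ 2 * (a ^ 4 * 1) ∧
    a * a = a ^ 2 * 1 ∧ a ^ 4 * a = a * (a ^ 4 * 1) ∧ a ^ 2 * a = a * (a ^ 2 * 1)) ∧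
    a ^ 4 * d = d * (a ^ 4 * 1) ∧ a ^ 2 * d = d * (a ^ 2 * (a ^ 4 * 1)) :=
  ⟨⟨by rw [← pow_add, h.a8], by group, by group, by rw [mul_one, sq], by group, by group⟩,
    by rw [pow_mul_inv2 h.d2 h.da, mul_one, ← h.r8 4], by rw [pow_mul_inv2 h.d2 h.da]; group⟩

theorem Cfg.relt : ∀ x ∈ clos [a, d, f], x * t = t * (x * 1) := fun x hx => by
  rw [mul_one]
  exact mem_cen.1 (clos_le (K := centralizer {t}).2 (by
    simp only [List.forall_mem_cons, mem_cen]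
    exact ⟨(eq_mul_of_mul_inv_eq h.ta).symm, (eq_mul_of_mul_inv_eq h.td).symm, (eq_mul_of_mul_inv_eq h.tf).symm,
      by simp⟩) hx)

theorem Cfg.zs3 : a ^ 4 * 1 ≠ 1 ∧ t * 1 ≠ 1 ∧ t * (a ^ 4 * 1) ≠ 1 := by
  have ha : a ∈ clos [a, d, f] := mem_clos (by simp)
  refine ⟨by simpa using h.a4, fun e => h.tT ?_, fun e => h.tT ?_⟩
  · rw [mul_one] at e; exact e ▸ one_mem _
  · rw [mul_one, mul_eq_one_iff_eq_inv] at e; exact e ▸ inv_mem (pow_mem ha 4)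

theorem Cfg.sg3 : a ^ 4 * 1 = σ * (a ^ 4 * 1) * σ⁻¹ ∧ d * (a * (a ^ 2 * 1)) = σ * (a ^ 2 * 1) * σ⁻¹ ∧
    d * (a * 1) = σ * (d * (a * (a ^ 2 * 1))) * σ⁻¹ := by
  have h1 : a ^ 2 * (a * d) = d * a := by
    rw [← mul_assoc, ← pow_succ, pow_mul_inv2 h.d2 h.da]; simpa using congrArg (d * ·) (h.r8 1)
  refine ⟨?_, by rw [← h.rad, mul_one, h.σi], by rw [← h.rad, h.σj, h1, mul_one]⟩
  rw [mul_one, show σ * a ^ 4 * σ⁻¹ = σ * a ^ 2 * σ⁻¹ * (σ * a ^ 2 * σ⁻¹) by group, h.σi,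
    show a * d * (a * d) = a * (d * a * d⁻¹) * (d * d) by group, h.da, h.d2]
  group

end

variable [Finite G] {t a d f σ ρ : G} {K : Subgroup G}

theorem Cfg.bd0 (h : Cfg false t a d f σ ρ K) : Bd G := by
  have ha : a ∈ clos [a, d, f] := mem_clos (by simp)
  obtain ⟨⟨r1, r2, r3, r4, r5, r6⟩, r7, r8⟩ := h.rel4
  refine valid_all t 34 (by norm_num) (nth 1 [a ^ 4, a ^ 2, a, d, t]) (nth 1 [ρ, σ]) (?_ : HOK PT t _ _ h34)
  refine ⟨h.glob, fun k (hk : k < 5) => ?_, List.forall_mem_cons.2 ⟨h.zs3.1, List.forall_mem_cons.2 ⟨h.zs3.2.1,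
    List.forall_mem_cons.2 ⟨h.zs3.2.2, by simp⟩⟩⟩, List.forall_mem_cons.2 ⟨?_, by simp⟩, fun _ h => absurd h List.not_mem_nil,
    fun k => ?_, fun k hk => absurd hk (tb_zero k)⟩
  · interval_cases k <;> refine ⟨?_, fun j hj => ?_⟩ <;> try interval_cases j
    exacts [r1, r2, r3, r4, r5, r6, h.d2, r7, r8, h.rad, h.t2, h.relt _ (pow_mem ha 4), h.relt _ (pow_mem ha 2),
      h.relt _ ha, h.relt _ (mem_clos (by simp))]
  · exact show IsConj t (t * 1) by rw [mul_one]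
  · rcases k with _ | _ | k
    · exact .cons (show d * 1 = ρ * (a ^ 4 * 1) * ρ⁻¹ by simpa using h.ρz.symm) (.cons
        (show d * (a ^ 4 * 1) = ρ * (d * 1) * ρ⁻¹ by simpa using h.ρd.symm) (.cons
        (show t * 1 = ρ * (t * 1) * ρ⁻¹ by simpa using h.ρt.symm) .nil))
    · exact .cons h.sg3.1 (.cons h.sg3.2.1 (.cons h.sg3.2.2 (.cons
        (show t * 1 = σ * (t * 1) * σ⁻¹ by simpa using h.σt.symm) .nil)))
    · exact .nil

omit [Finite G] in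
theorem Cfg.root (h : Cfg true t a d f σ ρ K) : Rel h88.C 6 (nth 1 [a ^ 4, a ^ 2, a, d, f, t]) ∧
    (∀ x ∈ h88.zs, elt (nth 1 [a ^ 4, a ^ 2, a, d, f, t]) 6 x ≠ 1) ∧
    List.Forall₂ (fun x y => elt (nth 1 [a ^ 4, a ^ 2, a, d, f, t]) 6 y =
      ρ * elt (nth 1 [a ^ 4, a ^ 2, a, d, f, t]) 6 x * ρ⁻¹) (nth op0 h88.ops 0).xs (nth op0 h88.ops 0).ys ∧
    List.Forall₂ (fun x y => elt (nth 1 [a ^ 4, a ^ 2, a, d, f, t]) 6 y =
      σ * elt (nth 1 [a ^ 4, a ^ 2, a, d, f, t]) 6 x * σ⁻¹) (nth op0 h88.ops 1).xs (nth op0 h88.ops 1).ys := by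
  have ha : a ∈ clos [a, d, f] := mem_clos (by simp)
  obtain ⟨⟨r1, r2, r3, r4, r5, r6⟩, r7, r8⟩ := h.rel4
  have hf := pow_mul_inv2 h.f2 (h.fa rfl)
  refine ⟨fun k hk => ?_, List.forall_mem_cons.2 ⟨h.zs3.1, List.forall_mem_cons.2 ⟨h.zs3.2.1,
    List.forall_mem_cons.2 ⟨h.zs3.2.2, by simp⟩⟩⟩, ?_, ?_⟩
  · interval_cases k <;> refine ⟨?_, fun j hj => ?_⟩ <;> try interval_cases j
    exacts [r1, r2, r3, r4, r5, r6, h.d2, r7, r8, h.rad, h.f2,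
      show a ^ 4 * f = f * (a ^ 4 * 1) by rw [hf, mul_one, ← h.r8 4, ← h.r8 12],
      show a ^ 2 * f = f * (a ^ 2 * 1) by rw [hf, mul_one, ← h.r8 2],
      show a * f = f * (a * (a ^ 4 * 1)) by simpa [← pow_succ'] using hf 1,
      show d * f = f * (d * 1) by rw [mul_one]; exact (eq_mul_of_mul_inv_eq h.fd).symm,
      h.t2, h.relt _ (pow_mem ha 4), h.relt _ (pow_mem ha 2),
      h.relt _ ha, h.relt _ (mem_clos (by simp)), h.relt _ (mem_clos (by simp))]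
  · exact .cons (show d * 1 = ρ * (a ^ 4 * 1) * ρ⁻¹ by simpa using h.ρz.symm) (.cons
      (show d * (a ^ 4 * 1) = ρ * (d * 1) * ρ⁻¹ by simpa using h.ρd.symm) (.cons
      (show f * 1 = ρ * (f * 1) * ρ⁻¹ by simpa using h.ρf.symm) (.cons
      (show t * 1 = ρ * (t * 1) * ρ⁻¹ by simpa using h.ρt.symm) .nil)))
  · exact .cons h.sg3.1 (.cons h.sg3.2.1 (.cons h.sg3.2.2 (.cons
      (show f * (a ^ 2 * 1) = σ * (f * (a ^ 2 * 1)) * σ⁻¹ by simpa using (h.σc rfl).symm) (.cons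
      (show t * 1 = σ * (t * 1) * σ⁻¹ by simpa using h.σt.symm) .nil))))

theorem Cfg.bd1 (h : Cfg true t a d f σ ρ K) (h1 : ¬ IsConj t f) (h2 : ¬ IsConj t (t * f)) : Bd G := by
  obtain ⟨k1, k2, k3, k4⟩ := h.root
  refine valid_all t 88 (by norm_num) (nth 1 [a ^ 4, a ^ 2, a, d, f, t]) (nth 1 [ρ, σ]) (?_ : HOK PT t _ _ h88)
  refine ⟨h.glob, k1, k2, List.forall_mem_cons.2 ⟨?_, by simp⟩,
    List.forall_mem_cons.2 ⟨?_, List.forall_mem_cons.2 ⟨?_, by simp⟩⟩, fun k => ?_, fun k hk => absurd hk (tb_zero k)⟩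
  · exact show IsConj t (t * 1) by rw [mul_one]
  · exact show ¬ IsConj t (f * 1) by rwa [mul_one]
  · exact show ¬ IsConj t (t * (f * 1)) by rwa [mul_one]
  · rcases k with _ | _ | k
    exacts [k3, k4, .nil]

theorem Cfg.bd2 (h : Cfg true t a d f σ ρ K) (h1 : IsConj t f) : Bd G := by
  obtain ⟨k1, k2, k3, k4⟩ := h.root
  obtain ⟨m, k5, k6⟩ := h.pair h1
  refine valid_all t 257 (by norm_num) (nth 1 [a ^ 4, a ^ 2, a, d, f, t]) (nth 1 [ρ, σ, m]) (?_ : HOK PT t _ _ h257)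
  refine ⟨h.glob, k1, k2, List.forall_mem_cons.2 ⟨?_, List.forall_mem_cons.2 ⟨?_, by simp⟩⟩,
    fun _ h => absurd h List.not_mem_nil, fun k => ?_, fun k hk => absurd hk (tb_zero k)⟩
  · exact show IsConj t (t * 1) by rw [mul_one]
  · exact show IsConj t (f * 1) by rwa [mul_one]
  · rcases k with _ | _ | _ | k
    exacts [k3, k4, .cons (show a ^ 4 * 1 = m * (a ^ 4 * 1) * m⁻¹ by simpa using k6.symm)
      (.cons (show t * 1 = m * (f * 1) * m⁻¹ by simpa using k5.symm) .nil), .nil]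

theorem Cfg.bd {κ : Bool} (h : Cfg κ t a d f σ ρ K) : Bd G := by
  cases κ
  · exact h.bd0
  by_cases h1 : IsConj t f
  · exact h.bd2 h1
  by_cases h2 : IsConj t (t * f)
  exacts [h.swap.bd2 h2, h.bd1 h1 h2]

end Cfsg.Agent.L33
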