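import Mathlib
import Cfsg.Agent.Rec.Loc
import Cfsg.Prelude.Def_Local

/-!
An involution whose centraliser has a `2`-component of type `L₃(3)`: the letters for a Sylow `2`-subgroup of the
centraliser and for two elements acting with order three.
-/

set_option autoImplicit false

namespace Cfsg.Agent.L33

open Cfsg.Agent.Rec Cfsg.Agent.Inv.Fz Subgroup

variable {G : Type*} [Group G]

/-- `⟨a, d⟩` is semidihedral of order sixteen; `f` is trivial (`κ = false`) or induces `a ↦ a ^ 5`,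
`d ↦ d` (`κ = true`); `σ` permutes `i = a ^ 2`, `j = a d`, `i j` and fixes `f i`; `ρ` permutes `z = a ^ 4`, `d`, `d z`
and fixes `f`. -/
structure Let (κ : Bool) (a d f σ ρ : G) : Prop where
  a8 : a ^ 8 = 1
  a4 : a ^ 4 ≠ 1
  d2 : d * d = 1
  da : d * a * d⁻¹ = a ^ 3
  fd : f * d * f⁻¹ = d
  f0 : κ = false → f = 1
  fa : κ = true → f * a * f⁻¹ = a ^ 5
  σi : σ * a ^ 2 * σ⁻¹ = a * d
  σj : σ * (a * d) * σ⁻¹ = a ^ 2 * (a * d)
  σc : κ = true → σ * (f * a ^ 2) * σ⁻¹ = f * a ^ 2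
  ρz : ρ * a ^ 4 * ρ⁻¹ = d
  ρd : ρ * d * ρ⁻¹ = d * a ^ 4
  ρf : ρ * f * ρ⁻¹ = f

/-- The configuration: `⟨t⟩ × ⟨a, d, f⟩` is a Sylow `2`-subgroup of `C(t)`, and `K ≥ C(t)'` meets it in `⟨a, d⟩`. -/
structure Cfg (κ : Bool) (t a d f σ ρ : G) (K : Subgroup G) : Prop extends Let κ a d f σ ρ where
  t2 : t * t = 1
  f2 : f * f = 1
  ta : t * a * t⁻¹ = a
  td : t * d * t⁻¹ = d
  tf : t * f * t⁻¹ = f
  tT : t ∉ clos [a, d, f]
  syl : IsSylIn 2 (clos [t, a, d, f]) (centralizer {t})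
  σt : σ * t * σ⁻¹ = t
  ρt : ρ * t * ρ⁻¹ = t
  Kc : ∀ x ∈ centralizer ({t} : Set G), ∀ y ∈ centralizer ({t} : Set G), x * y * x⁻¹ * y⁻¹ ∈ K
  KS : ∀ x ∈ clos [t, a, d, f], x ∈ K ↔ x ∈ clos [a, d]

/-- The configuration before the cyclic group `Q = ⟨q⟩ ∋ t` is known to have order two: `⟨q, a, d, f⟩` is a Sylow
`2`-subgroup of `C(t) = K ⟨q, a, d, f⟩`, and `K` is normal in `C(t)` and meets the Sylow subgroup in `⟨a, d⟩`. -/
structure Pre (κ : Bool) (t q a d f σ ρ : G) (K : Subgroup G) : Prop extends Let κ a d f σ ρ where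
  t2 : orderOf t = 2
  tq : t ∈ zpowers q
  qa : q * a * q⁻¹ = a
  qd : q * d * q⁻¹ = d
  fq : f * q * f⁻¹ ∈ zpowers q
  f2 : f * f ∈ zpowers q
  qT : ∀ x ∈ zpowers q, x ∈ clos [a, d] → x = 1
  syl : IsSylIn 2 (clos [q, a, d, f]) (centralizer {t})
  σq : σ * q * σ⁻¹ = q
  ρq : ρ * q * ρ⁻¹ = q
  Kn : ∀ x ∈ centralizer ({t} : Set G), ∀ k ∈ K, x * k * x⁻¹ ∈ K
  Kc : ∀ x ∈ centralizer ({t} : Set G), ∃ s ∈ clos [q, a, d, f], x * s⁻¹ ∈ K
  KS : ∀ x ∈ clos [q, a, d, f], x ∈ K ↔ x ∈ clos [a, d]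

/-- The group `L₃(3)`. -/
abbrev L3 : Type := Matrix.ProjectiveSpecialLinearGroup (Fin 3) (ZMod 3)

/-- The hypothesis: `L` is normal in `C(t)` and maps onto `L₃(3)` with kernel of odd order, and the `2`-subgroups of
`C(t)` acting trivially on the quotient are cyclic. -/
structure Hyp (t : G) (L : Subgroup G) (π : L →* L3) : Prop where
  t2 : orderOf t = 2
  le : L ≤ centralizer {t}
  nor : ∀ g ∈ centralizer ({t} : Set G), ∀ l ∈ L, g * l * g⁻¹ ∈ L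
  surj : Function.Surjective π
  odd : Odd (Nat.card π.ker)
  cyc : ∀ P : Subgroup G, P ≤ centralizer {t} → IsPGroup 2 P →
    (∀ g ∈ P, ∀ l l' : L, (l' : G) = g * l * g⁻¹ → π l' = π l) → IsCyclic P

/-- The conclusion. -/
def Bd (G : Type*) [Group G] : Prop :=
  ¬ 2 ^ 12 ∣ Nat.card G ∧ ((∀ H : Subgroup G, H.index ≠ 2) → ¬ 2 ^ 11 ∣ Nat.card G)

end Cfsg.Agent.L33
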