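import Mathlib
import Cfsg.Agent.L33.Defs
import Cfsg.Agent.L33.FrD0
import Cfsg.Agent.Rec.Top

/-!
The cyclic group has order two.
-/

set_option autoImplicit false

namespace Cfsg.Agent.L33

open Cfsg.Agent.Rec Cfsg.Agent.Inv.Fz Subgroup

variable {G : Type*} [Group G]

namespace FrD

variable [Finite G] {κ : Bool} {t q a d f σ ρ : G} {K : Subgroup G} (h : Pre κ t q a d f σ ρ K)
include h

omit [Finite G] in
theorem conj_tt (g : G) : g * t * g⁻¹ * (g * t * g⁻¹) = 1 := conj_sq (tt h)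

omit [Finite G] in
theorem zQ {u : G} (hu : u ∈ zpowers q) : u * a ^ (4 : ℤ) ≠ t := fun e =>
  z1 h.toLet (uniq h hu h.tq (akT _) (one_mem _) (by rw [e, mul_one])).2

section A

variable (hN : ∀ n ∈ normalizer (clos [q, a, d, f] : Set G), n * t * n⁻¹ = t)
include hN

theorem sylA : IsSylIn 2 (clos [q, a, d, f]) ⊤ :=
  isSylIn_of_normalizer h.syl le_top fun g _ hg => mem_cen'.2 (hN g hg)

theorem A1 {g : G} (hc : ∀ x ∈ clos [q, a, d, f], x * (g * t * g⁻¹) = g * t * g⁻¹ * x) : g * t * g⁻¹ = t := by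
  obtain ⟨n, -, hn, e⟩ := exists_norm_conj (sylA h hN) le_rfl (fun _ _ hg => cj_eq_of_le hg) (mem_top g)
    (fun _ hx => St h hx) hc
  rw [← e, hN n hn]

theorem A1z {g u : G} (hu : u ∈ zpowers q) : g * t * g⁻¹ ≠ u * a ^ (4 : ℤ) := by
  intro e
  have h2 := conj_tt h g
  rw [e, mulM h hu (akT _)] at h2
  have hc : ∀ x ∈ clos [q, a, d, f], x * u = u * x := by
    intro x hx
    rcases invQ h hu (uniq1 h (mul_mem hu hu) (mul_mem (akT _) (akT _)) h2).1 with rfl | rfl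
    · rw [mul_one, one_mul]
    · exact St h hx
  refine zQ h hu (e ▸ A1 h hN fun x hx => ?_)
  rw [e, ← mul_assoc, hc x hx, mul_assoc, Sz h hx, mul_assoc]

theorem A2 {g u y : G} (hu : u ∈ zpowers q) (hy : y ∈ clos [a, d]) (e : g * t * g⁻¹ = u * y) : g * t * g⁻¹ = t := by
  have h2 := conj_tt h g
  rw [e, mulM h hu hy] at h2
  obtain ⟨h3, h4⟩ := uniq1 h (mul_mem hu hu) (mul_mem hy hy) h2
  obtain ⟨k, rfl | rfl⟩ := memT h.toLet hy
  · rw [← zpow_add, zp1 h.toLet] at h4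
    have : k % 8 = 0 % 8 ∨ k % 8 = 4 % 8 := by omega
    rcases this with e2 | e2
    · rw [(zp h.toLet).2 e2, zpow_zero, mul_one] at e
      rcases invQ h hu h3 with rfl | rfl
      · exact absurd (conj_eq_one.1 e) (t1 h)
      · exact e
    · rw [(zp h.toLet).2 e2] at e
      exact absurd e (A1z h hN hu)
  · rw [m22 h.toLet, zp1 h.toLet] at h4
    exfalso
    refine A1z h hN (g := ρ⁻¹ * a ^ (k / 2) * g) hu ?_
    have e1 : a ^ (k / 2) * (a ^ k * d) * (a ^ (k / 2))⁻¹ = d := by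
      rw [← mul_assoc, ← zpow_add, ← zpow_neg, m21 h.toLet, (zp1 h.toLet).2 (by omega), one_mul]
    have e2 : ρ * a ^ (4 : ℤ) * ρ⁻¹ = d := by rw [← h.ρz]; norm_cast
    have e3 := cQ' hu h.ρq
    calc _ = ρ⁻¹ * (a ^ (k / 2) * (g * t * g⁻¹) * (a ^ (k / 2))⁻¹) * ρ := by group
      _ = ρ⁻¹ * (u * (a ^ (k / 2) * (a ^ k * d) * (a ^ (k / 2))⁻¹)) * ρ := by
        rw [e, ← mul_assoc (a ^ (k / 2)), ← (cQa h hu _).eq]; group
      _ = ρ⁻¹ * (ρ * u * ρ⁻¹ * (ρ * a ^ (4 : ℤ) * ρ⁻¹)) * ρ := by rw [e1, e2, e3]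
      _ = _ := by group

omit [Finite G] hN in
theorem conj_af (hκ : κ = true) {u : G} (hu : u ∈ zpowers q) (k l : ℤ) :
    a ^ l * (u * a ^ k * f) * (a ^ l)⁻¹ = u * a ^ (k - 4 * l) * f := by
  calc _ = a ^ l * u * a ^ k * (f * a ^ (-l)) := by group
    _ = u * (a ^ l * a ^ k * a ^ (5 * -l)) * f := by rw [fak' h.toLet hκ, ← (cQa h hu _).eq]; group
    _ = _ := by rw [← zpow_add, ← zpow_add]; congr 3; ring

omit [Finite G] hN in
theorem conj_adf (hκ : κ = true) {u : G} (hu : u ∈ zpowers q) (k l : ℤ) :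
    a ^ l * (u * (a ^ k * d) * f) * (a ^ l)⁻¹ = u * (a ^ (k - 14 * l) * d) * f := by
  calc _ = a ^ l * u * (a ^ k * d) * (f * a ^ (-l)) := by rw [zpow_neg]; simp only [mul_assoc]
    _ = u * (a ^ l * (a ^ k * d * a ^ (5 * -l))) * f := by
      rw [fak' h.toLet hκ, ← (cQa h hu _).eq]; simp only [mul_assoc]
    _ = _ := by rw [m21 h.toLet, ← mul_assoc (a ^ l), ← zpow_add]; congr 4; ring

theorem A3 (hκ : κ = true) {g u : G} (hu : u ∈ zpowers q) : g * t * g⁻¹ ≠ u * a ^ (0 : ℤ) * f := by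
  intro e
  have hi : g⁻¹ * a ^ (2 : ℤ) * g ∈ centralizer ({t} : Set G) := by
    have := cj3 h hκ hu 0 2
    rw [← e, (zp h.toLet).2 (show (5 * 2 : ℤ) % 8 = 2 % 8 by norm_num)] at this
    rw [mem_cen]
    calc _ = g⁻¹ * (g * t * g⁻¹ * a ^ (2 : ℤ) * (g * t * g⁻¹)⁻¹) * g * t := by rw [this]
      _ = _ := by group
  obtain ⟨c, hc, hy⟩ := exists_conj_mem_syl h.syl hi (k := 2) (by
    have : (g⁻¹ * a ^ (2 : ℤ) * g⁻¹⁻¹) ^ 2 ^ 2 = 1 := by
      rw [conj_pow, conj_eq_one, ← zpow_natCast, ← zpow_mul, zp1 h.toLet]; norm_num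
    rwa [inv_inv] at this)
  obtain ⟨v, hv, y, hy', e2⟩ := sqM h hy
  have e3 : c * (g⁻¹ * a ^ (2 : ℤ) * g) * c⁻¹ * (c * (g⁻¹ * a ^ (2 : ℤ) * g) * c⁻¹) =
      c * g⁻¹ * a ^ (4 : ℤ) * (c * g⁻¹)⁻¹ := by group
  have e4 : a ^ (1 : ℤ) * (g * t * g⁻¹) * (a ^ (1 : ℤ))⁻¹ = g * t * g⁻¹ * a ^ (4 : ℤ) := by
    rw [e, conj_af h hκ hu, mul_assoc _ f, fak' h.toLet hκ, mul_assoc u (a ^ (0 : ℤ)), ← mul_assoc (a ^ (0 : ℤ)),
      ← zpow_add, ← mul_assoc, (zp h.toLet).2 (show (0 - 4 * 1 : ℤ) % 8 = (0 + 5 * 4) % 8 by norm_num)]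
  have e5 : c * g⁻¹ * a ^ (1 : ℤ) * g * t * (c * g⁻¹ * a ^ (1 : ℤ) * g)⁻¹ =
      t * (c * g⁻¹ * a ^ (4 : ℤ) * (c * g⁻¹)⁻¹) := by
    calc _ = c * g⁻¹ * (a ^ (1 : ℤ) * (g * t * g⁻¹) * (a ^ (1 : ℤ))⁻¹) * (c * g⁻¹)⁻¹ := by group
      _ = c * t * c⁻¹ * (c * g⁻¹ * a ^ (4 : ℤ) * (c * g⁻¹)⁻¹) := by rw [e4]; group
      _ = _ := by rw [mem_cen'.1 hc]
  have e6 := A2 h hN (mul_mem h.tq hv) hy' (e5.trans (by rw [← e3, e2, mul_assoc]))
  rw [e5, mul_eq_left, conj_eq_one] at e6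
  exact z1 h.toLet e6

theorem A3z (hκ : κ = true) {g u : G} (hu : u ∈ zpowers q) : g * t * g⁻¹ ≠ u * a ^ (4 : ℤ) * f := by
  intro e
  refine A3 h hN hκ (g := a ^ (1 : ℤ) * g) hu ?_
  have := conj_af h hκ hu 4 1
  rw [← e] at this
  rw [show (0 : ℤ) = 4 - 4 * 1 by norm_num, ← this]
  group

theorem A4 {g : G} (hg : g * t * g⁻¹ ∈ clos [q, a, d, f]) : g * t * g⁻¹ = t := by
  obtain ⟨u, hu, k, e | e | ⟨hκ, e | e⟩⟩ := memS' h hg
  · exact A2 h hN hu (akT _) e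
  · exact A2 h hN hu (akdT _) e
  · have h2 := conj_tt h g
    rw [e, mulF h hκ hu (akT _) (akT _), fak h.toLet hκ, ← zpow_add] at h2
    have h3 := (uniq1 h (mul_mem (mul_mem hu (fQ h hu)) h.f2) (akT _) h2).2
    rw [zp1 h.toLet] at h3
    have : k % 8 = 0 % 8 ∨ k % 8 = 4 % 8 := by omega
    rcases this with e2 | e2
    · rw [(zp h.toLet).2 e2] at e
      exact absurd e (A3 h hN hκ hu)
    · rw [(zp h.toLet).2 e2] at e
      exact absurd e (A3z h hN hκ hu)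
  · exfalso
    rcases Int.emod_two_eq_zero_or_one k with e2 | e2
    · refine A3z h hN hκ (g := ρ⁻¹ * a ^ (-(k / 2)) * g) hu ?_
      have e1 := conj_adf h hκ hu k (-(k / 2))
      rw [← e, (zp1 h.toLet (k := k - 14 * -(k / 2))).2 (by omega), one_mul] at e1
      have e2 : ρ * a ^ (4 : ℤ) * ρ⁻¹ = d := by rw [← h.ρz]; norm_cast
      calc _ = ρ⁻¹ * (a ^ (-(k / 2)) * (g * t * g⁻¹) * (a ^ (-(k / 2)))⁻¹) * ρ := by group
        _ = ρ⁻¹ * (ρ * u * ρ⁻¹ * (ρ * a ^ (4 : ℤ) * ρ⁻¹) * (ρ * f * ρ⁻¹)) * ρ := by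
          rw [e1, e2, cQ' hu h.ρq, h.ρf]
        _ = _ := by group
    · refine A3z h hN hκ (g := σ⁻¹ * a ^ (3 - k / 2) * g) hu ?_
      have e1 := conj_adf h hκ hu k (3 - k / 2)
      rw [← e, (zp h.toLet (k := k - 14 * (3 - k / 2)) (l := 7)).2 (by omega)] at e1
      have e3 : σ * a ^ (2 : ℤ) * σ⁻¹ = a ^ (1 : ℤ) * d := by rw [zpow_one, ← h.σi]; norm_cast
      have e4 : σ * (f * a ^ (2 : ℤ)) * σ⁻¹ = f * a ^ (2 : ℤ) := by exact_mod_cast h.σc hκ
      have e5 : f * a ^ (2 : ℤ) = a ^ (2 : ℤ) * f := by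
        rw [fak' h.toLet hκ, (zp h.toLet).2 (show (5 * 2 : ℤ) % 8 = 2 % 8 by norm_num)]
      have e6 : a ^ (7 : ℤ) * d * f = σ * (a ^ (4 : ℤ) * f) * σ⁻¹ := by
        calc _ = a ^ (1 : ℤ) * d * (f * a ^ (2 : ℤ)) := by
              rw [e5, ← mul_assoc, m21 h.toLet]; norm_num
          _ = σ * a ^ (2 : ℤ) * σ⁻¹ * (σ * (f * a ^ (2 : ℤ)) * σ⁻¹) := by rw [e3, e4]
          _ = _ := by rw [e5]; group
      calc _ = σ⁻¹ * (a ^ (3 - k / 2) * (g * t * g⁻¹) * (a ^ (3 - k / 2))⁻¹) * σ := by group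
        _ = σ⁻¹ * (σ * u * σ⁻¹ * (σ * (a ^ (4 : ℤ) * f) * σ⁻¹)) * σ := by
          rw [e1, cQ' hu h.σq, ← e6]; simp only [mul_assoc]
        _ = _ := by group

theorem caseA (hO : Cfsg.oddCore G = ⊥) (hZ : center G = ⊥) : False := by
  rcases exists_conj_or_sup (sylA h hN) h.t2 (QS h.tq) with e | ⟨g, hg, e⟩
  · rw [hO, sup_bot_eq] at e
    have : t ∈ center G := mem_center_iff.2 fun g => mem_cen.1 (e ▸ mem_top g)
    rw [hZ, mem_bot] at this
    exact t1 h this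
  · exact e (A4 h hN hg)

end A

section B

variable {n : G} (hn : n ∈ normalizer (clos [q, a, d, f] : Set G))
include hn

omit [Finite G] h in
theorem nS {x : G} (hx : x ∈ clos [q, a, d, f]) : n * x * n⁻¹ ∈ clos [q, a, d, f] := conj_mem_of_mem_norm hn hx

omit [Finite G] h in
theorem nS' {x : G} (hx : x ∈ clos [q, a, d, f]) : n⁻¹ * x * n ∈ clos [q, a, d, f] := by
  have := conj_mem_of_mem_norm (inv_mem hn) hx
  rwa [inv_inv] at this

omit [Finite G] h hn in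
theorem comm_iff {x y : G} : x * (n * y * n⁻¹) = n * y * n⁻¹ * x ↔ n⁻¹ * x * n * y = y * (n⁻¹ * x * n) := by
  constructor
  · intro e
    calc _ = n⁻¹ * (x * (n * y * n⁻¹)) * n := by group
      _ = _ := by rw [e]; group
  · intro e
    calc _ = n * (n⁻¹ * x * n * y) * n⁻¹ := by group
      _ = _ := by rw [e]; group

variable (hnt : n * t * n⁻¹ ≠ t)
include hnt

theorem B0 : n * t * n⁻¹ = a ^ (4 : ℤ) ∨ n * t * n⁻¹ = t * a ^ (4 : ℤ) := by
  have hc : ∀ x ∈ clos [q, a, d, f], n * t * n⁻¹ * x = x * (n * t * n⁻¹) := fun x hx =>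
    (comm_iff.2 (St h (nS' hn hx))).symm
  have h2 := conj_tt h n
  obtain ⟨u, hu, e | e⟩ := cen_ad h (nS hn (QS h.tq)) (hc a (mem_clos (by simp))) (hc d (mem_clos (by simp)))
  · rw [e] at h2
    rcases invQ h hu h2 with rfl | rfl
    · exact absurd (conj_eq_one.1 e) (t1 h)
    · exact absurd e hnt
  · rw [e, mulM h hu (akT _)] at h2
    rcases invQ h hu (uniq1 h (mul_mem hu hu) (mul_mem (akT _) (akT _)) h2).1 with rfl | rfl
    · exact Or.inl (by rw [e, one_mul])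
    · exact Or.inr e

omit hn hnt in
theorem root_conj {r s : G} (hr : r ∈ zpowers q) (h2 : r * r = t) (hs : s ∈ clos [q, a, d, f]) :
    s * r * s⁻¹ * r⁻¹ = 1 ∨ s * r * s⁻¹ * r⁻¹ = t := by
  have h1 : s * r * s⁻¹ ∈ zpowers q := by
    obtain ⟨u, hu, y, hy, rfl | ⟨hκ, rfl⟩⟩ := memS h hs
    · rw [((cQQ hu hr).mul_left (cQT h hr hy).symm).eq, mul_inv_cancel_right]
      exact hr
    · have := ((cQQ hu (fQ h hr)).mul_left (cQT h (fQ h hr) hy).symm).eq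
      rw [show u * y * f * r * (u * y * f)⁻¹ = u * y * (f * r * f⁻¹) * (u * y)⁻¹ by group, this,
        mul_inv_cancel_right]
      exact fQ h hr
  refine invQ h (mul_mem h1 (inv_mem hr)) ?_
  calc _ = s * r * s⁻¹ * (r⁻¹ * (s * r * s⁻¹)) * r⁻¹ := by group
    _ = s * (r * r) * s⁻¹ * (r * r)⁻¹ := by rw [(cQQ (inv_mem hr) h1).eq]; group
    _ = 1 := by rw [h2, St h hs]; group

omit hn hnt in
theorem comm_of_f {r s : G} (hr : r ∈ zpowers q) (hf : f * r = r * f) (hs : s ∈ clos [q, a, d, f]) :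
    s * r = r * s := by
  obtain ⟨u, hu, y, hy, rfl | ⟨hκ, rfl⟩⟩ := memS h hs
  · exact ((cQQ hu hr).mul_left (cQT h hr hy).symm).eq
  · exact (((cQQ hu hr).mul_left (cQT h hr hy).symm).mul_left hf).eq

omit [Finite G] hn hnt in
theorem ak_ne {k : ℤ} {u : G} (hu : u ∈ zpowers q) (hk : k % 4 = 2) : a ^ k ≠ u * a ^ (4 : ℤ) ∧ a ^ k ≠ 1 := by
  refine ⟨fun e => ?_, fun e => ?_⟩
  · have := (uniq h (one_mem _) hu (akT k) (akT 4) (by rw [one_mul, e])).2
    rw [zp h.toLet] at this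
    omega
  · rw [zp1 h.toLet] at e
    omega

theorem B1 {r : G} (hr : r ∈ zpowers q) (h2 : r * r = t) :
    f * r ≠ r * f ∧ ∃ u, (u = 1 ∨ u = t) ∧ ∃ k : ℤ, k % 4 = 2 ∧ n * r * n⁻¹ = u * a ^ k := by
  have hB : ∃ v ∈ zpowers q, n * t * n⁻¹ = v * a ^ (4 : ℤ) := by
    rcases B0 h hn hnt with e | e
    · exact ⟨1, one_mem _, by rw [e, one_mul]⟩
    · exact ⟨t, h.tq, e⟩
  obtain ⟨v, hv, ev⟩ := hB
  have hc : ∀ s ∈ clos [q, a, d, f], s * (n * r * n⁻¹) * s⁻¹ * (n * r * n⁻¹)⁻¹ = 1 ∨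
      s * (n * r * n⁻¹) * s⁻¹ * (n * r * n⁻¹)⁻¹ = v * a ^ (4 : ℤ) := by
    intro s hs
    have e : s * (n * r * n⁻¹) * s⁻¹ * (n * r * n⁻¹)⁻¹ =
      n * (n⁻¹ * s * n * r * (n⁻¹ * s * n)⁻¹ * r⁻¹) * n⁻¹ := by group
    rcases root_conj h hr h2 (nS' hn hs) with e1 | e1
    · exact Or.inl (by rw [e, e1]; group)
    · exact Or.inr (by rw [e, e1, ev])
  have ha := hc (a ^ (-1 : ℤ)) (TS (akT _))
  rw [show ∀ x : G, a ^ (-1 : ℤ) * x * (a ^ (-1 : ℤ))⁻¹ * x⁻¹ = a ^ (-1 : ℤ) * (x * a ^ (1 : ℤ) * x⁻¹) from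
    fun x => by group] at ha
  have hcen : f * r = r * f → ∀ s ∈ clos [q, a, d, f], s * (n * r * n⁻¹) = n * r * n⁻¹ * s := fun hf s hs =>
    comm_iff.2 (comm_of_f h hr hf (nS' hn hs))
  obtain ⟨u, hu, k, e | e | ⟨hκ, e | e⟩⟩ := memS' h (nS hn (QS hr))
  · have e1 : u * u * a ^ (k + k) = v * a ^ (4 : ℤ) := by
      rw [← ev, ← h2, zpow_add, ← mulM h hu (akT _), ← e]; group
    obtain ⟨e2, e3⟩ := uniq h (mul_mem hu hu) hv (akT _) (akT _) e1
    rw [zp h.toLet] at e3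
    have e4 : d * (n * r * n⁻¹) * d⁻¹ * (n * r * n⁻¹)⁻¹ = a ^ (4 : ℤ) := by
      rw [e, ← mul_assoc d, ← (cQd h hu).eq, mul_assoc u d, mul_assoc u, dak h.toLet, mul_inv_rev, ← mul_assoc,
        mul_assoc u, ← zpow_neg, ← zpow_add, (cQa h hu _).eq, mul_inv_cancel_right, zp h.toLet]
      omega
    refine ⟨fun hf => ?_, u, ?_, k, by omega, e⟩
    · rw [hcen hf d (mem_clos (by simp))] at e4
      exact z1 h.toLet (by rw [← e4]; group)
    · rcases hc d (mem_clos (by simp)) with e5 | e5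
      · exact absurd (e4.symm.trans e5) (z1 h.toLet)
      · rw [e4, right_eq_mul] at e5
        exact invQ h hu (e2.trans e5)
  · rw [e, cj2 h hu, ← zpow_add] at ha
    have := ak_ne h (k := -1 + 3 * 1) hv (by norm_num)
    tauto
  · exfalso
    have hf : f * r = r * f := by
      have e1 : r * (n * r * n⁻¹) * r⁻¹ * (n * r * n⁻¹)⁻¹ = r * (f * r⁻¹ * f⁻¹) := by
        have := ((cQQ hu (fQ h (inv_mem hr))).mul_left (cQa h (fQ h (inv_mem hr)) k).symm).eq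
        rw [e, show r * (u * a ^ k * f) * r⁻¹ * (u * a ^ k * f)⁻¹ =
          r * (u * a ^ k * (f * r⁻¹ * f⁻¹) * (u * a ^ k)⁻¹) by group, this, mul_inv_cancel_right]
      have e2 : r * (f * r⁻¹ * f⁻¹) = 1 := by
        rcases hc r (QS hr) with e5 | e5
        · rw [← e1, e5]
        · rw [e1] at e5
          exact absurd (uniq h (mul_mem hr (fQ h (inv_mem hr))) hv (one_mem _) (akT _)
            (by rw [mul_one, e5])).2.symm (z1 h.toLet)
      calc _ = r * (f * r⁻¹ * f⁻¹) * (f * r) := by rw [e2, one_mul]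
        _ = _ := by group
    have e1 := cj3 h hκ hu k 1
    rw [← e, ← hcen hf _ (TS (akT _)), mul_inv_cancel_right, zp h.toLet] at e1
    omega
  · rw [e, cj4 h hκ hu, ← zpow_add] at ha
    have := ak_ne h (k := -1 + 3 * (5 * 1)) hv (by norm_num)
    tauto

omit [Finite G] hn hnt in
theorem comm_i {k : ℤ} (hk : k % 4 = 2) {x : G} :
    x * a ^ k = a ^ k * x ↔ x * a ^ (2 : ℤ) = a ^ (2 : ℤ) * x := by
  have : k % 8 = 2 % 8 ∨ k % 8 = (-2) % 8 := by omega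
  rcases this with e | e
  · rw [(zp h.toLet).2 e]
  · rw [(zp h.toLet).2 e, zpow_neg]
    exact Commute.inv_right_iff

theorem B2 : q * q = 1 := by
  by_contra hq
  obtain ⟨r, hr, h2⟩ := root h (mem_zpowers q) hq
  obtain ⟨hf, u, hu, k, hk, e⟩ := B1 h hn hnt hr h2
  have hκ : κ = true := κ_of h.toLet fun e => hf (by rw [e, one_mul, mul_one])
  -- the centraliser of `r'` in `S` is that of `a ^ 2`
  have h1 : ∀ x ∈ clos [q, a, d, f],
      x * (n * r * n⁻¹) = n * r * n⁻¹ * x ↔ x * a ^ (2 : ℤ) = a ^ (2 : ℤ) * x := by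
    intro x hx
    have hxu : x * u = u * x := by
      rcases hu with rfl | rfl
      · rw [mul_one, one_mul]
      · exact St h hx
    rw [e, ← mul_assoc, hxu, mul_assoc, mul_assoc, mul_left_cancel_iff, comm_i h hk]
  -- the centraliser of `r` in `S` centralises `q`
  have h3 : ∀ x ∈ clos [q, a, d, f], x * r = r * x → x * q = q * x := by
    intro x hx ex
    obtain ⟨v, hv, y, hy, rfl | ⟨-, rfl⟩⟩ := memS h hx
    · exact ((cQQ hv (mem_zpowers q)).mul_left (cQT h (mem_zpowers q) hy).symm).eq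
    · refine absurd (mul_left_cancel (a := v * y) ?_) hf
      rw [← mul_assoc, ex, ← mul_assoc, ← mul_assoc _ r, ((cQQ hv hr).mul_left (cQT h hr hy).symm).eq]
  have h4 : ∀ x ∈ clos [q, a, d, f], x * a ^ (2 : ℤ) = a ^ (2 : ℤ) * x →
      x * (n * q * n⁻¹) = n * q * n⁻¹ * x := fun x hx ex =>
    comm_iff.2 (h3 _ (nS' hn hx) (comm_iff.1 ((h1 x hx).2 ex)))
  have e5 : f * a ^ (2 : ℤ) = a ^ (2 : ℤ) * f := by
    rw [fak' h.toLet hκ, (zp h.toLet).2 (show (5 * 2 : ℤ) % 8 = 2 % 8 by norm_num)]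
  obtain ⟨v, hv, l, el⟩ := cen_a h (nS hn (QS (mem_zpowers q)))
    (h4 a (mem_clos (by simp)) (by group)).symm
  have e6 : f * v * f⁻¹ * a ^ (5 * l) = v * a ^ l := by
    rw [← fak h.toLet hκ, ← el, ← mul_inv_eq_iff_eq_mul.2 (h4 f fS e5), el]
    group
  obtain ⟨e7, e8⟩ := uniq h (fQ h hv) hv (akT _) (akT _) e6
  rw [zp h.toLet] at e8
  have e9 : v * v = 1 := by
    by_contra hv2
    obtain ⟨r', hr', h2'⟩ := root h hv hv2
    have hr'' := zpowers_le.2 hv hr'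
    have e1 : f * r' = r' * f := mul_inv_eq_iff_eq_mul.1 (cQ' hr' e7)
    have e2 : r'⁻¹ * r * (r'⁻¹ * r) = 1 := by
      rw [← (cQQ hr (inv_mem hr'')).eq, (cQQ (inv_mem hr'') hr).symm.symm.mul_mul_mul_comm, h2, ← mul_inv_rev, h2',
        mul_inv_cancel]
    rcases invQ h (mul_mem (inv_mem hr'') hr) e2 with e3 | e3
    · rw [inv_mul_eq_one] at e3
      exact hf (e3 ▸ e1)
    · rw [inv_mul_eq_iff_eq_mul] at e3
      exact hf (by rw [e3, ← mul_assoc, e1, mul_assoc, St h fS, mul_assoc])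
  have q4 : q * q * (q * q) = 1 := by
    rw [← conj_eq_one (g := n), show n * (q * q * (q * q)) * n⁻¹ =
      n * q * n⁻¹ * (n * q * n⁻¹) * (n * q * n⁻¹ * (n * q * n⁻¹)) by group, el, mulM h hv (akT _), e9, one_mul,
      ← zpow_add, ← zpow_add, zp1 h.toLet]
    omega
  have hsq : ∀ w ∈ zpowers q, f * (w * w) = w * w * f := by
    intro w hw
    have : w * w * (w * w) = 1 := by
      obtain ⟨m, rfl⟩ := mem_zpowers_iff.1 hw
      have c := Commute.refl q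
      rw [← c.mul_zpow, ← ((c.mul_left c).mul_right (c.mul_left c)).mul_zpow, q4, one_zpow]
    rcases invQ h (mul_mem hw hw) this with e1 | e1 <;> rw [e1]
    · rw [mul_one, one_mul]
    · exact St h fS
  -- squares are central in the centraliser of `a ^ 2`
  have h5 : ∀ x ∈ clos [q, a, d, f], x * a ^ (2 : ℤ) = a ^ (2 : ℤ) * x →
      ∃ w ∈ zpowers q, ∃ m : ℤ, x * x = w * a ^ m ∧ Commute (x * x) f := by
    intro x hx ex
    obtain ⟨w, hw, m, rfl | ⟨-, rfl⟩⟩ := cen_i h hx (mul_inv_eq_iff_eq_mul.2 ex)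
    · rw [mulM h hw (akT _), ← zpow_add]
      refine ⟨_, mul_mem hw hw, _, rfl, Commute.mul_left (hsq w hw).symm ?_⟩
      rw [show m + m = 2 * m by ring, zpow_mul]
      exact Commute.zpow_left e5.symm m
    · have e1 := mulF h hκ hw (akT m) (akT m) w
      rw [fak h.toLet hκ, ← zpow_add] at e1
      have hw' := mul_mem (mul_mem hw (fQ h hw)) h.f2
      refine ⟨_, hw', _, e1, ?_⟩
      have c1 : Commute (w * a ^ m * f * (w * a ^ m * f)) (w * a ^ m) := by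
        rw [e1]
        exact ((cQQ hw' hw).mul_right (cQa h hw' _)).mul_left
          ((cQa h hw _).symm.mul_right (Commute.zpow_zpow_self a _ _))
      have c2 : Commute (w * a ^ m * f * (w * a ^ m * f)) (w * a ^ m * f) :=
        (Commute.refl _).mul_left (Commute.refl _)
      simpa only [inv_mul_cancel_left] using c1.inv_right.mul_right c2
  have ha : a ∈ clos [q, a, d, f] := mem_clos (by simp)
  have hd : d ∈ clos [q, a, d, f] := mem_clos (by simp)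
  have h6 : ∀ x ∈ clos [a, d], n * x * n⁻¹ * a ^ (2 : ℤ) = a ^ (2 : ℤ) * (n * x * n⁻¹) := fun x hx =>
    (h1 _ (nS hn (TS hx))).1 (comm_iff.2 (by
      rw [show n⁻¹ * (n * x * n⁻¹) * n = x by group]; exact (cQT h hr hx).symm.eq))
  obtain ⟨w, hw, m, e1, c1⟩ := h5 _ (nS hn ha) (h6 a (mem_clos (by simp)))
  have c2 : Commute (n * a * n⁻¹ * (n * a * n⁻¹)) (n * d * n⁻¹) := by
    have c3 : ∀ w' ∈ zpowers q, ∀ m' : ℤ, Commute (n * a * n⁻¹ * (n * a * n⁻¹)) (w' * a ^ m') := fun w' hw' m' => by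
      rw [e1]
      exact ((cQQ hw hw').mul_right (cQa h hw _)).mul_left
        ((cQa h hw' _).symm.mul_right (Commute.zpow_zpow_self a _ _))
    obtain ⟨w', hw', m', e2 | ⟨-, e2⟩⟩ := cen_i h (nS hn hd) (mul_inv_eq_iff_eq_mul.2 (h6 d (mem_clos (by simp))))
    · rw [e2]; exact c3 w' hw' m'
    · rw [e2]; exact (c3 w' hw' m').mul_right c1
  have e2 : d * a ^ (2 : ℤ) * d⁻¹ = a ^ (2 : ℤ) := by
    rw [zpow_two]
    calc _ = n⁻¹ * (n * d * n⁻¹ * (n * a * n⁻¹ * (n * a * n⁻¹)) * (n * d * n⁻¹)⁻¹) * n := by group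
      _ = _ := by rw [← c2.eq]; group
  rw [dak h.toLet, zp h.toLet] at e2
  omega

theorem B3 : q = t := by
  rcases invQ h (mem_zpowers q) (B2 h hn hnt) with e | e
  · have := h.tq
    rw [e, zpowers_one_eq_bot, mem_bot] at this
    exact absurd this (t1 h)
  · exact e

theorem B4 : f * f = 1 := by
  have hq := B3 h hn hnt
  have hQ : ∀ u ∈ zpowers q, u * u = 1 ∧ f * u * f⁻¹ = u := by
    intro u hu
    refine ⟨?_, cQ' hu (by rw [hq, St h fS, mul_inv_cancel_right])⟩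
    obtain ⟨m, rfl⟩ := mem_zpowers_iff.1 hu
    rw [← (Commute.refl q).mul_zpow, B2 h hn hnt, one_zpow]
  by_contra hf
  have hκ : κ = true := κ_of h.toLet fun e => hf (by rw [e, one_mul])
  have hft : f * f = t := (invQ h h.f2 (hQ _ h.f2).1).resolve_left hf
  have mF : ∀ u ∈ zpowers q, ∀ v ∈ zpowers q, ∀ x ∈ clos [a, d], ∀ y ∈ clos [a, d],
      u * x * f * (v * y * f) = u * v * t * (x * (f * y * f⁻¹)) := fun u _ v hv x hx y hy => by
    rw [mulF h hκ hv hx hy, (hQ v hv).2, hft]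
  have four : ∀ u ∈ zpowers q, ∀ x ∈ clos [a, d], x * x * (x * x) = 1 → (u * x) ^ 4 = 1 := fun u hu x hx e => by
    rw [show (u * x) ^ 4 = u * x * (u * x) * (u * x * (u * x)) by simp only [pow_succ, pow_zero, one_mul, mul_assoc],
      mulM h hu hx, (hQ u hu).1, one_mul, e]
  have f1 : ∀ k : ℤ, k % 2 = 0 → a ^ k * a ^ k * (a ^ k * a ^ k) = 1 := fun k hk => by
    rw [← zpow_add, ← zpow_add, zp1 h.toLet]; omega
  have f2 : ∀ k : ℤ, a ^ k * d * (a ^ k * d) * (a ^ k * d * (a ^ k * d)) = 1 := fun k => by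
    rw [m22 h.toLet, ← zpow_add, zp1 h.toLet]; omega
  have sq3 : ∀ u ∈ zpowers q, ∀ k : ℤ, u * a ^ k * f * (u * a ^ k * f) = t * a ^ (k + 5 * k) := fun u hu k => by
    rw [mF u hu u hu _ (akT k) _ (akT k), (hQ u hu).1, one_mul, fak h.toLet hκ, zpow_add]
  have sq4 : ∀ u ∈ zpowers q, ∀ k : ℤ, u * (a ^ k * d) * f * (u * (a ^ k * d) * f) = t := fun u hu k => by
    rw [mF u hu u hu _ (akdT k) _ (akdT k), (hQ u hu).1, one_mul, fakd h.toLet hκ, m22 h.toLet,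
      (zp1 h.toLet).2 (by omega), mul_one]
  have sq1 : ∀ u ∈ zpowers q, ∀ x ∈ clos [a, d], u * x * (u * x) = 1 * (x * x) := fun u hu x hx => by
    rw [mulM h hu hx, (hQ u hu).1]
  have y1 : (1 : G) * (a ^ (0 : ℤ) * d) * f ∈ clos [q, a, d, f] := mul_mem (mul_mem (one_mem _) (TS (akdT _))) fS
  have y2 : (1 : G) * (a ^ (1 : ℤ) * d) * f ∈ clos [q, a, d, f] := mul_mem (mul_mem (one_mem _) (TS (akdT _))) fS
  have key : ∀ x ∈ clos [q, a, d, f], ∀ y ∈ clos [q, a, d, f], x * x = n * t * n⁻¹ → y * y = n * t * n⁻¹ →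
      (x * y) ^ 4 = 1 := by
    rcases B0 h hn hnt with e | e <;> rw [e]
    · have r1 : ∀ x ∈ clos [q, a, d, f], x * x = a ^ (4 : ℤ) →
          ∃ u ∈ zpowers q, ∃ k : ℤ, (k % 2 = 0 ∧ x = u * a ^ k) ∨ (k % 2 = 1 ∧ x = u * (a ^ k * d)) := by
        intro x hx ex
        obtain ⟨u, hu, k, rfl | rfl | ⟨-, rfl | rfl⟩⟩ := memS' h hx
        · rw [sq1 u hu _ (akT k), one_mul, ← zpow_add, zp h.toLet] at ex
          exact ⟨u, hu, k, Or.inl ⟨by omega, rfl⟩⟩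
        · rw [sq1 u hu _ (akdT k), one_mul, m22 h.toLet, zp h.toLet] at ex
          exact ⟨u, hu, k, Or.inr ⟨by omega, rfl⟩⟩
        · rw [sq3 u hu] at ex
          exact absurd (uniq h h.tq (one_mem _) (akT _) (akT _) (by rw [ex, one_mul])).1 (t1 h)
        · rw [sq4 u hu] at ex
          exact absurd (by rw [one_mul, ex]) (zQ h (one_mem _))
      intro x hx y hy ex ey
      obtain ⟨u, hu, k, ⟨hk, rfl⟩ | ⟨hk, rfl⟩⟩ := r1 x hx ex <;>
        obtain ⟨v, hv, l, ⟨hl, rfl⟩ | ⟨hl, rfl⟩⟩ := r1 y hy ey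
      · rw [mulM h hv (akT _), ← zpow_add]
        exact four _ (mul_mem hu hv) _ (akT _) (f1 _ (by omega))
      · rw [mulM h hv (akT _), ← mul_assoc (a ^ k), ← zpow_add]
        exact four _ (mul_mem hu hv) _ (akdT _) (f2 _)
      · rw [mulM h hv (akdT _), m21 h.toLet]
        exact four _ (mul_mem hu hv) _ (akdT _) (f2 _)
      · rw [mulM h hv (akdT _), m22 h.toLet]
        exact four _ (mul_mem hu hv) _ (akT _) (f1 _ (by omega))
    · have r1 : ∀ x ∈ clos [q, a, d, f], x * x = t * a ^ (4 : ℤ) →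
          ∃ u ∈ zpowers q, ∃ k : ℤ, k % 2 = 0 ∧ x = u * a ^ k * f := by
        intro x hx ex
        obtain ⟨u, hu, k, rfl | rfl | ⟨-, rfl | rfl⟩⟩ := memS' h hx
        · rw [sq1 u hu _ (akT k)] at ex
          exact absurd (uniq h (one_mem _) h.tq (mul_mem (akT _) (akT _)) (akT _) ex).1.symm (t1 h)
        · rw [sq1 u hu _ (akdT k)] at ex
          exact absurd (uniq h (one_mem _) h.tq (mul_mem (akdT _) (akdT _)) (akT _) ex).1.symm (t1 h)
        · rw [sq3 u hu, mul_left_cancel_iff, zp h.toLet] at ex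
          exact ⟨u, hu, k, by omega, rfl⟩
        · rw [sq4 u hu] at ex
          exact absurd ex.symm (zQ h h.tq)
      intro x hx y hy ex ey
      obtain ⟨u, hu, k, hk, rfl⟩ := r1 x hx ex
      obtain ⟨v, hv, l, hl, rfl⟩ := r1 y hy ey
      rw [mF u hu v hv _ (akT k) _ (akT l), fak h.toLet hκ, ← zpow_add]
      exact four _ (mul_mem (mul_mem hu hv) h.tq) _ (akT _) (f1 _ (by omega))
  have e1 := key _ (nS hn y1) _ (nS hn y2) (by rw [← sq4 1 (one_mem _) 0]; group) (by rw [← sq4 1 (one_mem _) 1]; group)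
  rw [show ∀ x y : G, n * x * n⁻¹ * (n * y * n⁻¹) = n * (x * y) * n⁻¹ from fun x y => by group, conj_pow, conj_eq_one,
    mF 1 (one_mem _) 1 (one_mem _) _ (akdT _) _ (akdT _), fakd h.toLet hκ, m22 h.toLet, one_mul, one_mul,
    (cQa h h.tq _).mul_pow, show t ^ 4 = t * t * (t * t) by simp only [pow_succ, pow_zero, one_mul, mul_assoc],
    tt h, one_mul, one_mul, ← zpow_natCast, ← zpow_mul, zp1 h.toLet] at e1
  omega

end B

end FrD

open FrD in
theorem Pre.cfg [Finite G] {κ : Bool} {t q a d f σ ρ : G} {K : Subgroup G} (h : Pre κ t q a d f σ ρ K)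
    (hO : Cfsg.oddCore G = ⊥) (hZ : center G = ⊥) : Cfg κ t a d f σ ρ K := by
  by_cases hN : ∀ n ∈ normalizer (clos [q, a, d, f] : Set G), n * t * n⁻¹ = t
  · exact (caseA h hN hO hZ).elim
  push Not at hN
  obtain ⟨n, hn, hnt⟩ := hN
  have hf := B4 h hn hnt
  obtain rfl := B3 h hn hnt
  have hqf : q * f * q⁻¹ = f := by rw [← St h fS, mul_inv_cancel_right]
  refine { h.toLet with
    t2 := tt h, f2 := hf, ta := h.qa, td := h.qd, tf := hqf, tT := fun ht => ?_, syl := h.syl, σt := h.σq,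
    ρt := h.ρq, Kc := ?_, KS := h.KS }
  · have key : ∀ x ∈ clos [a, d, f], ∃ y ∈ clos [a, d], x = y ∨ (κ = true ∧ x = y * f) := by
      intro x hx
      refine clos_left (P := fun x => ∃ y ∈ clos [a, d], x = y ∨ (κ = true ∧ x = y * f))
        ⟨1, one_mem _, Or.inl rfl⟩ ?_ hx
      intro x hx w hw
      obtain ⟨y, hy, e⟩ := hw
      simp only [List.mem_cons, List.not_mem_nil, or_false] at hx
      have key : ∀ x ∈ clos [a, d], ∃ y ∈ clos [a, d], x * w = y ∨ (κ = true ∧ x * w = y * f) := fun x hx =>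
        ⟨x * y, mul_mem hx hy, e.imp (fun e => by rw [e]) fun e => ⟨e.1, by rw [e.2, mul_assoc]⟩⟩
      rcases hx with rfl | rfl | rfl
      · exact key _ (mem_clos (by simp))
      · exact key _ (mem_clos (by simp))
      · by_cases hx1 : x = 1
        · exact ⟨y, hy, by rwa [show x * w = w by rw [hx1, one_mul]]⟩
        have hκ := κ_of h.toLet hx1
        refine ⟨_, fT h.toLet hκ hy, ?_⟩
        rcases e with rfl | ⟨-, rfl⟩
        · exact Or.inr ⟨hκ, by group⟩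
        · exact Or.inl (by rw [← eq_inv_of_mul_eq_one_left hf, mul_assoc])
    obtain ⟨y, hy, e | ⟨hκ, e⟩⟩ := key q ht
    · exact t1 h (h.qT q (mem_zpowers q) (e ▸ hy))
    · have e1 : q * a ^ (1 : ℤ) * q⁻¹ = a ^ (1 : ℤ) := by rw [zpow_one, h.qa]
      rw [e, ← one_mul y] at e1
      obtain ⟨k, rfl | rfl⟩ := memT h.toLet hy
      · rw [cj3 h hκ (one_mem _), zp h.toLet] at e1; omega
      · rw [cj4 h hκ (one_mem _), zp h.toLet] at e1; omega
  · have key : ∀ x ∈ centralizer ({q} : Set G), ∃ k ∈ K, ∃ s ∈ centralizer ({q} : Set G),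
        (∃ u ∈ zpowers q, s = u ∨ s = u * f) ∧ x = k * s := by
      intro x hx
      obtain ⟨s, hs, hk⟩ := h.Kc x hx
      obtain ⟨u, hu, y, hy, e⟩ := memS h hs
      have hyK := (h.KS y (TS hy)).2 hy
      rw [(cQT h hu hy).eq] at e
      rcases e with rfl | ⟨-, rfl⟩
      · exact ⟨_, mul_mem hk hyK, u, h.syl.le (QS hu), ⟨u, hu, Or.inl rfl⟩, by group⟩
      · exact ⟨_, mul_mem hk hyK, u * f, h.syl.le (mul_mem (QS hu) fS), ⟨u, hu, Or.inr rfl⟩, by group⟩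
    intro x hx y hy
    obtain ⟨k, hk, s, hs, ⟨u, hu, es⟩, rfl⟩ := key x hx
    obtain ⟨k', hk', s', hs', ⟨v, hv, es'⟩, rfl⟩ := key y hy
    have c : Commute s s' := by
      have c1 := cQ hu hqf
      have c2 := cQ hv hqf
      have c3 := cQQ hu hv
      rcases es with rfl | rfl <;> rcases es' with rfl | rfl
      · exact c3
      · exact c3.mul_right c1
      · exact c3.mul_left c2.symm
      · exact (c3.mul_right c1).mul_left (c2.symm.mul_right (Commute.refl f))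
    have e : k * s * (k' * s') * (k * s)⁻¹ * (k' * s')⁻¹ =
        k * (s * k' * s⁻¹) * (s * s' * s⁻¹ * s'⁻¹) * (s' * k⁻¹ * s'⁻¹) * k'⁻¹ := by group
    rw [e, c.eq, show s' * s * s⁻¹ * s'⁻¹ = 1 by group, mul_one]
    exact mul_mem (mul_mem (mul_mem hk (h.Kn s hs k' hk')) (h.Kn s' hs' _ (inv_mem hk))) (inv_mem hk')

end Cfsg.Agent.L33
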