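import Mathlib
import Cfsg.Agent.L33.Defs
import Cfsg.Agent.Cl.AutPSLField
import Cfsg.Agent.Cl.Transport
import Cfsg.Agent.Cl.LinearBasic

/-!
The letters in the automorphism group of `L₃(3)`.
-/

set_option autoImplicit false

namespace Cfsg.Agent.L33

open Cfsg.Agent.Rec Cfsg.Agent.Inv.Fz Subgroup

variable {G : Type*} [Group G]

theorem frm_conj (β : MulAut G) (x : G) :
    β * MulAut.conj x * β⁻¹ = MulAut.conj (β x) := by
  ext y
  simp [MulAut.mul_apply]

theorem frm_comm (β : MulAut G) (x : G) (h : β x = x) :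
    MulAut.conj x * β * (MulAut.conj x)⁻¹ = β := by
  have := frm_conj β x
  rw [h] at this
  rw [mul_inv_eq_iff_eq_mul] at this ⊢
  exact this.symm

/-- The relations in the automorphism group from relations in the group. -/
theorem frm_let (a d σ ρ : G) (f : MulAut G) (h1 : a ^ 8 = 1) (x : G) (h2 : a ^ 4 * x ≠ x * a ^ 4)
    (h3 : d * d = 1) (h4 : d * a * d⁻¹ = a ^ 3) (h5 : f d = d) (h6 : f a = a ^ 5)
    (h7 : σ * a ^ 2 * σ⁻¹ = a * d) (h8 : σ * (a * d) * σ⁻¹ = a ^ 2 * (a * d))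
    (h9 : f (a ^ 2 * σ * (a ^ 2)⁻¹) = σ) (h10 : ρ * a ^ 4 * ρ⁻¹ = d)
    (h11 : ρ * d * ρ⁻¹ = d * a ^ 4) (h12 : f ρ = ρ) :
    Let true (MulAut.conj a) (MulAut.conj d) f (MulAut.conj σ) (MulAut.conj ρ) where
  a8 := by rw [← map_pow, h1, map_one]
  a4 := fun h => h2 (by
    rw [← map_pow] at h
    have := DFunLike.congr_fun h x
    simp only [MulAut.conj_apply, MulAut.one_apply] at this
    exact mul_inv_eq_iff_eq_mul.1 this)
  d2 := by rw [← map_mul, h3, map_one]
  da := by rw [← map_inv, ← map_mul, ← map_mul, h4, map_pow]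
  fd := by rw [frm_conj, h5]
  f0 := fun h => absurd h (by simp)
  fa := fun _ => by rw [frm_conj, h6, map_pow]
  σi := by rw [← map_inv, ← map_pow, ← map_mul, ← map_mul, h7, map_mul]
  σj := by rw [← map_inv, ← map_pow, ← map_mul, ← map_mul, ← map_mul, h8, map_mul]
  σc := fun _ => frm_comm _ _ (by rw [← map_pow]; exact h9)
  ρz := by rw [← map_inv, ← map_pow, ← map_mul, ← map_mul, h10]
  ρd := by rw [← map_inv, ← map_pow, ← map_mul, ← map_mul, h11, map_mul]
  ρf := frm_comm _ _ h12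

/-- The special linear group. -/
abbrev FrmS : Type := Matrix.SpecialLinearGroup (Fin 3) (ZMod 3)

/-- An element of order eight. -/
def frmA : FrmS := ⟨!![1, 2, 0; 1, 1, 0; 0, 0, 2], by decide⟩
/-- A diagonal involution. -/
def frmD : FrmS := ⟨!![1, 0, 0; 0, 2, 0; 0, 0, 2], by decide⟩
/-- An element of order three of `SL₂(3)`. -/
def frmS : FrmS := ⟨!![0, 1, 0; 2, 2, 0; 0, 0, 1], by decide⟩
/-- A permutation matrix. -/
def frmR : FrmS := ⟨!![0, 0, 1; 1, 0, 0; 0, 1, 0], by decide⟩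

theorem frm_tau (s t : FrmS) (h : s.1 * t.1.transpose = 1) :
    Cl.slInvTranspose (Fin 3) (ZMod 3) s = t := by
  have : s * t.transpose = 1 := Subtype.ext h
  rw [← eq_inv_iff_mul_eq_one] at this
  subst this
  apply Subtype.ext
  rw [Cl.coe_slInvTranspose, inv_inv]
  exact Matrix.transpose_transpose _

theorem frm_center : center FrmS = ⊥ := by
  rw [eq_bot_iff]
  intro s hs
  obtain ⟨r, hr, h⟩ := Matrix.SpecialLinearGroup.mem_center_iff.1 hs
  have : r = 1 := by
    revert hr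
    generalize r = r'
    revert r'
    decide
  subst this
  apply Subtype.ext
  rw [← h, map_one]
  rfl

theorem model : Nat.card L3 = 5616 ∧ Nat.card (MulAut L3) = 11232 ∧ IsSimpleGroup L3 ∧
    ∃ a d σ ρ : L3, ∃ f : MulAut L3, f * f = 1 ∧
      Let true (MulAut.conj a) (MulAut.conj d) f (MulAut.conj σ) (MulAut.conj ρ) := by
  have : Fact (Nat.Prime 3) := ⟨Nat.prime_three⟩
  have h3 : Nat.card (ZMod 3) = 3 := Nat.card_zmod 3
  refine ⟨?_, ?_, Cl.psl_fin_isSimpleGroup (by norm_num) (by norm_num), ?_⟩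
  · rw [Cl.card_psl, h3]
    simp [Finset.prod_range_succ]
  · have h1 := Cl.card_pgl_mul (ι := Fin 3) (F := ZMod 3)
    rw [Matrix.card_GL_field, h3, ZMod.card] at h1
    simp only [Fin.prod_univ_three, Fin.val_zero, Fin.val_one, Fin.val_two] at h1
    rw [Cl.Aut.card_aut_psl_three (by simp), Cl.Aut.card_ringAut (p := 3) (f := 1) h3]
    omega
  let π : FrmS →* L3 := QuotientGroup.mk' _
  have hπ : Function.Injective π := by
    rw [← MonoidHom.ker_eq_bot_iff, QuotientGroup.ker_mk']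
    exact frm_center
  let f : MulAut L3 := Cl.centerQuotCongr (Cl.slInvTranspose (Fin 3) (ZMod 3))
  have hf : ∀ s, f (π s) = π (Cl.slInvTranspose (Fin 3) (ZMod 3) s) := fun s => rfl
  refine ⟨π frmA, π frmD, π frmS, π frmR, f, ?_, frm_let _ _ _ _ _ ?_ (π frmR) ?_ ?_ ?_ ?_ ?_ ?_ ?_
    ?_ ?_ ?_ ?_⟩
  · ext x
    obtain ⟨s, rfl⟩ := QuotientGroup.mk'_surjective _ x
    change f (f (π s)) = π s
    rw [hf, hf, Cl.slInvTranspose_slInvTranspose]
  · rw [← map_pow, show frmA ^ 8 = 1 from by decide, map_one]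
  · rw [← map_pow, ← map_mul, ← map_mul, hπ.ne_iff]
    decide
  · rw [← map_mul, show frmD * frmD = 1 from by decide, map_one]
  · rw [mul_inv_eq_iff_eq_mul, ← map_pow, ← map_mul, ← map_mul]
    exact congrArg π (by decide)
  · rw [hf, frm_tau frmD frmD (by decide)]
  · rw [hf, frm_tau frmA (frmA ^ 5) (by decide), map_pow]
  · rw [mul_inv_eq_iff_eq_mul, ← map_pow, ← map_mul, ← map_mul, ← map_mul]
    exact congrArg π (by decide)
  · rw [mul_inv_eq_iff_eq_mul, ← map_pow, ← map_mul, ← map_mul, ← map_mul, ← map_mul]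
    exact congrArg π (by decide)
  · rw [← map_pow, show (π (frmA ^ 2))⁻¹ = π (frmA ^ 6) from by
      rw [inv_eq_iff_mul_eq_one, ← map_mul, show frmA ^ 2 * frmA ^ 6 = 1 from by decide, map_one],
      ← map_mul, ← map_mul, hf, frm_tau _ frmS (by decide)]
  · rw [mul_inv_eq_iff_eq_mul, ← map_pow, ← map_mul, ← map_mul]
    exact congrArg π (by decide)
  · rw [mul_inv_eq_iff_eq_mul, ← map_pow, ← map_mul, ← map_mul, ← map_mul]
    exact congrArg π (by decide)
  · rw [hf, frm_tau frmR frmR (by decide)]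

end Cfsg.Agent.L33
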